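import Cfsg.Agent.ThL.Cert

set_option autoImplicit false
set_option Elab.async false
set_option maxRecDepth 100000
set_option linter.all false

namespace Cfsg.Agent.ThL
open Cfsg.Agent.CGT

noncomputable def dF0 : BT Fct := (.node 30 (.node 15 (.node 7 (.node 3 (.node 1 (.leaf ⟨0, 0, false, [0], [], []⟩) (.node 1 (.leaf ⟨0, 0, false, [2], [], []⟩) (.leaf ⟨0, 0, false, [4], [], []⟩))) (.node 2 (.node 1 (.leaf ⟨0, 0, false, [6], [], []⟩) (.leaf ⟨0, 0, false, [8], [], []⟩)) (.node 1 (.leaf ⟨0, 0, false, [10], [], []⟩) (.leaf ⟨0, 0, false, [12], [], []⟩)))) (.node 4 (.node 2 (.node 1 (.leaf ⟨0, 1, true, [], [], []⟩) (.leaf ⟨1, 1, false, [4], [], []⟩)) (.node 1 (.leaf ⟨1, 1, false, [12, 0], [], []⟩) (.leaf ⟨1, 1, false, [11, 8, 10], [], []⟩))) (.node 2 (.node 1 (.leaf ⟨1, 1, false, [8], [],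 []⟩) (.leaf ⟨1, 1, false, [22, 12, 25, 12], [], []⟩)) (.node 1 (.leaf ⟨1, 1, false, [16, 12, 21, 0], [], []⟩) (.leaf ⟨1, 1, true, [8, 11, 22, 14], [12, 24, 17, 11], []⟩))))) (.node 7 (.node 3 (.node 1 (.leaf ⟨1, 1, true, [6, 20, 20, 11], [4, 6, 8, 23, 25, 6], []⟩) (.node 1 (.leaf ⟨1, 2, true, [6], [], []⟩) (.leaf ⟨2, 2, false, [22, 8, 20, 16, 0], [], []⟩))) (.node 2 (.node 1 (.leaf ⟨2, 2, false, [12], [], []⟩) (.leaf ⟨2, 2, false, [8, 22, 17, 8], [], []⟩)) (.node 1 (.leaf ⟨2, 2, false, [27, 20, 13, 4], [], []⟩) (.leaf ⟨2, 2, false, [24, 15], [], []⟩)))) (.node 4 (.node 2 (.node 1 (.leaf ⟨2, 1, true, [17, 21, 21, 48, 31], [38, 48, 11, 8, 33], []⟩) (.leaf ⟨1, 2, true, [16, 25, 13, 11, 6], [6, 25, 20, 17], []⟩)) (.node 1 (.leaf ⟨2, 1, true, [16, 15, 19, 6, 4], [2, 30, 36, 43, 31, 10], []⟩)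 (.leaf ⟨2, 2, false, [10, 43, 10, 49, 16, 8], [], []⟩))) (.node 2 (.node 1 (.leaf ⟨2, 1, true, [15, 17, 17, 4, 6], [12, 14, 23, 6, 22, 6], []⟩) (.leaf ⟨1, 2, true, [2, 29, 24, 26, 12], [6, 23, 20, 12], []⟩)) (.node 1 (.leaf ⟨2, 2, true, [11, 22, 14, 23, 13], [8, 39, 46, 22, 49, 6], []⟩) (.leaf ⟨1, 3, true, [11, 2], [], []⟩)))))) (.node 15 (.node 7 (.node 3 (.node 1 (.leaf ⟨3, 3, false, [8], [], []⟩) (.node 1 (.leaf ⟨3, 3, false, [4, 0], [], []⟩) (.leaf ⟨3, 3, false, [16, 12, 21, 0], [], []⟩))) (.node 2 (.node 1 (.leaf ⟨3, 3, false, [19, 26, 13, 8], [], []⟩) (.leaf ⟨3, 3, false, [27, 13, 22, 14, 0], [], []⟩)) (.node 1 (.leaf ⟨3, 3, true, [19, 28, 11, 28], [27, 29, 25, 11, 0], []⟩) (.leaf ⟨3, 2, true, [11, 18, 12, 18], [15, 2, 12, 48, 48, 30], []⟩)))) (.node 4 (.node 2 (.node 1 (.leaf ⟨2,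 3, true, [45, 49, 8, 34, 46], [15, 28, 16, 13, 10], []⟩) (.leaf ⟨3, 3, true, [17, 21, 37, 30, 37], [6, 44, 42, 27, 24], []⟩)) (.node 1 (.leaf ⟨3, 3, true, [23, 45, 2, 46, 2], [6, 32, 46, 24, 16, 4], []⟩) (.leaf ⟨3, 1, true, [4, 10, 20, 12, 16, 6], [49, 26, 41, 26, 0, 2], []⟩))) (.node 2 (.node 1 (.leaf ⟨1, 3, true, [2, 21, 21, 10, 23], [6, 21, 11, 27, 15, 4], []⟩) (.leaf ⟨3, 3, true, [43, 36, 40, 44, 44], [6, 28, 6, 15, 13, 8], []⟩)) (.node 1 (.leaf ⟨3, 2, true, [21, 46, 36, 6, 22, 6], [8, 33, 39, 35, 21], []⟩) (.leaf ⟨3, 3, false, [6, 37, 47, 12, 29], [], []⟩))))) (.node 7 (.node 3 (.node 1 (.leaf ⟨3, 3, true, [25, 26, 15, 15, 6], [4, 33, 37, 28, 15, 10], []⟩) (.node 1 (.leaf ⟨3, 3, true, [11, 29, 24, 11, 20], [6, 14, 27, 13], []⟩) (.leaf ⟨3, 3, true, [22, 31, 36, 31], [47, 47, 49, 21,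 24], []⟩))) (.node 2 (.node 1 (.leaf ⟨3, 3, true, [25, 8, 2, 38, 12, 0], [6, 15, 21, 21, 11], []⟩) (.leaf ⟨3, 3, true, [8, 10, 0, 22, 10], [32, 0, 36, 11, 2, 28], []⟩)) (.node 1 (.leaf ⟨3, 3, true, [15, 21, 41, 43, 4], [17, 46, 11, 33, 16], []⟩) (.leaf ⟨3, 3, true, [21, 11, 46, 2, 19], [0, 42, 40, 20, 14], []⟩)))) (.node 4 (.node 2 (.node 1 (.leaf ⟨3, 3, true, [16, 19, 48, 42, 29], [6, 17, 26, 43, 45, 0], []⟩) (.leaf ⟨3, 3, true, [15, 29, 2, 38, 6], [41, 29, 0, 35, 6], []⟩)) (.node 1 (.leaf ⟨3, 2, true, [47, 21, 19, 31, 37], [4, 10, 6, 14, 20], []⟩) (.leaf ⟨2, 3, true, [0, 22, 28, 14, 10, 6], [21, 28, 33, 42, 33, 10], []⟩))) (.node 2 (.node 1 (.leaf ⟨3, 3, true, [14, 16, 14, 8, 6], [11, 27, 18, 18, 15], []⟩) (.leaf ⟨3, 3, true, [2, 25, 6, 17, 13, 10], [10, 44, 49, 16, 24, 4], []⟩)) (.node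 1 (.leaf ⟨3, 2, true, [44, 11, 48, 20, 2], [2, 26, 15, 21, 12], []⟩) (.leaf ⟨3, 3, false, [14, 2, 38, 38, 48, 48], [], []⟩)))))))
noncomputable def dF60 : BT Fct := (.node 30 (.node 15 (.node 7 (.node 3 (.node 1 (.leaf ⟨3, 3, true, [24, 0, 14, 34, 10, 35], [6, 11, 38, 49, 40], []⟩) (.node 1 (.leaf ⟨1, 4, true, [6, 2], [], []⟩) (.leaf ⟨4, 4, false, [22, 12, 25, 12], [], []⟩))) (.node 2 (.node 1 (.leaf ⟨4, 4, false, [13], [], []⟩) (.leaf ⟨4, 4, true, [10, 24, 6, 21, 26], [6, 47, 25, 36, 25], []⟩)) (.node 1 (.leaf ⟨4, 3, true, [14, 17, 13, 23, 10, 6], [8, 45, 2, 22, 12], []⟩) (.leaf ⟨3, 4, true, [12, 25, 2, 44, 8], [17, 47, 47, 23, 23, 10], []⟩)))) (.node 4 (.node 2 (.node 1 (.leaf ⟨4, 4, false, [22, 25, 16, 0], [], []⟩) (.leaf ⟨4, 3, true, [21, 21, 23, 27, 2], [45, 8, 32, 13, 17], []⟩))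 (.node 1 (.leaf ⟨4, 4, false, [8, 28, 2, 17], [], []⟩) (.leaf ⟨1, 5, true, [11, 6, 2], [], []⟩))) (.node 2 (.node 1 (.leaf ⟨5, 5, false, [22, 12, 25, 12], [], []⟩) (.leaf ⟨5, 5, false, [15, 16, 15, 4], [], []⟩)) (.node 1 (.leaf ⟨5, 5, true, [11, 19, 14, 29, 0], [19, 46, 38, 29], []⟩) (.leaf ⟨5, 4, true, [12, 18, 4, 17, 10], [20, 10, 18, 15], []⟩))))) (.node 7 (.node 3 (.node 1 (.leaf ⟨5, 5, true, [12, 27, 29, 10, 6], [6, 28, 4, 6, 19], []⟩) (.node 1 (.leaf ⟨5, 4, true, [10, 19, 16, 22, 6], [10, 10, 19, 39, 33], []⟩) (.leaf ⟨4, 5, true, [2, 18, 15, 11, 12, 4], [6, 20, 29, 8, 11], []⟩))) (.node 2 (.node 1 (.leaf ⟨5, 4, true, [6, 19, 30, 45, 13], [6, 29, 6, 17, 12, 0], []⟩) (.leaf ⟨4, 5, true, [11, 33, 12, 32], [6, 11, 22, 22, 12, 4], []⟩)) (.node 1 (.leaf ⟨5, 3, true, [0, 8, 20, 18, 10,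 6], [4, 30, 44, 14, 10, 8], []⟩) (.leaf ⟨3, 5, true, [8, 30, 36, 10, 12], [25, 26, 16, 36, 32], []⟩)))) (.node 4 (.node 2 (.node 1 (.leaf ⟨5, 5, true, [6, 8, 11, 28, 20, 4], [43, 20, 22, 18, 30], []⟩) (.leaf ⟨5, 4, true, [8, 16, 22, 30, 42], [10, 20, 44, 31, 28], []⟩)) (.node 1 (.leaf ⟨4, 5, true, [6, 43, 49, 26, 16, 10], [15, 15, 10, 44, 31], []⟩) (.leaf ⟨5, 5, true, [13, 44, 31, 28, 21, 8], [6, 20, 29, 10, 17, 10], []⟩))) (.node 2 (.node 1 (.leaf ⟨5, 5, true, [4, 22, 34, 38, 37], [43, 13, 45, 21, 28, 4], []⟩) (.leaf ⟨5, 3, true, [6, 21, 28, 6], [31, 37, 45, 2, 26, 2], []⟩)) (.node 1 (.leaf ⟨3, 5, true, [2, 26, 10, 19, 11, 6], [6, 26, 12, 29, 6], []⟩) (.leaf ⟨5, 3, true, [6, 19, 26, 12, 6], [6, 19, 11, 22, 20, 8], []⟩)))))) (.node 15 (.node 7 (.node 3 (.node 1 (.leaf ⟨3, 5, true, [6,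 10, 19, 10, 20], [32, 15, 16, 2, 4], []⟩) (.node 1 (.leaf ⟨5, 5, true, [21, 4, 32, 2, 28], [20, 19, 10, 6, 25], []⟩) (.leaf ⟨5, 5, true, [19, 10, 10, 29, 6], [2, 26, 36, 49, 14, 4], []⟩))) (.node 2 (.node 1 (.leaf ⟨5, 5, false, [27, 22, 14, 46, 36], [], []⟩) (.leaf ⟨5, 5, true, [11, 8, 33, 11, 19], [30, 14, 16, 19, 0], []⟩)) (.node 1 (.leaf ⟨5, 3, true, [17, 15, 43, 44, 34, 8], [48, 48, 47, 11, 19, 2], []⟩) (.leaf ⟨3, 5, true, [2, 49, 18, 20, 20, 10], [32, 16, 24, 36, 40, 38], []⟩)))) (.node 4 (.node 2 (.node 1 (.leaf ⟨3, 5, true, [27, 15, 45, 30, 38], [8, 10, 29, 42, 27, 10], []⟩) (.leaf ⟨5, 3, true, [45, 6, 18, 27, 10, 48], [13, 17, 47, 45, 35, 24], []⟩)) (.node 1 (.leaf ⟨5, 5, true, [46, 34, 6, 16], [37, 17, 44, 36], []⟩) (.leaf ⟨5, 5, true, [2, 19, 6, 21, 4, 6], [10, 44, 10, 49, 46],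 []⟩))) (.node 2 (.node 1 (.leaf ⟨3, 5, true, [30, 0, 36, 25, 29], [10, 42, 15, 30, 12, 2], []⟩) (.leaf ⟨5, 3, true, [30, 41, 14, 31, 12], [2, 34, 23, 17, 48], []⟩)) (.node 1 (.leaf ⟨5, 5, true, [13, 49, 39, 28, 19], [11, 6, 44, 33, 40, 34], []⟩) (.leaf ⟨5, 3, true, [6, 8, 41, 16, 27, 11], [0, 44, 18, 20, 33, 4], []⟩))))) (.node 7 (.node 3 (.node 1 (.leaf ⟨3, 5, true, [0, 4, 44, 29, 44], [49, 19, 19, 6, 46, 28], []⟩) (.node 1 (.leaf ⟨4, 5, true, [37, 8, 48, 12, 25], [15, 15, 11, 31, 45, 2], []⟩) (.leaf ⟨4, 4, false, [23, 10, 40, 23, 19, 2], [], []⟩))) (.node 2 (.node 1 (.leaf ⟨3, 3, true, [19, 47, 35, 20, 35, 10], [10, 49, 17, 29, 35, 4], []⟩) (.leaf ⟨5, 5, true, [12, 37, 31, 28, 33], [36, 2, 16, 27, 27, 10], []⟩)) (.node 1 (.leaf ⟨3, 3, true, [6, 47, 4, 35, 4, 2], [49, 49, 0, 23, 10,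 2], []⟩) (.leaf ⟨1, 6, true, [10, 6, 2], [], []⟩)))) (.node 4 (.node 2 (.node 1 (.leaf ⟨6, 6, false, [22, 12, 25, 12], [], []⟩) (.leaf ⟨6, 3, true, [16, 33, 24, 41, 17, 10], [24, 20, 18, 49, 24], []⟩)) (.node 1 (.leaf ⟨3, 6, true, [31, 48, 37, 2, 22, 6], [2, 20, 13, 11, 33], []⟩) (.leaf ⟨6, 6, false, [22, 25, 16, 0], [], []⟩))) (.node 2 (.node 1 (.leaf ⟨6, 4, true, [11, 22, 13, 15, 8], [11, 27, 15, 15, 18], []⟩) (.leaf ⟨6, 6, true, [14, 11, 14, 10, 21], [4, 23, 12, 17, 11], []⟩)) (.node 1 (.leaf ⟨6, 5, true, [20, 11, 22, 25, 10], [28, 11, 13, 21, 4], []⟩) (.leaf ⟨6, 5, true, [30, 45, 27, 18, 4], [6, 39, 33, 21, 19], []⟩)))))))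
noncomputable def dF120 : BT Fct := (.node 30 (.node 15 (.node 7 (.node 3 (.node 1 (.leaf ⟨6, 5, true, [19, 8, 30, 45, 26], [21, 28, 35, 12, 34, 0], []⟩) (.node 1 (.leaf ⟨6, 5, true, [21, 6, 14, 11, 15], [0, 18, 20, 32, 12, 2], []⟩) (.leaf ⟨6, 5, true, [4, 21, 24, 10, 22, 6], [33, 37, 24, 13, 16], []⟩))) (.node 2 (.node 1 (.leaf ⟨5, 6, true, [30, 42, 12, 22, 25], [6, 20, 17, 11, 16], []⟩) (.leaf ⟨6, 4, true, [0, 41, 43, 18, 27, 10], [10, 27, 21, 21, 39, 2], []⟩)) (.node 1 (.leaf ⟨4, 6, true, [2, 6, 25, 35, 45], [2, 24, 46, 18, 25, 8], []⟩) (.leaf ⟨6, 5, true, [43, 49, 24, 23, 25], [33, 37, 8, 18, 29], []⟩)))) (.node 4 (.node 2 (.node 1 (.leaf ⟨6, 5, true, [16, 10, 12, 14, 6], [33, 37, 17, 12, 8], []⟩) (.leaf ⟨5, 6, true, [12, 28, 6, 28, 26, 6], [6, 10, 38, 46, 32, 4], []⟩)) (.node 1 (.leaf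 ⟨6, 4, true, [10, 37, 11, 36, 8], [17, 6, 35, 0, 16], []⟩) (.leaf ⟨4, 6, true, [11, 36, 32, 23, 15, 6], [2, 40, 11, 4, 33], []⟩))) (.node 2 (.node 1 (.leaf ⟨6, 5, true, [25, 25, 44, 42], [11, 12, 22, 16, 10], []⟩) (.leaf ⟨6, 5, true, [21, 14, 10, 0], [14, 16, 10, 19, 15], []⟩)) (.node 1 (.leaf ⟨6, 6, true, [10, 6, 28, 27, 10], [6, 28, 28, 32, 46, 8], []⟩) (.leaf ⟨6, 4, true, [20, 10, 8, 6, 4], [34, 0, 15, 25, 37, 23], []⟩))))) (.node 7 (.node 3 (.node 1 (.leaf ⟨4, 6, true, [19, 2, 46, 12, 16], [6, 8, 11, 21, 0], []⟩) (.node 1 (.leaf ⟨6, 3, true, [24, 15, 32, 8, 2], [6, 26, 19, 12, 6], []⟩) (.leaf ⟨3, 6, true, [14, 28, 0, 2, 44, 8], [6, 12, 26, 21, 11], []⟩))) (.node 2 (.node 1 (.leaf ⟨6, 6, true, [20, 26, 10, 6], [11, 32, 11, 47, 27, 4], []⟩) (.leaf ⟨6, 5, true, [10, 12, 17, 21, 14, 6],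 [14, 13, 29, 48, 42], []⟩)) (.node 1 (.leaf ⟨5, 6, true, [48, 28, 48, 17, 21], [6, 11, 18, 24, 14], []⟩) (.leaf ⟨6, 5, true, [0, 26, 30, 42, 29, 8], [0, 20, 42, 33, 30, 10], []⟩)))) (.node 4 (.node 2 (.node 1 (.leaf ⟨6, 2, true, [25, 15, 24, 10, 6], [21, 26, 19, 30, 11, 2], []⟩) (.leaf ⟨2, 6, true, [2, 11, 21, 29, 17, 4], [6, 29, 11, 12, 20], []⟩)) (.node 1 (.leaf ⟨6, 5, true, [13, 26, 10, 6, 0], [28, 26, 17, 47, 2], []⟩) (.leaf ⟨6, 6, true, [17, 2, 44, 21, 13], [19, 2, 33, 15, 29, 0], []⟩))) (.node 2 (.node 1 (.leaf ⟨6, 6, true, [4, 29, 6, 23, 14, 6], [6, 23, 25, 28, 11], []⟩) (.leaf ⟨6, 3, true, [0, 6, 26, 21, 19, 6], [0, 34, 23, 37, 15, 2], []⟩)) (.node 1 (.leaf ⟨3, 6, true, [0, 45, 8, 32, 15, 6], [43, 31, 12, 26, 8], []⟩) (.leaf ⟨6, 6, true, [30, 49, 20, 22, 11], [4, 24, 6, 24, 11,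 2], []⟩)))))) (.node 15 (.node 7 (.node 3 (.node 1 (.leaf ⟨6, 6, true, [4, 26, 29, 2, 33], [43, 37, 8, 40, 26], []⟩) (.node 1 (.leaf ⟨6, 6, true, [8, 21, 6, 26, 6], [6, 13, 10, 21, 13, 10], []⟩) (.leaf ⟨6, 6, true, [6, 16, 15, 0], [18, 20, 14, 6], []⟩))) (.node 2 (.node 1 (.leaf ⟨6, 6, true, [17, 14, 20, 38, 44, 6], [0, 2, 23, 23, 28, 8], []⟩) (.leaf ⟨6, 6, true, [12, 22, 16, 22, 2, 0], [47, 10, 28, 21, 14], []⟩)) (.node 1 (.leaf ⟨6, 3, true, [33, 11, 45, 0], [19, 35, 24, 33, 38], []⟩) (.leaf ⟨3, 6, true, [2, 49, 49, 13, 47], [4, 44, 10, 32], []⟩)))) (.node 4 (.node 2 (.node 1 (.leaf ⟨6, 3, true, [13, 19, 25, 12, 2], [39, 19, 19, 45, 11, 8], []⟩) (.leaf ⟨3, 6, true, [15, 27, 28, 36, 45], [2, 27, 21, 27], []⟩)) (.node 1 (.leaf ⟨6, 6, true, [28, 17, 14, 2], [0, 25, 30, 4, 34], []⟩) (.leaf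 ⟨6, 6, true, [10, 39, 15, 26, 0], [13, 2, 29, 13], []⟩))) (.node 2 (.node 1 (.leaf ⟨6, 3, true, [4, 6, 17, 21, 29, 6], [16, 6, 34, 28, 38, 16], []⟩) (.leaf ⟨3, 6, true, [25, 43, 44, 29, 0], [6, 24, 24, 28, 6, 4], []⟩)) (.node 1 (.leaf ⟨6, 6, true, [12, 27, 22, 2, 25, 4], [6, 19, 16, 16, 2, 0], []⟩) (.leaf ⟨6, 6, true, [0, 2, 27, 13, 20, 6], [30, 2, 4, 30], []⟩))))) (.node 7 (.node 3 (.node 1 (.leaf ⟨6, 3, true, [15, 20, 38, 48, 35, 10], [21, 19, 30, 24, 26, 6], []⟩) (.node 1 (.leaf ⟨3, 6, true, [15, 29, 39, 33, 17, 6], [30, 34, 30, 49, 29], []⟩) (.leaf ⟨6, 6, true, [29, 15, 6, 41, 4, 2], [20, 25, 6, 29, 23], []⟩))) (.node 2 (.node 1 (.leaf ⟨6, 6, true, [8, 4, 6, 25, 17, 29], [14, 22, 43, 11, 48, 4], []⟩) (.leaf ⟨6, 6, true, [48, 28, 44, 8, 32], [4, 2, 26, 19, 12, 8], []⟩)) (.node 1 (.leaf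 ⟨6, 6, true, [29, 27, 0, 2, 0], [34, 39, 2, 42, 28, 2], []⟩) (.leaf ⟨6, 5, true, [6, 26, 44, 35, 14], [10, 12, 24, 41, 22], []⟩)))) (.node 4 (.node 2 (.node 1 (.leaf ⟨5, 6, true, [10, 13, 43, 25, 13], [8, 49, 13, 38, 2, 0], []⟩) (.leaf ⟨6, 3, true, [19, 28, 16, 6, 2], [24, 37, 39, 21, 37], []⟩)) (.node 1 (.leaf ⟨3, 6, true, [2, 11, 36, 11, 27, 8], [2, 20, 6, 16, 8, 2], []⟩) (.leaf ⟨6, 6, true, [2, 35, 35, 48, 8, 2], [20, 2, 17, 27, 19], []⟩))) (.node 2 (.node 1 (.leaf ⟨6, 6, true, [20, 6, 47, 42, 2, 22], [47, 10, 17, 25, 13], []⟩) (.leaf ⟨6, 6, true, [18, 22, 10, 0, 39], [40, 33, 6, 0, 49, 8], []⟩)) (.node 1 (.leaf ⟨6, 5, true, [31, 36, 15, 12, 0], [16, 2, 26, 21, 12], []⟩) (.leaf ⟨5, 6, true, [11, 36, 39, 36, 31], [16, 2, 31, 36, 4], []⟩)))))))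
noncomputable def dF180 : BT Fct := (.node 30 (.node 15 (.node 7 (.node 3 (.node 1 (.leaf ⟨6, 5, true, [4, 43, 11, 32, 21, 0], [16, 2, 16, 28, 22], []⟩) (.node 1 (.leaf ⟨5, 6, true, [0, 26, 46, 44, 21, 4], [28, 12, 44, 12, 48], []⟩) (.leaf ⟨6, 6, true, [2, 17, 12, 24], [31, 27, 24, 41, 35, 4], []⟩))) (.node 2 (.node 1 (.leaf ⟨6, 6, true, [0, 18, 29, 31, 31], [16, 2, 19, 8, 18, 8], []⟩) (.leaf ⟨6, 6, true, [6, 8, 24, 4, 6], [6, 27, 8, 14, 6, 4], []⟩)) (.node 1 (.leaf ⟨6, 4, true, [0, 2, 14, 20, 16, 6], [14, 2, 25, 23, 19], []⟩) (.leaf ⟨4, 6, true, [8, 46, 16, 15, 8, 4], [18, 25, 2, 4, 6], []⟩)))) (.node 4 (.node 2 (.node 1 (.leaf ⟨5, 6, true, [30, 18, 22, 27, 11], [6, 40, 10, 23, 34, 0], []⟩) (.leaf ⟨6, 5, true, [13, 6, 2, 15, 4], [11, 33, 37, 45, 37], []⟩)) (.node 1 (.leaf ⟨6, 6, true,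 [28, 4, 6], [34, 2, 24, 36, 43, 10], []⟩) (.leaf ⟨5, 6, true, [21, 21, 29, 6], [28, 21, 39, 10, 25, 2], []⟩))) (.node 2 (.node 1 (.leaf ⟨6, 6, true, [6, 47, 25, 38, 8, 10], [30, 49, 16, 20, 4], []⟩) (.leaf ⟨5, 6, true, [20, 16, 15, 12, 6], [6, 39, 33, 45, 45, 8], []⟩)) (.node 1 (.leaf ⟨5, 6, true, [27, 23, 25, 4, 6], [15, 16, 34, 24, 15, 4], []⟩) (.leaf ⟨6, 6, true, [6, 8, 15, 27, 6, 4], [39, 34, 21, 37, 21], []⟩))))) (.node 7 (.node 3 (.node 1 (.leaf ⟨6, 6, true, [11, 29, 39, 2], [0, 6, 26, 14, 8, 6], []⟩) (.node 1 (.leaf ⟨6, 6, true, [16, 48, 15, 46, 38, 0], [41, 43, 12, 28, 12], []⟩) (.leaf ⟨6, 6, true, [30, 11, 11, 49, 32, 2], [6, 10, 14, 21, 21], []⟩))) (.node 2 (.node 1 (.leaf ⟨6, 6, true, [28, 39, 46, 21, 15], [20, 28, 33, 37, 24, 6], []⟩) (.leaf ⟨6, 6, true, [30, 0, 35, 44, 15],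 [8, 26, 28, 11, 22, 6], []⟩)) (.node 1 (.leaf ⟨6, 6, true, [19, 24, 14, 11, 6], [19, 30, 14, 21, 36], []⟩) (.leaf ⟨6, 6, true, [6, 24, 23, 10, 0], [4, 24, 11, 19, 19, 6], []⟩)))) (.node 4 (.node 2 (.node 1 (.leaf ⟨6, 6, true, [0, 28, 11, 13, 18, 6], [23, 25, 41, 19, 45], []⟩) (.leaf ⟨6, 6, true, [35, 0, 34, 10, 15, 22], [8, 12, 31, 32, 43], []⟩)) (.node 1 (.leaf ⟨5, 6, true, [11, 23, 27, 14, 6], [19, 14, 21, 46, 16, 31], []⟩) (.leaf ⟨6, 5, true, [14, 29, 0, 34, 27], [6, 8, 27, 28, 13, 10], []⟩))) (.node 2 (.node 1 (.leaf ⟨4, 6, true, [32, 8, 38, 18], [45, 48, 8, 37, 11, 4], []⟩) (.leaf ⟨5, 6, true, [13, 8, 11, 6], [41, 10, 34, 15, 12, 6], []⟩)) (.node 1 (.leaf ⟨6, 5, true, [27, 16, 28, 34, 18, 4], [28, 37, 12, 36], []⟩) (.leaf ⟨5, 6, true, [23, 13, 25, 11, 6], [15, 2, 17, 25, 46, 2],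 []⟩)))))) (.node 15 (.node 7 (.node 3 (.node 1 (.leaf ⟨6, 5, true, [14, 17, 46, 11, 31, 2], [6, 11, 22, 10, 22], []⟩) (.node 1 (.leaf ⟨6, 6, true, [13, 27, 28, 11, 6], [31, 8, 40, 24, 6], []⟩) (.leaf ⟨3, 6, true, [17, 21, 25, 11, 6], [11, 17, 21, 41, 44], []⟩))) (.node 2 (.node 1 (.leaf ⟨6, 6, true, [14, 2, 27, 0, 15, 6], [19, 20, 30, 11, 45], []⟩) (.leaf ⟨5, 6, true, [47, 24, 29, 38, 15], [0, 22, 16, 13, 41, 0], []⟩)) (.node 1 (.leaf ⟨4, 6, true, [19, 36, 0, 42, 4], [43, 25, 35, 14, 34], []⟩) (.leaf ⟨5, 6, true, [26, 29, 11, 21, 6], [10, 31, 36, 31, 16, 6], []⟩)))) (.node 4 (.node 2 (.node 1 (.leaf ⟨6, 6, true, [30, 23, 39, 45, 23, 29], [4, 2, 25, 17, 19], []⟩) (.leaf ⟨6, 6, true, [18, 22, 27, 2, 4], [21, 6, 14, 40, 18, 29], []⟩)) (.node 1 (.leaf ⟨6, 6, true, [16, 2, 31, 41, 8], [34,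 33, 42, 4, 0], []⟩) (.leaf ⟨6, 6, true, [4, 23, 31, 6, 41, 4], [39, 13, 40, 49, 19, 11], []⟩))) (.node 2 (.node 1 (.leaf ⟨6, 6, true, [6, 25, 42, 11, 36], [0, 2, 20, 13, 18], []⟩) (.leaf ⟨6, 6, true, [6, 20, 4, 34, 14, 4], [36, 44, 32, 47, 28], []⟩)) (.node 1 (.leaf ⟨6, 6, true, [14, 12, 18, 16, 2, 0], [0, 15, 35, 4, 21, 6], []⟩) (.leaf ⟨4, 6, true, [41, 6, 21, 37, 35, 10], [31, 19, 13, 30, 24, 0], []⟩))))) (.node 7 (.node 3 (.node 1 (.leaf ⟨4, 6, true, [18, 2, 12, 40, 15, 28], [14, 10, 41, 37, 28, 33], []⟩) (.node 1 (.leaf ⟨6, 6, true, [19, 35, 49, 33, 29, 2], [22, 25, 35, 29, 26, 6], []⟩) (.leaf ⟨6, 6, true, [14, 16, 40, 40, 17, 10], [22, 2, 22, 25, 17], []⟩))) (.node 2 (.node 1 (.leaf ⟨4, 6, true, [41, 10, 46, 10, 6, 18], [48, 18, 25, 8, 34, 44], []⟩) (.leaf ⟨6, 4, true, [10, 49, 36,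 38, 35, 2], [10, 25, 45, 46, 18], []⟩)) (.node 1 (.leaf ⟨6, 6, true, [4, 32, 19, 40, 11, 2], [33, 43, 31, 15], []⟩) (.leaf ⟨6, 6, true, [21, 25, 29, 2], [42, 12, 10, 49, 24, 8], []⟩)))) (.node 4 (.node 2 (.node 1 (.leaf ⟨6, 6, true, [38, 46, 0, 44, 36], [4, 2, 19, 13, 18, 8], []⟩) (.leaf ⟨6, 6, true, [12, 17, 13, 21, 2, 0], [0, 35, 12, 2, 19, 6], []⟩)) (.node 1 (.leaf ⟨6, 6, true, [10, 43, 38, 29, 33], [4, 2, 28, 19, 19, 4], []⟩) (.leaf ⟨6, 6, true, [2, 48, 41, 25, 49, 8], [22, 2, 34, 16, 47, 13], []⟩))) (.node 2 (.node 1 (.leaf ⟨6, 6, true, [44, 14, 41, 6, 4, 46], [0, 13, 2, 20, 18, 0], []⟩) (.leaf ⟨6, 6, true, [16, 39, 30, 35, 40], [41, 33, 0, 46, 6, 0], []⟩)) (.node 1 (.leaf ⟨5, 6, true, [12, 8, 21, 12, 6], [23, 4, 21, 34, 22, 21], []⟩) (.leaf ⟨6, 5, true, [26, 30, 0, 45, 32], [6,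 20, 25, 23, 24], []⟩)))))))
noncomputable def dF240 : BT Fct := (.node 30 (.node 15 (.node 7 (.node 3 (.node 1 (.leaf ⟨6, 6, true, [17, 40, 6, 36, 2], [39, 41, 33, 33, 48], []⟩) (.node 1 (.leaf ⟨6, 6, true, [19, 20, 4, 38, 26, 8], [6, 40, 25, 46, 11, 2], []⟩) (.leaf ⟨4, 6, true, [2, 24, 16, 34, 16, 10], [42, 8, 29, 23, 35, 10], []⟩))) (.node 2 (.node 1 (.leaf ⟨6, 6, true, [4, 44, 29, 2, 47, 6], [16, 2, 28, 23, 8], []⟩) (.leaf ⟨6, 6, true, [22, 28, 19, 2, 15, 0], [6, 29, 29, 17, 2, 0], []⟩)) (.node 1 (.leaf ⟨6, 6, true, [30, 13, 30, 24, 24, 0], [12, 33, 14, 35], []⟩) (.leaf ⟨6, 6, true, [2, 26, 40, 38, 22, 8], [12, 18, 10, 16, 37, 2], []⟩)))) (.node 4 (.node 2 (.node 1 (.leaf ⟨6, 6, true, [18, 37, 48, 44], [26, 38, 26, 49, 35, 0], []⟩) (.leaf ⟨6, 6, true, [2, 34, 11, 26, 14, 2], [13, 15,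 17, 10, 41], []⟩)) (.node 1 (.leaf ⟨6, 6, true, [12, 40, 11, 25, 15, 0], [31, 25, 33, 11, 12, 6], []⟩) (.leaf ⟨6, 6, true, [36, 0, 40, 10, 49, 2], [15, 26, 20, 11, 41, 4], []⟩))) (.node 2 (.node 1 (.leaf ⟨6, 6, true, [40, 24, 24, 21, 16], [31, 19, 22, 20, 36], []⟩) (.leaf ⟨6, 6, true, [12, 19, 48, 28, 17], [11, 26, 43, 41, 34], []⟩)) (.node 1 (.leaf ⟨6, 6, true, [39, 30, 32, 49, 36, 6], [16, 30, 17, 40, 22, 6], []⟩) (.leaf ⟨6, 6, true, [4, 6, 15, 32, 36], [26, 6, 14, 33, 26, 39], []⟩))))) (.node 7 (.node 3 (.node 1 (.leaf ⟨6, 6, true, [29, 48, 24, 12, 18, 10], [27, 11, 32, 35, 49, 11], []⟩) (.node 1 (.leaf ⟨6, 6, true, [2, 4, 32, 43, 31, 21], [25, 40, 29, 18, 29], []⟩) (.leaf ⟨6, 6, true, [24, 21, 44, 47, 32, 0], [17, 31, 49, 36, 44, 8], []⟩))) (.node 2 (.node 1 (.leaf ⟨3, 6, true, [37,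 28, 27, 41, 36], [35, 28, 33, 18, 20, 25], []⟩) (.leaf ⟨5, 6, true, [31, 11, 23, 14, 12, 6], [34, 39, 18, 6, 15, 6], []⟩)) (.node 1 (.leaf ⟨6, 5, true, [19, 8, 37, 21, 44, 29], [32, 36, 16, 13, 29, 2], []⟩) (.leaf ⟨6, 6, true, [0, 30, 4, 45, 20], [6, 35, 32, 27, 25, 4], []⟩)))) (.node 4 (.node 2 (.node 1 (.leaf ⟨6, 6, true, [0, 35, 21, 29, 47, 2], [2, 32, 26, 4, 17, 2], []⟩) (.leaf ⟨6, 6, true, [18, 13, 48, 19, 46, 2], [19, 17, 6, 35, 12, 41], []⟩)) (.node 1 (.leaf ⟨6, 6, true, [10, 2, 30, 35, 12, 41], [14, 10, 17, 25, 34, 13], []⟩) (.leaf ⟨6, 6, true, [45, 0, 17, 17, 13, 39], [32, 4, 15, 33, 14, 47], []⟩))) (.node 2 (.node 1 (.leaf ⟨6, 6, true, [8, 31, 6, 25, 29, 10], [15, 11, 33, 21, 38, 2], []⟩) (.leaf ⟨6, 6, true, [2, 11, 15, 17, 24], [16, 11, 43, 24, 36, 29], []⟩)) (.node 1 (.leaf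 ⟨6, 6, true, [13, 11, 35, 16, 26, 4], [23, 12, 10, 8, 2], []⟩) (.leaf ⟨6, 6, true, [0, 35, 16, 4, 6], [38, 6, 37, 31, 32, 45], []⟩)))))) (.node 15 (.node 7 (.node 3 (.node 1 (.leaf ⟨6, 6, true, [37, 10, 35, 31, 27, 6], [4, 6, 17, 0, 34, 0], []⟩) (.node 1 (.leaf ⟨6, 6, true, [43, 8, 27, 43, 45], [40, 39, 26, 36, 48], []⟩) (.leaf ⟨6, 6, true, [6, 23, 2, 44, 12, 8], [0, 4, 2, 16, 31, 0], []⟩))) (.node 2 (.node 1 (.leaf ⟨6, 6, true, [2, 14, 11], [36, 24, 14, 42, 16, 10], []⟩) (.leaf ⟨6, 6, true, [21, 45, 38, 26, 11, 6], [25, 33, 30, 16, 38], []⟩)) (.node 1 (.leaf ⟨6, 6, true, [34, 4, 46, 48, 33], [18, 27, 32, 48, 25], []⟩) (.leaf ⟨6, 6, true, [35, 13, 29, 15, 13], [13, 19, 43, 44, 17], []⟩)))) (.node 4 (.node 2 (.node 1 (.leaf ⟨6, 6, true, [11, 11, 35, 24, 19, 28], [26, 23, 20, 34], []⟩)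 (.leaf ⟨6, 6, true, [4, 12, 2, 30, 34, 0], [2, 29, 36, 44, 44, 8], []⟩)) (.node 1 (.leaf ⟨5, 6, true, [17, 43, 37, 27, 12], [17, 12, 33, 18, 49, 18], []⟩) (.leaf ⟨6, 5, true, [36, 33, 31, 13, 20, 0], [18, 10, 16, 44, 32, 8], []⟩))) (.node 2 (.node 1 (.leaf ⟨6, 6, true, [38, 4, 38, 21, 21, 4], [32, 6, 22, 33, 19], []⟩) (.leaf ⟨6, 6, true, [23, 11, 15, 36, 36], [12, 19, 36, 34, 25, 10], []⟩)) (.node 1 (.leaf ⟨6, 6, true, [35, 29, 10, 12, 14], [14, 14, 12, 36, 4, 2], []⟩) (.leaf ⟨5, 6, true, [29, 12, 45, 24, 4], [0, 46, 48, 18, 6, 0], []⟩))))) (.node 7 (.node 3 (.node 1 (.leaf ⟨6, 5, true, [6, 15, 15, 49, 12, 26], [0, 25, 44, 13, 28], []⟩) (.node 1 (.leaf ⟨6, 6, true, [17, 38, 48, 36, 27], [10, 23, 19, 2, 17, 4], []⟩) (.leaf ⟨6, 6, true, [30, 39, 26, 49, 21, 0], [45, 18, 20, 37, 20, 10],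 []⟩))) (.node 2 (.node 1 (.leaf ⟨6, 6, true, [11, 47, 37, 24, 28], [15, 42, 26, 23, 38, 0], []⟩) (.leaf ⟨3, 6, true, [30, 44, 6, 31, 36], [44, 6, 24, 22, 13, 37], []⟩)) (.node 1 (.leaf ⟨6, 3, true, [12, 0, 34, 24, 27, 36], [29, 37, 46, 2, 25, 2], []⟩) (.leaf ⟨6, 5, true, [30, 6, 33, 42, 6], [41, 15, 20, 37, 12, 6], []⟩)))) (.node 4 (.node 2 (.node 1 (.leaf ⟨5, 6, true, [13, 36, 26, 10, 22, 4], [40, 15, 10, 44, 31, 31], []⟩) (.leaf ⟨3, 6, true, [36, 47, 41, 49, 41, 4], [33, 2, 46, 20, 4, 30], []⟩)) (.node 1 (.leaf ⟨6, 3, true, [38, 6, 21, 40, 6, 14], [30, 16, 14, 11, 24, 6], []⟩) (.leaf ⟨6, 6, true, [23, 35, 13, 11, 49], [25, 2, 45, 15, 10, 20], []⟩))) (.node 2 (.node 1 (.leaf ⟨6, 6, true, [11, 39, 18, 39, 10, 8], [15, 18, 6, 21, 45], []⟩) (.leaf ⟨6, 6, true, [27, 0, 46, 26, 12, 18], [15,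 6, 39, 10, 31], []⟩)) (.node 1 (.leaf ⟨6, 6, true, [20, 19, 4, 40, 33, 8], [6, 23, 27, 8, 37, 2], []⟩) (.leaf ⟨6, 6, true, [37, 47, 14, 20, 49, 2], [30, 37, 42, 42, 13, 6], []⟩)))))))
noncomputable def dF300 : BT Fct := (.node 30 (.node 15 (.node 7 (.node 3 (.node 1 (.leaf ⟨6, 6, true, [35, 17, 14, 10, 0], [48, 16, 12, 26, 6, 8], []⟩) (.node 1 (.leaf ⟨6, 6, true, [36, 14, 40, 40, 45, 2], [14, 31, 49, 47, 22, 4], []⟩) (.leaf ⟨6, 6, true, [49, 20, 40, 11, 15, 2], [20, 29, 18, 48, 28], []⟩))) (.node 2 (.node 1 (.leaf ⟨6, 6, true, [4, 0, 49, 43, 15, 12], [2, 33, 48, 42, 29, 8], []⟩) (.leaf ⟨6, 6, true, [25, 12, 45, 33, 29], [16, 41, 33, 14, 33, 8], []⟩)) (.node 1 (.leaf ⟨6, 6, true, [13, 21, 17, 31, 12, 10], [35, 6, 14, 6, 16, 40], []⟩) (.leaf ⟨6, 6, true, [36, 28, 6, 29, 47, 0], [22, 48,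 24, 33, 4], []⟩)))) (.node 4 (.node 2 (.node 1 (.leaf ⟨4, 6, true, [11, 20, 6, 16, 22], [6, 22, 11, 19, 6], []⟩) (.leaf ⟨6, 6, true, [6, 34, 30, 21], [6, 8, 14, 27, 10, 8], []⟩)) (.node 1 (.leaf ⟨6, 6, true, [11, 13, 18, 27, 6], [20, 4, 31, 35, 6], []⟩) (.leaf ⟨6, 6, true, [8, 14, 2, 45, 46, 8], [28, 10, 42, 10, 14], []⟩))) (.node 2 (.node 1 (.leaf ⟨6, 6, true, [13, 30, 36, 17, 41, 0], [4, 11, 6, 14, 31, 6], []⟩) (.leaf ⟨3, 6, true, [28, 48, 28, 24, 35, 8], [10, 22, 31, 27, 41, 4], []⟩)) (.node 1 (.leaf ⟨6, 3, true, [24, 2, 42, 20, 27, 4], [18, 11, 46, 29, 13], []⟩) (.leaf ⟨5, 6, true, [0, 11, 49, 28, 18, 8], [41, 24, 37, 25, 29, 4], []⟩))))) (.node 7 (.node 3 (.node 1 (.leaf ⟨6, 5, true, [14, 2, 12, 26, 49, 33], [22, 42, 37, 28, 31, 10], []⟩) (.node 1 (.leaf ⟨5, 6, true, [16, 41, 0,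 48, 36, 0], [19, 19, 33, 31, 10, 39], []⟩) (.leaf ⟨6, 5, true, [10, 14, 46, 43, 43, 4], [10, 12, 16, 6, 2, 4], []⟩))) (.node 2 (.node 1 (.leaf ⟨5, 6, true, [24, 10, 19, 36, 34, 6], [0, 35, 41, 20, 25, 0], []⟩) (.leaf ⟨6, 5, true, [10, 38, 24, 23, 43], [8, 23, 39, 40, 6, 0], []⟩)) (.node 1 (.leaf ⟨6, 6, true, [19, 6, 18, 14, 29, 6], [10, 4, 6, 15, 39, 48], []⟩) (.leaf ⟨6, 6, true, [10, 14, 33, 23, 4, 17], [13, 16, 26, 31, 43, 8], []⟩)))) (.node 4 (.node 2 (.node 1 (.leaf ⟨5, 6, true, [11, 30, 23, 16, 4], [44, 49, 37, 24, 44, 6], []⟩) (.leaf ⟨6, 5, true, [13, 25, 33, 26, 4, 2], [23, 16, 4, 31, 10], []⟩)) (.node 1 (.leaf ⟨6, 6, true, [35, 14, 18, 35, 6, 2], [46, 44, 25, 18, 38, 6], []⟩) (.leaf ⟨6, 6, true, [43, 33, 17, 23, 45], [45, 8, 42, 22, 8, 10], []⟩))) (.node 2 (.node 1 (.leaf ⟨3,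 6, true, [30, 29, 6, 27, 14, 4], [35, 18, 34, 25, 29, 21], []⟩) (.leaf ⟨6, 3, true, [17, 36, 24, 39, 30, 4], [19, 44, 22, 8, 28, 2], []⟩)) (.node 1 (.leaf ⟨5, 6, true, [28, 33, 8, 26, 22, 0], [16, 10, 4, 44, 20, 0], []⟩) (.leaf ⟨6, 5, true, [34, 23, 11, 49, 18, 6], [24, 20, 23, 33, 4, 0], []⟩)))))) (.node 15 (.node 7 (.node 3 (.node 1 (.leaf ⟨5, 6, true, [16, 29, 45, 39, 31, 0], [6, 17, 40, 8, 30, 8], []⟩) (.node 1 (.leaf ⟨6, 5, true, [43, 11, 21, 46, 11, 26], [11, 20, 15, 29, 40, 0], []⟩) (.leaf ⟨4, 6, true, [0, 11, 16, 22, 18, 6], [14, 37, 25, 45, 24, 8], []⟩))) (.node 2 (.node 1 (.leaf ⟨3, 6, true, [12, 46, 40, 11, 32], [43, 15, 43, 15, 6, 0], []⟩) (.leaf ⟨6, 3, true, [26, 44, 30, 18, 12, 10], [21, 47, 11, 0, 48], []⟩)) (.node 1 (.leaf ⟨6, 6, true, [29, 31, 8, 33, 16, 10], [26, 32,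 36, 11, 22, 0], []⟩) (.leaf ⟨6, 6, true, [10, 39, 18, 44, 33, 4], [11, 16, 26, 29, 31, 6], []⟩)))) (.node 4 (.node 2 (.node 1 (.leaf ⟨6, 6, true, [16, 48, 27, 23, 24], [13, 43, 2, 28, 0, 2], []⟩) (.leaf ⟨6, 6, true, [24, 11, 22, 17, 34, 28], [0, 46, 38, 10, 41, 0], []⟩)) (.node 1 (.leaf ⟨6, 6, true, [10, 2, 30, 12, 34, 26], [13, 43, 31, 2, 36], []⟩) (.leaf ⟨6, 6, true, [19, 8, 26, 18, 35, 36], [6, 40, 25, 36, 40, 2], []⟩))) (.node 2 (.node 1 (.leaf ⟨6, 6, true, [17, 38, 24, 19, 44, 0], [11, 39, 25, 13, 2], []⟩) (.leaf ⟨3, 6, true, [2, 36, 10, 13, 22, 10], [42, 14, 49, 42, 0], []⟩)) (.node 1 (.leaf ⟨6, 3, true, [38, 14, 42, 37, 48, 36], [6, 35, 2, 49, 6], []⟩) (.leaf ⟨6, 6, true, [32, 45, 6, 38, 43, 4], [19, 38, 37, 20, 36, 2], []⟩))))) (.node 7 (.node 3 (.node 1 (.leaf ⟨6, 6, true, [37,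 48, 15, 18, 20, 4], [11, 20, 36, 27, 27, 16], []⟩) (.node 1 (.leaf ⟨6, 6, true, [24, 48, 14, 38, 18, 0], [32, 25, 36, 12, 36], []⟩) (.leaf ⟨6, 6, true, [40, 0, 32, 23, 38, 0], [40, 2, 28, 6, 25, 34], []⟩))) (.node 2 (.node 1 (.leaf ⟨6, 5, true, [24, 35, 23, 31, 16, 8], [6, 44, 42, 6, 18], []⟩) (.leaf ⟨5, 6, true, [41, 2, 17, 17, 27], [32, 6, 31, 28, 21, 32], []⟩)) (.node 1 (.leaf ⟨6, 5, true, [8, 11, 20, 26, 35, 2], [14, 0, 18, 31, 36, 41], []⟩) (.leaf ⟨5, 6, true, [2, 24, 13, 41, 36], [26, 41, 14, 48, 0], []⟩)))) (.node 4 (.node 2 (.node 1 (.leaf ⟨5, 6, true, [37, 30, 30, 17, 19], [13, 6, 23, 0, 2, 17], []⟩) (.leaf ⟨6, 5, true, [33, 44, 23, 38, 11, 0], [43, 8, 33, 44, 23], []⟩)) (.node 1 (.leaf ⟨5, 6, true, [38, 33, 24, 36, 13], [8, 0, 45, 28, 34, 44], []⟩) (.leaf ⟨6, 6, true, [6, 12,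 23, 39, 40, 6], [43, 14, 43, 29, 39, 0], []⟩))) (.node 2 (.node 1 (.leaf ⟨6, 6, true, [45, 21, 48, 43, 34, 10], [33, 36, 41, 20, 45, 0], []⟩) (.leaf ⟨6, 6, true, [0, 17, 26, 31, 31, 0], [27, 2, 27, 44, 28, 38], []⟩)) (.node 1 (.leaf ⟨6, 6, true, [21, 10, 37, 48, 31, 44], [4, 30, 30, 27, 16, 0], []⟩) (.leaf ⟨5, 6, true, [15, 29, 29, 27, 40, 0], [40, 11, 48, 8, 24, 0], []⟩)))))))
noncomputable def dF360 : BT Fct := (.node 30 (.node 15 (.node 7 (.node 3 (.node 1 (.leaf ⟨6, 5, true, [0, 34, 23, 27, 10, 8], [41, 15, 26, 15, 8], []⟩) (.node 1 (.leaf ⟨6, 6, true, [37, 30, 8, 22, 12], [42, 29, 13, 39, 42], []⟩) (.leaf ⟨6, 6, true, [2, 38, 23, 48, 13, 6], [35, 20, 6, 16, 46, 2], []⟩))) (.node 2 (.node 1 (.leaf ⟨6, 6, true, [6, 48, 25, 31, 29, 6], [14, 14, 44, 32, 14, 6], []⟩) (.leaf ⟨6, 6, true,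 [34, 21, 42, 46, 11, 30], [21, 11, 22, 34, 26], []⟩)) (.node 1 (.leaf ⟨3, 6, true, [29, 27, 12, 33, 31], [15, 35, 25, 25, 26, 6], []⟩) (.leaf ⟨6, 3, true, [22, 38, 38, 42, 28, 4], [28, 23, 8, 44, 41, 8], []⟩)))) (.node 4 (.node 2 (.node 1 (.leaf ⟨6, 5, true, [26, 26, 30, 16, 40], [0, 10, 35, 14, 24, 8], []⟩) (.leaf ⟨5, 6, true, [34, 19, 36, 29, 20], [19, 48, 24, 41, 49, 0], []⟩)) (.node 1 (.leaf ⟨6, 6, true, [22, 46, 46, 43, 33, 2], [2, 43, 45, 20, 14], []⟩) (.leaf ⟨6, 6, true, [24, 23, 27, 10, 2], [16, 41, 22, 16, 33], []⟩))) (.node 2 (.node 1 (.leaf ⟨6, 3, true, [14, 29, 43, 36, 15, 0], [8, 25, 6, 29, 25, 6], []⟩) (.leaf ⟨3, 6, true, [38, 0, 15, 21, 41, 27], [26, 34, 24, 39, 48], []⟩)) (.node 1 (.leaf ⟨6, 3, true, [11, 24, 15, 11, 2], [8, 36, 15, 33, 40], []⟩) (.leaf ⟨3, 6, true, [2,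 38, 2, 21, 22, 0], [44, 6, 33, 37, 19], []⟩))))) (.node 7 (.node 3 (.node 1 (.leaf ⟨5, 6, true, [10, 15, 45, 23, 18, 30], [8, 38, 4, 45, 11, 4], []⟩) (.node 1 (.leaf ⟨6, 5, true, [0, 28, 8, 6, 43, 6], [24, 27, 31, 35, 37, 0], []⟩) (.leaf ⟨5, 6, true, [2, 12, 41, 21, 23, 4], [6, 23, 27, 15, 34, 4], []⟩))) (.node 2 (.node 1 (.leaf ⟨3, 6, true, [46, 27, 48, 42, 19, 10], [6, 29, 27, 23, 6], []⟩) (.leaf ⟨5, 6, true, [29, 10, 48, 35, 49, 0], [48, 28, 32, 46, 8], []⟩)) (.node 1 (.leaf ⟨6, 5, true, [36, 20, 35, 13, 0], [25, 14, 48, 0, 47, 4], []⟩) (.leaf ⟨6, 6, true, [8, 17, 48, 21, 27, 10], [43, 45, 39, 41, 30], []⟩)))) (.node 4 (.node 2 (.node 1 (.leaf ⟨4, 6, true, [49, 0, 43, 15, 30, 37], [45, 25, 46, 42, 29], []⟩) (.leaf ⟨5, 6, true, [35, 29, 25, 11, 22, 2], [29, 26, 43, 32, 19, 8], []⟩))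 (.node 1 (.leaf ⟨6, 5, true, [15, 31, 13, 8, 15, 8], [47, 2, 21, 37, 4], []⟩) (.leaf ⟨6, 6, true, [41, 4, 17, 27, 8], [23, 28, 17, 40], []⟩))) (.node 2 (.node 1 (.leaf ⟨5, 6, true, [28, 44, 28, 43, 43, 6], [28, 39, 31, 12, 49, 8], []⟩) (.leaf ⟨5, 6, true, [6, 38, 24, 29, 17], [8, 34, 36, 44, 24, 8], []⟩)) (.node 1 (.leaf ⟨6, 5, true, [27, 18, 31, 11, 6], [4, 18, 24, 47, 13, 8], []⟩) (.leaf ⟨6, 6, true, [28, 47, 28, 33, 23, 2], [43, 48, 17, 30, 18, 6], []⟩)))))) (.node 15 (.node 7 (.node 3 (.node 1 (.leaf ⟨6, 6, true, [48, 47, 27, 17, 28], [16, 37, 30, 11, 30, 2], []⟩) (.node 1 (.leaf ⟨6, 5, true, [48, 42, 20, 12, 36, 2], [29, 37, 22, 37, 48], []⟩) (.leaf ⟨5, 6, true, [8, 33, 19, 21, 10, 0], [30, 49, 21, 41, 43, 8], []⟩))) (.node 2 (.node 1 (.leaf ⟨6, 3, true, [40, 47, 32, 20, 10, 8],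 [25, 2, 17, 13, 0, 33], []⟩) (.leaf ⟨3, 6, true, [4, 49, 28, 24, 4], [31, 10, 34, 14, 31, 36], []⟩)) (.node 1 (.leaf ⟨6, 5, true, [16, 40, 8, 33, 31], [49, 13, 0, 47, 27], []⟩) (.leaf ⟨6, 3, true, [41, 33, 33, 19, 19, 4], [16, 4, 25, 33, 29, 21], []⟩)))) (.node 4 (.node 2 (.node 1 (.leaf ⟨3, 6, true, [12, 10, 35, 25, 11, 4], [26, 30, 42, 26, 40, 8], []⟩) (.leaf ⟨6, 5, true, [4, 44, 10, 23, 13, 10], [12, 41, 25, 34, 30, 0], []⟩)) (.node 1 (.leaf ⟨5, 6, true, [0, 29, 39, 19, 38, 4], [6, 35, 28, 4, 49, 0], []⟩) (.leaf ⟨6, 5, true, [15, 35, 43, 45, 11, 2], [40, 25, 37, 43, 31], []⟩))) (.node 2 (.node 1 (.leaf ⟨5, 6, true, [30, 2, 17, 15, 34, 0], [24, 22, 44, 49, 36, 4], []⟩) (.leaf ⟨6, 6, true, [8, 17, 17, 43, 28], [17, 8, 40, 13, 10, 44], []⟩)) (.node 1 (.leaf ⟨6, 6, true, [43, 12, 37, 34,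 10, 49], [38, 13, 15, 11, 28], []⟩) (.leaf ⟨6, 6, true, [22, 28, 11, 11, 2], [13, 30, 2, 25, 12, 0], []⟩))))) (.node 7 (.node 3 (.node 1 (.leaf ⟨6, 6, true, [15, 6, 2, 37, 12], [2, 19, 10, 19, 21], []⟩) (.node 1 (.leaf ⟨6, 6, true, [28, 23, 11, 14, 2], [30, 41, 14, 30, 12, 6], []⟩) (.leaf ⟨6, 6, true, [16, 32, 36, 45], [44, 20, 6, 18, 20], []⟩))) (.node 2 (.node 1 (.leaf ⟨6, 6, true, [44, 48, 36, 45, 36, 6], [21, 10, 36, 48, 10, 27], []⟩) (.leaf ⟨6, 6, true, [36, 46, 34, 47, 38, 8], [31, 15, 40, 6, 47, 15], []⟩)) (.node 1 (.leaf ⟨6, 6, true, [8, 30, 37, 37, 30], [33, 24, 48, 43, 11], []⟩) (.leaf ⟨6, 6, true, [8, 23, 28, 33, 35, 12], [10, 47, 6, 26, 42], []⟩)))) (.node 4 (.node 2 (.node 1 (.leaf ⟨6, 6, true, [17, 49, 35, 45, 20, 6], [27, 18, 13, 31, 24, 8], []⟩) (.leaf ⟨6, 6, true, [4,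 19, 23, 18, 34, 4], [30, 23, 11, 38, 16, 8], []⟩)) (.node 1 (.leaf ⟨6, 6, true, [33, 46, 19, 38, 37], [35, 13, 29, 20], []⟩) (.leaf ⟨6, 6, true, [11, 39, 35, 43, 19, 8], [17, 27, 46, 13, 44], []⟩))) (.node 2 (.node 1 (.leaf ⟨6, 6, true, [47, 13, 47, 49, 28], [29, 11, 28, 32, 24, 0], []⟩) (.leaf ⟨5, 6, true, [32, 10, 0, 47, 16], [24, 36, 6, 18, 41, 8], []⟩)) (.node 1 (.leaf ⟨6, 5, true, [11, 44, 36, 39, 23, 6], [20, 13, 42, 47, 21], []⟩) (.leaf ⟨6, 6, true, [29, 12, 40, 39, 14, 44], [6, 21, 16, 30, 45, 0], []⟩)))))))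
noncomputable def dF420 : BT Fct := (.node 30 (.node 15 (.node 7 (.node 3 (.node 1 (.leaf ⟨5, 6, true, [48, 11, 34, 11, 46, 13], [25, 2, 29, 38, 35, 46], []⟩) (.node 1 (.leaf ⟨6, 5, true, [46, 0, 15, 28, 14, 35], [31, 4, 45, 15, 12, 45], []⟩) (.leaf ⟨5, 6, true, [4, 49, 45, 28, 27], [32, 8, 39, 25, 40, 4], []⟩))) (.node 2 (.node 1 (.leaf ⟨6, 5, true, [29, 41, 15, 49, 25, 6], [10, 44, 30, 27, 32, 8], []⟩) (.leaf ⟨6, 6, true, [10, 12, 42, 4, 6, 0], [13, 35, 27, 14, 18], []⟩)) (.node 1 (.leaf ⟨6, 6, true, [27, 0, 31, 10, 6, 37], [32, 38, 29, 4, 44], []⟩) (.leaf ⟨6, 6, true, [37, 35, 44, 30, 47, 2], [35, 12, 20, 19, 21], []⟩)))) (.node 4 (.node 2 (.node 1 (.leaf ⟨6, 6, true, [0, 20, 16, 27, 34], [18, 17, 10, 34, 47, 15], []⟩) (.leaf ⟨6, 6, true, [2, 25, 45, 39, 36, 2], [14, 29, 10, 34, 18],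 []⟩)) (.node 1 (.leaf ⟨6, 6, true, [8, 14, 17, 49, 33, 0], [2, 37, 30, 13, 20, 2], []⟩) (.leaf ⟨5, 6, true, [36, 33, 29, 8, 6], [13, 14, 49, 26, 30], []⟩))) (.node 2 (.node 1 (.leaf ⟨6, 6, true, [8, 34, 41, 48, 31, 6], [38, 15, 20, 15, 45, 8], []⟩) (.leaf ⟨6, 6, true, [22, 28, 33, 41, 36, 8], [24, 26, 45, 11, 32, 2], []⟩)) (.node 1 (.leaf ⟨6, 6, true, [10, 36, 20, 11, 13], [28, 10, 49, 40, 11, 17], []⟩) (.leaf ⟨6, 6, true, [32, 29, 8, 41, 49, 2], [4, 11, 18, 42, 33, 0], []⟩))))) (.node 7 (.node 3 (.node 1 (.leaf ⟨5, 6, true, [10, 23, 34, 8, 46, 4], [2, 49, 35, 26, 47, 4], []⟩) (.node 1 (.leaf ⟨6, 6, true, [8, 31, 35, 23, 39, 4], [47, 31, 13, 39, 45, 6], []⟩) (.leaf ⟨6, 6, true, [13, 6, 41, 42, 36, 12], [0, 38, 22, 34, 30, 8], []⟩))) (.node 2 (.node 1 (.leaf ⟨6, 6, true, [33, 16, 42, 21,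 14, 0], [36, 13, 38, 37, 0], []⟩) (.leaf ⟨6, 6, true, [17, 2, 30, 24, 34, 20], [23, 48, 19, 41, 20, 0], []⟩)) (.node 1 (.leaf ⟨6, 6, true, [39, 15, 43, 40, 25], [44, 15, 35, 40, 45, 2], []⟩) (.leaf ⟨6, 6, true, [34, 11, 43, 11, 27, 17], [23, 21, 37, 34, 14, 2], []⟩)))) (.node 4 (.node 2 (.node 1 (.leaf ⟨5, 6, true, [15, 43, 19, 42, 30, 2], [15, 49, 22, 11, 11, 0], []⟩) (.leaf ⟨6, 5, true, [27, 41, 17, 19, 29], [25, 13, 21, 2, 24, 10], []⟩)) (.node 1 (.leaf ⟨5, 6, true, [13, 42, 26, 29, 21, 4], [15, 22, 19, 2, 32, 6], []⟩) (.leaf ⟨6, 6, true, [39, 22, 43, 21, 33], [46, 35, 32, 28, 14], []⟩))) (.node 2 (.node 1 (.leaf ⟨6, 6, true, [41, 30, 43, 37, 2], [24, 24, 34, 4, 42, 8], []⟩) (.leaf ⟨6, 6, true, [18, 42, 22, 37, 4, 2], [14, 2, 11, 23, 29, 26], []⟩)) (.node 1 (.leaf ⟨6, 6, true, [22,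 20, 30, 8, 44], [48, 13, 33, 28, 0], []⟩) (.leaf ⟨5, 6, true, [28, 22, 14, 10, 46], [6, 0, 19, 47, 29, 48], []⟩)))))) (.node 15 (.node 7 (.node 3 (.node 1 (.leaf ⟨6, 5, true, [34, 36, 25, 6, 17, 0], [11, 16, 22, 47, 13, 6], []⟩) (.node 1 (.leaf ⟨6, 6, true, [15, 18, 8, 35, 40, 22], [21, 45, 15, 25, 44, 0], []⟩) (.leaf ⟨6, 6, true, [11, 27, 35, 15, 21, 6], [33, 43, 21, 31, 6], []⟩))) (.node 2 (.node 1 (.leaf ⟨6, 6, true, [47, 6, 45, 33, 36, 26], [49, 13, 47, 11, 20, 40], []⟩) (.leaf ⟨6, 6, true, [12, 14, 37, 2, 31, 10], [41, 39, 35, 41, 37, 4], []⟩)) (.node 1 (.leaf ⟨6, 6, true, [30, 2, 30, 47, 39, 10], [48, 17, 39, 47, 47], []⟩) (.leaf ⟨5, 6, true, [6, 8, 28, 34, 32, 6], [8, 11, 47, 39, 40, 27], []⟩)))) (.node 4 (.node 2 (.node 1 (.leaf ⟨6, 5, true, [47, 25, 42, 36, 31, 21], [26, 11,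 2, 40, 44, 4], []⟩) (.leaf ⟨5, 6, true, [0, 45, 41, 26, 44, 0], [12, 35, 23, 47, 39, 8], []⟩)) (.node 1 (.leaf ⟨6, 5, true, [17, 2, 24, 45, 14, 17], [4, 45, 27, 40, 44, 0], []⟩) (.leaf ⟨5, 6, true, [21, 37, 40, 29, 19], [17, 0, 20, 45, 46, 10], []⟩))) (.node 2 (.node 1 (.leaf ⟨6, 6, true, [30, 20, 10, 6, 8], [45, 40, 38, 15, 31, 2], []⟩) (.leaf ⟨6, 6, true, [0, 47, 34, 45, 30], [32, 31, 12, 33, 43, 2], []⟩)) (.node 1 (.leaf ⟨6, 6, true, [32, 20, 26, 32, 2], [22, 38, 21, 18, 12, 0], []⟩) (.leaf ⟨6, 6, true, [29, 10, 26, 21, 46, 23], [8, 10, 43, 31, 43, 6], []⟩))))) (.node 8 (.node 4 (.node 2 (.node 1 (.leaf ⟨6, 6, true, [6, 39, 11, 45, 22, 2], [47, 21, 47, 0, 44, 8], []⟩) (.leaf ⟨6, 6, true, [10, 34, 47, 42, 23, 2], [38, 40, 32, 41, 12], []⟩)) (.node 1 (.leaf ⟨6, 6, true, [22, 49, 20,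 24, 14], [8, 14, 40, 13, 6, 43], []⟩) (.leaf ⟨6, 6, true, [46, 35, 17, 4, 41], [13, 0, 19, 8, 48, 23], []⟩))) (.node 2 (.node 1 (.leaf ⟨6, 5, true, [16, 40, 26, 2, 25, 4], [16, 12, 33, 45, 19, 6], []⟩) (.leaf ⟨5, 6, true, [2, 37, 42, 17, 47, 2], [38, 0, 27, 45, 39, 39], []⟩)) (.node 1 (.leaf ⟨6, 4, true, [38, 45, 41, 22, 13, 0], [16, 49, 47, 47, 6, 2], []⟩) (.leaf ⟨4, 6, true, [11, 13, 43, 25, 25], [15, 49, 21, 32, 18, 8], []⟩)))) (.node 4 (.node 2 (.node 1 (.leaf ⟨6, 6, true, [33, 34, 18, 47, 27, 0], [17, 6, 43, 49, 42, 46], []⟩) (.leaf ⟨6, 6, true, [0, 46, 25, 44, 32, 2], [2, 18, 39, 14, 41, 0], []⟩)) (.node 1 (.leaf ⟨5, 6, true, [2, 11, 24, 27, 10, 6], [13, 10, 39, 44, 35, 13], []⟩) (.leaf ⟨6, 5, true, [0, 44, 16, 33, 47, 8], [26, 33, 35, 29, 8], []⟩))) (.node 2 (.node 1 (.leaf ⟨6,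 5, true, [40, 14, 19, 38, 29, 8], [13, 24, 23, 35, 14, 0], []⟩) (.leaf ⟨5, 6, true, [49, 6, 37, 2, 16, 8], [13, 33, 45, 42, 13, 4], []⟩)) (.node 1 (.leaf ⟨6, 6, true, [47, 33, 36, 31, 34], [28, 2, 38, 43, 35, 22], []⟩) (.leaf ⟨6, 6, true, [17, 23, 34, 19, 6, 0], [21, 40, 45, 23, 32, 2], []⟩)))))))
noncomputable def dF481 : BT Fct := (.node 30 (.node 15 (.node 7 (.node 3 (.node 1 (.leaf ⟨6, 6, true, [35, 25, 6, 30, 18, 0], [17, 46, 36, 44, 31, 10], []⟩) (.node 1 (.leaf ⟨6, 6, true, [11, 39, 16, 43, 21, 6], [26, 20, 34, 49, 32, 8], []⟩) (.leaf ⟨6, 6, true, [10, 40, 6, 14, 23, 0], [23, 37, 13, 45, 16, 2], []⟩))) (.node 2 (.node 1 (.leaf ⟨6, 6, true, [30, 17, 33, 31, 37, 0], [33, 39, 12, 28, 34], []⟩) (.leaf ⟨6, 6, true, [19, 16, 39, 17, 23, 6], [46, 14, 39, 42, 22, 0], []⟩)) (.node 1 (.leaf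 ⟨6, 6, true, [36, 25, 20, 22, 36], [33, 14, 0, 24, 49, 34], []⟩) (.leaf ⟨6, 6, true, [4, 15, 49, 43, 20, 2], [26, 11, 32, 8, 26, 8], []⟩)))) (.node 4 (.node 2 (.node 1 (.leaf ⟨6, 6, true, [13, 22, 36, 34, 12, 8], [19, 45, 18, 39, 22, 8], []⟩) (.leaf ⟨6, 6, true, [11, 14, 2, 37, 43, 8], [28, 42, 18, 41, 6, 4], []⟩)) (.node 1 (.leaf ⟨6, 6, true, [4, 20, 40, 11, 0, 49], [42, 8, 49, 26, 6, 17], []⟩) (.leaf ⟨6, 6, true, [17, 48, 32, 28, 41, 2], [34, 43, 24, 21, 49, 6], []⟩))) (.node 2 (.node 1 (.leaf ⟨6, 6, true, [6, 0, 29, 33, 27, 33], [14, 36, 29, 45, 8, 4], []⟩) (.leaf ⟨6, 6, true, [0, 45, 30, 16, 41], [27, 21, 2, 27, 45, 2], []⟩)) (.node 1 (.leaf ⟨6, 6, true, [8, 10, 43, 18, 27, 10], [18, 17, 26, 34, 19, 4], []⟩) (.leaf ⟨6, 6, true, [25, 39, 41, 35, 22], [18, 14, 24, 47, 28, 10], []⟩)))))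 (.node 7 (.node 3 (.node 1 (.leaf ⟨6, 6, true, [19, 42, 25, 43, 26, 6], [44, 42, 2, 41, 39, 4], []⟩) (.node 1 (.leaf ⟨6, 6, true, [0, 25, 8, 2, 18, 6], [10, 6, 34, 33, 6, 47], []⟩) (.leaf ⟨6, 6, true, [13, 48, 38, 46, 30, 0], [11, 20, 42, 44, 25, 10], []⟩))) (.node 2 (.node 1 (.leaf ⟨6, 6, true, [36, 25, 38, 22, 49, 0], [38, 18, 13, 43, 13], []⟩) (.leaf ⟨6, 6, true, [49, 8, 24, 35, 8, 37], [33, 22, 15, 45, 41, 43], []⟩)) (.node 1 (.leaf ⟨6, 6, true, [27, 15, 43, 12, 20], [11, 28, 48, 16, 28, 10], []⟩) (.leaf ⟨6, 6, true, [11, 47, 36, 28, 18, 4], [21, 4, 13, 42, 14, 26], []⟩)))) (.node 4 (.node 2 (.node 1 (.leaf ⟨6, 6, true, [45, 35, 49, 27, 24, 2], [33, 19, 29, 31, 25, 34], []⟩) (.leaf ⟨6, 6, true, [2, 27, 46, 48, 32, 4], [18, 26, 30, 26, 25, 10], []⟩)) (.node 1 (.leaf ⟨6, 6, true, [16,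 47, 41, 11, 37], [14, 16, 16, 29, 37], []⟩) (.leaf ⟨6, 6, true, [40, 14, 45, 36, 16, 6], [14, 23, 37, 33, 12], []⟩))) (.node 2 (.node 1 (.leaf ⟨6, 6, true, [17, 49, 8, 33, 20], [25, 41, 38, 34, 21], []⟩) (.leaf ⟨6, 6, true, [12, 33, 2, 15, 11, 2], [20, 43, 39, 19, 26, 8], []⟩)) (.node 1 (.leaf ⟨6, 6, true, [21, 25, 20, 36, 13, 2], [2, 28, 31, 15, 38, 32], []⟩) (.leaf ⟨6, 6, true, [12, 37, 21, 46, 41, 8], [26, 11, 44, 40, 17, 4], []⟩)))))) (.node 15 (.node 7 (.node 3 (.node 1 (.leaf ⟨6, 6, true, [27, 2, 17, 0, 33, 14], [37, 2, 40, 25, 48, 23], []⟩) (.node 1 (.leaf ⟨6, 6, true, [48, 38, 25, 22, 10], [24, 13, 38, 30, 16, 46], []⟩) (.leaf ⟨6, 6, true, [2, 0, 6, 42, 25, 16], [38, 26, 30, 45, 15, 10], []⟩))) (.node 2 (.node 1 (.leaf ⟨6, 5, true, [19, 31, 43, 6, 8, 6], [21, 40, 47, 33, 18],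 []⟩) (.leaf ⟨5, 6, true, [28, 44, 25, 27, 24, 4], [36, 41, 2, 38, 25], []⟩)) (.node 1 (.leaf ⟨6, 6, true, [18, 36, 23, 49, 2], [19, 38, 2, 33, 17, 10], []⟩) (.leaf ⟨6, 6, true, [15, 31, 18, 18, 18, 2], [46, 36, 17, 13, 49], []⟩)))) (.node 4 (.node 2 (.node 1 (.leaf ⟨6, 5, true, [4, 37, 17, 33, 27], [27, 0, 11, 34, 31, 34], []⟩) (.leaf ⟨5, 6, true, [14, 47, 39, 28, 15, 6], [13, 14, 25, 48, 22], []⟩)) (.node 1 (.leaf ⟨6, 6, true, [13, 38, 13, 4, 44, 2], [28, 16, 6, 48, 47, 41], []⟩) (.leaf ⟨6, 6, true, [13, 45, 21, 19, 15], [14, 22, 15, 37, 17, 8], []⟩))) (.node 2 (.node 1 (.leaf ⟨6, 4, true, [13, 34, 27, 37, 48, 6], [49, 2, 15, 15, 11], []⟩) (.leaf ⟨4, 6, true, [10, 46, 15, 12, 8, 10], [47, 26, 11, 24, 41], []⟩)) (.node 1 (.leaf ⟨6, 5, true, [4, 25, 18, 33, 33], [29, 33, 16, 34, 41], []⟩)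 (.leaf ⟨5, 6, true, [2, 47, 11, 33, 22, 4], [19, 47, 2, 27, 42, 2], []⟩))))) (.node 7 (.node 3 (.node 1 (.leaf ⟨6, 5, true, [31, 10, 12, 35, 21], [6, 17, 25, 42, 39, 4], []⟩) (.node 1 (.leaf ⟨5, 6, true, [11, 47, 2, 4, 41], [47, 32, 39, 45, 47, 2], []⟩) (.leaf ⟨6, 5, true, [13, 27, 47, 0, 49], [25, 6, 46, 12, 6, 8], []⟩))) (.node 2 (.node 1 (.leaf ⟨5, 6, true, [34, 8, 25, 0, 44], [33, 31, 42, 37, 23], []⟩) (.leaf ⟨5, 6, true, [30, 43, 8, 33, 36], [14, 32, 47, 38, 48, 6], []⟩)) (.node 1 (.leaf ⟨6, 5, true, [32, 26, 45, 28, 30, 10], [17, 25, 34, 46, 35, 6], []⟩) (.leaf ⟨5, 6, true, [30, 6, 24, 10, 8], [38, 8, 41, 25, 42], []⟩)))) (.node 4 (.node 2 (.node 1 (.leaf ⟨6, 5, true, [46, 19, 26, 14, 35, 6], [6, 33, 49, 13, 24], []⟩) (.leaf ⟨5, 6, true, [4, 38, 26, 15, 19, 0], [21, 48, 33, 42,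 38, 4], []⟩)) (.node 1 (.leaf ⟨6, 6, true, [8, 33, 35, 27, 34, 2], [23, 6, 36, 36, 17, 42], []⟩) (.leaf ⟨6, 6, true, [8, 26, 20, 36, 18, 0], [19, 16, 30, 37, 40, 6], []⟩))) (.node 2 (.node 1 (.leaf ⟨6, 6, true, [25, 29, 10, 45, 37, 6], [12, 28, 41, 36, 42, 2], []⟩) (.leaf ⟨6, 6, true, [11, 14, 17, 47, 22, 47], [28, 8, 24, 37, 42, 6], []⟩)) (.node 1 (.leaf ⟨6, 5, true, [18, 40, 43, 29, 12, 10], [22, 33, 37, 42, 38, 4], []⟩) (.leaf ⟨5, 6, true, [28, 41, 17, 6, 28], [10, 14, 11, 19, 36, 0], []⟩)))))))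
noncomputable def dF541 : BT Fct := (.node 30 (.node 15 (.node 7 (.node 3 (.node 1 (.leaf ⟨6, 3, true, [12, 21, 26, 46, 35], [40, 29, 40, 48, 6, 8], []⟩) (.node 1 (.leaf ⟨3, 6, true, [24, 33, 48, 20, 17], [20, 46, 22, 27, 13, 0], []⟩) (.leaf ⟨6, 6, true, [37, 39, 41, 17, 27], [38, 11, 24, 39, 33, 43], []⟩))) (.node 2 (.node 1 (.leaf ⟨6, 6, true, [48, 18, 48, 36, 48, 8], [36, 35, 45, 28, 32, 2], []⟩) (.leaf ⟨6, 6, true, [36, 26, 32, 46, 48, 2], [14, 12, 33, 35, 37], []⟩)) (.node 1 (.leaf ⟨6, 6, true, [10, 46, 23, 6, 25], [48, 34, 42, 39, 43], []⟩) (.leaf ⟨6, 6, true, [13, 19, 29, 22, 34, 10], [14, 35, 17, 45, 49, 16], []⟩)))) (.node 4 (.node 2 (.node 1 (.leaf ⟨6, 6, true, [10, 38, 20, 19, 15, 0], [16, 6, 24, 47, 29, 4], []⟩) (.leaf ⟨6, 5, true, [34, 26, 16, 11, 45], [4, 26, 48, 24, 13,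 10], []⟩)) (.node 1 (.leaf ⟨5, 6, true, [13, 23, 11, 49, 27, 4], [39, 25, 46, 33, 36], []⟩) (.leaf ⟨6, 6, true, [32, 43, 23, 27, 33], [12, 37, 38, 22, 17, 8], []⟩))) (.node 2 (.node 1 (.leaf ⟨3, 6, true, [33, 0, 14, 28, 10, 34], [43, 26, 6, 17, 2, 4], []⟩) (.leaf ⟨6, 3, true, [45, 31, 31, 2, 23, 8], [19, 45, 42, 25, 47, 6], []⟩)) (.node 1 (.leaf ⟨6, 6, true, [10, 24, 33, 16, 46, 8], [30, 28, 30, 38, 27, 0], []⟩) (.leaf ⟨6, 6, true, [11, 33, 31, 44, 42, 0], [2, 41, 34, 48, 22, 2], []⟩))))) (.node 7 (.node 3 (.node 1 (.leaf ⟨6, 6, true, [8, 36, 30, 11, 29, 6], [29, 27, 41, 30, 15], []⟩) (.node 1 (.leaf ⟨6, 6, true, [28, 40, 18, 21, 15], [2, 32, 42, 19, 24, 0], []⟩) (.leaf ⟨6, 6, true, [0, 41, 23, 20, 26, 6], [21, 17, 49, 16, 8, 19], []⟩))) (.node 2 (.node 1 (.leaf ⟨6, 6, true, [6, 11, 17,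 49, 12, 6], [15, 47, 38, 26, 13, 2], []⟩) (.leaf ⟨5, 6, true, [29, 8, 33, 29, 49, 29], [17, 40, 17, 29, 40, 4], []⟩)) (.node 1 (.leaf ⟨6, 5, true, [11, 43, 28, 21, 16, 0], [2, 0, 49, 23, 45, 4], []⟩) (.leaf ⟨6, 6, true, [11, 34, 41, 28, 27, 8], [27, 17, 36, 30, 27, 8], []⟩)))) (.node 4 (.node 2 (.node 1 (.leaf ⟨6, 6, true, [45, 40, 19, 6, 26, 0], [20, 26, 40, 11, 35, 8], []⟩) (.leaf ⟨6, 6, true, [21, 33, 41, 32, 31], [27, 13, 33, 11, 34, 4], []⟩)) (.node 1 (.leaf ⟨6, 6, true, [2, 34, 47, 39, 11, 0], [46, 10, 29, 32, 38, 37], []⟩) (.leaf ⟨5, 6, true, [12, 44, 28, 6, 24, 0], [8, 6, 39, 37, 41, 26], []⟩))) (.node 2 (.node 1 (.leaf ⟨6, 5, true, [25, 39, 12, 0, 35, 4], [19, 16, 29, 10, 31, 4], []⟩) (.leaf ⟨6, 6, true, [41, 48, 37, 21, 42], [40, 14, 42, 20, 12, 23], []⟩)) (.node 1 (.leaf ⟨6,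 6, true, [16, 44, 39, 2, 42, 4], [19, 6, 36, 8, 14], []⟩) (.leaf ⟨6, 6, true, [6, 14, 8, 33, 24, 45], [21, 46, 18, 6, 4, 2], []⟩)))))) (.node 15 (.node 7 (.node 3 (.node 1 (.leaf ⟨6, 6, true, [24, 36, 24, 0, 33], [10, 43, 45, 42, 14, 0], []⟩) (.node 1 (.leaf ⟨5, 6, true, [8, 27, 41, 8, 24], [27, 36, 35, 14, 47, 6], []⟩) (.leaf ⟨6, 5, true, [14, 29, 32, 47, 49, 6], [11, 16, 24, 27, 40], []⟩))) (.node 2 (.node 1 (.leaf ⟨6, 3, true, [8, 41, 28, 48, 42, 0], [25, 36, 39, 47, 17, 0], []⟩) (.leaf ⟨3, 6, true, [16, 44, 0, 42, 16, 10], [4, 43, 49, 29, 40, 8], []⟩)) (.node 1 (.leaf ⟨5, 6, true, [6, 49, 18, 18, 21, 4], [18, 30, 20, 45, 15], []⟩) (.leaf ⟨6, 6, true, [30, 24, 38, 36, 31, 2], [14, 49, 12, 38, 27, 6], []⟩)))) (.node 4 (.node 2 (.node 1 (.leaf ⟨6, 6, true, [29, 15, 41, 16, 29, 0], [27,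 6, 21, 15, 39, 44], []⟩) (.leaf ⟨6, 6, true, [18, 0, 35, 40, 21, 18], [40, 35, 37, 25, 43, 0], []⟩)) (.node 1 (.leaf ⟨6, 6, true, [32, 34, 10, 35, 26, 2], [37, 11, 28, 32, 4, 37], []⟩) (.leaf ⟨6, 6, true, [34, 6, 25, 33, 47, 24], [16, 11, 12, 21, 49, 8], []⟩))) (.node 2 (.node 1 (.leaf ⟨6, 6, true, [0, 11, 40, 29, 15, 4], [12, 10, 42, 22, 44, 47], []⟩) (.leaf ⟨3, 6, true, [37, 25, 17, 34, 20, 0], [45, 12, 29, 40, 43, 17], []⟩)) (.node 1 (.leaf ⟨6, 3, true, [32, 2, 40, 31, 47, 44], [46, 42, 26, 49, 47], []⟩) (.leaf ⟨6, 6, true, [25, 49, 41, 31, 25], [20, 34, 32, 0, 32, 0], []⟩))))) (.node 7 (.node 3 (.node 1 (.leaf ⟨6, 6, true, [28, 47, 2, 17, 36], [36, 48, 36, 40, 14, 4], []⟩) (.node 1 (.leaf ⟨6, 6, true, [0, 43, 21, 0, 24], [18, 48, 32, 25, 33, 10], []⟩) (.leaf ⟨6, 6, true, [23, 49,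 10, 28, 22, 6], [25, 20, 42, 0], []⟩))) (.node 2 (.node 1 (.leaf ⟨6, 6, true, [22, 38, 23, 24, 46, 8], [39, 40, 19, 28, 32, 10], []⟩) (.leaf ⟨6, 6, true, [0, 32, 14, 31, 23, 6], [2, 26, 10, 49, 33, 4], []⟩)) (.node 1 (.leaf ⟨6, 6, true, [12, 23, 40, 11, 35, 10], [40, 15, 40, 45, 10, 45], []⟩) (.leaf ⟨6, 6, true, [46, 25, 2, 24, 4], [39, 45, 36, 21, 38, 2], []⟩)))) (.node 4 (.node 2 (.node 1 (.leaf ⟨6, 5, true, [42, 35, 41, 20, 20, 2], [2, 23, 30, 8, 43, 0], []⟩) (.leaf ⟨5, 6, true, [29, 31, 36, 25, 10], [38, 2, 45, 28, 12, 49], []⟩)) (.node 1 (.leaf ⟨5, 6, true, [36, 39, 47, 26], [26, 24, 44, 0, 15], []⟩) (.leaf ⟨6, 5, true, [38, 37, 11, 49, 37, 6], [20, 15, 32, 13, 30], []⟩))) (.node 2 (.node 1 (.leaf ⟨6, 5, true, [31, 47, 23, 27, 18, 4], [6, 26, 15, 48, 42, 0], []⟩) (.leaf ⟨5, 6, true,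 [8, 37, 35, 24, 28], [27, 48, 32, 38, 29, 6], []⟩)) (.node 1 (.leaf ⟨6, 6, true, [13, 34, 20, 29, 36, 8], [15, 35, 26, 26, 16], []⟩) (.leaf ⟨6, 6, true, [16, 42, 20, 0, 39], [14, 35, 30, 37, 20], []⟩)))))))
noncomputable def dF601 : BT Fct := (.node 30 (.node 15 (.node 7 (.node 3 (.node 1 (.leaf ⟨5, 6, true, [24, 44, 17, 41, 45, 0], [17, 25, 42, 18, 34], []⟩) (.node 1 (.leaf ⟨6, 5, true, [18, 29, 47, 11, 8, 4], [6, 45, 8, 35, 15], []⟩) (.leaf ⟨6, 6, true, [44, 19, 11, 27, 6], [8, 6, 22, 35, 6, 32], []⟩))) (.node 2 (.node 1 (.leaf ⟨6, 6, true, [31, 11, 2, 25, 29], [6, 30, 42, 22, 20, 2], []⟩) (.leaf ⟨6, 6, true, [25, 13, 32, 13, 32, 0], [26, 45, 6, 37, 13], []⟩)) (.node 1 (.leaf ⟨6, 6, true, [18, 33, 12, 45, 39], [26, 39, 12, 24, 28], []⟩) (.leaf ⟨6, 6, true, [12, 42, 36, 0, 16, 2], [26,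 4, 2, 38, 34, 44], []⟩)))) (.node 4 (.node 2 (.node 1 (.leaf ⟨6, 6, true, [48, 32, 0, 34, 19], [31, 8, 48, 44, 27, 0], []⟩) (.leaf ⟨6, 6, true, [42, 8, 47, 43, 28, 47], [29, 34, 18, 8, 29], []⟩)) (.node 1 (.leaf ⟨6, 6, true, [2, 39, 30, 45, 25, 6], [34, 11, 47, 26, 18, 35], []⟩) (.leaf ⟨5, 6, true, [12, 32, 8, 32, 40], [38, 45, 23, 10, 20, 6], []⟩))) (.node 2 (.node 1 (.leaf ⟨6, 5, true, [43, 16, 32, 45, 6, 2], [12, 11, 47, 25, 0], []⟩) (.leaf ⟨5, 6, true, [0, 44, 18, 28, 24, 0], [17, 36, 28, 49, 32, 2], []⟩)) (.node 1 (.leaf ⟨6, 6, true, [23, 19, 19, 41, 20, 10], [4, 2, 47, 49, 8, 10], []⟩) (.leaf ⟨6, 6, true, [17, 45, 42, 12, 10, 4], [13, 0, 15, 35, 13, 26], []⟩))))) (.node 7 (.node 3 (.node 1 (.leaf ⟨6, 6, true, [13, 43, 32, 11, 45], [24, 39, 34, 38, 10, 8], []⟩) (.node 1 (.leaf ⟨6,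 6, true, [20, 30, 30, 41, 14, 2], [2, 29, 18, 12, 41, 0], []⟩) (.leaf ⟨6, 6, true, [45, 26, 31, 19, 8, 10], [46, 14, 39, 14, 16, 4], []⟩))) (.node 2 (.node 1 (.leaf ⟨6, 6, true, [15, 10, 47, 16, 34, 27], [33, 15, 39, 24, 45, 6], []⟩) (.leaf ⟨6, 5, true, [46, 11, 41, 20, 37, 23], [10, 2, 36, 20, 8, 11], []⟩)) (.node 1 (.leaf ⟨5, 6, true, [36, 13, 2, 16, 10], [28, 10, 16, 30, 4, 17], []⟩) (.leaf ⟨6, 5, true, [19, 10, 43, 40, 42, 6], [38, 47, 29, 32, 10], []⟩)))) (.node 4 (.node 2 (.node 1 (.leaf ⟨5, 6, true, [11, 24, 41, 15, 19, 6], [14, 13, 43, 15, 21, 8], []⟩) (.leaf ⟨6, 6, true, [12, 46, 20, 27, 38, 0], [4, 2, 36, 2, 36, 29], []⟩)) (.node 1 (.leaf ⟨6, 6, true, [14, 13, 34, 6, 18, 6], [36, 13, 19, 39, 11, 28], []⟩) (.leaf ⟨6, 6, true, [36, 48, 21, 26, 20, 2], [23, 18, 45, 4, 35, 21],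 []⟩))) (.node 2 (.node 1 (.leaf ⟨6, 6, true, [6, 36, 49, 13, 21, 4], [37, 21, 36, 11, 21, 8], []⟩) (.leaf ⟨6, 6, true, [20, 44, 10, 43, 11, 6], [33, 25, 17, 15, 13], []⟩)) (.node 1 (.leaf ⟨6, 6, true, [18, 16, 39, 37, 31], [46, 10, 47, 12, 2], []⟩) (.leaf ⟨6, 6, true, [11, 19, 26, 46, 8], [25, 28, 43, 36], []⟩)))))) (.node 15 (.node 7 (.node 3 (.node 1 (.leaf ⟨5, 6, true, [43, 17, 48, 15, 46, 6], [39, 48, 46, 48, 28], []⟩) (.node 1 (.leaf ⟨6, 5, true, [13, 27, 25, 33, 10, 4], [22, 26, 37, 42, 42, 4], []⟩) (.leaf ⟨6, 5, true, [38, 14, 0, 47, 32, 34], [20, 27, 48, 8, 47, 2], []⟩))) (.node 2 (.node 1 (.leaf ⟨5, 6, true, [14, 36, 28, 49, 20, 4], [19, 22, 46, 35, 31, 0], []⟩) (.leaf ⟨6, 6, true, [20, 37, 12, 2, 25], [19, 34, 16, 29, 46], []⟩)) (.node 1 (.leaf ⟨6, 5, true, [22, 28, 20, 32,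 8, 4], [39, 28, 24, 44, 15, 10], []⟩) (.leaf ⟨5, 6, true, [13, 23, 47, 6, 35, 6], [13, 30, 26, 28, 20], []⟩)))) (.node 4 (.node 2 (.node 1 (.leaf ⟨6, 6, true, [14, 31, 42, 29, 30, 10], [43, 31, 4, 39, 49], []⟩) (.leaf ⟨5, 6, true, [48, 8, 49, 39, 26, 2], [33, 10, 49, 47, 37, 49], []⟩)) (.node 1 (.leaf ⟨6, 5, true, [40, 46, 30, 6, 0, 2], [49, 2, 46, 35, 17, 41], []⟩) (.leaf ⟨6, 6, true, [12, 49, 29, 41, 43], [17, 2, 36, 34, 34, 30], []⟩))) (.node 2 (.node 1 (.leaf ⟨6, 4, true, [10, 4, 43, 29, 24, 29], [14, 32, 45, 49, 13, 8], []⟩) (.leaf ⟨4, 6, true, [44, 22, 12, 39, 37], [40, 12, 18, 42, 28, 11], []⟩)) (.node 1 (.leaf ⟨6, 6, true, [48, 6, 17, 10], [34, 40, 45, 40, 26], []⟩) (.leaf ⟨6, 6, true, [28, 38, 30, 39, 11, 0], [11, 16, 4, 6, 49], []⟩))))) (.node 7 (.node 3 (.node 1 (.leaf ⟨5,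 6, true, [10, 27, 43, 22, 21, 2], [27, 13, 39, 18, 18], []⟩) (.node 1 (.leaf ⟨6, 5, true, [43, 11, 17, 45, 15, 8], [26, 11, 49, 33, 0, 49], []⟩) (.leaf ⟨6, 5, true, [29, 12, 32, 40, 38], [11, 13, 35, 16, 11, 8], []⟩))) (.node 2 (.node 1 (.leaf ⟨5, 6, true, [12, 30, 24, 2, 15, 6], [0, 47, 31, 20, 35, 0], []⟩) (.leaf ⟨6, 6, true, [32, 2, 31, 48, 44, 33], [22, 39, 33, 2, 42, 0], []⟩)) (.node 1 (.leaf ⟨6, 6, true, [23, 12, 45, 16, 28, 4], [35, 17, 18, 8, 10], []⟩) (.leaf ⟨6, 6, true, [28, 31, 0, 48, 15], [49, 31, 22, 18, 24, 2], []⟩)))) (.node 4 (.node 2 (.node 1 (.leaf ⟨6, 6, true, [16, 38, 47, 13, 32, 4], [49, 8, 4, 2, 18], []⟩) (.leaf ⟨6, 5, true, [24, 39, 40, 34, 39], [10, 2, 24, 33, 6], []⟩)) (.node 1 (.leaf ⟨5, 6, true, [34, 15, 6, 26, 41, 24], [15, 8, 44, 2, 17, 0], []⟩) (.leaf ⟨6,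 6, true, [18, 37, 29, 25, 33, 8], [4, 42, 28, 42, 24], []⟩))) (.node 2 (.node 1 (.leaf ⟨6, 6, true, [17, 19, 24, 46, 23], [10, 12, 16, 47, 28], []⟩) (.leaf ⟨6, 6, true, [45, 8, 38, 48, 38, 15], [10, 14, 36, 21, 26, 39], []⟩)) (.node 1 (.leaf ⟨6, 6, true, [10, 49, 41, 14, 20, 10], [37, 49, 19, 23, 42], []⟩) (.leaf ⟨6, 6, true, [18, 16, 38, 15, 49, 4], [14, 8, 39, 40, 31, 8], []⟩)))))))
noncomputable def dF661 : BT Fct := (.node 30 (.node 15 (.node 7 (.node 3 (.node 1 (.leaf ⟨6, 6, true, [2, 44, 14, 18, 27, 6], [11, 31, 45, 24, 26, 6], []⟩) (.node 1 (.leaf ⟨6, 6, true, [43, 22, 47, 29, 29, 10], [15, 37, 17, 20, 36, 2], []⟩) (.leaf ⟨6, 5, true, [34, 16, 18, 44, 28, 10], [35, 29, 8, 17, 8], []⟩))) (.node 2 (.node 1 (.leaf ⟨5, 6, true, [13, 28, 24, 13, 34], [26, 45, 37, 40, 36], []⟩) (.leaf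 ⟨6, 6, true, [36, 8, 26, 43, 15, 43], [25, 10, 33, 14, 28, 6], []⟩)) (.node 1 (.leaf ⟨6, 6, true, [18, 49, 19, 6, 35], [22, 6, 27, 18, 38, 30], []⟩) (.leaf ⟨6, 6, true, [39, 31, 18, 28, 15, 2], [49, 2, 18, 42, 35, 6], []⟩)))) (.node 4 (.node 2 (.node 1 (.leaf ⟨6, 6, true, [0, 17, 41, 37, 22, 10], [24, 28, 37, 16, 11, 8], []⟩) (.leaf ⟨6, 6, true, [26, 6, 47, 26, 11, 33], [0, 39, 28, 0, 47, 8], []⟩)) (.node 1 (.leaf ⟨6, 6, true, [14, 23, 10, 36, 34, 8], [32, 14, 2, 36, 31, 10], []⟩) (.leaf ⟨6, 6, true, [36, 18, 2, 23, 25, 4], [29, 44, 31, 38, 32, 6], []⟩))) (.node 2 (.node 1 (.leaf ⟨6, 6, true, [6, 27, 12, 37, 47, 6], [43, 30, 17, 41, 31, 0], []⟩) (.leaf ⟨6, 6, true, [49, 23, 2, 26, 13, 8], [8, 20, 6, 2, 19, 2], []⟩)) (.node 1 (.leaf ⟨6, 6, true, [33, 34, 40, 11, 11, 4], [38, 28, 36, 20,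 31, 0], []⟩) (.leaf ⟨6, 5, true, [30, 30, 21, 33, 40], [13, 27, 19, 38, 41], []⟩))))) (.node 7 (.node 3 (.node 1 (.leaf ⟨5, 6, true, [0, 38, 34, 32, 37, 2], [19, 26, 48, 22, 18], []⟩) (.node 1 (.leaf ⟨6, 6, true, [2, 27, 34, 33, 23], [46, 35, 44, 14, 45, 35], []⟩) (.leaf ⟨6, 6, true, [2, 29, 32, 48, 13], [34, 19, 32, 30, 26], []⟩))) (.node 2 (.node 1 (.leaf ⟨6, 6, true, [36, 22, 31, 15, 35], [21, 19, 33, 25, 17], []⟩) (.leaf ⟨6, 6, true, [22, 10, 44, 33, 42, 27], [12, 30, 36, 20, 42], []⟩)) (.node 1 (.leaf ⟨6, 5, true, [37, 41, 37, 21, 48], [26, 25, 15, 40, 18, 24], []⟩) (.leaf ⟨5, 6, true, [42, 0, 45, 25, 48, 4], [2, 48, 24, 20, 15], []⟩)))) (.node 4 (.node 2 (.node 1 (.leaf ⟨6, 6, true, [26, 41, 46, 49, 22, 10], [36, 38, 47, 48, 37, 0], []⟩) (.leaf ⟨6, 6, true, [28, 36, 8, 33, 47],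 [45, 48, 37, 23, 36, 6], []⟩)) (.node 1 (.leaf ⟨6, 6, true, [8, 23, 49, 28, 12], [46, 48, 44, 18, 8, 2], []⟩) (.leaf ⟨6, 6, true, [0, 28, 38, 11, 12, 2], [4, 25, 48, 2, 22, 8], []⟩))) (.node 2 (.node 1 (.leaf ⟨6, 6, true, [17, 48, 6, 24, 18, 10], [2, 31, 15, 22, 15, 2], []⟩) (.leaf ⟨6, 4, true, [4, 36, 10, 49, 29, 8], [46, 28, 20, 20, 2], []⟩)) (.node 1 (.leaf ⟨4, 6, true, [13, 39, 45, 40, 38, 8], [8, 22, 8, 33, 12, 0], []⟩) (.leaf ⟨6, 4, true, [47, 8, 37, 15, 27, 24], [19, 23, 40, 45, 42, 6], []⟩)))))) (.node 15 (.node 7 (.node 3 (.node 1 (.leaf ⟨4, 6, true, [8, 6, 49, 29, 25, 2], [41, 27, 44, 22, 39, 4], []⟩) (.node 1 (.leaf ⟨6, 6, true, [42, 28, 8, 22, 4], [0, 20, 41, 30, 11, 6], []⟩) (.leaf ⟨6, 6, true, [21, 15, 20, 41, 34, 4], [0, 23, 8, 29, 43], []⟩))) (.node 2 (.node 1 (.leaf ⟨6,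 6, true, [28, 0, 24, 31, 6, 15], [10, 29, 21, 18, 39, 24], []⟩) (.leaf ⟨6, 6, true, [20, 31, 16, 8, 44, 4], [44, 21, 37, 27, 37], []⟩)) (.node 1 (.leaf ⟨6, 6, true, [44, 6, 27, 8, 49, 16], [36, 12, 11, 35, 24], []⟩) (.leaf ⟨6, 6, true, [0, 15, 12, 40, 28, 0], [15, 23, 24, 34, 21, 8], []⟩)))) (.node 4 (.node 2 (.node 1 (.leaf ⟨6, 6, true, [4, 34, 17, 23, 48], [32, 17, 25, 34, 49, 24], []⟩) (.leaf ⟨6, 6, true, [0, 32, 17, 43, 40, 6], [46, 19, 21, 24, 4], []⟩)) (.node 1 (.leaf ⟨6, 5, true, [22, 30, 41, 11, 45, 2], [2, 13, 8, 45, 31, 0], []⟩) (.leaf ⟨5, 6, true, [21, 41, 26, 46, 12, 10], [13, 23, 8, 33, 27, 8], []⟩))) (.node 2 (.node 1 (.leaf ⟨6, 6, true, [17, 4, 23, 39, 16, 41], [47, 16, 47, 2, 36, 33], []⟩) (.leaf ⟨6, 6, true, [30, 8, 31, 14, 16, 18], [30, 22, 16, 48, 41], []⟩)) (.node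 1 (.leaf ⟨6, 6, true, [36, 6, 31, 15, 47, 35], [14, 46, 37, 26, 25, 4], []⟩) (.leaf ⟨6, 6, true, [43, 26, 34, 45, 45, 2], [34, 0, 48, 38, 41, 31], []⟩))))) (.node 7 (.node 3 (.node 1 (.leaf ⟨6, 6, true, [35, 26, 11, 47, 12], [22, 28, 2, 18, 31, 8], []⟩) (.node 1 (.leaf ⟨6, 6, true, [38, 22, 27, 11, 35], [2, 31, 10, 49, 17], []⟩) (.leaf ⟨6, 6, true, [34, 25, 40, 22, 22, 2], [8, 35, 48, 39, 11, 2], []⟩))) (.node 2 (.node 1 (.leaf ⟨6, 6, true, [32, 35, 49, 12, 25], [44, 17, 31, 18, 30, 4], []⟩) (.leaf ⟨6, 6, true, [49, 13, 15, 31, 31, 6], [30, 10, 8, 33, 37, 6], []⟩)) (.node 1 (.leaf ⟨6, 6, true, [15, 12, 26, 24, 43, 4], [30, 45, 35, 35, 33, 6], []⟩) (.leaf ⟨6, 6, true, [27, 21, 16, 33, 17, 0], [10, 14, 36, 34, 4, 6], []⟩)))) (.node 4 (.node 2 (.node 1 (.leaf ⟨6, 6, true, [18, 47, 30, 34,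 23, 2], [12, 34, 14, 29, 15, 6], []⟩) (.leaf ⟨6, 3, true, [18, 4, 2, 43, 19, 17], [2, 31, 2, 41, 32, 8], []⟩)) (.node 1 (.leaf ⟨3, 6, true, [38, 34, 36, 10, 28, 10], [19, 24, 28, 42, 19, 4], []⟩) (.leaf ⟨5, 6, true, [48, 4, 43, 46, 6], [35, 47, 16, 18, 45, 6], []⟩))) (.node 2 (.node 1 (.leaf ⟨6, 5, true, [43, 45, 25, 44, 23, 0], [30, 4, 33, 38, 36, 38], []⟩) (.leaf ⟨6, 6, true, [33, 38, 14, 48, 36, 4], [20, 33, 40, 38, 28, 10], []⟩)) (.node 1 (.leaf ⟨6, 6, true, [34, 32, 20, 15, 22, 0], [21, 12, 30, 17, 32, 49], []⟩) (.leaf ⟨6, 6, true, [29, 36, 22, 27, 13, 8], [0, 6, 37, 11, 18, 10], []⟩)))))))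
noncomputable def dF721 : BT Fct := (.node 30 (.node 15 (.node 7 (.node 3 (.node 1 (.leaf ⟨6, 6, true, [36, 36, 34, 10, 26], [10, 15, 37, 35, 4, 6], []⟩) (.node 1 (.leaf ⟨6, 4, true, [10, 4, 42, 37, 33, 29], [34, 26, 36, 11, 27], []⟩) (.leaf ⟨4, 6, true, [19, 0, 48, 8, 39, 15], [45, 8, 31, 42, 45, 28], []⟩))) (.node 2 (.node 1 (.leaf ⟨6, 4, true, [44, 14, 45, 43, 4], [4, 2, 22, 19, 21, 10], []⟩) (.leaf ⟨4, 6, true, [29, 46, 39, 2, 33, 2], [0, 42, 44, 15, 45], []⟩)) (.node 1 (.leaf ⟨6, 6, true, [47, 4, 34, 47, 41, 27], [45, 47, 42, 17, 41], []⟩) (.leaf ⟨6, 6, true, [24, 2, 16, 40, 25, 2], [48, 35, 41, 16, 8, 4], []⟩)))) (.node 4 (.node 2 (.node 1 (.leaf ⟨6, 6, true, [6, 34, 38, 4, 30, 2], [12, 2, 4, 40, 42, 16], []⟩) (.leaf ⟨6, 6, true, [14, 16, 25, 49, 34, 24], [36, 2, 36, 6, 21, 0],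 []⟩)) (.node 1 (.leaf ⟨6, 6, true, [11, 45, 19, 17, 30, 4], [30, 2, 16, 37, 22, 44], []⟩) (.leaf ⟨6, 6, true, [6, 44, 36, 35, 8, 6], [44, 22, 42, 36, 18, 4], []⟩))) (.node 2 (.node 1 (.leaf ⟨6, 6, true, [31, 41, 49, 0, 43, 6], [40, 15, 42, 8, 2, 4], []⟩) (.leaf ⟨6, 6, true, [19, 23, 30, 41, 8, 6], [11, 43, 48, 45, 39, 0], []⟩)) (.node 1 (.leaf ⟨6, 6, true, [16, 15, 6, 31, 33, 4], [25, 2, 37, 23, 31, 43], []⟩) (.leaf ⟨6, 6, true, [0, 45, 14, 12, 46], [34, 37, 39, 31, 15, 8], []⟩))))) (.node 7 (.node 3 (.node 1 (.leaf ⟨6, 6, true, [15, 34, 6, 8, 31, 6], [30, 21, 14, 43, 33], []⟩) (.node 1 (.leaf ⟨6, 6, true, [27, 31, 39, 34, 11, 36], [4, 2, 14, 43, 31, 0], []⟩) (.leaf ⟨6, 6, true, [4, 19, 34, 16, 12, 8], [27, 13, 43, 18, 43, 37], []⟩))) (.node 2 (.node 1 (.leaf ⟨6, 6, true, [40, 24, 39,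 35, 40, 0], [20, 37, 34, 22, 20, 2], []⟩) (.leaf ⟨6, 6, true, [21, 41, 33, 40, 8, 6], [15, 6, 49, 32, 11, 6], []⟩)) (.node 1 (.leaf ⟨6, 6, true, [33, 19, 23, 47, 12], [11, 14, 17, 27, 30, 41], []⟩) (.leaf ⟨6, 6, true, [17, 12, 32, 34, 27, 41], [29, 16, 32, 23, 11, 0], []⟩)))) (.node 4 (.node 2 (.node 1 (.leaf ⟨6, 6, true, [30, 0, 18, 6, 30, 35], [32, 11, 19, 49, 43], []⟩) (.leaf ⟨6, 5, true, [11, 40, 47, 41, 19, 10], [15, 35, 20, 28, 10], []⟩)) (.node 1 (.leaf ⟨5, 6, true, [44, 30, 45, 46, 0], [46, 10, 36, 11, 19], []⟩) (.leaf ⟨6, 6, true, [38, 35, 15, 21, 46], [17, 40, 33, 36, 12], []⟩))) (.node 2 (.node 1 (.leaf ⟨6, 6, true, [32, 2, 45, 21, 35, 31], [37, 8, 46, 34, 30, 0], []⟩) (.leaf ⟨6, 6, true, [40, 49, 15, 44, 32], [18, 14, 11, 39, 35, 4], []⟩)) (.node 1 (.leaf ⟨6, 6, true, [2,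 16, 2, 39, 47, 2], [12, 6, 40, 33, 12, 17], []⟩) (.leaf ⟨6, 6, true, [35, 49, 28, 35, 37], [48, 46, 45, 18, 41, 0], []⟩)))))) (.node 15 (.node 7 (.node 3 (.node 1 (.leaf ⟨6, 6, true, [39, 48, 13, 19, 31], [11, 37, 24, 30, 42, 6], []⟩) (.node 1 (.leaf ⟨6, 6, true, [13, 40, 45, 49, 37, 8], [38, 2, 22, 48, 37, 6], []⟩) (.leaf ⟨6, 6, true, [34, 11, 28, 30, 16], [10, 41, 35, 32, 0], []⟩))) (.node 2 (.node 1 (.leaf ⟨6, 5, true, [44, 6, 47, 8, 20, 8], [19, 45, 6, 32, 18], []⟩) (.leaf ⟨5, 6, true, [47, 0, 49, 23, 10, 13], [28, 32, 28, 18, 6, 4], []⟩)) (.node 1 (.leaf ⟨6, 6, true, [48, 26, 20, 35, 12, 2], [49, 0, 14, 34, 31, 13], []⟩) (.leaf ⟨6, 6, true, [37, 26, 35, 30, 37, 14], [41, 24, 12, 28, 32], []⟩)))) (.node 4 (.node 2 (.node 1 (.leaf ⟨6, 6, true, [49, 34, 18, 35, 21, 6], [15, 18, 8, 41,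 26, 2], []⟩) (.leaf ⟨6, 6, true, [11, 34, 11, 40, 4, 0], [45, 13, 4, 41, 16, 4], []⟩)) (.node 1 (.leaf ⟨6, 6, true, [30, 18, 40, 44, 16, 4], [37, 31, 38, 31, 27], []⟩) (.leaf ⟨6, 4, true, [27, 30, 4, 25, 13], [12, 4, 29, 49], []⟩))) (.node 2 (.node 1 (.leaf ⟨4, 6, true, [4, 35, 4, 6, 22, 6], [12, 24, 31, 26], []⟩) (.leaf ⟨6, 6, true, [12, 42, 22, 22, 25], [8, 0, 35, 28, 20, 11], []⟩)) (.node 1 (.leaf ⟨6, 6, true, [14, 28, 49, 6, 19, 6], [16, 0, 16, 25, 43, 13], []⟩) (.leaf ⟨6, 6, true, [14, 22, 15, 41, 32], [44, 33, 26, 10, 16], []⟩))))) (.node 7 (.node 3 (.node 1 (.leaf ⟨6, 6, true, [25, 38, 41, 22, 45], [35, 0, 39, 41, 23, 13], []⟩) (.node 1 (.leaf ⟨6, 6, true, [6, 11, 28, 40, 24, 0], [22, 6, 31, 32, 17, 6], []⟩) (.leaf ⟨6, 6, true, [49, 40, 46, 38, 29], [4, 25, 41, 29, 10, 6], []⟩)))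 (.node 2 (.node 1 (.leaf ⟨6, 6, true, [45, 41, 47, 17, 20, 8], [30, 12, 46, 38, 23, 41], []⟩) (.leaf ⟨6, 6, true, [30, 39, 27, 41, 36, 8], [14, 34, 22, 40, 25], []⟩)) (.node 1 (.leaf ⟨6, 6, true, [32, 46, 8, 45, 35], [33, 13, 44, 28, 38, 8], []⟩) (.leaf ⟨6, 6, true, [8, 26, 40, 13, 47], [15, 32, 27, 46, 43, 6], []⟩)))) (.node 4 (.node 2 (.node 1 (.leaf ⟨6, 4, true, [8, 19, 44, 19, 22, 0], [49, 2, 27, 19, 4], []⟩) (.leaf ⟨4, 6, true, [4, 49, 8, 49, 0], [4, 23, 18, 45, 18, 8], []⟩)) (.node 1 (.leaf ⟨6, 6, true, [26, 32, 16, 33, 34, 8], [33, 42, 25, 18, 16, 10], []⟩) (.leaf ⟨6, 6, true, [17, 15, 11, 23, 43, 32], [37, 21, 30, 17, 13, 2], []⟩))) (.node 2 (.node 1 (.leaf ⟨6, 6, true, [6, 13, 35, 13, 18, 2], [39, 0, 33, 23, 21, 34], []⟩) (.leaf ⟨6, 6, true, [27, 19, 46, 22, 25, 33], [23, 24,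 47, 17, 21], []⟩)) (.node 1 (.leaf ⟨6, 3, true, [30, 15, 49, 34, 0, 2], [40, 19, 41, 22, 31, 16], []⟩) (.leaf ⟨3, 6, true, [4, 46, 19, 40, 8, 6], [27, 41, 33, 34, 20, 8], []⟩)))))))
noncomputable def dF781 : BT Fct := (.node 30 (.node 15 (.node 7 (.node 3 (.node 1 (.leaf ⟨6, 6, true, [30, 34, 38, 38, 28, 4], [35, 41, 2, 43, 19, 0], []⟩) (.node 1 (.leaf ⟨6, 6, true, [41, 46, 28, 23, 18], [39, 24, 17, 35, 33, 10], []⟩) (.leaf ⟨6, 6, true, [10, 23, 10, 45, 10], [20, 20, 33, 0, 40], []⟩))) (.node 2 (.node 1 (.leaf ⟨6, 6, true, [32, 38, 34, 17, 32], [41, 2, 20, 13, 30, 40], []⟩) (.leaf ⟨6, 6, true, [30, 4, 40, 40, 38, 40], [39, 40, 36, 10, 47, 2], []⟩)) (.node 1 (.leaf ⟨5, 6, true, [2, 0, 23, 23, 46, 46], [14, 33, 25, 45, 28, 4], []⟩) (.leaf ⟨6, 5, true, [18, 47, 24, 47, 10, 6], [19, 47, 25,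 35, 28, 10], []⟩)))) (.node 4 (.node 2 (.node 1 (.leaf ⟨6, 6, true, [48, 43, 47, 6, 27, 6], [41, 16, 35, 4, 45, 0], []⟩) (.leaf ⟨6, 6, true, [34, 8, 33, 13, 39, 29], [2, 23, 36, 22, 32, 2], []⟩)) (.node 1 (.leaf ⟨6, 6, true, [15, 47, 42, 41, 21, 10], [25, 2, 29, 47, 29, 20], []⟩) (.leaf ⟨6, 6, true, [27, 25, 32, 29, 47, 8], [27, 18, 6, 42, 34, 10], []⟩))) (.node 2 (.node 1 (.leaf ⟨6, 6, true, [4, 45, 36, 26, 23, 6], [18, 34, 33, 30, 17, 8], []⟩) (.leaf ⟨6, 6, true, [23, 0, 33, 2, 36, 28], [24, 17, 34, 23, 44, 4], []⟩)) (.node 1 (.leaf ⟨6, 6, true, [46, 31, 47, 27, 31], [28, 34, 14, 6, 47, 2], []⟩) (.leaf ⟨6, 6, true, [6, 0, 27, 40, 44, 34], [47, 11, 16, 26, 14, 34], []⟩))))) (.node 7 (.node 3 (.node 1 (.leaf ⟨6, 6, true, [10, 24, 18, 43, 34, 6], [29, 2, 12, 20, 33, 14], []⟩) (.node 1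 (.leaf ⟨6, 6, true, [34, 28, 32, 28, 11, 6], [2, 23, 39, 46, 8, 10], []⟩) (.leaf ⟨6, 6, true, [45, 26, 21, 47, 48, 0], [37, 43, 16, 42, 23, 4], []⟩))) (.node 2 (.node 1 (.leaf ⟨6, 6, true, [41, 38, 21, 17, 45, 8], [29, 8, 42, 13, 29, 2], []⟩) (.leaf ⟨6, 6, true, [40, 16, 44, 11, 40, 4], [33, 39, 6, 35, 16, 8], []⟩)) (.node 1 (.leaf ⟨6, 6, true, [17, 2, 25, 14, 42, 18], [10, 35, 28, 34, 27], []⟩) (.leaf ⟨5, 6, true, [15, 35, 40, 45, 21, 10], [41, 10, 40, 47, 10, 22], []⟩)))) (.node 4 (.node 2 (.node 1 (.leaf ⟨6, 6, true, [26, 24, 21, 47, 8], [49, 33, 39, 2, 41, 2], []⟩) (.leaf ⟨6, 6, true, [0, 17, 37, 22, 13, 0], [8, 29, 31, 27, 11, 8], []⟩)) (.node 1 (.leaf ⟨6, 5, true, [22, 19, 8, 40, 25, 0], [31, 42, 36, 17, 8, 4], []⟩) (.leaf ⟨5, 6, true, [6, 4, 14, 32, 19, 31], [48, 41, 2, 29, 14],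 []⟩))) (.node 2 (.node 1 (.leaf ⟨6, 6, true, [25, 14, 38, 29, 48], [41, 18, 38, 34, 31, 13], []⟩) (.leaf ⟨6, 6, true, [45, 43, 6, 32, 13, 6], [19, 4, 43, 40, 15, 45], []⟩)) (.node 1 (.leaf ⟨6, 5, true, [22, 20, 32, 32, 48, 2], [20, 20, 15, 31, 18, 8], []⟩) (.leaf ⟨5, 6, true, [27, 39, 11, 49, 6], [46, 4, 34, 22, 37, 4], []⟩)))))) (.node 15 (.node 7 (.node 3 (.node 1 (.leaf ⟨6, 5, true, [8, 17, 8, 40, 35, 6], [0, 39, 20, 10, 31], []⟩) (.node 1 (.leaf ⟨5, 6, true, [36, 22, 21, 11, 12], [6, 26, 24, 17, 36, 29], []⟩) (.leaf ⟨6, 5, true, [39, 0, 29, 46, 15, 12], [47, 6, 38, 4, 2], []⟩))) (.node 2 (.node 1 (.leaf ⟨5, 6, true, [10, 22, 6, 38, 4], [39, 10, 17, 44, 6, 33], []⟩) (.leaf ⟨6, 6, true, [26, 49, 29, 34, 28], [23, 44, 2, 26, 4, 6], []⟩)) (.node 1 (.leaf ⟨6, 6, true, [29, 6, 39, 41, 41,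 23], [4, 33, 49, 29, 27, 4], []⟩) (.leaf ⟨6, 5, true, [35, 10, 44, 14, 13], [13, 38, 43, 45, 29], []⟩)))) (.node 4 (.node 2 (.node 1 (.leaf ⟨5, 6, true, [37, 27, 11, 38, 26, 8], [16, 22, 11, 49, 39], []⟩) (.leaf ⟨6, 6, true, [34, 17, 10, 10, 28], [38, 24, 33, 38, 2, 0], []⟩)) (.node 1 (.leaf ⟨6, 6, true, [0, 47, 36, 47, 31, 6], [38, 49, 41, 23, 18, 6], []⟩) (.leaf ⟨6, 6, true, [25, 38, 22, 10, 40, 2], [6, 15, 35, 48, 48, 31], []⟩))) (.node 2 (.node 1 (.leaf ⟨6, 6, true, [23, 0, 46, 40, 43, 6], [45, 28, 10, 6, 37], []⟩) (.leaf ⟨6, 6, true, [39, 4, 23, 45, 14, 47], [19, 0, 48, 14, 0, 49], []⟩)) (.node 1 (.leaf ⟨6, 6, true, [18, 14, 43, 24, 11, 14], [48, 19, 39, 31, 45, 0], []⟩) (.leaf ⟨6, 6, true, [46, 24, 13, 33, 26], [45, 38, 19, 25, 43, 0], []⟩))))) (.node 7 (.node 3 (.node 1 (.leaf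 ⟨6, 6, true, [28, 8, 12, 17, 41, 44], [0, 30, 39, 35, 47, 4], []⟩) (.node 1 (.leaf ⟨6, 6, true, [17, 27, 47, 36, 40, 4], [4, 14, 33, 35, 37, 8], []⟩) (.leaf ⟨6, 6, true, [15, 47, 20, 46, 8, 4], [12, 21, 36, 24, 26, 2], []⟩))) (.node 2 (.node 1 (.leaf ⟨3, 6, true, [47, 39, 42, 13, 44], [38, 42, 28, 34, 32, 10], []⟩) (.leaf ⟨6, 3, true, [27, 19, 43, 18, 0], [27, 28, 38, 17, 13, 0], []⟩)) (.node 1 (.leaf ⟨6, 6, true, [30, 38, 15, 24, 29, 6], [36, 24, 33, 6, 37], []⟩) (.leaf ⟨6, 6, true, [16, 10, 37, 40, 39], [10, 44, 35, 39, 34], []⟩)))) (.node 4 (.node 2 (.node 1 (.leaf ⟨6, 6, true, [36, 35, 13, 33, 42, 0], [22, 2, 22, 21, 6, 0], []⟩) (.leaf ⟨6, 6, true, [6, 29, 27, 49, 30, 6], [41, 31, 35, 33, 18, 39], []⟩)) (.node 1 (.leaf ⟨3, 6, true, [4, 16, 8, 11, 12, 2], [12, 23, 48, 27, 11, 2], []⟩)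 (.leaf ⟨6, 3, true, [12, 21, 6, 37, 25, 2], [2, 25, 10, 18, 21], []⟩))) (.node 2 (.node 1 (.leaf ⟨6, 6, true, [29, 18, 37, 39, 12], [6, 31, 25, 2, 32], []⟩) (.leaf ⟨6, 6, true, [31, 13, 48, 10], [38, 0, 24, 21, 30, 19], []⟩)) (.node 1 (.leaf ⟨6, 6, true, [36, 20, 45, 18, 36, 0], [30, 24, 37, 35, 43], []⟩) (.leaf ⟨5, 6, true, [34, 2, 10, 38, 21, 26], [0, 11, 28, 17, 43], []⟩)))))))
noncomputable def dF841 : BT Fct := (.node 30 (.node 15 (.node 7 (.node 3 (.node 1 (.leaf ⟨6, 6, true, [19, 14, 34, 31, 27, 16], [2, 20, 46, 20, 8], []⟩) (.node 1 (.leaf ⟨6, 6, true, [0, 2, 38, 38, 31, 29], [42, 39, 27, 25, 26], []⟩) (.leaf ⟨5, 6, true, [0, 48, 14, 46, 29, 10], [45, 6, 35, 26, 13, 42], []⟩))) (.node 2 (.node 1 (.leaf ⟨6, 6, true, [24, 22, 25, 35, 16], [28, 21, 31, 45, 10], []⟩) (.leaf ⟨6, 6,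 true, [39, 40, 28, 35, 48], [17, 0, 34, 24, 23, 25], []⟩)) (.node 1 (.leaf ⟨6, 6, true, [14, 14, 49, 42, 30, 4], [25, 25, 21, 34, 25], []⟩) (.leaf ⟨6, 6, true, [46, 35, 31, 19, 28], [15, 20, 43, 11, 24, 2], []⟩)))) (.node 4 (.node 2 (.node 1 (.leaf ⟨6, 6, true, [33, 18, 29, 44, 11, 47], [40, 8, 29, 14, 30, 2], []⟩) (.leaf ⟨6, 6, true, [0, 30, 40, 45, 16, 2], [35, 16, 11, 22, 4, 6], []⟩)) (.node 1 (.leaf ⟨6, 6, true, [15, 31, 11, 13, 29], [15, 17, 36, 27, 32, 0], []⟩) (.leaf ⟨6, 6, true, [45, 2, 13, 6, 25, 39], [10, 42, 15, 22], []⟩))) (.node 2 (.node 1 (.leaf ⟨6, 5, true, [38, 20, 24, 40, 32, 29], [17, 40, 47, 6, 39, 6], []⟩) (.leaf ⟨5, 6, true, [4, 15, 42, 23, 38, 4], [32, 24, 11, 27, 39, 0], []⟩)) (.node 1 (.leaf ⟨6, 6, true, [17, 28, 49, 10, 15, 4], [47, 22, 28, 34, 45], []⟩) (.leaf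 ⟨6, 6, true, [25, 47, 13, 20, 37], [19, 12, 16, 44, 29, 16], []⟩))))) (.node 7 (.node 3 (.node 1 (.leaf ⟨6, 6, true, [14, 24, 10, 35, 45, 12], [27, 33, 48, 31, 26, 6], []⟩) (.node 1 (.leaf ⟨6, 6, true, [37, 21, 12, 49, 4, 2], [24, 22, 49, 30, 16, 2], []⟩) (.leaf ⟨6, 6, true, [24, 46, 27, 4, 40, 6], [47, 47, 49, 20, 36, 4], []⟩))) (.node 2 (.node 1 (.leaf ⟨6, 6, true, [19, 44, 0, 48, 31, 0], [19, 13, 39, 32, 31, 8], []⟩) (.leaf ⟨6, 6, true, [6, 21, 14, 12, 34, 4], [35, 38, 33, 25, 8, 10], []⟩)) (.node 1 (.leaf ⟨5, 6, true, [0, 44, 11, 37, 26, 10], [4, 27, 43, 47, 42, 2], []⟩) (.leaf ⟨6, 5, true, [12, 11, 34, 14, 4], [2, 46, 20, 38, 17, 6], []⟩)))) (.node 4 (.node 2 (.node 1 (.leaf ⟨6, 6, true, [18, 47, 42, 40], [4, 17, 35, 16, 4, 6], []⟩) (.leaf ⟨6, 6, true, [26, 48, 34, 47, 29], [13,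 38, 29, 43, 32, 6], []⟩)) (.node 1 (.leaf ⟨6, 6, true, [43, 23, 39, 12, 8, 0], [0, 34, 44, 15, 26, 8], []⟩) (.leaf ⟨6, 6, true, [43, 11, 18, 12, 21], [40, 47, 47, 14, 49, 2], []⟩))) (.node 2 (.node 1 (.leaf ⟨5, 6, true, [27, 15, 46, 29, 27, 2], [17, 14, 6, 26, 24, 36], []⟩) (.leaf ⟨6, 5, true, [41, 20, 40, 26, 25, 23], [47, 49, 4, 38, 32], []⟩)) (.node 1 (.leaf ⟨6, 5, true, [14, 37, 13, 2, 26, 6], [20, 14, 34, 34, 33, 6], []⟩) (.leaf ⟨5, 6, true, [29, 36, 27, 28, 15, 2], [27, 32, 28, 39, 30, 0], []⟩)))))) (.node 15 (.node 7 (.node 3 (.node 1 (.leaf ⟨6, 6, true, [26, 13, 24, 34, 27, 2], [17, 35, 25, 13, 22, 0], []⟩) (.node 1 (.leaf ⟨6, 6, true, [28, 30, 36, 38, 41, 2], [15, 22, 39, 37, 14], []⟩) (.leaf ⟨6, 5, true, [24, 14, 42, 18, 37, 32], [8, 25, 13, 35, 24, 6], []⟩))) (.node 2 (.node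 1 (.leaf ⟨5, 6, true, [35, 47, 40, 46, 39], [19, 37, 47, 36, 40, 8], []⟩) (.leaf ⟨6, 6, true, [28, 11, 45, 40, 23], [2, 0, 43, 11, 25, 41], []⟩)) (.node 1 (.leaf ⟨6, 6, true, [15, 47, 31, 42, 11, 6], [22, 13, 48, 36, 44], []⟩) (.leaf ⟨5, 6, true, [6, 11, 31, 6, 27], [6, 49, 25, 10, 18, 4], []⟩)))) (.node 4 (.node 2 (.node 1 (.leaf ⟨6, 5, true, [4, 28, 47, 15, 49, 6], [0, 14, 47, 27, 18, 0], []⟩) (.leaf ⟨6, 6, true, [21, 46, 17, 36, 14, 6], [0, 46, 46, 33, 29, 6], []⟩)) (.node 1 (.leaf ⟨6, 6, true, [14, 20, 6, 27, 22, 31], [27, 31, 26, 17, 33, 10], []⟩) (.leaf ⟨6, 6, true, [46, 36, 41, 4, 37], [19, 39, 35, 42, 13], []⟩))) (.node 2 (.node 1 (.leaf ⟨6, 6, true, [31, 11, 27, 31, 17, 24], [11, 18, 47, 49, 17], []⟩) (.leaf ⟨6, 6, true, [10, 31, 15, 17, 17], [36, 0, 22, 28, 45, 22], []⟩)) (.node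 1 (.leaf ⟨6, 6, true, [49, 38, 34, 46, 48, 4], [31, 42, 6, 28, 34], []⟩) (.leaf ⟨6, 6, true, [12, 35, 15, 13, 41], [15, 6, 35, 21, 43, 21], []⟩))))) (.node 7 (.node 3 (.node 1 (.leaf ⟨6, 6, true, [15, 4, 18, 48, 22, 35], [27, 18, 33, 23, 23, 21], []⟩) (.node 1 (.leaf ⟨6, 6, true, [31, 0, 29, 34, 41, 37], [42, 48, 10, 14, 19, 2], []⟩) (.leaf ⟨3, 6, true, [38, 4, 46, 22, 13], [2, 10, 15, 12, 31, 10], []⟩))) (.node 2 (.node 1 (.leaf ⟨6, 3, true, [36, 8, 13, 15, 11, 11], [22, 22, 20, 38, 17, 2], []⟩) (.leaf ⟨5, 6, true, [38, 4, 44, 19, 10], [37, 35, 29, 48, 10], []⟩)) (.node 1 (.leaf ⟨6, 6, true, [42, 40, 37, 26, 24], [24, 15, 11, 12, 49], []⟩) (.leaf ⟨6, 6, true, [4, 10, 47, 15, 6, 4], [44, 41, 34, 19, 49], []⟩)))) (.node 4 (.node 2 (.node 1 (.leaf ⟨6, 5, true, [46, 4, 11, 38, 23, 46], [44,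 24, 38, 19, 46, 0], []⟩) (.leaf ⟨5, 6, true, [43, 14, 39, 37, 25, 2], [6, 44, 17, 8, 23, 2], []⟩)) (.node 1 (.leaf ⟨6, 5, true, [13, 14, 34, 26, 39, 8], [23, 43, 35, 10, 15, 8], []⟩) (.leaf ⟨5, 6, true, [30, 19, 17, 36, 34, 11], [13, 36, 19, 12, 8, 2], []⟩))) (.node 2 (.node 1 (.leaf ⟨5, 6, true, [43, 23, 13, 17, 0], [42, 21, 34, 45, 25, 2], []⟩) (.leaf ⟨6, 6, true, [25, 14, 36, 47, 16, 4], [6, 32, 19, 39, 42, 6], []⟩)) (.node 1 (.leaf ⟨6, 6, true, [21, 22, 10, 20, 39], [46, 19, 8, 29, 45], []⟩) (.leaf ⟨5, 6, true, [8, 14, 25, 37, 11, 6], [2, 24, 27, 15, 11, 6], []⟩)))))))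
noncomputable def dF901 : BT Fct := (.node 30 (.node 15 (.node 7 (.node 3 (.node 1 (.leaf ⟨6, 5, true, [37, 12, 30, 28, 4], [2, 26, 6, 28, 11, 4], []⟩) (.node 1 (.leaf ⟨6, 6, true, [2, 28, 49, 43, 26, 0], [35, 47, 26, 15, 49, 0], []⟩) (.leaf ⟨6, 6, true, [13, 20, 14, 33, 31], [4, 27, 42, 48, 29, 2], []⟩))) (.node 2 (.node 1 (.leaf ⟨6, 5, true, [39, 17, 39, 18, 29, 4], [0, 23, 48, 19, 19, 2], []⟩) (.leaf ⟨5, 6, true, [2, 30, 8, 6, 22], [28, 0, 19, 38, 16, 38], []⟩)) (.node 1 (.leaf ⟨5, 6, true, [41, 29, 32, 14, 26], [39, 23, 2, 26, 26, 8], []⟩) (.leaf ⟨6, 5, true, [24, 48, 8, 16, 28], [17, 47, 11, 6, 8], []⟩)))) (.node 4 (.node 2 (.node 1 (.leaf ⟨5, 6, true, [10, 46, 18, 15, 13], [0, 18, 47, 19, 34, 4], []⟩) (.leaf ⟨6, 5, true, [46, 2, 6, 22, 40, 45], [14, 4, 13, 27, 47, 11], []⟩)) (.node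 1 (.leaf ⟨5, 6, true, [4, 29, 36, 33, 41, 4], [33, 2, 21, 46, 40, 16], []⟩) (.leaf ⟨6, 5, true, [33, 6, 39, 49, 0, 2], [26, 40, 45, 13, 33], []⟩))) (.node 2 (.node 1 (.leaf ⟨6, 6, true, [19, 27, 2, 19, 38, 8], [22, 43, 2, 17, 29, 6], []⟩) (.leaf ⟨6, 6, true, [17, 38, 8, 10, 39, 0], [43, 38, 46, 12, 27, 10], []⟩)) (.node 1 (.leaf ⟨6, 6, true, [35, 44, 34, 23, 39], [21, 45, 39, 28, 12, 8], []⟩) (.leaf ⟨6, 6, true, [0, 13, 27, 35, 11, 8], [25, 19, 14, 30, 12, 8], []⟩))))) (.node 7 (.node 3 (.node 1 (.leaf ⟨6, 6, true, [36, 49, 45, 22, 34, 0], [2, 27, 40, 21, 45, 0], []⟩) (.node 1 (.leaf ⟨6, 6, true, [47, 0, 42, 18, 24, 24], [30, 14, 14, 47, 45, 15], []⟩) (.leaf ⟨6, 6, true, [4, 33, 42, 26, 2, 4], [31, 27, 24, 17, 33], []⟩))) (.node 2 (.node 1 (.leaf ⟨6, 5, true, [29, 44, 6, 14, 43, 2], [32,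 10, 34, 14, 28, 33], []⟩) (.leaf ⟨5, 6, true, [49, 27, 14, 10, 23], [32, 48, 21, 13, 43], []⟩)) (.node 1 (.leaf ⟨6, 6, true, [19, 22, 46, 23, 36, 0], [39, 29, 24, 43, 29, 6], []⟩) (.leaf ⟨6, 6, true, [38, 30, 19, 46, 21, 6], [33, 33, 15, 36, 6, 4], []⟩)))) (.node 4 (.node 2 (.node 1 (.leaf ⟨6, 6, true, [37, 11, 48, 22, 13, 0], [12, 48, 25, 21, 38, 4], []⟩) (.leaf ⟨6, 6, true, [48, 2, 45, 28, 25, 43], [12, 4, 23, 49, 10, 36], []⟩)) (.node 1 (.leaf ⟨6, 6, true, [11, 35, 15, 30, 14, 0], [32, 0, 33, 46, 27], []⟩) (.leaf ⟨6, 6, true, [19, 8, 19, 17, 34, 37], [4, 15, 31, 14, 34, 10], []⟩))) (.node 2 (.node 1 (.leaf ⟨6, 5, true, [40, 23, 6, 8, 32, 2], [35, 28, 17, 28, 11, 6], []⟩) (.leaf ⟨5, 6, true, [38, 37, 13, 26, 43, 2], [6, 25, 46, 38, 42, 4], []⟩)) (.node 1 (.leaf ⟨6, 6, true, [47, 31,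 19, 45, 47, 2], [35, 16, 12, 23, 23, 35], []⟩) (.leaf ⟨6, 6, true, [19, 8, 26, 45, 0, 15], [10, 15, 42, 41, 35, 42], []⟩)))))) (.node 15 (.node 7 (.node 3 (.node 1 (.leaf ⟨6, 6, true, [8, 25, 33, 22, 21], [2, 28, 31, 38, 16, 6], []⟩) (.node 1 (.leaf ⟨6, 6, true, [19, 2, 46, 37, 20, 33], [14, 0, 40, 26, 33, 8], []⟩) (.leaf ⟨6, 6, true, [43, 8, 14, 29, 6, 45], [21, 42, 47, 16, 11, 8], []⟩))) (.node 2 (.node 1 (.leaf ⟨6, 6, true, [6, 36, 14, 38, 10, 6], [29, 49, 12, 41, 18, 6], []⟩) (.leaf ⟨6, 5, true, [4, 37, 12, 23, 17], [8, 14, 21, 49, 28, 8], []⟩)) (.node 1 (.leaf ⟨5, 6, true, [12, 49, 19, 28, 32, 2], [13, 32, 30, 11], []⟩) (.leaf ⟨6, 6, true, [38, 8, 37, 8, 45, 48], [10, 31, 11, 37, 8, 4], []⟩)))) (.node 4 (.node 2 (.node 1 (.leaf ⟨6, 6, true, [15, 44, 14, 40, 45, 4], [21, 47, 44, 46,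 19, 8], []⟩) (.leaf ⟨6, 6, true, [33, 40, 0, 41, 27, 2], [19, 39, 24, 31, 49, 4], []⟩)) (.node 1 (.leaf ⟨6, 6, true, [2, 17, 27, 43, 45, 2], [46, 44, 29, 8, 37], []⟩) (.leaf ⟨6, 6, true, [38, 27, 22, 46, 19, 8], [31, 17, 15, 21, 13, 10], []⟩))) (.node 2 (.node 1 (.leaf ⟨6, 6, true, [12, 38, 17, 11, 6], [44, 19, 2, 14, 38, 15], []⟩) (.leaf ⟨6, 6, true, [30, 12, 33, 40, 28, 15], [22, 38, 35, 47, 48], []⟩)) (.node 1 (.leaf ⟨6, 5, true, [30, 28, 45, 29, 20], [40, 23, 32, 32, 46], []⟩) (.leaf ⟨5, 6, true, [33, 49, 17, 11, 6], [33, 4, 6, 41, 29, 8], []⟩))))) (.node 8 (.node 4 (.node 2 (.node 1 (.leaf ⟨6, 6, true, [49, 16, 29, 36, 40, 0], [34, 0, 19, 6, 43, 16], []⟩) (.leaf ⟨6, 6, true, [33, 42, 41, 39, 36, 10], [25, 42, 47, 2, 36, 6], []⟩)) (.node 1 (.leaf ⟨6, 5, true, [26, 30, 42, 41, 49],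 [14, 42, 30, 14, 19, 4], []⟩) (.leaf ⟨5, 6, true, [10, 49, 12, 45, 13, 4], [48, 0, 17, 21, 47, 40], []⟩))) (.node 2 (.node 1 (.leaf ⟨6, 6, true, [16, 14, 25, 33, 44, 11], [42, 47, 10, 29, 21, 0], []⟩) (.leaf ⟨6, 6, true, [47, 8, 44, 29, 14, 6], [17, 11, 25, 33, 18, 20], []⟩)) (.node 1 (.leaf ⟨6, 3, true, [31, 38, 21, 48, 48, 2], [49, 20, 20, 8, 46, 26], []⟩) (.leaf ⟨3, 6, true, [6, 44, 6, 20, 28, 4], [42, 34, 31, 31, 15, 6], []⟩)))) (.node 4 (.node 2 (.node 1 (.leaf ⟨6, 6, true, [10, 8, 38, 44, 19, 10], [13, 11, 19, 42, 19, 4], []⟩) (.leaf ⟨6, 6, true, [21, 17, 46, 6, 23, 17], [8, 34, 38, 42, 18, 4], []⟩)) (.node 1 (.leaf ⟨6, 6, true, [27, 34, 18, 25, 32, 2], [43, 18, 45, 16, 18, 43], []⟩) (.leaf ⟨5, 6, true, [35, 13, 10, 38, 44, 8], [31, 42, 12, 49, 29, 6], []⟩))) (.node 2 (.node 1 (.leaf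 ⟨6, 5, true, [40, 27, 28, 39, 2, 0], [26, 6, 16, 48, 13, 35], []⟩) (.leaf ⟨6, 6, true, [19, 25, 13, 47, 48, 4], [45, 20, 42, 28, 40, 2], []⟩)) (.node 1 (.leaf ⟨6, 6, true, [41, 31, 28, 48, 10, 2], [37, 19, 11, 22, 41], []⟩) (.leaf ⟨6, 5, true, [11, 36, 45, 27, 0], [10, 23, 14, 48, 18], []⟩)))))))
noncomputable def dF962 : BT Fct := (.node 30 (.node 15 (.node 7 (.node 3 (.node 1 (.leaf ⟨5, 6, true, [11, 44, 13, 2, 33, 0], [32, 31, 40, 44, 6], []⟩) (.node 1 (.leaf ⟨6, 6, true, [12, 28, 49, 46, 28], [11, 13, 39, 40, 15, 2], []⟩) (.leaf ⟨6, 6, true, [10, 36, 42, 20, 6, 0], [37, 20, 20, 30, 36, 10], []⟩))) (.node 2 (.node 1 (.leaf ⟨6, 6, true, [30, 0, 45, 49], [40, 46, 8, 16, 42], []⟩) (.leaf ⟨6, 6, true, [8, 40, 40, 47, 29, 4], [2, 39, 29, 2, 30], []⟩)) (.node 1 (.leaf ⟨6, 6, true, [33, 28,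 49, 13, 32, 4], [30, 22, 31, 49, 21, 8], []⟩) (.leaf ⟨6, 6, true, [14, 43, 47, 17, 29, 4], [10, 48, 28, 14, 40], []⟩)))) (.node 4 (.node 2 (.node 1 (.leaf ⟨6, 6, true, [12, 15, 33, 29, 47], [6, 18, 2, 15, 30, 29], []⟩) (.leaf ⟨6, 6, true, [13, 31, 21, 42, 41, 4], [12, 22, 22, 20, 48, 0], []⟩)) (.node 1 (.leaf ⟨6, 6, true, [26, 32, 6, 22, 18, 8], [21, 16, 47, 43], []⟩) (.leaf ⟨6, 6, true, [29, 46, 48, 21, 41, 2], [30, 2, 15, 31, 10, 25], []⟩))) (.node 2 (.node 1 (.leaf ⟨6, 3, true, [46, 20, 25, 45, 20, 8], [41, 2, 27, 49, 29, 15], []⟩) (.leaf ⟨3, 6, true, [31, 35, 13, 8, 17, 10], [39, 20, 6, 46, 32, 10], []⟩)) (.node 1 (.leaf ⟨6, 6, true, [32, 45, 0, 37, 25, 0], [25, 35, 29, 13, 22, 0], []⟩) (.leaf ⟨6, 6, true, [27, 8, 47, 48, 13], [49, 8, 35, 45, 10, 2], []⟩))))) (.node 7 (.node 3 (.node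 1 (.leaf ⟨6, 6, true, [4, 45, 30, 22, 21, 0], [14, 34, 34, 22, 46], []⟩) (.node 1 (.leaf ⟨6, 6, true, [6, 47, 44, 16, 34], [45, 15, 34, 40, 25], []⟩) (.leaf ⟨6, 6, true, [16, 49, 16, 44, 26, 2], [11, 13, 16, 24, 33, 36], []⟩))) (.node 2 (.node 1 (.leaf ⟨6, 6, true, [22, 42, 8, 27, 32], [0, 13, 39, 23, 43, 8], []⟩) (.leaf ⟨6, 6, true, [40, 16, 39, 49, 25, 27], [46, 14, 39, 28, 18, 2], []⟩)) (.node 1 (.leaf ⟨6, 6, true, [19, 46, 15, 25, 33, 10], [23, 4, 37, 0, 48, 10], []⟩) (.leaf ⟨6, 6, true, [38, 26, 21, 4, 48], [23, 35, 23, 29, 10, 6], []⟩)))) (.node 4 (.node 2 (.node 1 (.leaf ⟨6, 6, true, [12, 39, 26, 32, 44, 0], [34, 26, 28, 11, 27, 2], []⟩) (.leaf ⟨6, 6, true, [18, 4, 32, 20, 43, 21], [20, 30, 15, 31, 10, 4], []⟩)) (.node 1 (.leaf ⟨6, 6, true, [48, 23, 27, 31, 29, 8], [18, 25, 44,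 25, 37, 0], []⟩) (.leaf ⟨5, 6, true, [32, 13, 31, 31, 35, 8], [34, 48, 4, 6, 22], []⟩))) (.node 2 (.node 1 (.leaf ⟨6, 5, true, [25, 18, 48, 32, 35, 8], [47, 18, 42, 37, 33], []⟩) (.leaf ⟨6, 6, true, [21, 4, 49, 12, 21, 2], [8, 48, 29, 23, 35, 2], []⟩)) (.node 1 (.leaf ⟨6, 6, true, [26, 45, 19, 12, 25, 8], [22, 6, 40, 43, 32, 41], []⟩) (.leaf ⟨6, 6, true, [10, 20, 41, 37, 30, 6], [16, 39, 26, 19, 17, 6], []⟩)))))) (.node 15 (.node 7 (.node 3 (.node 1 (.leaf ⟨6, 6, true, [19, 28, 46, 30, 10], [20, 28, 16, 49, 16, 6], []⟩) (.node 1 (.leaf ⟨6, 6, true, [0, 34, 46, 35, 33, 10], [28, 23, 40, 42, 32, 6], []⟩) (.leaf ⟨6, 6, true, [29, 46, 27, 42, 24, 10], [22, 40, 35, 38, 4, 6], []⟩))) (.node 2 (.node 1 (.leaf ⟨6, 6, true, [11, 16, 48, 23, 23, 4], [2, 33, 43, 17, 26, 10], []⟩) (.leaf ⟨6, 6, true,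 [15, 42, 15, 36, 41, 2], [0, 22, 22, 49, 17, 10], []⟩)) (.node 1 (.leaf ⟨6, 6, true, [25, 13, 6, 17, 34, 2], [45, 21, 12, 25, 47, 26], []⟩) (.leaf ⟨6, 6, true, [10, 41, 12, 24, 6, 0], [11, 13, 42, 23, 19, 10], []⟩)))) (.node 4 (.node 2 (.node 1 (.leaf ⟨6, 5, true, [16, 20, 36, 15, 6, 2], [11, 46, 15, 11, 46, 2], []⟩) (.leaf ⟨5, 6, true, [10, 34, 28, 39, 25], [25, 32, 4, 48, 36, 2], []⟩)) (.node 1 (.leaf ⟨6, 6, true, [8, 17, 20, 32, 13, 4], [49, 21, 46, 30, 6], []⟩) (.leaf ⟨6, 5, true, [49, 36, 15, 47, 27, 10], [6, 47, 22, 28, 15], []⟩))) (.node 2 (.node 1 (.leaf ⟨5, 6, true, [8, 41, 24, 39, 47, 0], [15, 48, 35, 20, 37, 4], []⟩) (.leaf ⟨6, 6, true, [46, 34, 0, 16, 42, 4], [45, 45, 10, 19, 38, 8], []⟩)) (.node 1 (.leaf ⟨6, 6, true, [34, 17, 28, 38, 6, 8], [10, 37, 15, 47, 15, 8], []⟩) (.leaf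 ⟨6, 5, true, [39, 0, 42, 30, 35, 28], [24, 10, 39, 33, 17, 37], []⟩))))) (.node 7 (.node 3 (.node 1 (.leaf ⟨5, 6, true, [15, 10, 34, 15, 28, 17], [48, 20, 39, 18, 16, 2], []⟩) (.node 1 (.leaf ⟨6, 6, true, [46, 37, 35, 18, 18, 10], [37, 31, 27, 44, 29], []⟩) (.leaf ⟨6, 5, true, [40, 13, 44, 37, 41], [6, 46, 19, 29, 14, 8], []⟩))) (.node 2 (.node 1 (.leaf ⟨5, 6, true, [45, 21, 25, 33, 22, 4], [10, 29, 37, 37, 24], []⟩) (.leaf ⟨5, 6, true, [14, 18, 36, 15, 49, 0], [0, 32, 37, 10, 40, 4], []⟩)) (.node 1 (.leaf ⟨6, 5, true, [24, 46, 35, 31, 27, 0], [18, 8, 6, 49, 33], []⟩) (.leaf ⟨6, 5, true, [40, 19, 32, 40, 42, 8], [36, 35, 39, 47, 0], []⟩)))) (.node 4 (.node 2 (.node 1 (.leaf ⟨5, 6, true, [2, 34, 12, 0, 35, 0], [11, 16, 2, 19, 48, 6], []⟩) (.leaf ⟨6, 6, true, [49, 4, 20, 41, 15, 4], [45,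 34, 45, 33, 27], []⟩)) (.node 1 (.leaf ⟨6, 6, true, [32, 49, 19, 43, 22, 0], [41, 17, 0, 35, 32], []⟩) (.leaf ⟨6, 6, true, [10, 22, 39, 20, 15], [8, 30, 33, 19, 13, 4], []⟩))) (.node 2 (.node 1 (.leaf ⟨6, 6, true, [6, 10, 43, 23, 15, 0], [12, 0, 32, 43, 13, 23], []⟩) (.leaf ⟨6, 6, true, [13, 27, 36, 12, 2, 0], [8, 28, 22, 4, 33], []⟩)) (.node 1 (.leaf ⟨6, 5, true, [4, 30, 40, 4, 33, 6], [2, 35, 20, 20, 16, 6], []⟩) (.leaf ⟨5, 6, true, [11, 31, 14, 17, 11], [17, 10, 21, 44, 41, 43], []⟩)))))))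
noncomputable def dF1022 : BT Fct := (.node 30 (.node 15 (.node 7 (.node 3 (.node 1 (.leaf ⟨4, 6, true, [48, 2, 29, 26, 8], [18, 39, 0, 42, 19, 8], []⟩) (.node 1 (.leaf ⟨6, 4, true, [38, 47, 15, 30, 17, 2], [18, 6, 20, 27, 13, 38], []⟩) (.leaf ⟨6, 5, true, [25, 4, 26, 36, 35, 23], [37, 40, 15, 20, 16, 10], []⟩))) (.node 2 (.node 1 (.leaf ⟨5, 6, true, [6, 4, 38, 28, 25, 0], [2, 41, 8, 40, 31, 4], []⟩) (.leaf ⟨6, 5, true, [4, 24, 37, 39, 44, 8], [2, 13, 35, 20, 15], []⟩)) (.node 1 (.leaf ⟨5, 6, true, [34, 34, 33, 36, 18, 2], [43, 12, 28, 16, 33, 21], []⟩) (.leaf ⟨6, 6, true, [30, 25, 2, 33, 18, 0], [10, 13, 27, 42, 45], []⟩)))) (.node 4 (.node 2 (.node 1 (.leaf ⟨6, 6, true, [30, 11, 30, 21, 46, 23], [6, 21, 49, 33, 22, 10], []⟩) (.leaf ⟨6, 6, true, [29, 45, 14, 38, 23, 6], [28, 17, 35,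 21, 42, 0], []⟩)) (.node 1 (.leaf ⟨6, 6, true, [34, 4, 6, 24, 6, 4], [25, 4, 19, 43, 22, 34], []⟩) (.leaf ⟨6, 6, true, [34, 36, 15, 45, 40], [6, 18, 47, 13, 33, 8], []⟩))) (.node 2 (.node 1 (.leaf ⟨6, 6, true, [31, 31, 27, 33, 28, 0], [27, 29, 11, 47, 24, 0], []⟩) (.leaf ⟨6, 6, true, [43, 36, 18, 27, 33, 0], [36, 30, 48, 23, 29, 2], []⟩)) (.node 1 (.leaf ⟨6, 6, true, [22, 37, 17, 33], [42, 33, 23, 23, 30, 8], []⟩) (.leaf ⟨5, 6, true, [36, 13, 45, 27, 16], [41, 14, 31, 8, 11, 2], []⟩))))) (.node 7 (.node 3 (.node 1 (.leaf ⟨6, 5, true, [46, 10, 45, 47, 12, 49], [17, 27, 19, 30, 37, 2], []⟩) (.node 1 (.leaf ⟨6, 3, true, [27, 36, 29, 35, 18, 8], [12, 49, 35, 33, 45, 6], []⟩) (.leaf ⟨3, 6, true, [31, 2, 11, 23, 26, 18], [15, 48, 45, 38, 17, 10], []⟩))) (.node 2 (.node 1 (.leaf ⟨5, 6, true,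 [36, 2, 18, 8, 20, 11], [30, 6, 18, 29, 45, 2], []⟩) (.leaf ⟨6, 6, true, [28, 19, 6, 15, 2, 30], [25, 33, 27, 49, 28, 4], []⟩)) (.node 1 (.leaf ⟨6, 6, true, [28, 23, 32, 13, 44, 48], [31, 14, 6, 18, 29], []⟩) (.leaf ⟨6, 6, true, [31, 40, 13, 49, 43, 2], [35, 26, 49, 13, 49], []⟩)))) (.node 4 (.node 2 (.node 1 (.leaf ⟨6, 6, true, [37, 34, 19, 42, 39, 6], [36, 11, 12, 45, 38, 11], []⟩) (.leaf ⟨6, 3, true, [14, 22, 43, 19, 12, 0], [36, 47, 42, 17, 15, 6], []⟩)) (.node 1 (.leaf ⟨3, 6, true, [41, 13, 15, 47, 42, 2], [13, 4, 18, 42, 23, 15], []⟩) (.leaf ⟨6, 6, true, [47, 43, 10, 43, 41, 4], [13, 32, 0, 48, 28], []⟩))) (.node 2 (.node 1 (.leaf ⟨6, 6, true, [37, 43, 46, 0, 23], [34, 18, 48, 33, 13, 6], []⟩) (.leaf ⟨6, 6, true, [15, 25, 47, 29, 31], [22, 47, 42, 36], []⟩)) (.node 1 (.leaf ⟨6,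 6, true, [15, 0, 39, 25, 31, 2], [47, 40, 17, 48, 6], []⟩) (.leaf ⟨6, 6, true, [41, 21, 44, 49, 8], [24, 6, 40, 18, 49], []⟩)))))) (.node 15 (.node 7 (.node 3 (.node 1 (.leaf ⟨6, 6, true, [4, 22, 24, 39, 25], [26, 36, 23, 44, 38], []⟩) (.node 1 (.leaf ⟨6, 6, true, [33, 27, 36, 27, 6, 25], [6, 19, 22, 2, 49], []⟩) (.leaf ⟨6, 6, true, [14, 16, 30, 47, 8], [39, 23, 38, 23, 25, 0], []⟩))) (.node 2 (.node 1 (.leaf ⟨6, 6, true, [16, 25, 22, 34, 12, 4], [16, 22, 46, 24, 17, 10], []⟩) (.leaf ⟨5, 6, true, [4, 34, 36, 28, 25, 0], [30, 18, 40, 16, 31, 21], []⟩)) (.node 1 (.leaf ⟨6, 6, true, [12, 28, 33, 49, 4], [27, 49, 28, 32, 49], []⟩) (.leaf ⟨6, 6, true, [15, 23, 34, 14, 17, 4], [2, 39, 11, 13, 0], []⟩)))) (.node 4 (.node 2 (.node 1 (.leaf ⟨6, 6, true, [48, 23, 31, 37, 15, 4], [34, 11, 17, 36,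 43, 0], []⟩) (.leaf ⟨6, 6, true, [44, 4, 12, 14, 40, 23], [48, 0, 2, 45, 14, 10], []⟩)) (.node 1 (.leaf ⟨3, 6, true, [49, 23, 29, 27, 10], [34, 40, 10, 32, 22, 8], []⟩) (.leaf ⟨6, 3, true, [34, 46, 41, 2, 24, 8], [24, 49, 10, 46, 31, 2], []⟩))) (.node 2 (.node 1 (.leaf ⟨5, 6, true, [4, 34, 6, 40, 30], [2, 27, 35, 8, 35], []⟩) (.leaf ⟨6, 5, true, [31, 15, 44, 11, 22, 10], [17, 20, 18, 43, 37, 2], []⟩)) (.node 1 (.leaf ⟨6, 6, true, [45, 42, 33, 20, 14], [8, 35, 10, 35, 20, 4], []⟩) (.leaf ⟨6, 6, true, [39, 41, 43, 24, 32, 6], [40, 42, 15, 16, 22], []⟩))))) (.node 7 (.node 3 (.node 1 (.leaf ⟨6, 6, true, [28, 21, 35, 32, 40, 8], [42, 14, 11, 33, 41], []⟩) (.node 1 (.leaf ⟨6, 6, true, [34, 21, 26, 4, 37, 2], [8, 43, 27, 42, 28, 8], []⟩) (.leaf ⟨6, 6, true, [0, 44, 36, 22, 16, 4], [23, 0, 10,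 8, 37, 23], []⟩))) (.node 2 (.node 1 (.leaf ⟨6, 6, true, [33, 15, 46, 45, 22, 38], [0, 17, 23, 37, 45, 0], []⟩) (.leaf ⟨5, 6, true, [38, 28, 2, 29, 2], [19, 24, 42, 17, 38, 6], []⟩)) (.node 1 (.leaf ⟨6, 5, true, [0, 31, 12, 21, 24, 12], [10, 28, 47, 10, 4, 6], []⟩) (.leaf ⟨5, 6, true, [40, 10, 17, 35, 21], [48, 2, 27, 45, 48, 24], []⟩)))) (.node 4 (.node 2 (.node 1 (.leaf ⟨6, 5, true, [26, 45, 48, 25, 20, 8], [13, 14, 11, 11, 45], []⟩) (.leaf ⟨6, 6, true, [44, 25, 36, 21, 33, 2], [14, 45, 40, 21, 4, 2], []⟩)) (.node 1 (.leaf ⟨6, 6, true, [2, 12, 31, 6, 18, 4], [36, 43, 6, 23, 20, 0], []⟩) (.leaf ⟨6, 6, true, [10, 49, 33, 45, 33], [36, 34, 44, 42, 21, 4], []⟩))) (.node 2 (.node 1 (.leaf ⟨6, 6, true, [41, 0, 2, 40, 40, 43], [10, 49, 26, 16, 20, 6], []⟩) (.leaf ⟨5, 6, true, [23, 31, 16,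 29, 16, 6], [17, 44, 48, 35, 32, 2], []⟩)) (.node 1 (.leaf ⟨6, 6, true, [26, 49, 28, 8, 24, 10], [25, 18, 18, 37, 39], []⟩) (.leaf ⟨6, 6, true, [17, 35, 39, 37, 39, 4], [16, 6, 34, 22, 41, 0], []⟩)))))))
noncomputable def dF1082 : BT Fct := (.node 30 (.node 15 (.node 7 (.node 3 (.node 1 (.leaf ⟨6, 6, true, [33, 10, 8, 11, 33, 36], [27, 28, 40, 49, 46, 41], []⟩) (.node 1 (.leaf ⟨6, 6, true, [30, 8, 38, 15, 45], [8, 27, 6, 33, 46, 43], []⟩) (.leaf ⟨6, 6, true, [49, 30, 37, 23, 41, 0], [37, 24, 37, 16, 35, 10], []⟩))) (.node 2 (.node 1 (.leaf ⟨6, 6, true, [13, 31, 16, 11, 12, 8], [27, 37, 43, 39, 44, 8], []⟩) (.leaf ⟨5, 6, true, [40, 47, 17, 31, 35], [14, 12, 41, 20, 41, 26], []⟩)) (.node 1 (.leaf ⟨6, 6, true, [42, 19, 43, 25, 21, 30], [17, 40, 34, 2, 41], []⟩) (.leaf ⟨6, 6, true, [40, 16,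 34, 17, 32, 0], [38, 4, 29, 16, 34, 27], []⟩)))) (.node 4 (.node 2 (.node 1 (.leaf ⟨6, 6, true, [30, 43, 28, 36, 41, 0], [4, 6, 48, 32, 37, 4], []⟩) (.leaf ⟨6, 6, true, [0, 31, 40, 30, 11, 8], [26, 11, 26, 37, 8, 4], []⟩)) (.node 1 (.leaf ⟨5, 6, true, [13, 26, 49, 28, 10, 0], [22, 2, 22, 32, 30, 47], []⟩) (.leaf ⟨6, 5, true, [49, 10, 47, 8, 44], [45, 40, 8, 29, 14], []⟩))) (.node 2 (.node 1 (.leaf ⟨6, 6, true, [2, 23, 49, 46, 16, 0], [17, 24, 27, 10, 30], []⟩) (.leaf ⟨6, 6, true, [21, 2, 20, 31, 24, 4], [41, 11, 37, 15, 43], []⟩)) (.node 1 (.leaf ⟨6, 6, true, [22, 41, 21, 34, 44, 4], [31, 23, 38, 8, 4, 6], []⟩) (.leaf ⟨6, 6, true, [32, 20, 34, 28], [13, 23, 28, 6, 40, 8], []⟩))))) (.node 7 (.node 3 (.node 1 (.leaf ⟨6, 6, true, [16, 45, 10, 15, 30, 10], [29, 47, 24, 10, 29, 0], []⟩) (.node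 1 (.leaf ⟨6, 6, true, [31, 48, 6, 37, 6, 4], [41, 17, 19, 17, 12, 2], []⟩) (.leaf ⟨5, 6, true, [17, 28, 26, 42, 21, 4], [27, 8, 34, 28, 32, 15], []⟩))) (.node 2 (.node 1 (.leaf ⟨6, 5, true, [27, 10, 48, 43, 36, 49], [48, 38, 33, 39], []⟩) (.leaf ⟨6, 6, true, [40, 24, 33, 34, 25, 42], [29, 44, 12, 41, 18, 2], []⟩)) (.node 1 (.leaf ⟨6, 6, true, [28, 35, 2, 25, 21, 4], [27, 2, 6, 42, 34, 37], []⟩) (.leaf ⟨6, 6, true, [20, 34, 11, 20, 41, 6], [33, 8, 45, 31, 47], []⟩)))) (.node 4 (.node 2 (.node 1 (.leaf ⟨6, 6, true, [29, 11, 22, 27, 37, 2], [26, 21, 22, 30, 14, 2], []⟩) (.leaf ⟨6, 6, true, [46, 27, 45, 36, 44], [21, 10, 41, 35, 35, 0], []⟩)) (.node 1 (.leaf ⟨6, 6, true, [14, 23, 39, 43, 30, 30], [34, 40, 30, 28, 42, 2], []⟩) (.leaf ⟨6, 6, true, [19, 28, 38, 13, 26, 10], [6, 14, 35, 15, 45],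 []⟩))) (.node 2 (.node 1 (.leaf ⟨5, 5, true, [0, 37, 33, 4, 36, 0], [45, 43, 43, 10, 0], []⟩) (.leaf ⟨5, 5, true, [36, 48, 41, 25, 11, 2], [21, 22, 34, 17, 15], []⟩)) (.node 1 (.leaf ⟨6, 6, true, [2, 37, 43, 25, 14, 6], [23, 30, 14, 46, 2], []⟩) (.leaf ⟨6, 6, true, [31, 13, 2, 24], [17, 15, 39, 35, 39], []⟩)))))) (.node 15 (.node 7 (.node 3 (.node 1 (.leaf ⟨5, 6, true, [12, 39, 14, 37, 25, 6], [30, 15, 6, 20, 31, 16], []⟩) (.node 1 (.leaf ⟨6, 5, true, [16, 35, 29, 42, 44, 6], [20, 44, 36, 25, 27, 0], []⟩) (.leaf ⟨6, 6, true, [14, 28, 19, 47, 47, 6], [17, 34, 31, 39, 0, 23], []⟩))) (.node 2 (.node 1 (.leaf ⟨6, 6, true, [32, 22, 48, 41, 33, 44], [2, 8, 44, 25, 30], []⟩) (.leaf ⟨4, 6, true, [8, 33, 16, 28, 26, 4], [10, 12, 40, 16, 49], []⟩)) (.node 1 (.leaf ⟨6, 4, true, [41, 24, 40, 10,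 27], [46, 23, 20, 41, 4], []⟩) (.leaf ⟨6, 6, true, [36, 8, 10, 40, 44, 19], [20, 15, 34, 19, 26, 6], []⟩)))) (.node 4 (.node 2 (.node 1 (.leaf ⟨6, 6, true, [14, 26, 38, 10, 46, 2], [27, 10, 43, 20, 15, 33], []⟩) (.leaf ⟨6, 6, true, [25, 36, 35, 39, 4], [34, 33, 45, 23, 36, 4], []⟩)) (.node 1 (.leaf ⟨6, 6, true, [24, 2, 41, 17, 8, 6], [0, 38, 34, 37, 24], []⟩) (.leaf ⟨6, 6, true, [48, 48, 25, 6, 33, 8], [24, 41, 25, 18, 27, 6], []⟩))) (.node 2 (.node 1 (.leaf ⟨6, 6, true, [18, 40, 42, 30, 11, 0], [25, 27, 40, 12, 38, 4], []⟩) (.leaf ⟨6, 6, true, [43, 41, 15, 48, 10], [6, 38, 44, 21, 6], []⟩)) (.node 1 (.leaf ⟨6, 6, true, [8, 36, 45, 46, 13, 2], [17, 47, 15, 37, 31, 2], []⟩) (.leaf ⟨5, 6, true, [45, 27, 46, 44, 23, 17], [23, 31, 29, 22, 43, 4], []⟩))))) (.node 7 (.node 3 (.node 1 (.leaf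 ⟨6, 5, true, [45, 2, 10, 27, 49, 36], [6, 4, 48, 23, 21, 43], []⟩) (.node 1 (.leaf ⟨5, 6, true, [10, 41, 27, 29, 13], [21, 36, 23, 39, 44, 4], []⟩) (.leaf ⟨6, 5, true, [42, 37, 24, 38, 20, 6], [15, 15, 28, 40, 15, 10], []⟩))) (.node 2 (.node 1 (.leaf ⟨6, 6, true, [26, 42, 20, 25, 21, 0], [41, 2, 42, 16, 48, 11], []⟩) (.leaf ⟨6, 6, true, [37, 29, 48, 21, 46, 6], [14, 11, 19, 11, 38, 8], []⟩)) (.node 1 (.leaf ⟨6, 6, true, [18, 29, 31, 23, 32, 8], [43, 19, 48, 40, 49], []⟩) (.leaf ⟨6, 6, true, [34, 14, 47, 8, 23, 4], [39, 28, 24, 42, 21, 8], []⟩)))) (.node 4 (.node 2 (.node 1 (.leaf ⟨6, 6, true, [0, 2, 38, 37, 25, 4], [11, 23, 23, 37, 32], []⟩) (.leaf ⟨6, 6, true, [21, 15, 35, 31, 36], [0, 24, 36, 39, 2, 0], []⟩)) (.node 1 (.leaf ⟨6, 6, true, [8, 25, 29, 42, 20, 2], [40, 17, 29, 49, 35,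 19], []⟩) (.leaf ⟨6, 6, true, [2, 48, 24, 49, 36, 10], [25, 44, 39, 49, 18, 8], []⟩))) (.node 2 (.node 1 (.leaf ⟨6, 6, true, [43, 23, 30, 35, 29, 26], [2, 46, 46, 2, 33, 4], []⟩) (.leaf ⟨5, 6, true, [44, 23, 27, 10, 23, 10], [24, 2, 22, 41, 34, 46], []⟩)) (.node 1 (.leaf ⟨6, 5, true, [4, 15, 31, 18, 18, 4], [21, 37, 22, 45, 30, 0], []⟩) (.leaf ⟨6, 6, true, [0, 24, 11, 28, 21, 2], [16, 33, 40, 45, 18], []⟩)))))))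
noncomputable def dF1142 : BT Fct := (.node 30 (.node 15 (.node 7 (.node 3 (.node 1 (.leaf ⟨6, 6, true, [14, 29, 38, 26, 36], [2, 8, 29, 10, 16, 0], []⟩) (.node 1 (.leaf ⟨6, 6, true, [32, 28, 8, 44, 31, 8], [25, 16, 41, 29, 31, 8], []⟩) (.leaf ⟨6, 6, true, [13, 0, 25, 25, 32, 48], [10, 14, 26, 14, 43, 6], []⟩))) (.node 2 (.node 1 (.leaf ⟨6, 6, true, [40, 20, 36, 27, 27], [12, 21, 41, 42, 27, 10], []⟩) (.leaf ⟨6, 6, true, [26, 33, 43, 8, 36], [16, 46, 36, 25, 23, 10], []⟩)) (.node 1 (.leaf ⟨6, 6, true, [23, 37, 43, 8, 44, 6], [23, 23, 34, 38, 14, 6], []⟩) (.leaf ⟨6, 6, true, [44, 49, 43, 25, 22, 2], [41, 15, 24, 39, 20, 0], []⟩)))) (.node 4 (.node 2 (.node 1 (.leaf ⟨5, 6, true, [11, 8, 43, 13, 4, 21], [17, 45, 41, 48, 26], []⟩) (.leaf ⟨6, 6, true, [40, 40, 2, 27, 45, 2], [0, 20, 8, 29,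 33, 4], []⟩)) (.node 1 (.leaf ⟨6, 3, true, [49, 6, 17, 13, 39, 41], [16, 6, 32, 19, 41, 2], []⟩) (.leaf ⟨3, 6, true, [13, 49, 23, 23, 8], [39, 31, 42, 2, 4], []⟩))) (.node 2 (.node 1 (.leaf ⟨5, 6, true, [37, 31, 26, 44, 8], [6, 22, 30, 35, 31, 8], []⟩) (.leaf ⟨6, 5, true, [41, 46, 15, 18, 49], [18, 28, 43, 11, 28, 4], []⟩)) (.node 1 (.leaf ⟨6, 6, true, [0, 6, 26, 10, 33, 10], [45, 16, 48, 29, 45, 4], []⟩) (.leaf ⟨6, 6, true, [38, 4, 40, 49, 38, 23], [37, 46, 21, 49, 16, 4], []⟩))))) (.node 7 (.node 3 (.node 1 (.leaf ⟨6, 6, true, [37, 21, 23, 36, 40, 29], [34, 17, 0, 40, 34, 15], []⟩) (.node 1 (.leaf ⟨5, 6, true, [10, 10, 36, 26, 26, 6], [23, 23, 41, 22, 42], []⟩) (.leaf ⟨6, 6, true, [0, 46, 46, 39, 39, 8], [39, 22, 20, 48, 48, 4], []⟩))) (.node 2 (.node 1 (.leaf ⟨6, 6, true, [11, 30,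 24, 22, 10, 10], [25, 17, 23, 45, 20], []⟩) (.leaf ⟨6, 6, true, [18, 20, 33, 25, 25, 2], [12, 29, 18, 31, 12], []⟩)) (.node 1 (.leaf ⟨6, 6, true, [31, 2, 44, 26, 31, 10], [4, 49, 4, 43, 6], []⟩) (.leaf ⟨6, 6, true, [32, 12, 11, 22, 21, 0], [18, 2, 8, 14, 34, 37], []⟩)))) (.node 4 (.node 2 (.node 1 (.leaf ⟨6, 5, true, [43, 48, 13, 4, 35, 10], [19, 39, 20, 36, 35], []⟩) (.leaf ⟨5, 6, true, [43, 26, 10, 45, 42], [45, 6, 44, 37, 45, 31], []⟩)) (.node 1 (.leaf ⟨6, 6, true, [4, 13, 33, 2, 29], [46, 14, 42, 33, 44, 33], []⟩) (.leaf ⟨6, 6, true, [30, 18, 18, 11, 12], [10, 32, 45, 40, 49, 4], []⟩))) (.node 2 (.node 1 (.leaf ⟨6, 6, true, [28, 48, 24, 31, 34], [26, 30, 41, 6, 24, 0], []⟩) (.leaf ⟨6, 6, true, [44, 24, 36, 14, 36, 8], [34, 21, 10, 15, 48], []⟩)) (.node 1 (.leaf ⟨6, 6, true, [41, 8,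 31, 46, 17, 8], [4, 2, 31, 29, 48, 20], []⟩) (.leaf ⟨6, 6, true, [19, 33, 12, 37, 33, 0], [24, 43, 28, 26, 39], []⟩)))))) (.node 15 (.node 7 (.node 3 (.node 1 (.leaf ⟨6, 6, true, [15, 10, 34, 14, 29, 17], [33, 15, 41, 27, 30], []⟩) (.node 1 (.leaf ⟨6, 6, true, [29, 31, 18, 28, 18], [8, 24, 46, 36, 44, 6], []⟩) (.leaf ⟨6, 6, true, [13, 27, 30, 22, 29, 6], [17, 20, 25, 45, 12], []⟩))) (.node 2 (.node 1 (.leaf ⟨6, 6, true, [37, 48, 23, 31, 24], [25, 11, 47, 11, 14], []⟩) (.leaf ⟨6, 6, true, [11, 49, 35, 42, 45, 0], [27, 6, 29, 11, 41, 6], []⟩)) (.node 1 (.leaf ⟨6, 6, true, [38, 8, 41, 15, 28, 0], [2, 39, 31, 15, 43, 8], []⟩) (.leaf ⟨6, 6, true, [31, 14, 31, 22, 35, 14], [29, 14, 0, 40, 8, 39], []⟩)))) (.node 4 (.node 2 (.node 1 (.leaf ⟨6, 6, true, [31, 38, 27, 34, 37, 0], [25, 40, 39, 42,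 17, 6], []⟩) (.leaf ⟨6, 6, true, [20, 43, 16, 39, 28, 8], [44, 15, 18, 34, 0, 24], []⟩)) (.node 1 (.leaf ⟨6, 6, true, [47, 16, 11, 46, 6, 2], [38, 30, 39, 42, 12, 2], []⟩) (.leaf ⟨6, 6, true, [48, 2, 6, 29, 44, 47], [39, 6, 34, 39, 2, 47], []⟩))) (.node 2 (.node 1 (.leaf ⟨6, 6, true, [38, 12, 40, 29, 47, 27], [22, 15, 25, 42, 29, 8], []⟩) (.leaf ⟨6, 6, true, [44, 42, 29, 33, 38], [43, 13, 17, 14, 42, 28], []⟩)) (.node 1 (.leaf ⟨6, 6, true, [18, 11, 29, 42, 48, 45], [31, 19, 48, 38, 48], []⟩) (.leaf ⟨6, 6, true, [49, 49, 21, 40, 36, 8], [49, 38, 22, 35, 36, 6], []⟩))))) (.node 7 (.node 3 (.node 1 (.leaf ⟨6, 6, true, [41, 16, 46, 0, 49, 0], [49, 28, 37, 12, 8, 6], []⟩) (.node 1 (.leaf ⟨6, 6, true, [2, 4, 42, 40, 35, 10], [37, 35, 46, 30, 17, 6], []⟩) (.leaf ⟨6, 6, true, [44, 28, 15, 42,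 15, 30], [35, 29, 27, 47, 39, 2], []⟩))) (.node 2 (.node 1 (.leaf ⟨5, 6, true, [6, 36, 12, 30, 4], [25, 42, 46, 45, 16], []⟩) (.leaf ⟨6, 5, true, [37, 8, 20, 24, 13], [2, 18, 20, 8, 44, 6], []⟩)) (.node 1 (.leaf ⟨5, 6, true, [17, 47, 27, 38, 11, 6], [12, 26, 15, 12, 36], []⟩) (.leaf ⟨5, 6, true, [26, 12, 36, 8, 26, 2], [27, 30, 49, 32, 8], []⟩)))) (.node 4 (.node 2 (.node 1 (.leaf ⟨6, 5, true, [8, 36, 24, 11, 17, 10], [33, 40, 38, 19, 19, 6], []⟩) (.leaf ⟨6, 5, true, [49, 26, 47, 12, 48, 2], [29, 15, 40, 49, 39, 17], []⟩)) (.node 1 (.leaf ⟨5, 6, true, [36, 25, 47, 47, 20], [35, 32, 39, 22, 27, 6], []⟩) (.leaf ⟨6, 6, true, [20, 19, 48, 29, 25, 10], [46, 21, 10, 22, 19], []⟩))) (.node 2 (.node 1 (.leaf ⟨6, 6, true, [40, 42, 21, 29, 21], [19, 43, 30, 10, 13, 8], []⟩) (.leaf ⟨6, 6, true,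 [15, 17, 25, 30, 10, 2], [38, 0, 48, 20, 18, 14], []⟩)) (.node 1 (.leaf ⟨6, 6, true, [36, 22, 10, 20, 40], [22, 8, 39, 43, 12, 2], []⟩) (.leaf ⟨6, 6, true, [30, 10, 27, 6, 16], [25, 8, 33, 42, 20, 32], []⟩)))))))
noncomputable def dF1202 : BT Fct := (.node 30 (.node 15 (.node 7 (.node 3 (.node 1 (.leaf ⟨6, 6, true, [41, 34, 21, 32, 25], [46, 10, 39, 47, 49], []⟩) (.node 1 (.leaf ⟨6, 6, true, [14, 19, 15, 31, 38, 4], [4, 25, 49, 12, 15], []⟩) (.leaf ⟨6, 6, true, [10, 2, 31, 11, 6], [10, 12, 34, 23, 44], []⟩))) (.node 2 (.node 1 (.leaf ⟨6, 6, true, [39, 14, 30, 11, 25, 32], [11, 23, 20, 35, 25, 8], []⟩) (.leaf ⟨6, 6, true, [48, 21, 6, 41, 49, 34], [8, 39, 43, 25, 27, 10], []⟩)) (.node 1 (.leaf ⟨6, 6, true, [2, 17, 46, 31, 22, 38], [34, 0, 49, 46, 41, 10], []⟩) (.leaf ⟨3, 6, true, [0, 28,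 13, 30, 21, 10], [30, 36, 21, 28, 6], []⟩)))) (.node 4 (.node 2 (.node 1 (.leaf ⟨6, 3, true, [19, 13, 27, 47, 6], [14, 12, 48, 45, 31, 2], []⟩) (.leaf ⟨6, 6, true, [17, 12, 44, 21, 15, 13], [36, 35, 11, 24, 26, 8], []⟩)) (.node 1 (.leaf ⟨6, 6, true, [35, 16, 10, 31, 34, 2], [8, 42, 25, 2, 29, 2], []⟩) (.leaf ⟨6, 6, true, [27, 38, 36, 36, 35, 8], [31, 28, 15, 32, 36], []⟩))) (.node 2 (.node 1 (.leaf ⟨6, 6, true, [4, 38, 34, 33, 10, 10], [15, 45, 23, 8, 49, 4], []⟩) (.leaf ⟨6, 6, true, [6, 2, 23, 42, 8, 41], [19, 12, 45, 13, 15, 31], []⟩)) (.node 1 (.leaf ⟨6, 6, true, [34, 10, 15, 8, 15, 40], [30, 8, 24, 28, 38, 47], []⟩) (.leaf ⟨6, 5, true, [19, 33, 42, 18, 25, 8], [20, 26, 35, 25, 17, 4], []⟩))))) (.node 7 (.node 3 (.node 1 (.leaf ⟨5, 6, true, [48, 0, 30, 19, 19, 10], [6, 26, 39, 15,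 44, 0], []⟩) (.node 1 (.leaf ⟨6, 5, true, [45, 17, 14, 42, 44, 43], [0, 35, 46, 2, 0], []⟩) (.leaf ⟨5, 6, true, [29, 2, 19, 10, 25, 15], [23, 18, 45, 23, 37], []⟩))) (.node 2 (.node 1 (.leaf ⟨6, 6, true, [21, 16, 6, 38, 26], [13, 34, 10, 26, 30, 2], []⟩) (.leaf ⟨6, 6, true, [45, 40, 32, 6, 27, 8], [4, 32, 17, 24, 35, 0], []⟩)) (.node 1 (.leaf ⟨5, 6, true, [29, 31, 24, 13, 28], [20, 23, 39, 10, 29], []⟩) (.leaf ⟨6, 6, true, [16, 12, 44, 31, 40, 6], [19, 30, 48, 6, 42], []⟩)))) (.node 4 (.node 2 (.node 1 (.leaf ⟨6, 6, true, [37, 35, 8, 21, 41], [22, 8, 48, 29, 40, 2], []⟩) (.leaf ⟨6, 6, true, [25, 19, 24, 33, 8, 0], [33, 16, 20, 14, 2, 4], []⟩)) (.node 1 (.leaf ⟨6, 5, true, [22, 24, 34, 30, 38, 8], [18, 33, 8, 36, 25, 10], []⟩) (.leaf ⟨5, 6, true, [35, 19, 44, 16, 41, 39], [39, 19, 40,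 0, 31, 4], []⟩))) (.node 2 (.node 1 (.leaf ⟨5, 6, true, [38, 28, 10, 27, 8], [2, 12, 27, 46, 25, 6], []⟩) (.leaf ⟨6, 5, true, [18, 14, 41, 16, 8], [22, 20, 47, 10, 6], []⟩)) (.node 1 (.leaf ⟨6, 3, true, [24, 19, 30, 35, 19, 4], [34, 18, 25, 33, 45], []⟩) (.leaf ⟨3, 6, true, [4, 47, 48, 41, 32, 8], [41, 27, 21, 34, 21, 6], []⟩)))))) (.node 15 (.node 7 (.node 3 (.node 1 (.leaf ⟨6, 6, true, [14, 36, 49, 45, 17, 4], [21, 8, 34, 13, 49, 4], []⟩) (.node 1 (.leaf ⟨6, 6, true, [16, 25, 44, 28, 14, 0], [30, 25, 49, 0, 42], []⟩) (.leaf ⟨6, 6, true, [25, 41, 38, 18, 18, 0], [42, 33, 13, 39, 31, 0], []⟩))) (.node 2 (.node 1 (.leaf ⟨6, 6, true, [30, 36, 24, 18, 40, 6], [49, 28, 39, 14, 44, 6], []⟩) (.leaf ⟨6, 6, true, [12, 21, 11, 28, 35, 6], [39, 20, 42, 34, 49, 2], []⟩)) (.node 1 (.leaf ⟨6, 6, true,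 [31, 48, 12, 21, 14], [28, 48, 15, 25, 6], []⟩) (.leaf ⟨6, 6, true, [28, 31, 29, 19, 10, 8], [35, 47, 6, 8, 26, 6], []⟩)))) (.node 4 (.node 2 (.node 1 (.leaf ⟨6, 6, true, [14, 11, 17, 32, 36, 4], [20, 6, 31, 8, 45, 45], []⟩) (.leaf ⟨6, 6, true, [42, 2, 46, 40, 19, 13], [6, 14, 6, 27, 28, 10], []⟩)) (.node 1 (.leaf ⟨6, 6, true, [26, 44, 27, 39, 39], [30, 30, 40, 25, 38], []⟩) (.leaf ⟨6, 6, true, [49, 44, 35, 31, 40, 4], [34, 14, 38, 15, 6, 4], []⟩))) (.node 2 (.node 1 (.leaf ⟨6, 6, true, [36, 22, 16, 37, 11], [33, 2, 21, 27, 10, 12], []⟩) (.leaf ⟨6, 6, true, [34, 37, 12, 2, 0], [34, 18, 29, 15, 31], []⟩)) (.node 1 (.leaf ⟨6, 6, true, [8, 19, 30, 21, 18, 10], [24, 2, 41, 4, 34, 24], []⟩) (.leaf ⟨6, 6, true, [34, 10, 28, 33, 18, 49], [2, 13, 32, 34, 33, 0], []⟩))))) (.node 7 (.node 3 (.node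 1 (.leaf ⟨6, 6, true, [48, 30, 42, 13, 34], [2, 21, 41, 26, 34, 2], []⟩) (.node 1 (.leaf ⟨6, 6, true, [12, 27, 16, 49, 26, 2], [48, 42, 42, 19, 14], []⟩) (.leaf ⟨6, 6, true, [32, 42, 27, 33, 41], [21, 43, 31, 14, 36, 0], []⟩))) (.node 2 (.node 1 (.leaf ⟨6, 6, true, [8, 32, 24, 13, 14, 10], [47, 20, 25, 31, 34, 27], []⟩) (.leaf ⟨6, 6, true, [25, 8, 32, 43, 40, 47], [13, 27, 43, 10, 8, 0], []⟩)) (.node 1 (.leaf ⟨6, 6, true, [14, 36, 10, 43, 11, 6], [0, 17, 23, 25, 46, 6], []⟩) (.leaf ⟨6, 6, true, [38, 36, 24, 41, 41, 2], [44, 17, 35, 24, 11, 8], []⟩)))) (.node 4 (.node 2 (.node 1 (.leaf ⟨6, 6, true, [42, 0, 37, 35, 25, 0], [18, 6, 33, 19, 33, 10], []⟩) (.leaf ⟨6, 6, true, [26, 16, 47, 14, 12, 37], [6, 0, 10, 49, 4, 43], []⟩)) (.node 1 (.leaf ⟨6, 6, true, [18, 11, 23, 33, 14, 40], [43, 28,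 40, 27, 17, 2], []⟩) (.leaf ⟨6, 6, true, [15, 6, 19, 42, 48, 4], [42, 2, 40, 22, 10, 45], []⟩))) (.node 2 (.node 1 (.leaf ⟨6, 6, true, [41, 27, 22, 13, 39, 4], [22, 13, 44, 16, 36, 11], []⟩) (.leaf ⟨6, 6, true, [6, 25, 34, 25, 26, 4], [47, 49, 41, 41, 25, 6], []⟩)) (.node 1 (.leaf ⟨6, 6, true, [38, 44, 39, 48, 12, 10], [33, 2, 21, 31, 35, 14], []⟩) (.leaf ⟨6, 6, true, [26, 43, 29, 12, 34, 10], [18, 47, 10, 22, 27, 6], []⟩)))))))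
noncomputable def dF1262 : BT Fct := (.node 30 (.node 15 (.node 7 (.node 3 (.node 1 (.leaf ⟨6, 6, true, [16, 15, 8, 48, 32, 0], [15, 17, 44, 47, 8, 30], []⟩) (.node 1 (.leaf ⟨6, 6, true, [0, 38, 33, 20, 8, 2], [40, 48, 30, 23, 20, 8], []⟩) (.leaf ⟨6, 5, true, [42, 42, 34, 28, 45, 6], [24, 32, 19, 2, 24, 10], []⟩))) (.node 2 (.node 1 (.leaf ⟨5, 6, true, [46, 32, 18, 6, 24], [6, 8, 29, 46, 42, 42], []⟩) (.leaf ⟨6, 4, true, [8, 25, 37, 42, 23, 0], [21, 11, 45, 12, 42], []⟩)) (.node 1 (.leaf ⟨4, 6, true, [10, 33, 13, 14, 24, 4], [4, 22, 43, 36, 24, 8], []⟩) (.leaf ⟨6, 6, true, [6, 34, 24, 10, 16, 2], [2, 24, 29, 23, 38, 2], []⟩)))) (.node 4 (.node 2 (.node 1 (.leaf ⟨6, 6, true, [25, 4, 41, 42, 26, 38], [17, 21, 40, 22, 25, 6], []⟩) (.leaf ⟨6, 6, true, [35, 37, 46, 2, 20, 4], [35, 47, 30,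 25, 43, 4], []⟩)) (.node 1 (.leaf ⟨6, 6, true, [39, 0, 45, 48, 10, 35], [24, 27, 29, 38, 10, 0], []⟩) (.leaf ⟨6, 6, true, [32, 16, 42, 47, 24, 44], [19, 8, 35, 49, 35, 40], []⟩))) (.node 2 (.node 1 (.leaf ⟨6, 6, true, [42, 37, 30, 39, 25, 6], [15, 42, 36, 20, 15], []⟩) (.leaf ⟨6, 6, true, [38, 28, 40, 23, 31], [44, 11, 44, 43, 12, 40], []⟩)) (.node 1 (.leaf ⟨6, 6, true, [32, 39, 6, 27, 28], [17, 18, 25, 46, 24, 8], []⟩) (.leaf ⟨6, 6, true, [21, 40, 48, 13, 27, 0], [32, 16, 33, 45, 11, 2], []⟩))))) (.node 7 (.node 3 (.node 1 (.leaf ⟨6, 6, true, [8, 15, 17, 11, 46, 6], [12, 39, 10, 20, 38, 2], []⟩) (.node 1 (.leaf ⟨6, 6, true, [43, 17, 18, 28, 37, 0], [35, 40, 27, 43, 32, 0], []⟩) (.leaf ⟨6, 6, true, [0, 12, 2, 33, 12, 2], [10, 6, 25, 31, 46, 46], []⟩))) (.node 2 (.node 1 (.leaf ⟨6, 6,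 true, [41, 27, 28, 12, 6, 0], [44, 14, 18, 25, 6], []⟩) (.leaf ⟨6, 6, true, [27, 28, 43, 28, 10], [17, 2, 18, 40, 31, 6], []⟩)) (.node 1 (.leaf ⟨6, 6, true, [20, 35, 24, 30, 21, 0], [2, 41, 10, 28, 17, 6], []⟩) (.leaf ⟨6, 6, true, [0, 47, 15, 8, 46, 0], [2, 0, 17, 46, 27, 21], []⟩)))) (.node 4 (.node 2 (.node 1 (.leaf ⟨6, 6, true, [28, 31, 36, 48, 41], [32, 38, 6, 44, 15, 6], []⟩) (.leaf ⟨6, 6, true, [26, 8, 6, 25, 8, 36], [2, 27, 6, 19, 48, 4], []⟩)) (.node 1 (.leaf ⟨6, 6, true, [27, 40, 32, 46, 46, 6], [0, 44, 47, 36, 11, 6], []⟩) (.leaf ⟨6, 6, true, [18, 47, 12, 11, 18, 2], [22, 4, 47, 15, 11, 32], []⟩))) (.node 2 (.node 1 (.leaf ⟨6, 6, true, [21, 47, 2, 29, 6, 2], [14, 47, 32, 25, 48, 6], []⟩) (.leaf ⟨6, 6, true, [13, 32, 39, 20, 37], [8, 44, 25, 13, 20, 0], []⟩)) (.node 1 (.leaf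 ⟨6, 6, true, [38, 0, 6, 37, 23, 21], [41, 12, 39, 12, 4], []⟩) (.leaf ⟨6, 6, true, [32, 39, 13, 21, 27, 2], [23, 2, 24, 49, 41, 8], []⟩)))))) (.node 15 (.node 7 (.node 3 (.node 1 (.leaf ⟨6, 6, true, [4, 21, 30, 2, 36], [17, 27, 29, 38, 19, 4], []⟩) (.node 1 (.leaf ⟨6, 6, true, [6, 10, 41, 21, 24], [12, 6, 17, 32, 16, 31], []⟩) (.leaf ⟨6, 6, true, [21, 30, 30, 24, 49, 6], [0, 42, 10, 8, 34, 8], []⟩))) (.node 2 (.node 1 (.leaf ⟨6, 6, true, [18, 46, 41, 41, 0], [21, 6, 36, 47, 12, 21], []⟩) (.leaf ⟨6, 6, true, [41, 47, 12, 18, 21, 10], [4, 40, 40, 47, 19], []⟩)) (.node 1 (.leaf ⟨5, 6, true, [13, 34, 8, 14, 45], [42, 49, 6, 34, 16, 8], []⟩) (.leaf ⟨6, 5, true, [27, 24, 41, 27, 14], [44, 36, 21, 33], []⟩)))) (.node 4 (.node 2 (.node 1 (.leaf ⟨6, 6, true, [13, 29, 44, 4, 29, 8], [24, 33, 40,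 15, 27], []⟩) (.leaf ⟨6, 6, true, [32, 11, 33, 41, 27, 4], [49, 27, 38, 49, 49], []⟩)) (.node 1 (.leaf ⟨6, 6, true, [36, 0, 36, 23, 15, 6], [26, 0, 40, 32, 10, 33], []⟩) (.leaf ⟨5, 6, true, [23, 42, 38, 11, 33], [40, 2, 49, 20, 16, 19], []⟩))) (.node 2 (.node 1 (.leaf ⟨6, 5, true, [45, 30, 13, 41, 48], [22, 6, 25, 25, 31], []⟩) (.leaf ⟨6, 6, true, [43, 10, 30, 42, 20], [15, 11, 34, 38, 15, 32], []⟩)) (.node 1 (.leaf ⟨6, 6, true, [47, 21, 32, 46, 43, 47], [39, 2, 16, 33, 34, 25], []⟩) (.leaf ⟨6, 6, true, [15, 21, 37, 21, 19], [49, 2, 19, 34, 30, 17], []⟩))))) (.node 7 (.node 3 (.node 1 (.leaf ⟨6, 6, true, [48, 34, 44, 33, 13, 2], [37, 25, 28, 36, 40, 4], []⟩) (.node 1 (.leaf ⟨6, 6, true, [32, 47, 42, 48, 48, 6], [34, 4, 34, 21, 15, 44], []⟩) (.leaf ⟨6, 6, true, [20, 6, 34, 19, 15, 38],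 [4, 31, 16, 36, 41, 2], []⟩))) (.node 2 (.node 1 (.leaf ⟨6, 6, true, [11, 24, 28, 36, 26, 0], [43, 15, 11, 11, 0, 47], []⟩) (.leaf ⟨6, 6, true, [38, 36, 26, 39, 44], [12, 20, 40, 13, 18, 8], []⟩)) (.node 1 (.leaf ⟨6, 6, true, [36, 39, 45, 39, 19], [49, 14, 46, 39, 8, 31], []⟩) (.leaf ⟨6, 6, true, [42, 32, 20, 32, 29, 4], [26, 36, 20, 45, 30, 6], []⟩)))) (.node 4 (.node 2 (.node 1 (.leaf ⟨6, 6, true, [4, 47, 28, 31, 41, 2], [34, 45, 34, 18, 13, 0], []⟩) (.leaf ⟨6, 6, true, [31, 49, 36, 22, 17], [46, 34, 28, 35, 10, 6], []⟩)) (.node 1 (.leaf ⟨6, 6, true, [17, 0, 23, 2, 20, 44], [11, 29, 18, 36, 30, 8], []⟩) (.leaf ⟨6, 6, true, [39, 2, 18, 40, 38, 8], [23, 2, 24, 35, 14, 48], []⟩))) (.node 2 (.node 1 (.leaf ⟨6, 6, true, [45, 46, 22, 17, 37, 4], [44, 38, 38, 23, 15, 0], []⟩) (.leaf ⟨5, 6,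 true, [22, 39, 42, 23, 26, 0], [15, 25, 21, 22, 38, 4], []⟩)) (.node 1 (.leaf ⟨5, 6, true, [10, 8, 36, 28, 25, 10], [23, 29, 35, 20, 22, 0], []⟩) (.leaf ⟨6, 6, true, [48, 8, 24, 11, 2, 20], [36, 29, 36, 4, 21, 2], []⟩)))))))
noncomputable def dF1322 : BT Fct := (.node 30 (.node 15 (.node 7 (.node 3 (.node 1 (.leaf ⟨6, 6, true, [21, 8, 10, 25, 34, 47], [31, 38, 47, 23, 25, 6], []⟩) (.node 1 (.leaf ⟨6, 6, true, [6, 44, 44, 44, 28], [38, 13, 37, 10, 17], []⟩) (.leaf ⟨6, 6, true, [4, 41, 12, 29, 2], [2, 18, 11, 25, 32, 2], []⟩))) (.node 2 (.node 1 (.leaf ⟨6, 6, true, [40, 8, 24, 22, 38, 2], [44, 11, 36, 13, 0], []⟩) (.leaf ⟨6, 6, true, [21, 39, 48, 42, 21], [22, 43, 47, 18, 37, 6], []⟩)) (.node 1 (.leaf ⟨6, 6, true, [43, 12, 34, 41, 2, 17], [13, 35, 16, 41, 22], []⟩) (.leaf ⟨6, 6, true, [23,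 29, 40, 33, 10, 10], [37, 24, 47, 20, 45], []⟩)))) (.node 4 (.node 2 (.node 1 (.leaf ⟨6, 5, true, [47, 33, 35, 27, 10, 2], [4, 13, 2, 43, 31, 4], []⟩) (.leaf ⟨5, 6, true, [0, 38, 13, 45, 11, 2], [10, 17, 31, 16, 37, 32], []⟩)) (.node 1 (.leaf ⟨6, 6, true, [27, 17, 42, 36, 16, 4], [28, 24, 6, 48, 4], []⟩) (.leaf ⟨6, 6, true, [11, 49, 19, 16, 27], [15, 26, 26, 47, 29, 2], []⟩))) (.node 2 (.node 1 (.leaf ⟨6, 6, true, [41, 46, 10, 6, 44, 6], [33, 17, 34, 23, 43, 8], []⟩) (.leaf ⟨6, 6, true, [31, 15, 31, 41, 26, 4], [36, 20, 17, 30, 27, 12], []⟩)) (.node 1 (.leaf ⟨6, 6, true, [49, 2, 35, 40, 48, 44], [15, 26, 42, 42, 16, 6], []⟩) (.leaf ⟨6, 6, true, [13, 2, 32, 14, 21, 42], [25, 6, 49, 4, 38], []⟩))))) (.node 7 (.node 3 (.node 1 (.leaf ⟨6, 6, true, [23, 13, 43, 48, 28, 28], [31, 4, 23, 34,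 28, 45], []⟩) (.node 1 (.leaf ⟨6, 6, true, [48, 29, 20, 31, 26, 0], [42, 0, 40, 33, 27, 0], []⟩) (.leaf ⟨6, 5, true, [11, 27, 39, 44, 30], [39, 41, 45, 17, 21, 10], []⟩))) (.node 2 (.node 1 (.leaf ⟨5, 6, true, [33, 25, 14, 47, 32, 4], [0, 2, 44, 40, 10, 6], []⟩) (.leaf ⟨6, 6, true, [0, 22, 28, 22, 46], [13, 30, 17, 37, 38, 0], []⟩)) (.node 1 (.leaf ⟨6, 5, true, [42, 46, 16, 41, 43], [12, 35, 19, 24, 18, 4], []⟩) (.leaf ⟨5, 6, true, [37, 27, 17, 12, 34, 6], [14, 17, 19, 11, 32, 43], []⟩)))) (.node 4 (.node 2 (.node 1 (.leaf ⟨6, 6, true, [4, 39, 47, 26, 47, 8], [39, 24, 43, 29, 26, 6], []⟩) (.leaf ⟨6, 6, true, [15, 33, 21, 43, 34], [36, 40, 27, 36, 43, 8], []⟩)) (.node 1 (.leaf ⟨6, 6, true, [47, 25, 8, 30, 19, 8], [4, 0, 40, 12, 37, 47], []⟩) (.leaf ⟨6, 6, true, [20, 25, 41, 35, 23, 10],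 [26, 41, 36, 29, 39, 2], []⟩))) (.node 2 (.node 1 (.leaf ⟨6, 6, true, [27, 6, 33, 42, 6, 4], [15, 48, 48, 35, 39, 6], []⟩) (.leaf ⟨6, 6, true, [32, 41, 41, 34, 34, 4], [12, 45, 37, 43, 33, 4], []⟩)) (.node 1 (.leaf ⟨6, 5, true, [19, 8, 44, 23, 16, 13], [8, 47, 0, 40, 48, 6], []⟩) (.leaf ⟨5, 6, true, [6, 21, 25, 39, 8, 4], [35, 36, 15, 41, 47, 8], []⟩)))))) (.node 15 (.node 7 (.node 3 (.node 1 (.leaf ⟨6, 5, true, [46, 2, 40, 40, 30, 10], [20, 29, 31, 22, 14, 8], []⟩) (.node 1 (.leaf ⟨5, 6, true, [21, 10, 39, 48, 29, 2], [30, 2, 25, 46, 12, 34], []⟩) (.leaf ⟨6, 6, true, [0, 21, 22, 22, 46, 6], [22, 39, 23, 14, 16], []⟩))) (.node 2 (.node 1 (.leaf ⟨6, 6, true, [6, 19, 37, 48, 25, 8], [8, 31, 0, 22, 19, 2], []⟩) (.leaf ⟨6, 6, true, [23, 10, 12, 45, 26, 4], [46, 34, 15, 33, 47, 4], []⟩)) (.node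 1 (.leaf ⟨6, 6, true, [32, 39, 8, 42, 48, 37], [27, 0, 44, 13, 11, 22], []⟩) (.leaf ⟨6, 6, true, [8, 14, 13, 44, 48, 18], [41, 49, 21, 33, 38, 2], []⟩)))) (.node 4 (.node 2 (.node 1 (.leaf ⟨6, 6, true, [24, 27, 43, 14, 19, 8], [18, 49, 25, 35, 10, 8], []⟩) (.leaf ⟨6, 6, true, [16, 34, 18, 31, 36], [6, 20, 46, 44, 41, 4], []⟩)) (.node 1 (.leaf ⟨6, 6, true, [19, 48, 45, 14, 32, 8], [14, 48, 4, 36, 24, 6], []⟩) (.leaf ⟨6, 6, true, [4, 34, 20, 23, 14, 2], [19, 4, 49, 39, 20, 45], []⟩))) (.node 2 (.node 1 (.leaf ⟨6, 6, true, [25, 2, 38, 13, 45, 34], [34, 6, 44, 30, 48, 40], []⟩) (.leaf ⟨6, 6, true, [31, 10, 35, 8, 6, 18], [16, 41, 32, 45, 17, 2], []⟩)) (.node 1 (.leaf ⟨6, 6, true, [42, 11, 27, 19, 12], [26, 11, 25, 36, 10], []⟩) (.leaf ⟨6, 6, true, [31, 38, 41, 37, 26, 0], [44, 48, 16, 34,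 21, 8], []⟩))))) (.node 7 (.node 3 (.node 1 (.leaf ⟨6, 6, true, [12, 10, 39, 37, 15, 17], [35, 46, 19, 46, 13, 8], []⟩) (.node 1 (.leaf ⟨6, 6, true, [8, 43, 41, 10, 26], [21, 10, 20, 6, 40, 24], []⟩) (.leaf ⟨6, 6, true, [19, 26, 23, 36, 17, 10], [49, 37, 42, 47, 20], []⟩))) (.node 2 (.node 1 (.leaf ⟨6, 6, true, [39, 33, 28, 44, 29, 8], [17, 37, 16, 20, 22, 8], []⟩) (.leaf ⟨6, 6, true, [6, 25, 29, 10, 42, 6], [35, 48, 23, 47, 45, 8], []⟩)) (.node 1 (.leaf ⟨6, 6, true, [44, 32, 25, 16, 49, 8], [20, 43, 43, 14, 37, 4], []⟩) (.leaf ⟨6, 6, true, [45, 6, 15, 17, 21, 0], [41, 28, 11, 43, 39, 0], []⟩)))) (.node 4 (.node 2 (.node 1 (.leaf ⟨6, 5, true, [11, 42, 42, 42, 48, 8], [36, 43, 13, 0, 37], []⟩) (.leaf ⟨5, 6, true, [11, 49, 24, 27], [45, 8, 20, 12, 2], []⟩)) (.node 1 (.leaf ⟨6, 5, true,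 [16, 37, 18, 29, 48, 8], [31, 2, 17, 47, 33, 4], []⟩) (.leaf ⟨5, 6, true, [4, 49, 39, 30, 4], [21, 41, 10, 28, 30, 6], []⟩))) (.node 2 (.node 1 (.leaf ⟨6, 5, true, [41, 11, 13, 20, 14], [34, 45, 36, 38, 44, 0], []⟩) (.leaf ⟨5, 6, true, [12, 38, 16, 12, 22], [8, 10, 26, 17, 40], []⟩)) (.node 1 (.leaf ⟨6, 6, true, [41, 30, 16, 39, 35, 2], [0, 19, 36, 21, 43, 2], []⟩) (.leaf ⟨6, 6, true, [34, 15, 41, 42, 35, 0], [10, 19, 16, 31, 39, 4], []⟩)))))))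
noncomputable def dF1382 : BT Fct := (.node 30 (.node 15 (.node 7 (.node 3 (.node 1 (.leaf ⟨6, 6, true, [0, 46, 23, 2, 24, 6], [16, 29, 40, 46, 41, 0], []⟩) (.node 1 (.leaf ⟨6, 6, true, [6, 22, 44, 10, 37, 0], [37, 27, 15, 39, 10, 0], []⟩) (.leaf ⟨6, 6, true, [38, 24, 35, 42, 30, 10], [37, 12, 49, 6, 35, 10], []⟩))) (.node 2 (.node 1 (.leaf ⟨6, 6, true, [0, 44, 24, 6, 2, 4], [12, 8, 22, 49, 28, 41], []⟩) (.leaf ⟨5, 6, true, [21, 49, 8, 18, 42, 2], [4, 43, 41, 14, 32, 4], []⟩)) (.node 1 (.leaf ⟨6, 5, true, [28, 11, 30, 49, 13, 33], [27, 0, 30, 16, 27, 47], []⟩) (.leaf ⟨6, 6, true, [26, 39, 2, 44, 43, 2], [34, 10, 49, 25, 16, 36], []⟩)))) (.node 4 (.node 2 (.node 1 (.leaf ⟨6, 6, true, [44, 39, 48, 43, 34], [48, 2, 42, 32, 40], []⟩) (.leaf ⟨6, 6, true, [20, 23, 19, 38, 20, 6], [37, 44, 21,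 0, 37, 2], []⟩)) (.node 1 (.leaf ⟨6, 6, true, [11, 16, 37, 23, 11, 2], [6, 38, 23, 44, 33, 8], []⟩) (.leaf ⟨6, 6, true, [19, 10, 38, 24, 18, 23], [16, 46, 38, 30, 11, 8], []⟩))) (.node 2 (.node 1 (.leaf ⟨6, 6, true, [12, 39, 34, 34, 33, 0], [47, 25, 26, 48, 46, 4], []⟩) (.leaf ⟨6, 6, true, [10, 21, 10, 6, 23, 2], [16, 40, 34, 24, 41, 6], []⟩)) (.node 1 (.leaf ⟨6, 6, true, [41, 18, 30, 48, 25, 49], [21, 28, 43, 44, 21], []⟩) (.leaf ⟨6, 6, true, [16, 29, 31, 40, 26], [47, 23, 12, 35, 11], []⟩))))) (.node 7 (.node 3 (.node 1 (.leaf ⟨5, 6, true, [28, 41, 48, 10, 30, 8], [21, 4, 26, 30, 44, 21], []⟩) (.node 1 (.leaf ⟨6, 5, true, [12, 45, 42, 14, 23, 6], [11, 8, 18, 20, 49, 39], []⟩) (.leaf ⟨6, 6, true, [32, 21, 19, 48, 4], [6, 47, 2, 18, 20, 0], []⟩))) (.node 2 (.node 1 (.leaf ⟨6, 6, true,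 [25, 16, 6, 38, 37], [0, 49, 18, 20, 33], []⟩) (.leaf ⟨6, 6, true, [43, 13, 36, 16, 21, 18], [26, 6, 18, 37, 34, 6], []⟩)) (.node 1 (.leaf ⟨6, 6, true, [40, 38, 46, 26, 30], [10, 26, 38, 18, 13, 8], []⟩) (.leaf ⟨6, 6, true, [31, 12, 15, 30, 25, 21], [30, 21, 18, 23, 4], []⟩)))) (.node 4 (.node 2 (.node 1 (.leaf ⟨6, 6, true, [19, 23, 18, 31, 2], [12, 30, 29, 39, 37, 8], []⟩) (.leaf ⟨6, 6, true, [25, 46, 20, 23, 17], [11, 48, 42, 41, 15, 10], []⟩)) (.node 1 (.leaf ⟨6, 6, true, [42, 18, 48, 6, 46, 48], [16, 4, 22, 21, 47, 24], []⟩) (.leaf ⟨6, 6, true, [22, 8, 32, 32, 31, 13], [4, 24, 49, 10, 33, 10], []⟩))) (.node 2 (.node 1 (.leaf ⟨6, 6, true, [13, 34, 43, 16, 11, 4], [31, 19, 4, 49, 24, 10], []⟩) (.leaf ⟨6, 6, true, [11, 15, 30, 21, 15, 46], [10, 0, 17, 42, 35, 12], []⟩)) (.node 1 (.leaf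 ⟨6, 6, true, [37, 13, 26, 31, 49, 2], [24, 44, 24, 21, 16, 0], []⟩) (.leaf ⟨6, 6, true, [19, 14, 29, 34, 37, 0], [15, 6, 20, 28, 15, 36], []⟩)))))) (.node 15 (.node 7 (.node 3 (.node 1 (.leaf ⟨6, 6, true, [21, 49, 8, 43, 48, 0], [34, 6, 10, 16, 30, 16], []⟩) (.node 1 (.leaf ⟨6, 6, true, [30, 8, 4, 47, 16, 8], [29, 45, 45, 19, 22, 6], []⟩) (.leaf ⟨6, 6, true, [12, 37, 13, 37, 21, 10], [6, 8, 48, 45, 26, 8], []⟩))) (.node 2 (.node 1 (.leaf ⟨6, 6, true, [46, 18, 22, 39, 13, 16], [15, 0, 2, 44, 46, 4], []⟩) (.leaf ⟨6, 6, true, [6, 10, 35, 10, 17, 6], [33, 22, 25, 23, 48, 37], []⟩)) (.node 1 (.leaf ⟨6, 6, true, [6, 28, 16, 16, 39, 8], [12, 14, 42, 26, 30, 21], []⟩) (.leaf ⟨4, 6, true, [31, 17, 37, 42, 19, 8], [26, 4, 25, 10, 30, 35], []⟩)))) (.node 4 (.node 2 (.node 1 (.leaf ⟨6, 4, true, [36,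 30, 12, 41, 6, 0], [35, 27, 31, 24, 2], []⟩) (.leaf ⟨4, 6, true, [2, 21, 23, 16, 47, 0], [16, 41, 33, 2, 26, 4], []⟩)) (.node 1 (.leaf ⟨6, 4, true, [12, 2, 15, 33, 4, 43], [4, 46, 23, 16, 20, 2], []⟩) (.leaf ⟨4, 6, true, [12, 45, 25, 22, 33, 0], [46, 41, 25, 14, 0], []⟩))) (.node 2 (.node 1 (.leaf ⟨6, 4, true, [31, 8, 25, 11, 4], [17, 49, 45, 31, 26, 10], []⟩) (.leaf ⟨6, 6, true, [25, 40, 6, 19, 31], [21, 2, 18, 43, 41, 48], []⟩)) (.node 1 (.leaf ⟨6, 6, true, [27, 41, 31, 13, 49], [14, 19, 12, 42, 44, 0], []⟩) (.leaf ⟨6, 6, true, [12, 8, 39, 4, 20, 18], [27, 17, 49, 35, 22, 10], []⟩))))) (.node 8 (.node 4 (.node 2 (.node 1 (.leaf ⟨6, 6, true, [34, 21, 47, 47, 32], [19, 21, 38, 13, 8], []⟩) (.leaf ⟨6, 6, true, [28, 28, 45, 21, 14, 4], [37, 33, 17, 28, 42, 0], []⟩)) (.node 1 (.leaf ⟨6,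 6, true, [2, 31, 21, 31, 33, 6], [35, 26, 35, 17, 17, 0], []⟩) (.leaf ⟨6, 6, true, [32, 6, 49, 12, 46, 0], [15, 32, 18, 18, 12, 4], []⟩))) (.node 2 (.node 1 (.leaf ⟨6, 6, true, [4, 44, 19, 8, 14], [20, 18, 25, 37, 45, 21], []⟩) (.leaf ⟨6, 6, true, [15, 15, 12, 14, 36, 33], [17, 21, 43, 32, 8], []⟩)) (.node 1 (.leaf ⟨6, 6, true, [43, 21, 34, 41, 46, 2], [12, 27, 41, 35, 21, 0], []⟩) (.leaf ⟨6, 6, true, [33, 38, 0, 44, 24, 6], [6, 48, 6, 36, 23, 2], []⟩)))) (.node 4 (.node 2 (.node 1 (.leaf ⟨6, 6, true, [36, 4, 36, 0, 39, 19], [32, 38, 40, 45, 48], []⟩) (.leaf ⟨6, 6, true, [29, 2, 40, 46, 19, 30], [33, 27, 38, 36, 44, 0], []⟩)) (.node 1 (.leaf ⟨6, 6, true, [47, 4, 11, 14, 34, 48], [17, 28, 26, 34, 33, 2], []⟩) (.leaf ⟨6, 6, true, [8, 10, 47, 29, 41, 31], [49, 18, 40, 40, 42, 2], []⟩)))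 (.node 2 (.node 1 (.leaf ⟨6, 6, true, [10, 49, 32, 16, 41, 2], [24, 29, 10, 30, 4, 2], []⟩) (.leaf ⟨6, 6, true, [4, 35, 42, 46, 49, 6], [37, 31, 31, 43, 19], []⟩)) (.node 1 (.leaf ⟨6, 6, true, [31, 19, 22, 44, 10, 4], [29, 32, 18, 22, 37, 0], []⟩) (.leaf ⟨6, 6, true, [14, 39, 36, 47, 16, 2], [35, 2, 31, 21, 37, 33], []⟩)))))))
noncomputable def dF1443 : BT Fct := (.node 30 (.node 15 (.node 7 (.node 3 (.node 1 (.leaf ⟨6, 6, true, [37, 46, 36, 6, 26, 2], [21, 0, 32, 14, 39, 30], []⟩) (.node 1 (.leaf ⟨6, 6, true, [8, 11, 22, 45, 47, 2], [2, 26, 49, 0, 23, 8], []⟩) (.leaf ⟨6, 6, true, [0, 45, 41, 10, 13, 6], [49, 18, 43, 24, 40, 8], []⟩))) (.node 2 (.node 1 (.leaf ⟨6, 6, true, [15, 29, 13, 48, 18, 2], [16, 37, 16, 24, 36, 2], []⟩) (.leaf ⟨6, 6, true, [29, 49, 23, 40, 22, 10], [39, 2, 14,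 8, 40, 13], []⟩)) (.node 1 (.leaf ⟨6, 6, true, [11, 16, 39, 37, 21, 0], [15, 30, 45, 39, 34, 8], []⟩) (.leaf ⟨6, 6, true, [8, 28, 42, 22, 27, 2], [4, 20, 36, 38, 17, 10], []⟩)))) (.node 4 (.node 2 (.node 1 (.leaf ⟨6, 6, true, [2, 48, 34, 27, 11], [43, 15, 46, 33, 17, 12], []⟩) (.leaf ⟨6, 6, true, [13, 46, 21, 13, 41, 0], [2, 48, 23, 39, 8], []⟩)) (.node 1 (.leaf ⟨6, 6, true, [28, 2, 32, 46, 23, 6], [27, 4, 41, 46, 18, 20], []⟩) (.leaf ⟨6, 6, true, [41, 21, 42, 45, 42, 4], [32, 49, 19, 30, 26, 8], []⟩))) (.node 2 (.node 1 (.leaf ⟨6, 6, true, [45, 21, 18, 36, 14], [46, 48, 41, 36, 47], []⟩) (.leaf ⟨6, 6, true, [33, 13, 49, 43, 15, 30], [37, 45, 19, 29, 43, 2], []⟩)) (.node 1 (.leaf ⟨6, 6, true, [27, 49, 43, 49, 36], [44, 12, 16, 43, 20], []⟩) (.leaf ⟨6, 6, true, [41, 18, 12, 4, 41, 2],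 [47, 6, 13, 45, 32, 46], []⟩))))) (.node 7 (.node 3 (.node 1 (.leaf ⟨6, 6, true, [45, 32, 32, 38, 21, 0], [6, 49, 42, 11, 25, 4], []⟩) (.node 1 (.leaf ⟨6, 6, true, [23, 30, 42, 13, 40, 0], [30, 29, 12, 31, 46, 0], []⟩) (.leaf ⟨6, 6, true, [2, 11, 47, 41, 15, 6], [40, 42, 29, 20, 38, 0], []⟩))) (.node 2 (.node 1 (.leaf ⟨6, 5, true, [44, 36, 11, 16, 26], [14, 14, 41, 19, 44, 4], []⟩) (.leaf ⟨5, 6, true, [19, 38, 15, 18, 31, 4], [23, 10, 42, 8, 28, 49], []⟩)) (.node 1 (.leaf ⟨6, 6, true, [33, 45, 46, 20, 25, 8], [33, 42, 19, 44, 0], []⟩) (.leaf ⟨6, 6, true, [4, 27, 34, 22, 22, 10], [42, 48, 18, 48, 45, 0], []⟩)))) (.node 4 (.node 2 (.node 1 (.leaf ⟨6, 6, true, [38, 25, 32, 19, 30, 4], [48, 37, 16, 41, 0, 2], []⟩) (.leaf ⟨6, 6, true, [39, 6, 18, 35, 15, 40], [0, 31, 18, 33, 24, 39], []⟩))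 (.node 1 (.leaf ⟨6, 6, true, [29, 29, 30, 11, 12, 4], [8, 14, 32, 22, 34], []⟩) (.leaf ⟨6, 6, true, [32, 0, 42, 13, 19, 8], [12, 37, 13, 27, 8], []⟩))) (.node 2 (.node 1 (.leaf ⟨6, 6, true, [11, 27, 35, 2, 19, 2], [14, 31, 22, 35, 13, 0], []⟩) (.leaf ⟨6, 6, true, [42, 15, 47, 35, 33, 46], [49, 26, 44, 36, 35], []⟩)) (.node 1 (.leaf ⟨6, 6, true, [13, 27, 22, 35, 40], [19, 31, 19, 20, 28, 10], []⟩) (.leaf ⟨6, 6, true, [12, 36, 43, 47, 0, 49], [41, 20, 36, 4, 30, 10], []⟩)))))) (.node 15 (.node 7 (.node 3 (.node 1 (.leaf ⟨6, 6, true, [32, 4, 19, 42, 20, 22], [47, 37, 14, 26, 48], []⟩) (.node 1 (.leaf ⟨6, 6, true, [24, 37, 37, 18, 10, 6], [21, 13, 19, 43, 27, 10], []⟩) (.leaf ⟨6, 6, true, [42, 25, 28, 28, 30, 46], [35, 0, 12, 32, 41, 37], []⟩))) (.node 2 (.node 1 (.leaf ⟨6, 6, true, [45,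 21, 6, 34, 17, 2], [46, 13, 38, 11, 22, 47], []⟩) (.leaf ⟨6, 6, true, [6, 32, 25, 8, 20, 4], [36, 0, 48, 34, 23, 42], []⟩)) (.node 1 (.leaf ⟨6, 6, true, [13, 45, 24, 20, 19, 10], [15, 29, 11, 13, 30], []⟩) (.leaf ⟨6, 6, true, [10, 23, 30, 18, 34, 2], [10, 39, 18, 48, 33, 8], []⟩)))) (.node 4 (.node 2 (.node 1 (.leaf ⟨6, 6, true, [15, 46, 23, 43, 46, 4], [19, 0, 43, 48, 11, 11], []⟩) (.leaf ⟨6, 6, true, [10, 26, 37, 0, 44], [18, 40, 35, 29, 36, 0], []⟩)) (.node 1 (.leaf ⟨6, 6, true, [11, 11, 38, 43, 11, 49], [33, 26, 39, 16, 36, 8], []⟩) (.leaf ⟨6, 6, true, [21, 11, 11, 42, 47, 37], [14, 36, 46, 38, 20, 4], []⟩))) (.node 2 (.node 1 (.leaf ⟨4, 6, true, [16, 31, 24, 16, 14], [41, 14, 38, 13, 24, 26], []⟩) (.leaf ⟨6, 4, true, [24, 41, 17, 47, 24, 8], [6, 14, 10, 36, 32, 2], []⟩)) (.node 1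 (.leaf ⟨6, 6, true, [43, 49, 16, 44, 33, 8], [37, 26, 37, 19, 37], []⟩) (.leaf ⟨6, 6, true, [0, 22, 37, 27, 42, 6], [17, 35, 12, 14, 39, 8], []⟩))))) (.node 7 (.node 3 (.node 1 (.leaf ⟨6, 6, true, [22, 19, 13, 37, 25, 10], [28, 25, 6, 49, 46], []⟩) (.node 1 (.leaf ⟨6, 6, true, [39, 2, 19, 13, 28, 43], [23, 2, 45, 17, 17, 31], []⟩) (.leaf ⟨6, 6, true, [27, 27, 47, 4, 42, 6], [49, 16, 28, 45, 17, 18], []⟩))) (.node 2 (.node 1 (.leaf ⟨6, 6, true, [36, 21, 8, 42, 37, 0], [19, 38, 19, 31, 19, 8], []⟩) (.leaf ⟨6, 6, true, [13, 10, 23, 49, 21], [31, 43, 40, 2, 15], []⟩)) (.node 1 (.leaf ⟨6, 6, true, [21, 22, 39, 36, 47, 8], [13, 20, 2, 32, 8, 6], []⟩) (.leaf ⟨6, 6, true, [25, 4, 44, 2, 48, 20], [2, 13, 20, 20, 46, 2], []⟩)))) (.node 4 (.node 2 (.node 1 (.leaf ⟨6, 6, true, [11, 22, 39, 2, 43],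 [2, 34, 39, 37, 46, 8], []⟩) (.leaf ⟨6, 6, true, [18, 11, 22, 13, 30, 17], [44, 20, 23, 17, 11], []⟩)) (.node 1 (.leaf ⟨6, 6, true, [42, 29, 43, 13, 19], [14, 13, 47, 30, 15, 22], []⟩) (.leaf ⟨6, 6, true, [16, 41, 20, 24, 0, 2], [0, 41, 21, 43, 46, 4], []⟩))) (.node 2 (.node 1 (.leaf ⟨6, 6, true, [11, 46, 0, 36, 8], [41, 0, 19, 12, 38, 13], []⟩) (.leaf ⟨6, 6, true, [32, 44, 43, 32, 26], [13, 44, 22, 15, 26, 0], []⟩)) (.node 1 (.leaf ⟨6, 6, true, [29, 19, 26, 37, 35], [33, 38, 19, 31, 16], []⟩) (.leaf ⟨6, 6, true, [48, 35, 23, 16, 29, 10], [49, 11, 31, 14, 16, 24], []⟩)))))))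
noncomputable def dF1503 : BT Fct := (.node 30 (.node 15 (.node 7 (.node 3 (.node 1 (.leaf ⟨6, 6, true, [42, 14, 16, 41, 29], [46, 15, 42, 45, 14, 4], []⟩) (.node 1 (.leaf ⟨6, 5, true, [25, 29, 31, 38, 0], [2, 32, 27, 10, 37, 0], []⟩) (.leaf ⟨5, 6, true, [41, 17, 28, 48, 16], [4, 39, 30, 28, 24], []⟩))) (.node 2 (.node 1 (.leaf ⟨6, 6, true, [6, 23, 30, 12, 40, 0], [35, 24, 37, 26, 13], []⟩) (.leaf ⟨6, 6, true, [28, 11, 29, 34, 41], [18, 36, 21, 39, 49, 0], []⟩)) (.node 1 (.leaf ⟨6, 6, true, [40, 40, 8, 10, 31], [34, 10, 10, 45, 17, 20], []⟩) (.leaf ⟨6, 6, true, [33, 0, 11, 38, 28, 11], [31, 8, 35, 37, 18, 48], []⟩)))) (.node 4 (.node 2 (.node 1 (.leaf ⟨6, 6, true, [2, 15, 31, 43, 22, 30], [35, 17, 35, 44, 21, 0], []⟩) (.leaf ⟨6, 6, true, [18, 26, 16, 33, 47, 0], [4, 32, 45, 36, 45], []⟩))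 (.node 1 (.leaf ⟨6, 6, true, [31, 10, 34, 8, 29, 6], [36, 8, 36, 25, 26, 6], []⟩) (.leaf ⟨6, 6, true, [48, 8, 34, 41, 35, 44], [40, 30, 14, 8, 0], []⟩))) (.node 2 (.node 1 (.leaf ⟨4, 6, true, [2, 22, 10, 22, 32, 2], [37, 4, 20, 10, 13, 44], []⟩) (.leaf ⟨6, 4, true, [14, 2, 16, 38, 13], [18, 30, 32, 34, 11, 0], []⟩)) (.node 1 (.leaf ⟨6, 6, true, [43, 48, 39, 29, 37, 6], [2, 28, 18, 31, 12], []⟩) (.leaf ⟨6, 6, true, [0, 46, 24, 29, 16, 10], [27, 18, 30, 45, 40, 6], []⟩))))) (.node 7 (.node 3 (.node 1 (.leaf ⟨6, 6, true, [0, 15, 47, 32, 27], [48, 35, 33, 42, 0], []⟩) (.node 1 (.leaf ⟨6, 6, true, [23, 26, 33, 39, 43, 4], [4, 44, 11, 33, 37, 0], []⟩) (.leaf ⟨6, 6, true, [0, 8, 23, 20, 46], [34, 37, 10, 31, 4], []⟩))) (.node 2 (.node 1 (.leaf ⟨6, 6, true, [15, 49, 23, 36, 38], [29, 6, 37, 28,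 8], []⟩) (.leaf ⟨6, 6, true, [4, 21, 38, 33, 16], [33, 13, 11, 42, 6], []⟩)) (.node 1 (.leaf ⟨6, 6, true, [15, 16, 6, 34, 22, 4], [14, 25, 33, 26, 25, 0], []⟩) (.leaf ⟨6, 6, true, [28, 25, 20, 33, 28], [48, 6, 36, 19, 46, 24], []⟩)))) (.node 4 (.node 2 (.node 1 (.leaf ⟨6, 6, true, [26, 13, 41, 24, 42, 2], [26, 41, 17, 4, 2], []⟩) (.leaf ⟨6, 6, true, [16, 19, 43, 6, 28], [41, 11, 46, 22, 41, 4], []⟩)) (.node 1 (.leaf ⟨6, 6, true, [18, 34, 24, 28, 38, 6], [29, 37, 10, 23, 17], []⟩) (.leaf ⟨6, 6, true, [29, 48, 6, 17, 15, 8], [28, 15, 35, 10, 33, 2], []⟩))) (.node 2 (.node 1 (.leaf ⟨6, 6, true, [32, 8, 18, 4, 48], [20, 8, 33, 33, 13, 0], []⟩) (.leaf ⟨6, 6, true, [22, 18, 40, 34, 47, 27], [28, 43, 16, 48, 40, 4], []⟩)) (.node 1 (.leaf ⟨6, 6, true, [48, 4, 6, 21, 6, 40], [46, 40, 27, 34, 22],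 []⟩) (.leaf ⟨6, 6, true, [46, 23, 32, 44, 28, 19], [33, 26, 42, 37, 10, 6], []⟩)))))) (.node 15 (.node 7 (.node 3 (.node 1 (.leaf ⟨6, 6, true, [25, 44, 27, 23, 24], [27, 2, 42, 28, 27, 30], []⟩) (.node 1 (.leaf ⟨6, 6, true, [20, 4, 48, 6, 18, 6], [44, 49, 20, 18, 36, 6], []⟩) (.leaf ⟨6, 6, true, [16, 10, 25, 37, 16, 43], [23, 47, 4, 30, 28, 4], []⟩))) (.node 2 (.node 1 (.leaf ⟨6, 6, true, [44, 22, 31, 38, 8, 10], [21, 21, 34, 14, 27, 10], []⟩) (.leaf ⟨6, 6, true, [40, 32, 2, 46, 46, 0], [28, 0, 49, 47, 30, 15], []⟩)) (.node 1 (.leaf ⟨6, 6, true, [28, 13, 31, 37, 39, 36], [30, 8, 26, 39, 48, 24], []⟩) (.leaf ⟨5, 6, true, [14, 14, 28, 32, 20, 0], [11, 39, 11, 43, 45], []⟩)))) (.node 4 (.node 2 (.node 1 (.leaf ⟨6, 6, true, [16, 2, 49, 18, 35, 2], [44, 27, 8, 47, 26], []⟩) (.leaf ⟨6, 6, true,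 [23, 16, 49, 47, 49, 33], [17, 44, 35, 43, 15, 4], []⟩)) (.node 1 (.leaf ⟨6, 6, true, [4, 18, 37, 40, 10], [30, 15, 41, 20, 10, 0], []⟩) (.leaf ⟨6, 6, true, [27, 21, 32, 25, 28, 10], [0, 22, 6, 48, 27, 8], []⟩))) (.node 2 (.node 1 (.leaf ⟨6, 6, true, [8, 0, 22, 24, 48, 25], [46, 30, 10, 22, 0], []⟩) (.leaf ⟨5, 6, true, [11, 43, 33, 37, 8, 10], [24, 8, 36, 48, 30, 17], []⟩)) (.node 1 (.leaf ⟨6, 5, true, [12, 21, 15, 45, 8, 0], [42, 19, 34, 23, 10, 37], []⟩) (.leaf ⟨6, 6, true, [15, 37, 17, 6, 15, 6], [49, 24, 10, 26, 30], []⟩))))) (.node 7 (.node 3 (.node 1 (.leaf ⟨6, 6, true, [33, 41, 11, 38, 24, 0], [28, 45, 27, 33, 36, 2], []⟩) (.node 1 (.leaf ⟨6, 6, true, [14, 33, 23, 31, 35, 10], [13, 43, 24, 22, 38, 4], []⟩) (.leaf ⟨6, 6, true, [20, 49, 0, 42, 15, 8], [6, 12, 15, 32, 19, 8], []⟩)))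 (.node 2 (.node 1 (.leaf ⟨6, 6, true, [42, 6, 35, 46, 34, 13], [8, 14, 21, 42, 36, 14], []⟩) (.leaf ⟨6, 6, true, [16, 0, 22, 47, 39, 22], [17, 38, 22, 35, 48, 6], []⟩)) (.node 1 (.leaf ⟨6, 6, true, [28, 18, 20, 49, 0], [12, 38, 49, 15, 48, 2], []⟩) (.leaf ⟨6, 6, true, [10, 20, 28, 43, 30, 8], [4, 48, 21, 19, 29], []⟩)))) (.node 4 (.node 2 (.node 1 (.leaf ⟨5, 6, true, [38, 8, 2, 25, 21, 10], [28, 12, 47, 42, 0, 40], []⟩) (.leaf ⟨6, 5, true, [16, 45, 45, 11, 30, 0], [31, 31, 32, 13, 18, 2], []⟩)) (.node 1 (.leaf ⟨6, 6, true, [8, 25, 19, 39, 35, 6], [38, 40, 43, 40, 48, 8], []⟩) (.leaf ⟨6, 6, true, [19, 10, 33, 19, 48, 37], [37, 47, 33, 38, 11, 2], []⟩))) (.node 2 (.node 1 (.leaf ⟨6, 6, true, [26, 11, 32, 21, 30, 44], [42, 0, 6, 44, 37, 46], []⟩) (.leaf ⟨6, 6, true, [13, 25, 33, 49, 24,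 6], [26, 33, 44, 17, 17], []⟩)) (.node 1 (.leaf ⟨6, 6, true, [8, 36, 25, 49, 31, 10], [44, 17, 44, 10, 25], []⟩) (.leaf ⟨6, 6, true, [47, 48, 36, 14, 36, 6], [20, 0, 47, 8, 24, 23], []⟩)))))))
noncomputable def dF1563 : BT Fct := (.node 30 (.node 15 (.node 7 (.node 3 (.node 1 (.leaf ⟨6, 6, true, [36, 14, 35, 14, 11, 16], [4, 41, 6, 48, 46, 2], []⟩) (.node 1 (.leaf ⟨6, 6, true, [32, 0, 22, 32, 2, 32], [12, 15, 30, 36, 16, 0], []⟩) (.leaf ⟨6, 6, true, [44, 36, 29, 45, 20, 10], [31, 20, 46, 42, 26, 0], []⟩))) (.node 2 (.node 1 (.leaf ⟨6, 6, true, [41, 31, 48, 21, 30], [14, 4, 35, 36, 13, 48], []⟩) (.leaf ⟨6, 6, true, [11, 32, 18, 29, 46, 23], [4, 47, 48, 34, 22, 2], []⟩)) (.node 1 (.leaf ⟨6, 6, true, [26, 6, 20, 22, 36, 45], [17, 26, 26, 43, 25, 31], []⟩) (.leaf ⟨6, 6, true, [43, 27, 32,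 13, 24, 4], [13, 10, 26, 35, 29, 45], []⟩)))) (.node 4 (.node 2 (.node 1 (.leaf ⟨6, 6, true, [19, 12, 17, 24, 32], [17, 20, 25, 37, 41], []⟩) (.leaf ⟨6, 6, true, [28, 2, 42, 24, 41, 0], [10, 24, 13, 39, 39, 2], []⟩)) (.node 1 (.leaf ⟨6, 6, true, [32, 13, 22, 13, 33, 2], [28, 48, 28, 21, 19], []⟩) (.leaf ⟨6, 6, true, [15, 24, 27, 49, 33, 4], [31, 43, 32, 44, 34, 10], []⟩))) (.node 2 (.node 1 (.leaf ⟨6, 6, true, [44, 19, 0, 22, 44, 0], [37, 43, 21, 26, 43], []⟩) (.leaf ⟨6, 6, true, [21, 15, 30, 12, 48, 8], [15, 36, 38, 20, 40], []⟩)) (.node 1 (.leaf ⟨6, 6, true, [8, 10, 44, 0, 35, 30], [16, 47, 22, 18, 24, 0], []⟩) (.leaf ⟨6, 6, true, [4, 42, 35, 11, 39, 4], [35, 19, 22, 36, 8, 4], []⟩))))) (.node 7 (.node 3 (.node 1 (.leaf ⟨6, 6, true, [21, 4, 17, 25, 45, 17], [14, 35, 13, 40, 35], []⟩)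 (.node 1 (.leaf ⟨6, 6, true, [6, 25, 34, 46, 11, 4], [16, 25, 31, 38, 11, 6], []⟩) (.leaf ⟨6, 6, true, [12, 34, 33, 2, 23, 8], [28, 19, 22, 47, 20, 10], []⟩))) (.node 2 (.node 1 (.leaf ⟨6, 6, true, [34, 46, 13, 38, 27], [32, 32, 12, 6, 19], []⟩) (.leaf ⟨6, 6, true, [24, 49, 49, 45, 24, 2], [24, 49, 15, 6, 16], []⟩)) (.node 1 (.leaf ⟨6, 6, true, [46, 44, 12, 45, 40], [14, 36, 6, 29, 34, 2], []⟩) (.leaf ⟨6, 6, true, [25, 2, 26, 20, 35, 15], [47, 13, 11, 47, 20, 34], []⟩)))) (.node 4 (.node 2 (.node 1 (.leaf ⟨6, 6, true, [43, 10, 4, 33, 26, 4], [43, 10, 19, 34, 45], []⟩) (.leaf ⟨6, 6, true, [37, 10, 8, 43, 38, 8], [18, 2, 44, 43, 22, 10], []⟩)) (.node 1 (.leaf ⟨6, 6, true, [45, 48, 11, 24, 39], [46, 21, 45, 12, 41, 6], []⟩) (.leaf ⟨6, 6, true, [25, 43, 31, 29, 11, 2], [6, 31, 44, 20, 38,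 6], []⟩))) (.node 2 (.node 1 (.leaf ⟨6, 6, true, [18, 34, 25, 34, 17, 6], [37, 24, 39, 44, 4, 32], []⟩) (.leaf ⟨6, 6, true, [6, 8, 44, 12, 27], [2, 19, 38, 44], []⟩)) (.node 1 (.leaf ⟨6, 6, true, [31, 25, 31, 47, 34, 0], [24, 13, 47, 16, 6, 8], []⟩) (.leaf ⟨6, 6, true, [13, 22, 32, 13, 25], [37, 18, 34, 8, 14, 10], []⟩)))))) (.node 15 (.node 7 (.node 3 (.node 1 (.leaf ⟨6, 6, true, [10, 26, 16, 43, 37, 0], [36, 30, 27, 32, 37, 0], []⟩) (.node 1 (.leaf ⟨6, 6, true, [18, 41, 36, 42, 38], [11, 30, 43, 34, 47, 0], []⟩) (.leaf ⟨6, 6, true, [44, 8, 24, 46, 17, 42], [36, 14, 47, 25, 38, 6], []⟩))) (.node 2 (.node 1 (.leaf ⟨6, 6, true, [40, 6, 26, 35, 18, 43], [16, 34, 26, 47, 42, 8], []⟩) (.leaf ⟨6, 6, true, [0, 19, 45, 11, 22, 4], [31, 6, 38, 13, 6, 0], []⟩)) (.node 1 (.leaf ⟨6, 6, true, [8,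 10, 12, 14, 34, 2], [0, 23, 10, 44, 18, 0], []⟩) (.leaf ⟨6, 6, true, [20, 10, 49, 37, 47, 4], [21, 37, 19, 42, 31, 0], []⟩)))) (.node 4 (.node 2 (.node 1 (.leaf ⟨6, 6, true, [29, 22, 42, 13, 49, 6], [14, 22, 44, 29, 20], []⟩) (.leaf ⟨6, 6, true, [19, 0, 40, 27, 48, 38], [43, 12, 31, 32, 41, 15], []⟩)) (.node 1 (.leaf ⟨6, 6, true, [2, 8, 33, 4, 38, 8], [18, 10, 17, 42, 11, 0], []⟩) (.leaf ⟨6, 6, true, [40, 24, 43, 33, 33], [39, 40, 8, 47, 26], []⟩))) (.node 2 (.node 1 (.leaf ⟨6, 6, true, [11, 33, 33, 31, 24, 4], [8, 18, 40, 46, 35, 44], []⟩) (.leaf ⟨6, 6, true, [14, 14, 20, 43, 14, 0], [0, 25, 30, 32, 32, 10], []⟩)) (.node 1 (.leaf ⟨6, 6, true, [12, 40, 32, 45, 8], [19, 30, 12, 20, 20, 8], []⟩) (.leaf ⟨6, 6, true, [24, 13, 16, 20, 31, 18], [44, 39, 12, 16, 10, 0], []⟩))))) (.node 7 (.node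 3 (.node 1 (.leaf ⟨6, 6, true, [13, 8, 41, 8, 16, 19], [15, 10, 43, 17, 44, 10], []⟩) (.node 1 (.leaf ⟨6, 6, true, [12, 11, 43, 17, 11, 0], [42, 0, 2, 14, 24, 11], []⟩) (.leaf ⟨6, 6, true, [41, 2, 13, 17, 34, 25], [17, 26, 30, 30, 10], []⟩))) (.node 2 (.node 1 (.leaf ⟨6, 6, true, [24, 36, 25, 17, 33, 4], [44, 19, 29, 16, 36], []⟩) (.leaf ⟨6, 6, true, [46, 4, 45, 2, 42, 0], [15, 21, 39, 23, 28], []⟩)) (.node 1 (.leaf ⟨6, 6, true, [25, 4, 45, 24, 39, 13], [29, 29, 30, 30, 24, 6], []⟩) (.leaf ⟨6, 6, true, [10, 45, 39, 16, 36, 6], [30, 26, 30, 36, 8, 2], []⟩)))) (.node 4 (.node 2 (.node 1 (.leaf ⟨6, 6, true, [34, 18, 23, 41, 35], [45, 10, 28, 27, 15, 33], []⟩) (.leaf ⟨6, 6, true, [34, 29, 38, 28, 15, 8], [46, 2, 37, 38, 43, 25], []⟩)) (.node 1 (.leaf ⟨6, 6, true, [31, 0, 2, 21, 49, 24], [25,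 34, 17, 30, 18, 10], []⟩) (.leaf ⟨6, 6, true, [28, 10, 34, 26, 45], [8, 10, 42, 42, 12], []⟩))) (.node 2 (.node 1 (.leaf ⟨6, 6, true, [2, 38, 49, 41, 23, 8], [35, 12, 23, 30, 24, 24], []⟩) (.leaf ⟨6, 6, true, [29, 15, 45, 8, 34, 34], [33, 22, 20, 2, 38, 4], []⟩)) (.node 1 (.leaf ⟨6, 6, true, [39, 30, 16, 8, 10, 0], [41, 24, 30, 49, 27], []⟩) (.leaf ⟨6, 6, true, [23, 19, 35, 13, 14], [36, 20, 26, 34, 43, 2], []⟩)))))))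
noncomputable def dF1623 : BT Fct := (.node 30 (.node 15 (.node 7 (.node 3 (.node 1 (.leaf ⟨6, 6, true, [33, 45, 40, 23, 18, 10], [15, 40, 11, 20, 35, 2], []⟩) (.node 1 (.leaf ⟨6, 6, true, [10, 42, 19, 8, 22, 6], [28, 21, 23, 34, 40], []⟩) (.leaf ⟨6, 6, true, [2, 29, 2, 27, 4, 6], [46, 8, 24, 49, 47, 22], []⟩))) (.node 2 (.node 1 (.leaf ⟨6, 6, true, [27, 42, 45, 26, 46, 2], [15, 43, 48, 37, 26, 8], []⟩) (.leaf ⟨6, 6, true, [23, 36, 27, 19, 28], [28, 41, 28, 14, 28, 2], []⟩)) (.node 1 (.leaf ⟨6, 6, true, [8, 26, 32, 10, 22], [46, 42, 8, 45, 14, 0], []⟩) (.leaf ⟨6, 6, true, [18, 0, 39, 26, 12, 33], [23, 11, 0, 33, 27, 8], []⟩)))) (.node 4 (.node 2 (.node 1 (.leaf ⟨6, 6, true, [17, 32, 20, 27, 12, 4], [19, 6, 45, 24, 26, 11], []⟩) (.leaf ⟨6, 6, true, [46, 8, 37, 17, 34, 44], [36, 22, 49,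 27, 33, 6], []⟩)) (.node 1 (.leaf ⟨6, 6, true, [36, 32, 43, 33, 35, 2], [13, 8, 18, 39, 30, 18], []⟩) (.leaf ⟨6, 6, true, [26, 49, 21, 28, 2, 0], [36, 2, 49, 34, 18, 24], []⟩))) (.node 2 (.node 1 (.leaf ⟨6, 6, true, [33, 44, 14, 16, 31], [26, 13, 41, 38, 0, 38], []⟩) (.leaf ⟨6, 6, true, [18, 30, 15, 35, 17, 8], [12, 23, 6, 27, 33], []⟩)) (.node 1 (.leaf ⟨6, 6, true, [30, 21, 26, 19, 30, 0], [4, 31, 49, 44, 30, 2], []⟩) (.leaf ⟨6, 6, true, [22, 29, 17, 39, 41, 4], [15, 48, 12, 22, 38, 0], []⟩))))) (.node 7 (.node 3 (.node 1 (.leaf ⟨6, 5, true, [24, 24, 26, 39, 46, 6], [18, 6, 21, 24, 45, 4], []⟩) (.node 1 (.leaf ⟨5, 6, true, [37, 49, 35, 44, 35, 0], [41, 42, 26, 6, 47, 0], []⟩) (.leaf ⟨6, 6, true, [41, 17, 18, 42, 38, 8], [24, 36, 13, 10, 43, 8], []⟩))) (.node 2 (.node 1 (.leaf ⟨6, 6,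 true, [32, 37, 17, 12, 39, 2], [42, 37, 31, 44, 41, 6], []⟩) (.leaf ⟨6, 6, true, [41, 29, 44, 49, 12], [44, 28, 43, 29, 15, 8], []⟩)) (.node 1 (.leaf ⟨6, 6, true, [43, 23, 19, 20, 15], [37, 38, 32, 45, 14, 10], []⟩) (.leaf ⟨6, 6, true, [47, 37, 18, 0, 22, 8], [14, 8, 24, 19, 42], []⟩)))) (.node 4 (.node 2 (.node 1 (.leaf ⟨6, 6, true, [21, 48, 48, 22, 46, 4], [31, 13, 26, 43, 21, 0], []⟩) (.leaf ⟨6, 6, true, [18, 30, 30, 32, 48, 0], [36, 39, 18, 27, 22], []⟩)) (.node 1 (.leaf ⟨6, 6, true, [27, 0, 33, 28, 23, 39], [21, 21, 44, 47, 17, 10], []⟩) (.leaf ⟨6, 6, true, [2, 43, 14, 10, 10], [0, 44, 21, 4, 42, 4], []⟩))) (.node 2 (.node 1 (.leaf ⟨6, 6, true, [15, 36, 4, 40, 34, 4], [11, 11, 15, 0, 42, 2], []⟩) (.leaf ⟨6, 6, true, [21, 42, 46, 48, 30], [41, 34, 44, 38, 2], []⟩)) (.node 1 (.leaf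 ⟨6, 6, true, [18, 2, 36, 26, 35, 40], [39, 45, 32, 26, 46, 8], []⟩) (.leaf ⟨6, 6, true, [6, 42, 29, 32, 10, 6], [26, 8, 45, 24, 8, 11], []⟩)))))) (.node 15 (.node 7 (.node 3 (.node 1 (.leaf ⟨6, 6, true, [14, 4, 6, 31, 40, 43], [16, 23, 15, 38, 19, 6], []⟩) (.node 1 (.leaf ⟨5, 6, true, [45, 16, 6, 4, 48, 10], [34, 30, 48, 43, 13], []⟩) (.leaf ⟨6, 5, true, [18, 16, 21, 43, 27, 36], [29, 14, 16, 39, 29, 0], []⟩))) (.node 2 (.node 1 (.leaf ⟨6, 6, true, [38, 24, 34, 23, 31, 8], [10, 42, 46, 43, 12, 10], []⟩) (.leaf ⟨6, 6, true, [41, 6, 21, 16, 26, 4], [18, 29, 38, 2, 33, 4], []⟩)) (.node 1 (.leaf ⟨6, 6, true, [12, 48, 11, 38, 24], [48, 2, 34, 48, 31, 25], []⟩) (.leaf ⟨6, 6, true, [41, 43, 30, 24, 22, 6], [42, 48, 25, 13, 21, 0], []⟩)))) (.node 4 (.node 2 (.node 1 (.leaf ⟨6, 6, true, [29, 13,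 33, 8, 6, 4], [27, 6, 37, 38, 43, 39], []⟩) (.leaf ⟨6, 6, true, [42, 32, 0, 35, 16, 2], [34, 17, 49, 47, 13, 0], []⟩)) (.node 1 (.leaf ⟨6, 6, true, [32, 28, 0, 37, 37], [42, 8, 33, 45, 38, 14], []⟩) (.leaf ⟨6, 6, true, [18, 40, 36, 20, 6, 4], [14, 6, 14, 28, 2, 16], []⟩))) (.node 2 (.node 1 (.leaf ⟨6, 6, true, [38, 12, 32, 34, 36], [32, 28, 16, 31, 39, 4], []⟩) (.leaf ⟨6, 6, true, [34, 2, 15, 29, 29, 48], [31, 10, 36, 33, 25], []⟩)) (.node 1 (.leaf ⟨5, 6, true, [4, 14, 28, 38, 23, 2], [26, 14, 32, 42, 15, 10], []⟩) (.leaf ⟨6, 5, true, [10, 18, 44, 27, 12], [31, 8, 40, 42, 8, 22], []⟩))))) (.node 7 (.node 3 (.node 1 (.leaf ⟨6, 6, true, [8, 19, 37, 27, 28], [27, 11, 48, 39, 16, 0], []⟩) (.node 1 (.leaf ⟨6, 6, true, [23, 37, 20, 23, 47], [28, 45, 32, 25, 28, 0], []⟩) (.leaf ⟨6, 6, true,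 [39, 28, 6, 23, 25, 4], [32, 41, 35, 16, 29], []⟩))) (.node 2 (.node 1 (.leaf ⟨6, 6, true, [33, 2, 47, 34, 28], [28, 44, 23, 27, 17, 6], []⟩) (.leaf ⟨6, 6, true, [40, 0, 29, 49, 25, 45], [48, 21, 14, 32, 10], []⟩)) (.node 1 (.leaf ⟨6, 6, true, [2, 17, 39, 37, 32, 8], [28, 40, 20, 34, 28], []⟩) (.leaf ⟨6, 6, true, [35, 0, 13, 29, 39, 26], [17, 23, 37, 15, 21, 10], []⟩)))) (.node 4 (.node 2 (.node 1 (.leaf ⟨5, 6, true, [23, 28, 24, 49, 27], [8, 4, 44, 17, 36, 22], []⟩) (.leaf ⟨6, 5, true, [19, 44, 47, 49, 16, 8], [19, 17, 23, 41, 14, 8], []⟩)) (.node 1 (.leaf ⟨5, 6, true, [27, 23, 45, 22, 18, 0], [21, 18, 11, 8, 48, 2], []⟩) (.leaf ⟨6, 6, true, [21, 27, 48, 26, 41, 26], [24, 13, 27, 42, 44], []⟩))) (.node 2 (.node 1 (.leaf ⟨6, 6, true, [17, 8, 31, 24, 35, 19], [34, 19, 46, 45, 25, 27],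 []⟩) (.leaf ⟨6, 6, true, [29, 38, 21, 29, 18, 8], [43, 48, 20, 41, 13, 0], []⟩)) (.node 1 (.leaf ⟨6, 6, true, [21, 4, 37, 16, 34, 27], [24, 38, 43, 6, 38, 0], []⟩) (.leaf ⟨6, 6, true, [21, 42, 46, 29, 37], [32, 14, 44, 21, 10, 4], []⟩)))))))
noncomputable def dF1683 : BT Fct := (.node 30 (.node 15 (.node 7 (.node 3 (.node 1 (.leaf ⟨6, 6, true, [19, 37, 31, 4, 36], [47, 8, 27, 29, 0], []⟩) (.node 1 (.leaf ⟨6, 6, true, [21, 8, 29, 44, 14, 29], [35, 45, 43, 16, 10, 10], []⟩) (.leaf ⟨6, 6, true, [24, 20, 32, 4, 49, 8], [21, 33, 49, 46, 19], []⟩))) (.node 2 (.node 1 (.leaf ⟨6, 6, true, [37, 38, 15, 38, 42], [32, 11, 19, 15, 32, 40], []⟩) (.leaf ⟨6, 6, true, [39, 2, 41, 25, 14, 30], [38, 38, 49, 8, 30], []⟩)) (.node 1 (.leaf ⟨6, 6, true, [38, 4, 33, 15, 44, 34], [37, 4, 46, 18, 39, 37], []⟩)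 (.leaf ⟨6, 6, true, [38, 6, 35, 33], [14, 11, 45, 35, 15, 0], []⟩)))) (.node 4 (.node 2 (.node 1 (.leaf ⟨6, 6, true, [21, 24, 37, 12, 19, 8], [17, 19, 2, 4, 33], []⟩) (.leaf ⟨5, 6, true, [15, 26, 15, 10, 46, 4], [4, 43, 21, 22, 18, 6], []⟩)) (.node 1 (.leaf ⟨6, 6, true, [13, 2, 36, 33, 46, 32], [13, 46, 6, 44, 47], []⟩) (.leaf ⟨6, 6, true, [17, 32, 14, 6, 15, 10], [20, 2, 18, 28, 44, 21], []⟩))) (.node 2 (.node 1 (.leaf ⟨6, 6, true, [44, 6, 16, 47, 31, 12], [48, 12, 6, 29, 18], []⟩) (.leaf ⟨6, 6, true, [6, 25, 29, 15, 49], [34, 0, 40, 17, 25, 4], []⟩)) (.node 1 (.leaf ⟨6, 6, true, [42, 44, 29, 45, 18, 6], [6, 27, 17, 41, 32], []⟩) (.leaf ⟨6, 6, true, [27, 39, 11, 27, 40, 4], [28, 8, 47, 12, 30, 42], []⟩))))) (.node 7 (.node 3 (.node 1 (.leaf ⟨6, 6, true, [35, 10, 42, 13, 17, 48], [14,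 46, 19, 37, 47, 0], []⟩) (.node 1 (.leaf ⟨6, 6, true, [32, 6, 24, 29, 42, 44], [38, 21, 11, 23, 13, 6], []⟩) (.leaf ⟨6, 6, true, [4, 35, 10, 44, 26, 0], [30, 17, 30, 41, 12, 15], []⟩))) (.node 2 (.node 1 (.leaf ⟨6, 6, true, [36, 12, 26, 10, 41, 44], [4, 27, 45, 11, 34, 4], []⟩) (.leaf ⟨6, 6, true, [18, 28, 31, 6, 30, 2], [2, 16, 41, 24, 48, 37], []⟩)) (.node 1 (.leaf ⟨6, 6, true, [6, 15, 19, 41], [6, 24, 16, 37, 18, 2], []⟩) (.leaf ⟨6, 6, true, [39, 14, 18, 22, 18], [13, 33, 11, 25, 18], []⟩)))) (.node 4 (.node 2 (.node 1 (.leaf ⟨6, 6, true, [6, 25, 46, 24, 11, 6], [13, 19, 37, 21, 48], []⟩) (.leaf ⟨6, 6, true, [42, 46, 36, 26, 39, 6], [24, 2, 45, 43, 37, 14], []⟩)) (.node 1 (.leaf ⟨6, 6, true, [31, 10, 37, 43, 49, 46], [18, 33, 27, 39, 35, 4], []⟩) (.leaf ⟨6, 6, true, [33, 15, 26, 32,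 22, 20], [40, 8, 35, 16, 12, 43], []⟩))) (.node 2 (.node 1 (.leaf ⟨6, 6, true, [0, 8, 35, 43, 17], [21, 29, 6, 46, 31, 0], []⟩) (.leaf ⟨6, 6, true, [0, 37, 44, 48, 19, 4], [16, 4, 42, 34, 8, 0], []⟩)) (.node 1 (.leaf ⟨6, 6, true, [2, 11, 17, 24, 44, 2], [30, 21, 32, 37, 40, 2], []⟩) (.leaf ⟨6, 6, true, [23, 44, 17, 27, 2, 4], [8, 18, 40, 28, 17, 37], []⟩)))))) (.node 15 (.node 7 (.node 3 (.node 1 (.leaf ⟨6, 6, true, [34, 49, 12, 37, 35, 4], [19, 26, 16, 40, 29, 0], []⟩) (.node 1 (.leaf ⟨6, 6, true, [32, 30, 17, 44, 31], [30, 41, 11, 0, 48, 2], []⟩) (.leaf ⟨6, 6, true, [49, 15, 22, 44, 10, 25], [14, 19, 6, 36, 2, 0], []⟩))) (.node 2 (.node 1 (.leaf ⟨6, 6, true, [18, 25, 47, 29, 47, 2], [35, 29, 27, 12, 2], []⟩) (.leaf ⟨6, 6, true, [11, 35, 28, 10, 20, 6], [17, 21, 45, 24, 41, 4], []⟩))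 (.node 1 (.leaf ⟨6, 5, true, [27, 16, 26, 11, 47], [46, 14, 31, 45, 39, 8], []⟩) (.leaf ⟨5, 6, true, [41, 12, 22, 8, 4], [10, 8, 44, 11, 22], []⟩)))) (.node 4 (.node 2 (.node 1 (.leaf ⟨6, 6, true, [28, 27, 11, 46, 16, 2], [10, 21, 12, 37, 18, 0], []⟩) (.leaf ⟨6, 6, true, [36, 45, 4, 48, 43, 0], [35, 13, 21, 4, 44, 12], []⟩)) (.node 1 (.leaf ⟨6, 6, true, [16, 24, 23, 14, 46], [2, 4, 45, 14, 40, 6], []⟩) (.leaf ⟨6, 6, true, [6, 21, 19, 39, 13], [37, 31, 18, 15, 25], []⟩))) (.node 2 (.node 1 (.leaf ⟨5, 6, true, [29, 8, 24, 41, 23, 26], [41, 24, 35, 26, 25, 0], []⟩) (.leaf ⟨6, 5, true, [39, 40, 25, 43, 35], [31, 17, 15, 46, 42, 2], []⟩)) (.node 1 (.leaf ⟨6, 6, true, [36, 42, 22, 39, 31], [27, 37, 2, 46, 25, 6], []⟩) (.leaf ⟨6, 6, true, [8, 39, 41, 16, 33, 8], [42, 10, 48, 14, 19, 46], []⟩)))))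 (.node 7 (.node 3 (.node 1 (.leaf ⟨6, 6, true, [27, 13, 22, 33, 25, 12], [48, 2, 13, 48, 18, 37], []⟩) (.node 1 (.leaf ⟨6, 6, true, [36, 25, 27, 42, 13, 4], [11, 6, 34, 36, 41, 28], []⟩) (.leaf ⟨6, 6, true, [22, 48, 25, 26, 42, 4], [12, 0, 43, 26, 24, 37], []⟩))) (.node 2 (.node 1 (.leaf ⟨6, 6, true, [27, 4, 27, 39, 17, 33], [35, 28, 30, 14, 26, 2], []⟩) (.leaf ⟨6, 6, true, [6, 11, 30, 33, 37, 6], [44, 10, 40, 35, 15, 35], []⟩)) (.node 1 (.leaf ⟨6, 6, true, [0, 15, 38, 37, 22, 40], [33, 22, 28, 8, 32], []⟩) (.leaf ⟨6, 6, true, [4, 0, 45, 2, 37, 24], [24, 38, 4, 28, 33], []⟩)))) (.node 4 (.node 2 (.node 1 (.leaf ⟨6, 6, true, [39, 4, 38, 36, 43, 30], [16, 14, 49, 41, 8, 10], []⟩) (.leaf ⟨6, 6, true, [2, 26, 37, 0, 15, 2], [34, 14, 36, 34, 2, 26], []⟩)) (.node 1 (.leaf ⟨6, 6, true, [6, 38,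 20, 37, 27], [21, 15, 37, 21, 15, 8], []⟩) (.leaf ⟨6, 6, true, [10, 28, 47, 16, 10, 0], [22, 0, 41, 28, 23, 33], []⟩))) (.node 2 (.node 1 (.leaf ⟨6, 6, true, [36, 2, 35, 36, 21, 21], [31, 25, 36, 4, 44, 49], []⟩) (.leaf ⟨6, 6, true, [32, 13, 16, 38, 13, 0], [34, 34, 17, 32, 41], []⟩)) (.node 1 (.leaf ⟨6, 6, true, [41, 15, 46, 45, 49, 0], [13, 35, 0, 16, 41, 4], []⟩) (.leaf ⟨6, 6, true, [27, 41, 38, 8, 14], [13, 43, 22, 29, 13, 10], []⟩)))))))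
noncomputable def dF1743 : BT Fct := (.node 30 (.node 15 (.node 7 (.node 3 (.node 1 (.leaf ⟨6, 5, true, [2, 12, 26, 6, 28], [28, 2, 23, 11, 37, 18], []⟩) (.node 1 (.leaf ⟨5, 6, true, [33, 37, 44, 25, 33, 2], [2, 29, 48, 14, 11], []⟩) (.leaf ⟨6, 6, true, [39, 36, 48, 15, 41, 6], [13, 8, 30, 22, 39, 19], []⟩))) (.node 2 (.node 1 (.leaf ⟨6, 5, true, [31, 12, 37, 35, 21, 2], [37, 43, 38, 36, 49], []⟩) (.leaf ⟨5, 6, true, [4, 10, 42, 22, 26], [30, 16, 46, 8, 16], []⟩)) (.node 1 (.leaf ⟨6, 6, true, [32, 20, 31, 17, 11, 2], [12, 36, 4, 36, 35, 4], []⟩) (.leaf ⟨6, 6, true, [16, 31, 11, 21, 4], [18, 6, 44, 27, 21], []⟩)))) (.node 4 (.node 2 (.node 1 (.leaf ⟨6, 6, true, [6, 27, 37, 19, 33], [0, 20, 10, 30, 17], []⟩) (.leaf ⟨6, 6, true, [6, 41, 32, 36, 13, 4], [18, 38, 20, 35, 12, 4], []⟩)) (.node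 1 (.leaf ⟨6, 6, true, [46, 14, 45, 45, 15, 0], [0, 12, 37, 33, 40, 6], []⟩) (.leaf ⟨6, 6, true, [17, 34, 39, 35, 24, 0], [26, 2, 23, 49, 34, 43], []⟩))) (.node 2 (.node 1 (.leaf ⟨5, 6, true, [20, 45, 35, 12, 0], [29, 2, 6, 43, 34, 32], []⟩) (.leaf ⟨6, 5, true, [2, 12, 34, 17, 30, 6], [0, 47, 36, 27, 46], []⟩)) (.node 1 (.leaf ⟨5, 6, true, [11, 26, 40, 48, 43, 6], [26, 34, 31, 44, 19, 2], []⟩) (.leaf ⟨6, 5, true, [29, 15, 29, 49, 23, 2], [12, 20, 36, 11, 45, 6], []⟩))))) (.node 7 (.node 3 (.node 1 (.leaf ⟨6, 6, true, [49, 24, 18, 39, 19], [12, 25, 49, 35, 16, 4], []⟩) (.node 1 (.leaf ⟨6, 6, true, [30, 43, 36, 41, 8, 0], [26, 48, 36, 36, 31, 8], []⟩) (.leaf ⟨6, 6, true, [2, 35, 42, 49, 40, 8], [11, 16, 34, 36, 21, 45], []⟩))) (.node 2 (.node 1 (.leaf ⟨6, 6, true, [14, 12, 31, 44, 48, 10],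 [32, 44, 8, 29, 47, 4], []⟩) (.leaf ⟨6, 6, true, [44, 49, 46, 23, 16], [45, 32, 31, 16, 14], []⟩)) (.node 1 (.leaf ⟨6, 6, true, [6, 16, 34, 21, 8], [17, 0, 22, 47, 48, 45], []⟩) (.leaf ⟨6, 6, true, [46, 46, 40, 21, 19, 0], [0, 2, 48, 23, 33, 6], []⟩)))) (.node 4 (.node 2 (.node 1 (.leaf ⟨6, 6, true, [11, 2, 4, 31, 40, 30], [17, 48, 28, 24, 23, 10], []⟩) (.leaf ⟨5, 6, true, [29, 0, 2, 25, 10], [21, 42, 24, 14, 25, 4], []⟩)) (.node 1 (.leaf ⟨6, 5, true, [15, 0, 43, 20], [24, 48, 24, 11, 2], []⟩) (.leaf ⟨6, 6, true, [42, 2, 31, 35, 44, 36], [0, 18, 41, 33, 42, 4], []⟩))) (.node 2 (.node 1 (.leaf ⟨6, 6, true, [24, 19, 29, 10, 34, 10], [21, 36, 19, 40, 30, 10], []⟩) (.leaf ⟨6, 6, true, [13, 42, 15, 27, 34, 8], [28, 0, 26, 12, 31, 42], []⟩)) (.node 1 (.leaf ⟨6, 6, true, [0, 10, 19, 34, 13],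 [10, 23, 46, 43, 34, 8], []⟩) (.leaf ⟨6, 6, true, [26, 0, 8, 33, 11, 15], [37, 44, 30, 40, 33, 4], []⟩)))))) (.node 15 (.node 7 (.node 3 (.node 1 (.leaf ⟨6, 6, true, [15, 12, 17, 40, 48, 43], [33, 34, 18, 29, 2], []⟩) (.node 1 (.leaf ⟨6, 5, true, [37, 17, 2, 28, 45, 6], [6, 37, 32, 19, 47], []⟩) (.leaf ⟨5, 6, true, [42, 8, 18, 29, 14], [10, 46, 37, 19, 4, 0], []⟩))) (.node 2 (.node 1 (.leaf ⟨6, 6, true, [49, 26, 0, 45, 21, 6], [23, 23, 15, 19, 32], []⟩) (.leaf ⟨6, 6, true, [8, 33, 0, 24, 26], [14, 6, 38, 12, 25, 27], []⟩)) (.node 1 (.leaf ⟨5, 6, true, [17, 21, 42, 42, 34, 6], [24, 11, 38, 26, 29], []⟩) (.leaf ⟨6, 5, true, [31, 34, 48, 37, 23, 10], [11, 15, 19, 32, 49, 44], []⟩)))) (.node 4 (.node 2 (.node 1 (.leaf ⟨6, 6, true, [16, 18, 44, 32, 14, 6], [2, 4, 35, 39, 47, 6], []⟩) (.leaf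 ⟨6, 6, true, [8, 29, 17, 31, 25, 4], [41, 29, 16, 10, 33], []⟩)) (.node 1 (.leaf ⟨5, 6, true, [37, 39, 11, 38, 19, 8], [41, 47, 34, 29, 33, 10], []⟩) (.leaf ⟨6, 5, true, [19, 32, 17, 20, 40, 2], [16, 28, 47, 18, 42], []⟩))) (.node 2 (.node 1 (.leaf ⟨6, 6, true, [11, 20, 46, 22, 48, 8], [44, 38, 18, 18, 13], []⟩) (.leaf ⟨6, 6, true, [8, 17, 44, 8, 21], [44, 30, 25, 18, 27, 2], []⟩)) (.node 1 (.leaf ⟨6, 6, true, [15, 23, 41, 18, 6, 2], [12, 24, 47, 29, 14, 0], []⟩) (.leaf ⟨6, 6, true, [19, 24, 41, 2, 45, 8], [40, 39, 17, 28, 17, 10], []⟩))))) (.node 7 (.node 3 (.node 1 (.leaf ⟨6, 6, true, [8, 15, 47, 48, 48, 0], [41, 26, 11, 4, 34, 0], []⟩) (.node 1 (.leaf ⟨6, 6, true, [37, 4, 39, 45, 25, 11], [34, 23, 36, 47, 6], []⟩) (.leaf ⟨6, 6, true, [29, 41, 36, 18, 24, 4], [22, 0, 34, 30, 26, 45],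 []⟩))) (.node 2 (.node 1 (.leaf ⟨6, 6, true, [48, 30, 12, 25, 35, 0], [16, 33, 42, 6, 48, 4], []⟩) (.leaf ⟨6, 6, true, [44, 27, 21, 17, 40, 8], [14, 4, 29, 45, 16, 14], []⟩)) (.node 1 (.leaf ⟨6, 6, true, [6, 47, 10, 45, 0, 2], [11, 15, 46, 46, 40, 2], []⟩) (.leaf ⟨6, 6, true, [0, 34, 49, 40, 30, 10], [6, 33, 35, 22, 49, 4], []⟩)))) (.node 4 (.node 2 (.node 1 (.leaf ⟨6, 6, true, [17, 26, 20, 38, 21, 6], [23, 20, 26, 30, 42, 2], []⟩) (.leaf ⟨6, 6, true, [2, 32, 22, 49, 8, 10], [30, 41, 17, 6, 35], []⟩)) (.node 1 (.leaf ⟨6, 6, true, [38, 0, 34, 27, 40, 44], [23, 41, 35, 22, 38, 6], []⟩) (.leaf ⟨6, 6, true, [39, 18, 34, 29, 33, 6], [35, 8, 4, 49, 27, 10], []⟩))) (.node 2 (.node 1 (.leaf ⟨6, 5, true, [39, 15, 26, 25, 41, 35], [24, 49, 6, 47, 8], []⟩) (.leaf ⟨5, 6, true, [17, 0, 6, 21, 12,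 34], [6, 27, 46, 43, 46, 2], []⟩)) (.node 1 (.leaf ⟨6, 6, true, [4, 22, 47, 34, 33, 6], [22, 21, 36, 46, 21, 31], []⟩) (.leaf ⟨6, 6, true, [32, 2, 25, 30, 38, 2], [4, 12, 35, 25, 25, 8], []⟩)))))))
noncomputable def dF1803 : BT Fct := (.node 30 (.node 15 (.node 7 (.node 3 (.node 1 (.leaf ⟨6, 6, true, [13, 20, 34, 14, 17, 4], [2, 39, 31, 24, 33], []⟩) (.node 1 (.leaf ⟨6, 6, true, [32, 26, 19, 14, 44, 8], [15, 32, 36, 44, 24, 10], []⟩) (.leaf ⟨5, 6, true, [43, 2, 47, 36, 10, 47], [39, 43, 44, 31, 19, 0], []⟩))) (.node 2 (.node 1 (.leaf ⟨6, 5, true, [41, 11, 45, 27, 39, 45], [11, 23, 33, 24, 36, 4], []⟩) (.leaf ⟨5, 6, true, [0, 29, 38, 2, 21, 4], [34, 12, 26, 36, 8, 2], []⟩)) (.node 1 (.leaf ⟨6, 5, true, [14, 22, 36, 28, 24, 6], [0, 20, 2, 39, 28, 0], []⟩) (.leaf ⟨6, 6, true, [43, 43, 37,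 25], [0, 38, 33, 8, 39], []⟩)))) (.node 4 (.node 2 (.node 1 (.leaf ⟨6, 6, true, [0, 29, 30, 44, 28], [24, 4, 36, 42, 42], []⟩) (.leaf ⟨6, 6, true, [17, 19, 6, 43, 29, 10], [24, 2, 10, 49, 38, 29], []⟩)) (.node 1 (.leaf ⟨6, 6, true, [43, 10, 49, 11, 6], [46, 43, 27, 30, 40, 0], []⟩) (.leaf ⟨6, 6, true, [43, 43, 48, 28, 18], [37, 8, 24, 49, 33, 40], []⟩))) (.node 2 (.node 1 (.leaf ⟨6, 6, true, [46, 34, 25, 40, 29, 0], [10, 35, 24, 8, 43], []⟩) (.leaf ⟨6, 6, true, [12, 18, 39, 23, 19, 4], [30, 11, 22, 4, 30, 2], []⟩)) (.node 1 (.leaf ⟨6, 6, true, [23, 20, 6, 46, 20], [21, 41, 46, 21, 4, 49], []⟩) (.leaf ⟨6, 6, true, [29, 4, 30, 44, 15, 15], [16, 13, 18, 34, 34, 8], []⟩))))) (.node 7 (.node 3 (.node 1 (.leaf ⟨6, 6, true, [29, 18, 22, 33, 48, 8], [29, 48, 31, 13, 40, 0], []⟩) (.node 1 (.leaf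 ⟨6, 6, true, [30, 27, 11, 15, 45, 2], [27, 23, 41, 10, 42, 4], []⟩) (.leaf ⟨6, 6, true, [2, 36, 33, 45, 14, 8], [27, 27, 11, 2, 37], []⟩))) (.node 2 (.node 1 (.leaf ⟨6, 6, true, [11, 12, 42, 28, 11, 30], [45, 47, 14, 36, 31], []⟩) (.leaf ⟨6, 6, true, [20, 35, 13, 25, 27, 0], [31, 8, 30, 36, 44, 13], []⟩)) (.node 1 (.leaf ⟨5, 6, true, [49, 4, 40, 23, 19, 13], [47, 13, 19, 15, 37, 8], []⟩) (.leaf ⟨6, 5, true, [17, 35, 16, 48, 36, 29], [11, 26, 15, 2, 26, 6], []⟩)))) (.node 4 (.node 2 (.node 1 (.leaf ⟨6, 5, true, [24, 41, 23, 48, 29], [39, 4, 48, 11, 38, 2], []⟩) (.leaf ⟨5, 6, true, [30, 4, 36, 12, 39, 40], [0, 42, 42, 39, 37, 4], []⟩)) (.node 1 (.leaf ⟨6, 6, true, [4, 34, 48, 26, 32, 10], [29, 36, 35, 31, 45], []⟩) (.leaf ⟨6, 6, true, [31, 12, 10, 33, 14, 29], [6, 32, 34, 11, 45, 6], []⟩)))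 (.node 2 (.node 1 (.leaf ⟨6, 6, true, [48, 20, 30, 47, 35, 6], [17, 2, 25, 21, 30, 24], []⟩) (.leaf ⟨6, 6, true, [46, 30, 28, 32, 14], [43, 35, 12, 22, 48, 0], []⟩)) (.node 1 (.leaf ⟨6, 6, true, [19, 10, 25, 40, 49, 30], [38, 16, 6, 22, 45], []⟩) (.leaf ⟨6, 6, true, [29, 20, 26, 38, 14], [12, 38, 15, 40, 33], []⟩)))))) (.node 15 (.node 7 (.node 3 (.node 1 (.leaf ⟨6, 6, true, [26, 14, 36, 21, 15, 8], [44, 29, 39, 19, 28], []⟩) (.node 1 (.leaf ⟨6, 6, true, [2, 32, 15, 27, 47], [13, 24, 34, 10, 34, 6], []⟩) (.leaf ⟨6, 6, true, [17, 2, 4, 25, 10, 39], [45, 49, 33, 35, 26, 8], []⟩))) (.node 2 (.node 1 (.leaf ⟨6, 6, true, [18, 33, 44, 38, 16, 10], [49, 6, 36, 41, 29, 27], []⟩) (.leaf ⟨6, 6, true, [27, 27, 33, 4, 41, 2], [29, 42, 6, 28, 24], []⟩)) (.node 1 (.leaf ⟨6, 6, true, [6, 37, 46, 15,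 11, 2], [45, 10, 32, 20, 17, 0], []⟩) (.leaf ⟨6, 6, true, [23, 37, 25, 29, 38, 8], [4, 36, 27, 29, 17], []⟩)))) (.node 4 (.node 2 (.node 1 (.leaf ⟨6, 6, true, [0, 28, 25, 15, 37, 4], [40, 33, 17, 32, 20], []⟩) (.leaf ⟨5, 6, true, [6, 13, 22, 35, 29, 6], [29, 23, 34, 24, 20], []⟩)) (.node 1 (.leaf ⟨6, 5, true, [42, 27, 13, 15, 45, 0], [43, 45, 19, 19, 40], []⟩) (.leaf ⟨6, 6, true, [41, 19, 13, 11, 22, 39], [46, 35, 21, 32, 0], []⟩))) (.node 2 (.node 1 (.leaf ⟨6, 6, true, [31, 24, 39, 32, 13], [6, 32, 34, 27, 4, 6], []⟩) (.leaf ⟨6, 6, true, [49, 8, 15, 43, 35], [35, 20, 36, 29, 44, 8], []⟩)) (.node 1 (.leaf ⟨5, 6, true, [4, 31, 27, 15, 28], [17, 46, 10, 16, 38, 8], []⟩) (.leaf ⟨6, 5, true, [48, 8, 32, 41, 4, 39], [18, 24, 16, 25, 30, 4], []⟩))))) (.node 7 (.node 3 (.node 1 (.leaf ⟨6, 6,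 true, [27, 34, 0, 38, 2], [33, 0, 8, 15, 38, 36], []⟩) (.node 1 (.leaf ⟨6, 6, true, [32, 13, 41, 42, 28, 49], [30, 14, 8, 46, 38], []⟩) (.leaf ⟨6, 6, true, [29, 4, 44, 14, 26, 4], [17, 14, 32, 10, 22, 17], []⟩))) (.node 2 (.node 1 (.leaf ⟨6, 6, true, [45, 2, 39, 35, 11, 8], [39, 48, 6, 35, 29, 0], []⟩) (.leaf ⟨6, 6, true, [11, 31, 35, 29, 19], [28, 4, 43, 48, 35, 35], []⟩)) (.node 1 (.leaf ⟨6, 6, true, [47, 10, 48, 47, 18, 11], [18, 28, 4, 34, 30, 10], []⟩) (.leaf ⟨6, 6, true, [28, 28, 11, 32, 21], [11, 11, 36, 26, 34, 6], []⟩)))) (.node 4 (.node 2 (.node 1 (.leaf ⟨6, 6, true, [46, 11, 6, 20, 31], [28, 31, 47, 18, 41, 0], []⟩) (.leaf ⟨6, 6, true, [22, 22, 33, 24, 39, 6], [4, 41, 11, 33, 10, 8], []⟩)) (.node 1 (.leaf ⟨6, 6, true, [37, 10, 20, 26, 21], [12, 42, 45, 28], []⟩) (.leaf ⟨6,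 6, true, [6, 22, 35, 19, 42, 2], [47, 19, 8, 19, 46, 2], []⟩))) (.node 2 (.node 1 (.leaf ⟨6, 6, true, [13, 25, 18, 2, 33, 2], [34, 22, 43, 10, 17, 35], []⟩) (.leaf ⟨6, 6, true, [22, 30, 10, 40, 46], [16, 10, 22, 32, 31, 0], []⟩)) (.node 1 (.leaf ⟨6, 6, true, [25, 44, 27, 10, 19], [24, 29, 37, 34, 2, 0], []⟩) (.leaf ⟨3, 6, true, [48, 29, 0, 34, 43, 2], [22, 6, 40, 26, 38, 23], []⟩)))))))
noncomputable def dF1863 : BT Fct := (.node 30 (.node 15 (.node 7 (.node 3 (.node 1 (.leaf ⟨6, 3, true, [38, 8, 32, 40, 19, 2], [12, 34, 26, 2, 28, 0], []⟩) (.node 1 (.leaf ⟨6, 6, true, [31, 49, 36, 31, 49, 8], [11, 38, 24, 23, 4], []⟩) (.leaf ⟨6, 6, true, [25, 16, 13, 48, 42, 2], [2, 4, 36, 26, 36, 19], []⟩))) (.node 2 (.node 1 (.leaf ⟨5, 6, true, [2, 35, 8, 47, 43], [18, 22, 20, 45, 32, 10], []⟩) (.leaf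 ⟨6, 6, true, [31, 40, 48, 46, 30, 6], [11, 13, 31, 27, 42, 8], []⟩)) (.node 1 (.leaf ⟨6, 6, true, [35, 6, 26, 47, 11, 8], [29, 31, 28, 19, 29, 8], []⟩) (.leaf ⟨6, 6, true, [11, 38, 2, 29, 20], [44, 2, 47, 19, 6, 39], []⟩)))) (.node 4 (.node 2 (.node 1 (.leaf ⟨6, 6, true, [33, 36, 43, 45, 39], [24, 40, 27, 35, 39, 8], []⟩) (.leaf ⟨6, 6, true, [0, 38, 23, 18, 29, 0], [6, 10, 12, 34, 27], []⟩)) (.node 1 (.leaf ⟨5, 6, true, [12, 37, 28, 26, 26, 10], [30, 18, 35, 22, 13], []⟩) (.leaf ⟨6, 5, true, [18, 13, 43, 47, 25, 16], [19, 29, 29, 33, 12], []⟩))) (.node 2 (.node 1 (.leaf ⟨5, 6, true, [14, 32, 21, 24, 41, 0], [47, 13, 27, 28, 2, 36], []⟩) (.leaf ⟨6, 5, true, [37, 26, 38, 24, 41], [40, 25, 20, 33, 15, 2], []⟩)) (.node 1 (.leaf ⟨5, 6, true, [0, 37, 21, 15, 24], [17, 41, 0, 38, 36, 10], []⟩)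 (.leaf ⟨6, 5, true, [32, 14, 6, 14, 2], [15, 24, 20, 36, 0], []⟩))))) (.node 7 (.node 3 (.node 1 (.leaf ⟨6, 6, true, [49, 4, 19, 41, 15, 18], [19, 26, 47, 20, 23], []⟩) (.node 1 (.leaf ⟨6, 6, true, [20, 14, 14, 46, 27, 18], [35, 18, 36, 36, 13, 4], []⟩) (.leaf ⟨6, 6, true, [8, 40, 45, 28, 27, 4], [43, 49, 43, 22, 32, 4], []⟩))) (.node 2 (.node 1 (.leaf ⟨6, 6, true, [24, 43, 6, 2, 22, 4], [0, 26, 29, 44, 41, 8], []⟩) (.leaf ⟨6, 6, true, [16, 48, 35, 20, 10], [29, 47, 20, 42, 47, 2], []⟩)) (.node 1 (.leaf ⟨6, 6, true, [26, 10, 24, 49, 40, 33], [2, 29, 42, 19, 44, 4], []⟩) (.leaf ⟨5, 6, true, [27, 21, 43, 46, 35, 26], [17, 6, 36, 25, 41, 4], []⟩)))) (.node 4 (.node 2 (.node 1 (.leaf ⟨6, 5, true, [12, 38, 32, 40, 16, 0], [2, 27, 32, 26, 25, 16], []⟩) (.leaf ⟨6, 6, true, [36, 33, 49, 4, 47,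 0], [11, 4, 29, 46, 14, 19], []⟩)) (.node 1 (.leaf ⟨6, 6, true, [25, 13, 43, 47, 23, 18], [33, 15, 18, 48, 22, 30], []⟩) (.leaf ⟨6, 6, true, [45, 10, 12, 19, 32, 26], [14, 38, 33, 14, 47], []⟩))) (.node 2 (.node 1 (.leaf ⟨6, 6, true, [47, 37, 42, 6, 30], [2, 0, 19, 41, 8, 42], []⟩) (.leaf ⟨6, 6, true, [18, 12, 32, 2, 23, 2], [8, 11, 24, 31, 37, 8], []⟩)) (.node 1 (.leaf ⟨6, 6, true, [19, 16, 8, 33, 40, 37], [14, 32, 28, 15, 49, 8], []⟩) (.leaf ⟨6, 6, true, [2, 48, 15, 16, 15, 2], [33, 10, 16, 40, 8, 48], []⟩)))))) (.node 15 (.node 7 (.node 3 (.node 1 (.leaf ⟨6, 6, true, [12, 35, 44, 19, 21], [18, 47, 6, 19, 22, 2], []⟩) (.node 1 (.leaf ⟨6, 6, true, [47, 14, 23, 43, 43, 29], [4, 22, 10, 48, 10, 0], []⟩) (.leaf ⟨6, 5, true, [13, 0, 35, 36, 6, 24], [8, 28, 12, 10, 46], []⟩))) (.node 2 (.node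 1 (.leaf ⟨5, 6, true, [13, 10, 33, 27, 23, 8], [25, 36, 42, 11, 2], []⟩) (.leaf ⟨6, 3, true, [2, 49, 32, 6, 46, 6], [41, 13, 44, 11, 8], []⟩)) (.node 1 (.leaf ⟨3, 6, true, [6, 48, 13, 45, 12, 6], [6, 35, 35, 8, 20, 10], []⟩) (.leaf ⟨6, 6, true, [38, 4, 20, 42, 34, 29], [17, 0, 2, 39, 13, 33], []⟩)))) (.node 4 (.node 2 (.node 1 (.leaf ⟨6, 6, true, [30, 38, 2, 42, 13, 2], [17, 10, 31, 31, 44, 35], []⟩) (.leaf ⟨6, 6, true, [48, 25, 2, 25, 26], [38, 37, 27, 33, 30, 10], []⟩)) (.node 1 (.leaf ⟨6, 6, true, [29, 35, 48, 33, 20, 6], [22, 36, 44, 8, 25, 10], []⟩) (.leaf ⟨6, 6, true, [46, 16, 33, 35, 31, 16], [45, 47, 21, 12, 33], []⟩))) (.node 2 (.node 1 (.leaf ⟨6, 6, true, [22, 16, 10, 43, 28, 8], [48, 2, 43, 48, 0, 36], []⟩) (.leaf ⟨5, 6, true, [35, 47, 40, 42, 11], [22, 39, 37, 15, 39, 4],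 []⟩)) (.node 1 (.leaf ⟨6, 5, true, [25, 40, 43, 46, 37, 2], [23, 11, 37, 23, 17, 29], []⟩) (.leaf ⟨6, 6, true, [32, 20, 18, 34, 44, 43], [8, 11, 31, 49, 33, 45], []⟩))))) (.node 8 (.node 4 (.node 2 (.node 1 (.leaf ⟨6, 6, true, [39, 13, 41, 17, 6, 4], [6, 17, 36, 49, 38, 0], []⟩) (.leaf ⟨6, 6, true, [47, 44, 36, 13, 29, 4], [48, 39, 41, 31, 12], []⟩)) (.node 1 (.leaf ⟨6, 6, true, [17, 6, 20, 33, 31], [32, 47, 15, 48, 11, 0], []⟩) (.leaf ⟨3, 6, true, [37, 14, 46, 4, 35, 4], [11, 35, 36, 41, 2, 4], []⟩))) (.node 2 (.node 1 (.leaf ⟨6, 3, true, [0, 22, 43, 27, 4, 6], [35, 30, 40, 27, 24, 2], []⟩) (.leaf ⟨6, 6, true, [22, 32, 45, 26, 37, 4], [44, 21, 36, 23], []⟩)) (.node 1 (.leaf ⟨6, 6, true, [2, 40, 17, 0, 47], [29, 10, 18, 36, 38, 21], []⟩) (.leaf ⟨6, 6, true, [48, 24, 16, 43, 49, 2], [10,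 8, 49, 23, 28, 41], []⟩)))) (.node 4 (.node 2 (.node 1 (.leaf ⟨6, 6, true, [21, 40, 11, 18, 40, 8], [49, 15, 23, 47, 29, 23], []⟩) (.leaf ⟨6, 6, true, [48, 40, 33, 43, 26, 8], [26, 38, 18, 11, 42, 4], []⟩)) (.node 1 (.leaf ⟨6, 6, true, [25, 37, 15, 41, 16, 0], [48, 22, 6, 27, 24, 4], []⟩) (.leaf ⟨6, 6, true, [22, 34, 43, 27, 36, 6], [26, 23, 13, 10, 45], []⟩))) (.node 2 (.node 1 (.leaf ⟨6, 6, true, [41, 20, 28, 30, 30, 10], [42, 24, 22, 34, 41, 6], []⟩) (.leaf ⟨6, 6, true, [11, 44, 43, 30, 47, 8], [42, 15, 22, 12, 43, 27], []⟩)) (.node 1 (.leaf ⟨6, 6, true, [24, 36, 16, 33, 40, 8], [28, 30, 12, 4, 17, 10], []⟩) (.leaf ⟨6, 6, true, [15, 13, 33, 27, 44, 35], [45, 12, 36, 40, 43, 39], []⟩)))))))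
noncomputable def dF1924 : BT Fct := (.node 30 (.node 15 (.node 7 (.node 3 (.node 1 (.leaf ⟨6, 6, true, [15, 19, 41, 21, 17, 8], [33, 18, 15, 32, 28], []⟩) (.node 1 (.leaf ⟨6, 6, true, [35, 15, 11, 25, 10, 43], [38, 23, 27, 22], []⟩) (.leaf ⟨6, 6, true, [20, 14, 27, 20, 39], [32, 8, 36, 23, 13, 39], []⟩))) (.node 2 (.node 1 (.leaf ⟨6, 6, true, [11, 49, 24, 14, 30, 10], [31, 13, 33, 11, 26, 6], []⟩) (.leaf ⟨6, 6, true, [10, 2, 47, 40, 31, 21], [28, 4, 10, 31, 34, 26], []⟩)) (.node 1 (.leaf ⟨6, 6, true, [47, 10, 38, 48, 34, 29], [44, 20, 30, 38, 11], []⟩) (.leaf ⟨6, 6, true, [30, 17, 19, 45, 11], [17, 32, 29, 46, 44, 0], []⟩)))) (.node 4 (.node 2 (.node 1 (.leaf ⟨6, 6, true, [21, 14, 10, 16, 37], [4, 41, 23, 49, 49, 4], []⟩) (.leaf ⟨6, 6, true, [26, 20, 36, 40, 8, 2], [36, 27, 18, 13, 10],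 []⟩)) (.node 1 (.leaf ⟨6, 6, true, [8, 37, 15, 30, 49], [2, 31, 25, 42, 41, 35], []⟩) (.leaf ⟨6, 6, true, [0, 2, 24, 49, 38, 4], [33, 19, 10, 8, 10], []⟩))) (.node 2 (.node 1 (.leaf ⟨6, 6, true, [39, 16, 27, 48, 8, 10], [6, 33, 20, 28, 11], []⟩) (.leaf ⟨6, 6, true, [10, 12, 22, 32], [47, 16, 31, 14, 2, 20], []⟩)) (.node 1 (.leaf ⟨6, 6, true, [4, 27, 14, 18, 31], [41, 2, 26, 38, 33, 40], []⟩) (.leaf ⟨6, 6, true, [20, 42, 34, 24, 8, 4], [49, 28, 39, 33, 45], []⟩))))) (.node 7 (.node 3 (.node 1 (.leaf ⟨6, 6, true, [44, 4, 40, 10, 16, 24], [13, 49, 2, 43, 26, 4], []⟩) (.node 1 (.leaf ⟨6, 6, true, [16, 21, 35, 35, 22], [32, 48, 41, 33, 42, 8], []⟩) (.leaf ⟨6, 6, true, [43, 2, 0, 40, 8, 17], [40, 48, 10, 37, 23], []⟩))) (.node 2 (.node 1 (.leaf ⟨6, 6, true, [19, 2, 25, 21, 40, 46], [39, 8,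 44, 32, 34], []⟩) (.leaf ⟨6, 6, true, [6, 18, 31, 25, 33, 10], [20, 44, 49, 6, 31, 4], []⟩)) (.node 1 (.leaf ⟨6, 6, true, [25, 17, 40, 30, 12, 49], [30, 12, 44, 23, 31, 34], []⟩) (.leaf ⟨6, 6, true, [19, 15, 48, 39, 44, 23], [48, 6, 25, 43, 0, 49], []⟩)))) (.node 4 (.node 2 (.node 1 (.leaf ⟨6, 6, true, [11, 34, 40, 39, 15], [25, 16, 27, 33, 13, 0], []⟩) (.leaf ⟨6, 6, true, [37, 29, 29, 33, 36], [28, 36, 35, 21, 8, 4], []⟩)) (.node 1 (.leaf ⟨6, 6, true, [11, 41, 35, 22, 46, 4], [4, 37, 32, 19, 44, 6], []⟩) (.leaf ⟨6, 6, true, [29, 8, 15, 36, 45, 39], [49, 28, 43, 15, 25, 4], []⟩))) (.node 2 (.node 1 (.leaf ⟨6, 6, true, [12, 40, 36, 31, 36], [25, 10, 41, 22, 0, 15], []⟩) (.leaf ⟨5, 6, true, [13, 47, 38, 49, 0, 2], [4, 40, 28, 0, 16, 6], []⟩)) (.node 1 (.leaf ⟨6, 5, true, [2, 21, 40, 24,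 41, 6], [33, 2, 25, 34, 46, 13], []⟩) (.leaf ⟨6, 6, true, [18, 17, 48, 48, 36, 0], [39, 2, 33, 33, 45, 16], []⟩)))))) (.node 15 (.node 7 (.node 3 (.node 1 (.leaf ⟨6, 6, true, [49, 13, 10, 31, 44, 36], [21, 15, 33, 46, 18, 4], []⟩) (.node 1 (.leaf ⟨6, 6, true, [4, 45, 2, 40, 32, 10], [29, 40, 38, 18, 33], []⟩) (.leaf ⟨6, 6, true, [19, 2, 11, 21, 39, 30], [49, 17, 44, 17, 8, 21], []⟩))) (.node 2 (.node 1 (.leaf ⟨6, 6, true, [24, 21, 39, 36, 0], [18, 36, 11, 13, 16, 10], []⟩) (.leaf ⟨6, 6, true, [43, 12, 49, 35, 47, 44], [4, 37, 38, 20, 25], []⟩)) (.node 1 (.leaf ⟨6, 6, true, [13, 21, 21, 40, 38, 25], [38, 4, 10, 8, 36, 17], []⟩) (.leaf ⟨6, 6, true, [2, 0, 15, 13, 49, 2], [17, 13, 49, 32, 13, 24], []⟩)))) (.node 4 (.node 2 (.node 1 (.leaf ⟨6, 6, true, [8, 11, 23, 31, 22, 4], [48, 40, 13,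 31, 10, 0], []⟩) (.leaf ⟨6, 6, true, [28, 34, 43, 21, 15, 8], [0, 23, 30, 22, 10, 8], []⟩)) (.node 1 (.leaf ⟨6, 6, true, [4, 41, 37, 26, 38, 4], [24, 23, 32, 26], []⟩) (.leaf ⟨6, 6, true, [48, 13, 41, 46], [40, 43, 48, 23, 45, 4], []⟩))) (.node 2 (.node 1 (.leaf ⟨6, 6, true, [11, 28, 47, 34, 6], [15, 41, 11, 22, 48, 2], []⟩) (.leaf ⟨6, 6, true, [30, 6, 22, 11, 28, 14], [12, 46, 49, 19, 23, 0], []⟩)) (.node 1 (.leaf ⟨6, 6, true, [21, 24, 2, 43, 8, 10], [42, 13, 49, 31, 21, 10], []⟩) (.leaf ⟨6, 6, true, [21, 19, 47, 24, 45, 6], [34, 12, 24, 16, 34, 10], []⟩))))) (.node 7 (.node 3 (.node 1 (.leaf ⟨6, 6, true, [48, 10, 48, 44, 25, 48], [16, 0, 40, 20, 12, 39], []⟩) (.node 1 (.leaf ⟨6, 6, true, [17, 36, 45, 24, 44], [42, 22, 21, 39, 19, 6], []⟩) (.leaf ⟨6, 6, true, [33, 11, 15, 6, 25, 11],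 [40, 4, 42, 2, 39, 6], []⟩))) (.node 2 (.node 1 (.leaf ⟨6, 6, true, [6, 0, 39, 40, 35, 47], [12, 30, 17, 49, 39, 2], []⟩) (.leaf ⟨6, 6, true, [26, 24, 27, 2, 30, 2], [21, 26, 31, 22, 37], []⟩)) (.node 1 (.leaf ⟨6, 6, true, [22, 19, 49, 29, 12, 10], [35, 2, 6, 47, 29, 24], []⟩) (.leaf ⟨6, 6, true, [0, 2, 43, 31, 20], [38, 43, 24, 11, 16, 4], []⟩)))) (.node 4 (.node 2 (.node 1 (.leaf ⟨6, 6, true, [6, 45, 23, 26, 10, 10], [21, 4, 30, 42, 2, 0], []⟩) (.leaf ⟨6, 6, true, [33, 33, 47, 31, 36], [12, 31, 40, 29, 36, 0], []⟩)) (.node 1 (.leaf ⟨6, 6, true, [30, 42, 29, 42, 14], [10, 27, 39, 14, 49, 4], []⟩) (.leaf ⟨6, 6, true, [28, 41, 47, 27, 13], [23, 6, 41, 47, 33, 14], []⟩))) (.node 2 (.node 1 (.leaf ⟨6, 6, true, [18, 43, 27, 22, 25, 8], [43, 0, 47, 26, 17, 11], []⟩) (.leaf ⟨6, 6, true, [21,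 43, 39, 45, 45, 0], [47, 13, 34, 13, 44], []⟩)) (.node 1 (.leaf ⟨6, 6, true, [11, 0, 35, 22, 27, 30], [40, 33, 48, 11, 33, 2], []⟩) (.leaf ⟨6, 6, true, [34, 41, 26, 34, 47], [48, 15, 24, 41, 0], []⟩)))))))
noncomputable def dF1984 : BT Fct := (.node 30 (.node 15 (.node 7 (.node 3 (.node 1 (.leaf ⟨6, 6, true, [15, 10, 39, 30, 21, 8], [6, 14, 11, 47, 11, 6], []⟩) (.node 1 (.leaf ⟨6, 6, true, [13, 0, 44, 23, 43, 44], [10, 0, 31, 18, 6, 24], []⟩) (.leaf ⟨6, 6, true, [42, 18, 10, 14, 41], [12, 24, 42, 26, 48, 2], []⟩))) (.node 2 (.node 1 (.leaf ⟨6, 6, true, [8, 15, 26, 39, 26, 10], [27, 25, 6, 41, 2], []⟩) (.leaf ⟨6, 6, true, [16, 31, 26, 21, 13, 10], [36, 34, 27, 4, 25, 10], []⟩)) (.node 1 (.leaf ⟨6, 6, true, [16, 39, 8, 25, 31, 2], [49, 21, 25, 44, 2], []⟩) (.leaf ⟨6, 3, true, [42, 11, 13,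 40, 8, 23], [34, 2, 32, 31, 42, 16], []⟩)))) (.node 4 (.node 2 (.node 1 (.leaf ⟨3, 6, true, [10, 17, 6, 36, 30, 6], [42, 28, 17, 45, 2, 0], []⟩) (.leaf ⟨6, 6, true, [11, 49, 29, 41, 38, 6], [40, 6, 25, 43, 14, 16], []⟩)) (.node 1 (.leaf ⟨6, 6, true, [31, 20, 39, 30, 28, 2], [19, 45, 10, 44, 39], []⟩) (.leaf ⟨6, 6, true, [11, 35, 40, 26, 16, 10], [10, 8, 45, 25, 41, 36], []⟩))) (.node 2 (.node 1 (.leaf ⟨6, 6, true, [22, 2, 17, 23, 12, 32], [13, 49, 30, 10, 6, 4], []⟩) (.leaf ⟨6, 6, true, [23, 11, 13, 31, 28, 6], [32, 38, 13, 32, 16, 8], []⟩)) (.node 1 (.leaf ⟨6, 6, true, [8, 11, 44, 46, 31, 29], [20, 10, 14, 45, 19, 2], []⟩) (.leaf ⟨6, 5, true, [17, 11, 21, 32, 28, 8], [2, 45, 42, 31, 49, 6], []⟩))))) (.node 7 (.node 3 (.node 1 (.leaf ⟨5, 6, true, [6, 24, 16, 32, 31, 8], [47, 0, 46, 43,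 46, 48], []⟩) (.node 1 (.leaf ⟨6, 6, true, [46, 16, 35, 11, 37, 2], [33, 4, 47, 8, 42, 6], []⟩) (.leaf ⟨6, 6, true, [28, 13, 41, 34, 4], [42, 13, 46, 8, 28, 39], []⟩))) (.node 2 (.node 1 (.leaf ⟨6, 6, true, [41, 41, 36, 27, 33], [37, 35, 30, 38, 22, 8], []⟩) (.leaf ⟨6, 6, true, [41, 25, 18, 49, 19, 2], [18, 26, 25, 34, 33, 4], []⟩)) (.node 1 (.leaf ⟨6, 5, true, [24, 36, 38, 31, 15, 0], [10, 36, 39, 22, 25, 6], []⟩) (.leaf ⟨5, 6, true, [19, 25, 30, 46, 12, 10], [8, 39, 29, 47, 47, 0], []⟩)))) (.node 4 (.node 2 (.node 1 (.leaf ⟨6, 6, true, [27, 36, 38, 11, 23], [22, 16, 46, 6, 37, 6], []⟩) (.leaf ⟨6, 6, true, [20, 49, 40, 43, 20], [21, 18, 36, 32, 38], []⟩)) (.node 1 (.leaf ⟨6, 6, true, [34, 43, 15, 28, 37, 8], [46, 8, 26, 31, 2, 45], []⟩) (.leaf ⟨6, 6, true, [36, 25, 28, 46, 23], [38,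 36, 24, 15, 6], []⟩))) (.node 2 (.node 1 (.leaf ⟨6, 6, true, [24, 43, 31, 36, 2], [13, 0, 35, 28, 28, 44], []⟩) (.leaf ⟨6, 6, true, [26, 2, 26, 36, 35, 2], [20, 14, 12, 40, 35, 6], []⟩)) (.node 1 (.leaf ⟨6, 6, true, [27, 2, 14, 30, 48, 17], [20, 29, 38, 26, 44, 27], []⟩) (.leaf ⟨6, 6, true, [43, 15, 17, 30, 6], [14, 33, 19, 10, 23, 0], []⟩)))))) (.node 15 (.node 7 (.node 3 (.node 1 (.leaf ⟨6, 6, true, [40, 6, 39, 47, 24, 15], [6, 46, 31, 14, 19], []⟩) (.node 1 (.leaf ⟨6, 6, true, [13, 34, 18, 24, 45, 4], [19, 43, 24, 23, 19, 0], []⟩) (.leaf ⟨6, 6, true, [36, 15, 28, 48, 14, 40], [11, 17, 8, 34, 43, 10], []⟩))) (.node 2 (.node 1 (.leaf ⟨6, 6, true, [21, 15, 46, 23, 36, 2], [20, 2, 44, 20, 42, 23], []⟩) (.leaf ⟨6, 6, true, [4, 46, 4, 35, 12, 10], [13, 31, 23, 26, 18, 10], []⟩)) (.node 1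 (.leaf ⟨6, 6, true, [16, 14, 19, 49, 39], [4, 43, 6, 26, 39, 4], []⟩) (.leaf ⟨6, 6, true, [6, 14, 19, 4, 40], [6, 32, 19, 16, 4], []⟩)))) (.node 4 (.node 2 (.node 1 (.leaf ⟨6, 6, true, [40, 47, 36, 6, 46], [36, 0, 40, 43, 19, 37], []⟩) (.leaf ⟨6, 6, true, [28, 36, 42, 23, 17, 8], [33, 2, 18, 44, 36, 17], []⟩)) (.node 1 (.leaf ⟨6, 6, true, [8, 4, 39, 25, 13, 11], [33, 12, 41, 44, 34, 6], []⟩) (.leaf ⟨6, 6, true, [20, 38, 49, 46, 38, 8], [2, 34, 21, 29, 26, 10], []⟩))) (.node 2 (.node 1 (.leaf ⟨5, 6, true, [26, 31, 25, 45, 10], [8, 40, 35, 46, 28, 8], []⟩) (.leaf ⟨6, 5, true, [25, 2, 16, 33, 19, 0], [15, 8, 26, 10, 37], []⟩)) (.node 1 (.leaf ⟨6, 6, true, [25, 19, 31, 11, 23], [35, 39, 32, 30, 27, 30], []⟩) (.leaf ⟨6, 6, true, [21, 30, 40, 30, 24], [19, 38, 36, 31, 26, 0], []⟩))))) (.node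 7 (.node 3 (.node 1 (.leaf ⟨6, 6, true, [13, 4, 22, 43, 47, 28], [11, 36, 41, 48, 23, 2], []⟩) (.node 1 (.leaf ⟨6, 6, true, [33, 11, 18, 15, 34, 0], [16, 21, 24, 44, 24, 20], []⟩) (.leaf ⟨6, 6, true, [18, 38, 27, 32, 49, 6], [33, 12, 38, 30, 12, 4], []⟩))) (.node 2 (.node 1 (.leaf ⟨6, 6, true, [27, 47, 17, 36, 28, 4], [8, 42, 14, 40, 21, 10], []⟩) (.leaf ⟨6, 6, true, [38, 16, 45, 33, 14, 38], [24, 17, 36, 44, 35, 10], []⟩)) (.node 1 (.leaf ⟨6, 6, true, [36, 45, 13, 6, 47, 2], [32, 41, 20, 32, 49], []⟩) (.leaf ⟨6, 6, true, [10, 13, 27, 32, 40, 0], [30, 0, 18, 38, 4, 28], []⟩)))) (.node 4 (.node 2 (.node 1 (.leaf ⟨6, 6, true, [11, 19, 26, 8, 37, 6], [18, 12, 44, 35, 30, 6], []⟩) (.leaf ⟨6, 6, true, [19, 47, 23, 2, 31, 4], [13, 38, 28, 15, 25], []⟩)) (.node 1 (.leaf ⟨5, 6, true, [4, 49,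 20, 10, 12, 8], [36, 11, 38, 46, 18, 0], []⟩) (.leaf ⟨6, 5, true, [29, 11, 18, 40, 33, 6], [6, 18, 25, 16, 35, 0], []⟩))) (.node 2 (.node 1 (.leaf ⟨6, 5, true, [48, 44, 37, 14, 24], [31, 18, 0, 30, 47], []⟩) (.leaf ⟨5, 6, true, [22, 30, 21, 19, 31, 2], [25, 0, 15, 36, 45, 49], []⟩)) (.node 1 (.leaf ⟨6, 6, true, [18, 26, 30, 34, 25, 2], [0, 15, 37, 24, 29, 41], []⟩) (.leaf ⟨6, 6, true, [31, 16, 31, 28, 39, 17], [27, 2, 49, 19, 31, 25], []⟩)))))))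
noncomputable def dF2044 : BT Fct := (.node 30 (.node 15 (.node 7 (.node 3 (.node 1 (.leaf ⟨6, 6, true, [34, 27, 47, 45, 11, 0], [20, 43, 8, 23, 48], []⟩) (.node 1 (.leaf ⟨6, 6, true, [6, 11, 37, 31, 40, 0], [10, 4, 44, 46, 26, 35], []⟩) (.leaf ⟨6, 6, true, [2, 25, 35, 22, 35, 2], [20, 4, 36, 17, 47, 32], []⟩))) (.node 2 (.node 1 (.leaf ⟨6, 6, true, [30, 6, 41, 23, 44, 4], [0, 45, 42, 30, 40, 6], []⟩) (.leaf ⟨6, 6, true, [13, 32, 24, 15, 43, 0], [48, 6, 33, 30, 39, 32], []⟩)) (.node 1 (.leaf ⟨6, 6, true, [0, 47, 44, 11, 8, 0], [49, 29, 25, 15, 33], []⟩) (.leaf ⟨6, 6, true, [19, 11, 15, 27, 33], [35, 45, 10, 21, 19, 4], []⟩)))) (.node 4 (.node 2 (.node 1 (.leaf ⟨6, 6, true, [10, 27, 43, 29, 43, 4], [13, 31, 35, 11, 29], []⟩) (.leaf ⟨5, 6, true, [40, 32, 8, 46, 0], [14, 33, 45, 41, 21,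 10], []⟩)) (.node 1 (.leaf ⟨6, 5, true, [29, 2, 13, 8, 34, 15], [4, 47, 8, 33, 41], []⟩) (.leaf ⟨6, 6, true, [4, 20, 16, 8, 39, 4], [49, 10, 30, 32, 46, 38], []⟩))) (.node 2 (.node 1 (.leaf ⟨6, 6, true, [10, 43, 14, 37, 25, 8], [0, 38, 8, 17, 21, 4], []⟩) (.leaf ⟨6, 6, true, [11, 45, 28, 10, 34, 8], [16, 27, 49, 46, 45, 4], []⟩)) (.node 1 (.leaf ⟨6, 6, true, [4, 49, 49, 10, 44, 4], [10, 37, 12, 33, 20], []⟩) (.leaf ⟨6, 6, true, [17, 41, 44, 10, 0], [23, 8, 31, 38, 48], []⟩))))) (.node 7 (.node 3 (.node 1 (.leaf ⟨6, 5, true, [21, 16, 49, 25, 12, 8], [25, 44, 4, 43, 16], []⟩) (.node 1 (.leaf ⟨5, 6, true, [19, 44, 17, 34, 33, 2], [2, 17, 31, 18, 14, 2], []⟩) (.leaf ⟨6, 6, true, [21, 42, 4, 48, 18, 2], [22, 35, 48, 14, 23, 10], []⟩))) (.node 2 (.node 1 (.leaf ⟨6, 6, true, [14, 30, 44, 30,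 13], [22, 49, 19, 48, 32, 4], []⟩) (.leaf ⟨6, 6, true, [25, 47, 25, 22, 0], [12, 36, 23, 11, 13, 2], []⟩)) (.node 1 (.leaf ⟨6, 6, true, [4, 13, 37, 42, 24, 0], [26, 35, 28, 4, 37], []⟩) (.leaf ⟨6, 6, true, [39, 2, 40, 36, 8, 35], [40, 12, 23, 44, 49], []⟩)))) (.node 4 (.node 2 (.node 1 (.leaf ⟨6, 6, true, [10, 23, 36, 8, 0], [26, 14, 42, 44, 26, 2], []⟩) (.leaf ⟨6, 6, true, [38, 2, 14, 45, 36, 6], [10, 19, 48, 48, 48, 4], []⟩)) (.node 1 (.leaf ⟨6, 6, true, [19, 21, 38, 14, 18], [41, 38, 22, 37, 37], []⟩) (.leaf ⟨6, 6, true, [43, 28, 39, 11, 31], [2, 33, 25, 48, 40, 0], []⟩))) (.node 2 (.node 1 (.leaf ⟨6, 6, true, [11, 37, 27, 8, 31], [16, 2, 14, 19, 11, 6], []⟩) (.leaf ⟨6, 6, true, [14, 41, 42, 35, 30, 8], [13, 23, 8, 36, 39], []⟩)) (.node 1 (.leaf ⟨6, 6, true, [31, 16, 36, 2, 15, 8],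 [2, 19, 13, 37, 21, 2], []⟩) (.leaf ⟨6, 6, true, [8, 6, 20, 45, 46, 6], [22, 16, 39, 49, 16], []⟩)))))) (.node 15 (.node 7 (.node 3 (.node 1 (.leaf ⟨6, 6, true, [25, 49, 40, 24, 26, 8], [28, 11, 30, 6, 31, 17], []⟩) (.node 1 (.leaf ⟨6, 5, true, [42, 4, 49, 44, 27, 4], [49, 8, 43, 48, 33, 40], []⟩) (.leaf ⟨5, 6, true, [2, 43, 8, 11, 27, 0], [22, 33, 42, 27, 35, 10], []⟩))) (.node 2 (.node 1 (.leaf ⟨6, 6, true, [41, 8, 27, 10, 36, 15], [22, 29, 41, 32, 29, 0], []⟩) (.leaf ⟨6, 6, true, [49, 17, 46, 6, 14, 0], [41, 6, 28, 26, 43], []⟩)) (.node 1 (.leaf ⟨6, 6, true, [32, 20, 17, 8, 10], [11, 47, 47, 35, 31, 6], []⟩) (.leaf ⟨6, 6, true, [37, 15, 38, 21, 15], [4, 16, 43, 12, 11, 0], []⟩)))) (.node 4 (.node 2 (.node 1 (.leaf ⟨6, 6, true, [22, 10, 16, 33, 24, 33], [35, 35, 11, 12, 42, 6], []⟩)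 (.leaf ⟨6, 6, true, [32, 25, 39, 49, 46, 4], [38, 36, 26, 26, 30, 10], []⟩)) (.node 1 (.leaf ⟨6, 6, true, [15, 29, 40, 45, 24, 6], [39, 30, 26, 6, 4], []⟩) (.leaf ⟨5, 6, true, [18, 12, 45, 31, 40, 37], [29, 42, 8, 11, 46], []⟩))) (.node 2 (.node 1 (.leaf ⟨6, 5, true, [44, 21, 17, 20, 4], [29, 43, 4, 39, 19], []⟩) (.leaf ⟨6, 6, true, [37, 4, 29, 11, 48, 22], [6, 4, 47, 39, 29, 4], []⟩)) (.node 1 (.leaf ⟨6, 6, true, [35, 6, 39, 47, 15], [11, 17, 35, 49, 47, 14], []⟩) (.leaf ⟨5, 6, true, [22, 41, 26, 30, 13, 0], [46, 14, 48, 10, 42], []⟩))))) (.node 7 (.node 3 (.node 1 (.leaf ⟨6, 5, true, [8, 17, 18, 0, 39, 6], [18, 13, 21, 32, 10, 4], []⟩) (.node 1 (.leaf ⟨6, 5, true, [2, 30, 21, 33, 37], [0, 47, 18, 47, 21, 4], []⟩) (.leaf ⟨5, 6, true, [4, 49, 15, 35, 49], [11, 29, 18, 21, 42, 8], []⟩)))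 (.node 2 (.node 1 (.leaf ⟨6, 6, true, [14, 27, 47, 34, 6, 40], [34, 4, 6, 36, 21, 4], []⟩) (.leaf ⟨6, 6, true, [10, 22, 20, 37, 28], [48, 27, 42, 25, 20, 49], []⟩)) (.node 1 (.leaf ⟨6, 6, true, [0, 21, 32, 40, 46, 0], [49, 14, 13, 47, 14, 10], []⟩) (.leaf ⟨5, 6, true, [48, 30, 30, 6, 15, 0], [47, 6, 43, 45, 39, 23], []⟩)))) (.node 4 (.node 2 (.node 1 (.leaf ⟨6, 5, true, [34, 25, 2, 37, 24, 0], [20, 24, 30, 13, 22, 8], []⟩) (.leaf ⟨6, 6, true, [0, 35, 11, 30, 26], [22, 43, 16, 26, 46], []⟩)) (.node 1 (.leaf ⟨6, 6, true, [41, 13, 35, 13, 45], [27, 31, 10, 34, 2, 0], []⟩) (.leaf ⟨5, 6, true, [16, 39, 4, 38, 33, 2], [20, 2, 14, 33, 20, 2], []⟩))) (.node 2 (.node 1 (.leaf ⟨6, 5, true, [0, 35, 33, 27, 19], [17, 14, 27, 32, 29, 12], []⟩) (.leaf ⟨6, 6, true, [37, 28, 12, 2, 16, 45], [28, 18,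 40, 40, 18, 17], []⟩)) (.node 1 (.leaf ⟨6, 6, true, [4, 14, 39, 41, 17, 8], [39, 16, 38, 29, 4, 17], []⟩) (.leaf ⟨6, 6, true, [31, 39, 14, 35, 14], [24, 8, 48, 37, 8, 34], []⟩)))))))
noncomputable def dF2104 : BT Fct := (.node 30 (.node 15 (.node 7 (.node 3 (.node 1 (.leaf ⟨6, 6, true, [49, 4, 49, 11, 47], [49, 32, 25, 46, 33], []⟩) (.node 1 (.leaf ⟨6, 6, true, [35, 39, 25, 15, 6, 4], [6, 19, 48, 23, 2, 4], []⟩) (.leaf ⟨6, 6, true, [41, 48, 36, 4, 41, 8], [17, 17, 26, 32, 41, 8], []⟩))) (.node 2 (.node 1 (.leaf ⟨6, 6, true, [13, 34, 40, 45, 16, 4], [21, 18, 34, 11, 30, 8], []⟩) (.leaf ⟨6, 6, true, [10, 23, 34, 16, 16, 2], [14, 31, 16, 10, 23, 10], []⟩)) (.node 1 (.leaf ⟨6, 6, true, [11, 47, 14, 41, 42, 2], [45, 0, 21, 14, 43, 26], []⟩) (.leaf ⟨6, 6, true, [49, 6, 41, 32, 17, 8], [12,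 11, 36, 18, 13, 4], []⟩)))) (.node 4 (.node 2 (.node 1 (.leaf ⟨6, 6, true, [33, 12, 23, 8, 39, 15], [30, 2, 17, 6, 44, 2], []⟩) (.leaf ⟨6, 6, true, [6, 39, 29, 44, 49, 4], [35, 45, 2, 19, 41, 8], []⟩)) (.node 1 (.leaf ⟨6, 6, true, [17, 41, 48, 39, 2], [0, 48, 45, 28, 38, 6], []⟩) (.leaf ⟨5, 6, true, [41, 20, 15, 30, 38, 0], [33, 15, 43, 28, 16, 25], []⟩))) (.node 2 (.node 1 (.leaf ⟨6, 5, true, [36, 28, 42, 23, 10], [18, 11, 16, 44, 4], []⟩) (.leaf ⟨6, 6, true, [28, 8, 20, 40, 6, 28], [34, 20, 41, 32, 35], []⟩)) (.node 1 (.leaf ⟨6, 6, true, [15, 22, 40, 8, 16, 2], [18, 11, 21, 31, 27, 42], []⟩) (.leaf ⟨6, 6, true, [22, 45, 43, 40, 18, 10], [40, 32, 41, 32, 16, 48], []⟩))))) (.node 7 (.node 3 (.node 1 (.leaf ⟨6, 6, true, [12, 11, 25, 38, 20, 12], [43, 36, 34, 44, 16, 6], []⟩) (.node 1 (.leaf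 ⟨6, 6, true, [23, 6, 38, 44, 36, 36], [35, 44, 18, 35, 49], []⟩) (.leaf ⟨6, 6, true, [12, 17, 36, 43, 44], [39, 42, 11, 2, 32], []⟩))) (.node 2 (.node 1 (.leaf ⟨6, 6, true, [33, 29, 36, 28, 36, 2], [21, 0, 40, 14, 23, 31], []⟩) (.leaf ⟨6, 6, true, [33, 21, 6, 35, 25], [16, 10, 38, 19, 10, 10], []⟩)) (.node 1 (.leaf ⟨6, 6, true, [19, 2, 34, 23, 16, 13], [40, 37, 33, 40, 22, 4], []⟩) (.leaf ⟨6, 6, true, [2, 28, 38, 22, 29, 4], [14, 47, 8, 14, 8, 0], []⟩)))) (.node 4 (.node 2 (.node 1 (.leaf ⟨6, 6, true, [14, 11, 37, 32, 37, 18], [44, 11, 20, 43, 27], []⟩) (.leaf ⟨6, 6, true, [30, 0, 33, 21, 28], [41, 28, 27, 40, 33, 4], []⟩)) (.node 1 (.leaf ⟨6, 6, true, [0, 42, 47, 36, 31, 2], [26, 29, 35, 27, 18, 6], []⟩) (.leaf ⟨6, 6, true, [35, 24, 8, 37, 46, 4], [34, 47, 36, 42, 33, 8], []⟩))) (.node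 2 (.node 1 (.leaf ⟨6, 6, true, [18, 6, 38, 27, 23, 34], [37, 38, 8, 36, 46], []⟩) (.leaf ⟨6, 3, true, [22, 31, 49, 30, 36], [27, 29, 42, 24, 0], []⟩)) (.node 1 (.leaf ⟨3, 6, true, [6, 37, 6, 22, 28, 0], [20, 32, 38, 15, 49, 2], []⟩) (.leaf ⟨6, 6, true, [32, 47, 28, 27, 40, 4], [23, 43, 35, 16, 48], []⟩)))))) (.node 15 (.node 7 (.node 3 (.node 1 (.leaf ⟨6, 6, true, [45, 11, 18, 25, 32, 43], [27, 39, 16, 44, 47, 8], []⟩) (.node 1 (.leaf ⟨6, 6, true, [17, 10, 26, 31, 16], [24, 35, 43, 31, 31, 15], []⟩) (.leaf ⟨6, 6, true, [22, 44, 28, 37, 0], [44, 21, 42, 12, 29, 6], []⟩))) (.node 2 (.node 1 (.leaf ⟨6, 6, true, [14, 12, 39, 31, 40, 4], [4, 36, 29, 45, 23], []⟩) (.leaf ⟨6, 6, true, [40, 4, 34, 45, 37, 18], [49, 33, 22, 13, 14], []⟩)) (.node 1 (.leaf ⟨6, 6, true, [15, 22, 22, 19, 32], [15,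 42, 24, 24, 28, 4], []⟩) (.leaf ⟨6, 6, true, [31, 46, 17, 20, 15, 10], [40, 23, 21, 30, 45], []⟩)))) (.node 4 (.node 2 (.node 1 (.leaf ⟨6, 6, true, [23, 31, 12, 16, 25], [19, 32, 21, 40, 44, 6], []⟩) (.leaf ⟨6, 6, true, [25, 2, 41, 43, 13, 17], [18, 36, 34, 47, 30, 10], []⟩)) (.node 1 (.leaf ⟨6, 6, true, [2, 29, 33, 45, 21, 2], [45, 43, 4, 21, 10, 8], []⟩) (.leaf ⟨6, 6, true, [35, 14, 32, 30, 47, 21], [29, 2, 35, 21, 12, 42], []⟩))) (.node 2 (.node 1 (.leaf ⟨6, 6, true, [36, 43, 20, 4, 42, 2], [37, 15, 37, 22, 34, 40], []⟩) (.leaf ⟨6, 6, true, [31, 27, 39, 49, 12, 8], [27, 44, 18, 17, 10, 10], []⟩)) (.node 1 (.leaf ⟨6, 6, true, [8, 49, 42, 25, 13, 8], [10, 43, 13, 4, 33, 0], []⟩) (.leaf ⟨6, 6, true, [0, 6, 37, 43, 25, 2], [45, 2, 39, 46, 12, 42], []⟩))))) (.node 7 (.node 3 (.node 1 (.leaf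 ⟨6, 6, true, [12, 6, 48, 46, 16, 24], [38, 10, 27, 44, 39], []⟩) (.node 1 (.leaf ⟨6, 6, true, [28, 35, 22, 8, 48], [21, 23, 43, 6, 40, 2], []⟩) (.leaf ⟨6, 6, true, [13, 2, 35, 36, 25, 18], [36, 23, 16, 49, 0], []⟩))) (.node 2 (.node 1 (.leaf ⟨6, 6, true, [30, 35, 44, 19, 8], [38, 17, 39, 48, 17, 39], []⟩) (.leaf ⟨6, 6, true, [37, 29, 18, 10, 34, 2], [14, 11, 13, 15, 32, 8], []⟩)) (.node 1 (.leaf ⟨6, 6, true, [39, 14, 43, 28, 32, 10], [32, 28, 27, 38, 25, 2], []⟩) (.leaf ⟨6, 6, true, [12, 24, 44, 22, 46, 4], [31, 8, 11, 46, 29, 8], []⟩)))) (.node 4 (.node 2 (.node 1 (.leaf ⟨6, 6, true, [37, 42, 35, 8, 29], [13, 17, 49, 4, 36, 8], []⟩) (.leaf ⟨6, 6, true, [48, 31, 41, 21, 23, 2], [27, 46, 41, 30, 4], []⟩)) (.node 1 (.leaf ⟨6, 6, true, [21, 12, 42, 29, 6, 45], [16, 6, 39, 28, 31, 32], []⟩)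 (.leaf ⟨6, 6, true, [36, 8, 43, 11, 18, 8], [22, 33, 48, 21, 10, 8], []⟩))) (.node 2 (.node 1 (.leaf ⟨6, 6, true, [12, 31, 41, 25, 31, 0], [4, 2, 33, 30, 23, 24], []⟩) (.leaf ⟨6, 6, true, [16, 16, 27, 43, 10, 8], [35, 40, 33, 18, 29, 2], []⟩)) (.node 1 (.leaf ⟨6, 6, true, [36, 2, 37, 13, 24, 33], [35, 11, 26, 10, 8], []⟩) (.leaf ⟨6, 6, true, [0, 43, 18, 12, 42, 6], [35, 36, 12, 18, 20], []⟩)))))))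
noncomputable def dF2164 : BT Fct := (.node 30 (.node 15 (.node 7 (.node 3 (.node 1 (.leaf ⟨6, 6, true, [34, 49, 37, 40, 24, 2], [16, 6, 22, 10, 10, 33], []⟩) (.node 1 (.leaf ⟨6, 6, true, [19, 16, 38, 29, 26, 8], [18, 41, 36, 34, 36, 6], []⟩) (.leaf ⟨6, 6, true, [25, 35, 26, 37, 25], [15, 27, 40, 46, 12, 10], []⟩))) (.node 2 (.node 1 (.leaf ⟨6, 6, true, [41, 44, 6, 49, 25], [25, 13, 44, 6, 26, 14], []⟩) (.leaf ⟨6, 6, true, [17, 41, 24, 20, 31, 6], [2, 29, 31, 11, 20, 2], []⟩)) (.node 1 (.leaf ⟨6, 6, true, [26, 39, 27, 35, 15, 4], [35, 4, 31, 28, 42, 45], []⟩) (.leaf ⟨6, 6, true, [4, 40, 49, 30, 19, 10], [18, 34, 6, 27, 44, 0], []⟩)))) (.node 4 (.node 2 (.node 1 (.leaf ⟨6, 6, true, [37, 45, 15, 27, 43], [12, 38, 48, 39, 8, 10], []⟩) (.leaf ⟨6, 6, true, [8, 37, 20, 49, 16, 10], [26, 4,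 48, 25, 25, 45], []⟩)) (.node 1 (.leaf ⟨6, 6, true, [28, 45, 43, 8, 26, 2], [29, 6, 28, 46, 17, 40], []⟩) (.leaf ⟨5, 6, true, [2, 11, 26, 18, 14, 2], [29, 43, 29, 2, 22, 0], []⟩))) (.node 2 (.node 1 (.leaf ⟨6, 5, true, [20, 42, 46, 32, 2, 4], [42, 29, 43, 18, 38, 0], []⟩) (.leaf ⟨6, 6, true, [32, 22, 36, 20, 29, 2], [30, 11, 36, 15, 15], []⟩)) (.node 1 (.leaf ⟨6, 6, true, [2, 36, 48, 8, 43, 6], [31, 46, 31, 12, 0], []⟩) (.leaf ⟨6, 6, true, [33, 34, 43, 38, 4], [2, 36, 32, 11, 27, 6], []⟩))))) (.node 7 (.node 3 (.node 1 (.leaf ⟨6, 6, true, [33, 37, 33, 22, 4], [0, 39, 42, 35, 32], []⟩) (.node 1 (.leaf ⟨6, 6, true, [16, 20, 35, 25, 4, 6], [6, 36, 2, 38, 8], []⟩) (.leaf ⟨6, 6, true, [32, 10, 19, 8, 0], [44, 15, 11, 16, 16], []⟩))) (.node 2 (.node 1 (.leaf ⟨6, 6, true, [18, 2, 27, 31, 23],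 [4, 8, 18, 11, 33], []⟩) (.leaf ⟨6, 6, true, [26, 2, 35, 25, 14, 16], [4, 30, 26, 17, 28, 0], []⟩)) (.node 1 (.leaf ⟨6, 6, true, [11, 38, 37, 20, 34, 4], [47, 2, 23, 35, 30, 8], []⟩) (.leaf ⟨6, 6, true, [11, 43, 31, 16, 31, 0], [40, 15, 47, 34, 46], []⟩)))) (.node 4 (.node 2 (.node 1 (.leaf ⟨6, 6, true, [28, 0, 47, 22, 4, 42], [21, 28, 2, 39, 25, 10], []⟩) (.leaf ⟨6, 6, true, [11, 17, 40, 35, 26, 6], [11, 47, 49, 4, 42], []⟩)) (.node 1 (.leaf ⟨6, 6, true, [12, 10, 8, 32], [30, 19, 42, 49, 24, 10], []⟩) (.leaf ⟨6, 6, true, [8, 29, 6, 40, 23, 0], [39, 31, 35, 24, 8], []⟩))) (.node 2 (.node 1 (.leaf ⟨6, 6, true, [21, 28, 37, 39, 11, 6], [21, 44, 15, 33, 33, 0], []⟩) (.leaf ⟨6, 6, true, [11, 13, 25, 13, 2], [4, 36, 6, 16, 45, 8], []⟩)) (.node 1 (.leaf ⟨6, 6, true, [31, 24, 21, 33, 17, 2],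 [6, 22, 11, 46, 10], []⟩) (.leaf ⟨6, 6, true, [35, 6, 33, 44, 11, 17], [4, 29, 42, 10, 18], []⟩)))))) (.node 15 (.node 7 (.node 3 (.node 1 (.leaf ⟨6, 6, true, [6, 21, 48, 16, 32, 4], [46, 4, 30, 19, 31, 10], []⟩) (.node 1 (.leaf ⟨6, 6, true, [48, 0, 25, 2, 30, 37], [21, 31, 25, 28, 43, 6], []⟩) (.leaf ⟨6, 6, true, [43, 13, 25, 25, 30, 0], [2, 14, 43, 40, 46, 2], []⟩))) (.node 2 (.node 1 (.leaf ⟨6, 6, true, [14, 19, 48, 45, 21, 2], [6, 38, 2, 38, 27], []⟩) (.leaf ⟨6, 6, true, [12, 29, 14, 10, 46, 8], [12, 44, 11, 25, 23, 0], []⟩)) (.node 1 (.leaf ⟨6, 6, true, [48, 48, 2, 0, 35, 6], [43, 18, 42, 36, 27, 4], []⟩) (.leaf ⟨6, 6, true, [12, 39, 16, 37, 35, 0], [6, 36, 24, 42, 26, 10], []⟩)))) (.node 4 (.node 2 (.node 1 (.leaf ⟨6, 6, true, [45, 14, 23, 32, 36, 48], [12, 34, 43, 38, 31, 48],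 []⟩) (.leaf ⟨6, 6, true, [44, 21, 31, 12, 14], [13, 14, 42, 49, 14, 10], []⟩)) (.node 1 (.leaf ⟨6, 6, true, [15, 13, 44, 35, 43, 14], [11, 26, 30, 18, 10, 8], []⟩) (.leaf ⟨6, 6, true, [34, 10, 34, 39, 43, 8], [14, 32, 21, 44, 15], []⟩))) (.node 2 (.node 1 (.leaf ⟨6, 6, true, [47, 49, 45, 10, 24], [35, 45, 11, 20, 28], []⟩) (.leaf ⟨6, 6, true, [43, 13, 25, 2, 44, 17], [28, 39, 31, 45, 32, 6], []⟩)) (.node 1 (.leaf ⟨6, 6, true, [17, 0, 44, 23, 29, 12], [18, 43, 47, 42, 15, 10], []⟩) (.leaf ⟨6, 6, true, [24, 39, 11, 46, 32, 8], [10, 15, 38, 14, 19, 33], []⟩))))) (.node 7 (.node 3 (.node 1 (.leaf ⟨6, 6, true, [17, 32, 44, 38, 13, 10], [22, 6, 20, 38, 6, 0], []⟩) (.node 1 (.leaf ⟨6, 6, true, [4, 30, 45, 38, 37, 2], [22, 38, 19, 14, 14, 0], []⟩) (.leaf ⟨6, 6, true, [29, 8, 2, 36, 2], [19, 11,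 32, 45, 18, 38], []⟩))) (.node 2 (.node 1 (.leaf ⟨6, 6, true, [16, 27, 16, 32, 41, 0], [0, 45, 32, 6, 43, 0], []⟩) (.leaf ⟨6, 6, true, [8, 2, 10, 43, 11, 48], [40, 6, 8, 44, 23, 45], []⟩)) (.node 1 (.leaf ⟨6, 6, true, [8, 45, 26, 18, 48], [36, 36, 8, 27, 45, 8], []⟩) (.leaf ⟨6, 6, true, [20, 18, 6, 41, 41, 20], [43, 12, 28, 33, 27, 30], []⟩)))) (.node 4 (.node 2 (.node 1 (.leaf ⟨6, 6, true, [37, 10, 44, 12, 21, 2], [44, 27, 38, 42, 22, 29], []⟩) (.leaf ⟨6, 6, true, [45, 42, 29, 30, 25, 2], [20, 44, 30, 24, 12, 6], []⟩)) (.node 1 (.leaf ⟨6, 6, true, [13, 42, 47, 41, 25, 2], [20, 38, 35, 13, 14, 2], []⟩) (.leaf ⟨6, 6, true, [31, 12, 48, 12, 4], [41, 41, 35, 12, 25, 2], []⟩))) (.node 2 (.node 1 (.leaf ⟨6, 6, true, [6, 39, 37, 13, 19, 4], [0, 49, 10, 12, 30], []⟩) (.leaf ⟨3, 6, true, [17,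 26, 20, 8, 34, 2], [21, 8, 18, 31, 18, 41], []⟩)) (.node 1 (.leaf ⟨6, 3, true, [32, 48, 30, 6, 22, 10], [30, 32, 6, 25, 30, 10], []⟩) (.leaf ⟨6, 6, true, [25, 35, 27, 32, 18], [24, 26, 32, 12, 21, 18], []⟩)))))))
noncomputable def dF2224 : BT Fct := (.node 30 (.node 15 (.node 7 (.node 3 (.node 1 (.leaf ⟨6, 6, true, [31, 26, 42, 22, 36], [39, 49, 25, 17, 10], []⟩) (.node 1 (.leaf ⟨6, 6, true, [45, 39, 8, 45, 34, 2], [38, 36, 16, 27, 36, 6], []⟩) (.leaf ⟨6, 6, true, [19, 48, 46, 36, 20, 8], [16, 10, 30, 43, 46, 27], []⟩))) (.node 2 (.node 1 (.leaf ⟨6, 6, true, [42, 47, 38, 15, 43], [8, 41, 47, 48, 46, 4], []⟩) (.leaf ⟨6, 6, true, [10, 47, 39, 21, 21, 8], [24, 24, 8, 34, 49, 8], []⟩)) (.node 1 (.leaf ⟨6, 3, true, [2, 10, 38, 27, 28, 2], [15, 42, 19, 46, 42, 6], []⟩) (.leaf ⟨3, 6, true, [8,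 40, 11, 8, 18], [4, 33, 42, 29, 20, 4], []⟩)))) (.node 4 (.node 2 (.node 1 (.leaf ⟨6, 6, true, [37, 39, 48, 21, 33], [44, 11, 26, 29, 27, 6], []⟩) (.leaf ⟨6, 6, true, [15, 24, 11, 48, 38], [20, 32, 44, 49, 20, 8], []⟩)) (.node 1 (.leaf ⟨6, 6, true, [38, 34, 29, 8, 35], [26, 8, 35, 18, 38, 0], []⟩) (.leaf ⟨6, 6, true, [13, 34, 14, 23, 24, 2], [6, 23, 32, 13, 26, 2], []⟩))) (.node 2 (.node 1 (.leaf ⟨6, 6, true, [23, 10, 43, 33, 18, 22], [27, 46, 11, 20, 47, 8], []⟩) (.leaf ⟨6, 6, true, [41, 8, 40, 18, 15, 48], [42, 28, 44, 25, 11], []⟩)) (.node 1 (.leaf ⟨6, 6, true, [35, 11, 41, 39, 17, 47], [0, 14, 41, 19, 16, 6], []⟩) (.leaf ⟨6, 6, true, [0, 34, 13, 17, 10, 0], [34, 0, 47, 35, 19, 24], []⟩))))) (.node 7 (.node 3 (.node 1 (.leaf ⟨6, 6, true, [20, 44, 11, 4, 46], [2, 21, 48, 42, 29, 10],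 []⟩) (.node 1 (.leaf ⟨6, 6, true, [33, 18, 27, 49, 32], [6, 18, 41, 8, 31, 34], []⟩) (.leaf ⟨6, 6, true, [8, 45, 39, 10, 10, 4], [49, 23, 35, 26, 32, 0], []⟩))) (.node 2 (.node 1 (.leaf ⟨6, 6, true, [47, 30, 39, 10, 16, 2], [30, 27, 8, 10, 41], []⟩) (.leaf ⟨6, 6, true, [24, 0, 28, 38, 35, 21], [12, 18, 36, 44, 27, 8], []⟩)) (.node 1 (.leaf ⟨6, 6, true, [22, 37, 23, 26, 12], [29, 33, 23, 33, 38, 0], []⟩) (.leaf ⟨6, 6, true, [10, 27, 21, 23, 37], [36, 31, 2, 32, 21, 0], []⟩)))) (.node 4 (.node 2 (.node 1 (.leaf ⟨6, 6, true, [45, 26, 20, 49, 46], [47, 39, 17, 27, 44], []⟩) (.leaf ⟨6, 6, true, [12, 29, 11, 46, 23, 10], [15, 11, 21, 32, 15, 11], []⟩)) (.node 1 (.leaf ⟨6, 6, true, [17, 45, 27, 34, 43, 0], [21, 21, 29, 44, 41, 2], []⟩) (.leaf ⟨6, 6, true, [27, 12, 30, 36, 19, 4], [32, 13, 18,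 36, 49, 16], []⟩))) (.node 2 (.node 1 (.leaf ⟨6, 6, true, [20, 40, 19, 28, 36, 8], [18, 0, 37, 31, 13, 26], []⟩) (.leaf ⟨6, 6, true, [32, 40, 23, 6, 0, 2], [20, 2, 48, 32, 18, 45], []⟩)) (.node 1 (.leaf ⟨6, 6, true, [36, 2, 31, 40, 6, 34], [28, 45, 12, 24, 30, 10], []⟩) (.leaf ⟨6, 6, true, [45, 15, 2, 48, 37, 39], [24, 13, 6, 41, 6], []⟩)))))) (.node 15 (.node 7 (.node 3 (.node 1 (.leaf ⟨6, 6, true, [20, 30, 43, 22, 41, 6], [30, 2, 38, 26, 42], []⟩) (.node 1 (.leaf ⟨6, 6, true, [8, 0, 32, 43, 4], [43, 14, 40, 35, 40], []⟩) (.leaf ⟨6, 6, true, [20, 8, 36, 40, 28, 34], [19, 8, 18, 36, 10, 19], []⟩))) (.node 2 (.node 1 (.leaf ⟨6, 6, true, [45, 16, 11, 21, 11], [20, 19, 33, 35, 13], []⟩) (.leaf ⟨6, 6, true, [29, 19, 0, 35, 6], [20, 46, 48, 42, 40, 8], []⟩)) (.node 1 (.leaf ⟨6, 6, true, [36,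 10, 35, 8, 38], [22, 36, 35, 46, 46], []⟩) (.leaf ⟨6, 6, true, [37, 8, 38, 45, 35, 10], [6, 24, 36, 28, 43, 4], []⟩)))) (.node 4 (.node 2 (.node 1 (.leaf ⟨6, 6, true, [13, 34, 23, 26, 12, 10], [22, 46, 19, 14, 16], []⟩) (.leaf ⟨6, 6, true, [32, 12, 20, 38, 8], [14, 48, 48, 42, 21, 2], []⟩)) (.node 1 (.leaf ⟨6, 6, true, [43, 13, 42, 8, 37, 44], [33, 49, 16, 38, 29, 10], []⟩) (.leaf ⟨6, 6, true, [15, 0, 25, 38, 24, 12], [22, 22, 6, 43, 16, 4], []⟩))) (.node 2 (.node 1 (.leaf ⟨6, 6, true, [37, 27, 36, 32, 20, 0], [21, 26, 44, 23, 44, 4], []⟩) (.leaf ⟨6, 6, true, [33, 23, 46, 38, 20, 2], [11, 46, 41, 27, 4], []⟩)) (.node 1 (.leaf ⟨6, 6, true, [27, 13, 39, 8, 25, 27], [41, 36, 40, 33, 27, 10], []⟩) (.leaf ⟨6, 6, true, [28, 33, 15, 8, 27, 8], [19, 8, 20, 36, 16, 18], []⟩))))) (.node 7 (.node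 3 (.node 1 (.leaf ⟨5, 6, true, [13, 15, 6, 40, 26, 4], [49, 11, 21, 33, 12], []⟩) (.node 1 (.leaf ⟨6, 5, true, [41, 16, 47, 30, 44], [10, 25, 21, 10, 46, 0], []⟩) (.leaf ⟨6, 6, true, [15, 18, 21, 11, 46, 0], [34, 28, 11, 41, 42], []⟩))) (.node 2 (.node 1 (.leaf ⟨6, 6, true, [28, 39, 29, 16, 41, 8], [46, 29, 37, 28, 0], []⟩) (.leaf ⟨6, 6, true, [25, 44, 36, 13, 14, 0], [34, 0, 36, 47, 19, 29], []⟩)) (.node 1 (.leaf ⟨6, 6, true, [23, 17, 43, 23, 20], [33, 18, 31, 14, 28], []⟩) (.leaf ⟨6, 6, true, [4, 39, 24, 22, 16, 10], [19, 8, 32, 12, 14, 0], []⟩)))) (.node 4 (.node 2 (.node 1 (.leaf ⟨6, 6, true, [4, 47, 37, 22, 27, 8], [46, 4, 17, 30, 12, 4], []⟩) (.leaf ⟨6, 6, true, [27, 48, 28, 11, 6], [16, 20, 42, 20, 46, 8], []⟩)) (.node 1 (.leaf ⟨6, 6, true, [19, 15, 43, 34, 17], [0, 16, 49, 36,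 27, 4], []⟩) (.leaf ⟨6, 6, true, [39, 13, 10, 23], [13, 11, 18, 41, 46, 4], []⟩))) (.node 2 (.node 1 (.leaf ⟨6, 6, true, [45, 26, 44, 48, 31, 12], [0, 38, 26, 42, 28], []⟩) (.leaf ⟨6, 6, true, [31, 17, 13, 20, 39, 6], [4, 42, 20, 18, 45, 4], []⟩)) (.node 1 (.leaf ⟨6, 6, true, [2, 18, 49, 14, 27, 0], [33, 2, 48, 39, 20, 10], []⟩) (.leaf ⟨6, 6, true, [2, 39, 49, 14, 39, 6], [11, 19, 47, 18, 34, 8], []⟩)))))))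
noncomputable def dF2284 : BT Fct := (.node 30 (.node 15 (.node 7 (.node 3 (.node 1 (.leaf ⟨6, 6, true, [18, 14, 17, 46, 22, 0], [17, 34, 40, 33, 14, 8], []⟩) (.node 1 (.leaf ⟨6, 6, true, [16, 18, 11, 47, 23, 10], [2, 10, 49, 36, 32, 8], []⟩) (.leaf ⟨6, 6, true, [12, 28, 11, 31, 35, 4], [10, 0, 2, 37, 29, 16], []⟩))) (.node 2 (.node 1 (.leaf ⟨6, 6, true, [13, 48, 25, 29, 34, 10], [35, 16, 41, 34, 17, 36], []⟩) (.leaf ⟨6, 6, true, [25, 29, 43, 47, 33, 12], [36, 6, 21, 22, 18, 4], []⟩)) (.node 1 (.leaf ⟨6, 6, true, [26, 11, 45, 29], [26, 45, 49, 16, 19], []⟩) (.leaf ⟨6, 6, true, [18, 24, 29, 2, 30, 2], [8, 6, 33, 13, 22], []⟩)))) (.node 4 (.node 2 (.node 1 (.leaf ⟨6, 6, true, [11, 15, 30, 47, 36, 6], [39, 14, 22, 26, 38, 22], []⟩) (.leaf ⟨6, 6, true, [30, 2, 25, 39, 4, 46], [46, 37, 22,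 47, 20, 10], []⟩)) (.node 1 (.leaf ⟨6, 6, true, [12, 29, 36, 44, 17, 0], [24, 45, 37, 0, 37, 8], []⟩) (.leaf ⟨6, 6, true, [26, 24, 31, 27, 13, 6], [11, 22, 45, 41, 31, 8], []⟩))) (.node 2 (.node 1 (.leaf ⟨6, 6, true, [18, 46, 32, 8, 23, 4], [49, 23, 11, 32, 20, 0], []⟩) (.leaf ⟨6, 6, true, [11, 47, 48, 28, 33, 2], [14, 16, 40, 28, 39, 42], []⟩)) (.node 1 (.leaf ⟨6, 6, true, [48, 35, 0, 39, 36], [33, 2, 30, 44, 14, 42], []⟩) (.leaf ⟨6, 6, true, [21, 44, 13, 23, 46, 2], [29, 21, 29, 31, 27], []⟩))))) (.node 7 (.node 3 (.node 1 (.leaf ⟨6, 6, true, [26, 45, 20, 13, 32, 4], [33, 40, 34, 43, 18], []⟩) (.node 1 (.leaf ⟨6, 6, true, [25, 0, 30, 43, 12, 20], [23, 6, 47, 19, 47, 12], []⟩) (.leaf ⟨6, 6, true, [29, 27, 32, 41, 36, 8], [24, 45, 47, 37, 35, 0], []⟩))) (.node 2 (.node 1 (.leaf ⟨6, 6,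 true, [6, 10, 42, 0, 39, 6], [36, 35, 26, 34, 39, 0], []⟩) (.leaf ⟨6, 6, true, [38, 36, 47, 2, 38, 29], [37, 2, 26, 17, 24], []⟩)) (.node 1 (.leaf ⟨6, 6, true, [2, 12, 11, 38, 15, 6], [11, 41, 25, 41, 38], []⟩) (.leaf ⟨6, 6, true, [4, 43, 32, 39, 45, 0], [2, 21, 37, 43, 10, 19], []⟩)))) (.node 4 (.node 2 (.node 1 (.leaf ⟨6, 6, true, [47, 0, 37, 32, 34, 0], [4, 44, 38, 33, 42, 4], []⟩) (.leaf ⟨6, 6, true, [13, 38, 14, 19, 16], [41, 12, 32, 4, 6], []⟩)) (.node 1 (.leaf ⟨6, 6, true, [31, 11, 44, 43, 31, 29], [48, 0, 48, 20, 10, 10], []⟩) (.leaf ⟨6, 6, true, [25, 21, 32, 23, 35, 40], [20, 2, 22, 34, 15, 47], []⟩))) (.node 2 (.node 1 (.leaf ⟨6, 6, true, [18, 33, 8, 23, 30, 8], [38, 41, 44, 21, 2], []⟩) (.leaf ⟨6, 6, true, [41, 8, 36, 22, 21], [6, 30, 12, 26, 8], []⟩)) (.node 1 (.leaf ⟨5, 6,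 true, [0, 38, 17, 25], [33, 16, 22, 36, 27], []⟩) (.leaf ⟨6, 5, true, [47, 11, 0, 31, 8], [24, 16, 0, 39, 0], []⟩)))))) (.node 15 (.node 7 (.node 3 (.node 1 (.leaf ⟨6, 6, true, [46, 29, 34, 45, 11], [0, 43, 36, 38, 41, 0], []⟩) (.node 1 (.leaf ⟨6, 6, true, [25, 25, 46, 45, 43, 6], [18, 36, 47, 29, 16, 4], []⟩) (.leaf ⟨6, 6, true, [6, 42, 4, 39, 23, 4], [36, 45, 27, 46, 13], []⟩))) (.node 2 (.node 1 (.leaf ⟨6, 6, true, [36, 31, 4, 43, 0, 22], [0, 22, 38, 4, 43, 6], []⟩) (.leaf ⟨6, 6, true, [10, 12, 30, 49, 34], [26, 16, 36, 35, 36, 45], []⟩)) (.node 1 (.leaf ⟨6, 6, true, [28, 43, 25, 12, 10, 4], [2, 28, 48, 39, 13, 2], []⟩) (.leaf ⟨6, 6, true, [18, 28, 44, 19, 20, 6], [26, 39, 45, 8, 35, 4], []⟩)))) (.node 4 (.node 2 (.node 1 (.leaf ⟨6, 6, true, [8, 27, 38, 32, 37, 0], [30, 8, 16, 8, 39,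 19], []⟩) (.leaf ⟨6, 6, true, [28, 11, 42, 20, 17], [38, 15, 26, 2, 38, 28], []⟩)) (.node 1 (.leaf ⟨6, 6, true, [2, 12, 33, 2, 23], [18, 37, 22, 42, 25, 6], []⟩) (.leaf ⟨6, 6, true, [37, 14, 19, 21, 40, 6], [27, 46, 33, 38, 14, 2], []⟩))) (.node 2 (.node 1 (.leaf ⟨6, 6, true, [10, 2, 49, 46, 6], [33, 33, 38, 28, 21], []⟩) (.leaf ⟨6, 6, true, [48, 44, 19, 31, 17, 2], [12, 24, 46, 20, 18, 0], []⟩)) (.node 1 (.leaf ⟨6, 6, true, [6, 23, 17, 29, 30], [20, 31, 25, 49, 21, 36], []⟩) (.leaf ⟨6, 6, true, [6, 34, 48, 8, 38, 2], [31, 2, 28, 16, 22, 6], []⟩))))) (.node 7 (.node 3 (.node 1 (.leaf ⟨6, 6, true, [4, 45, 26, 34, 29, 8], [4, 30, 25, 31, 11, 4], []⟩) (.node 1 (.leaf ⟨6, 6, true, [30, 37, 6, 37, 47, 0], [0, 38, 44, 20, 22, 8], []⟩) (.leaf ⟨6, 6, true, [4, 42, 47, 28, 28], [40, 35, 24, 32,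 28, 4], []⟩))) (.node 2 (.node 1 (.leaf ⟨6, 6, true, [2, 21, 19, 46, 41], [4, 28, 28, 46, 43, 4], []⟩) (.leaf ⟨6, 6, true, [35, 10, 24, 42, 45, 30], [24, 33, 40, 20, 20], []⟩)) (.node 1 (.leaf ⟨6, 6, true, [13, 36, 21, 6, 18, 4], [44, 31, 25, 32, 30, 2], []⟩) (.leaf ⟨6, 6, true, [12, 16, 37, 34, 8, 6], [35, 31, 13, 37, 2, 0], []⟩)))) (.node 4 (.node 2 (.node 1 (.leaf ⟨6, 6, true, [4, 47, 22, 10, 33, 8], [19, 40, 2, 26, 8], []⟩) (.leaf ⟨6, 6, true, [12, 30, 14, 33, 27], [40, 24, 48, 38], []⟩)) (.node 1 (.leaf ⟨6, 6, true, [21, 24, 45, 23, 31, 33], [6, 40, 12, 24, 12, 6], []⟩) (.leaf ⟨6, 6, true, [6, 25, 14, 19, 6], [30, 49, 13, 8, 6], []⟩))) (.node 2 (.node 1 (.leaf ⟨6, 6, true, [36, 31, 47, 30, 29, 10], [2, 22, 45, 2, 24, 4], []⟩) (.leaf ⟨6, 6, true, [28, 49, 46, 23, 21, 4], [45, 8, 38,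 33, 26, 19], []⟩)) (.node 1 (.leaf ⟨6, 6, true, [41, 30, 22, 46, 35, 10], [19, 6, 15, 35, 20, 13], []⟩) (.leaf ⟨6, 6, true, [31, 2, 18, 11, 6, 8], [25, 6, 25, 32, 41, 21], []⟩)))))))
noncomputable def dF2344 : BT Fct := (.node 30 (.node 15 (.node 7 (.node 3 (.node 1 (.leaf ⟨6, 6, true, [2, 24, 11, 46, 10, 6], [48, 11, 12, 37, 0], []⟩) (.node 1 (.leaf ⟨6, 6, true, [33, 44, 17, 43, 14, 8], [36, 23, 47, 34, 24], []⟩) (.leaf ⟨6, 6, true, [6, 42, 4, 41, 17, 2], [29, 45, 12, 4, 20], []⟩))) (.node 2 (.node 1 (.leaf ⟨6, 6, true, [46, 36, 43, 46, 16, 6], [2, 4, 27, 28, 36, 43], []⟩) (.leaf ⟨6, 6, true, [33, 49, 35, 30, 24], [44, 38, 8, 40, 30], []⟩)) (.node 1 (.leaf ⟨6, 6, true, [12, 32, 30, 28, 2], [25, 16, 4, 43, 16, 43], []⟩) (.leaf ⟨6, 6, true, [33, 14, 46, 6, 27, 35], [47, 2, 4, 33, 10],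 []⟩)))) (.node 4 (.node 2 (.node 1 (.leaf ⟨6, 6, true, [6, 27, 18, 49, 24, 8], [22, 43, 4, 21, 47, 8], []⟩) (.leaf ⟨6, 6, true, [37, 11, 42, 35, 27, 8], [0, 47, 41, 38, 19, 4], []⟩)) (.node 1 (.leaf ⟨6, 6, true, [37, 22, 12, 36, 24], [38, 4, 35, 11, 17, 2], []⟩) (.leaf ⟨6, 6, true, [24, 20, 24, 45, 23, 0], [42, 49, 11, 15, 45, 2], []⟩))) (.node 2 (.node 1 (.leaf ⟨6, 6, true, [13, 44, 17, 38, 37, 4], [29, 44, 13, 38, 33], []⟩) (.leaf ⟨6, 6, true, [34, 39, 35, 6, 40, 6], [39, 10, 42, 24, 42, 39], []⟩)) (.node 1 (.leaf ⟨6, 6, true, [30, 18, 37, 12, 22, 2], [33, 2, 23, 48, 23, 8], []⟩) (.leaf ⟨6, 5, true, [10, 30, 23, 44, 12, 0], [22, 14, 49, 40, 40, 16], []⟩))))) (.node 7 (.node 3 (.node 1 (.leaf ⟨5, 6, true, [20, 47, 25, 39, 34, 10], [22, 24, 11, 44, 27, 10], []⟩) (.node 1 (.leaf ⟨6, 6,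 true, [4, 22, 47, 25, 8, 6], [48, 19, 10, 36, 32], []⟩) (.leaf ⟨6, 6, true, [39, 10, 33, 29, 4, 49], [47, 0, 24, 45, 45, 29], []⟩))) (.node 2 (.node 1 (.leaf ⟨6, 6, true, [24, 8, 40, 24, 41, 37], [41, 38, 17, 39, 47], []⟩) (.leaf ⟨6, 6, true, [2, 0, 35, 29, 12, 4], [22, 12, 47, 2, 18, 40], []⟩)) (.node 1 (.leaf ⟨6, 6, true, [2, 15, 13, 10, 4, 2], [17, 8, 37, 17, 12, 28], []⟩) (.leaf ⟨6, 6, true, [20, 23, 11, 39, 22, 8], [10, 42, 20, 29, 24], []⟩)))) (.node 4 (.node 2 (.node 1 (.leaf ⟨6, 6, true, [36, 6, 25, 20, 41, 31], [14, 23, 20, 44, 33, 0], []⟩) (.leaf ⟨6, 6, true, [30, 36, 18, 8, 37, 2], [40, 30, 13, 47, 37, 6], []⟩)) (.node 1 (.leaf ⟨6, 6, true, [41, 48, 12, 25, 10], [17, 43, 36, 20, 23, 8], []⟩) (.leaf ⟨6, 6, true, [26, 10, 33, 30, 10, 46], [12, 38, 12, 21, 24], []⟩))) (.node 2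 (.node 1 (.leaf ⟨6, 6, true, [25, 39, 17, 48, 21, 10], [47, 24, 39, 46, 24], []⟩) (.leaf ⟨6, 6, true, [26, 31, 15, 24, 20], [37, 12, 29, 13, 38, 30], []⟩)) (.node 1 (.leaf ⟨6, 6, true, [27, 13, 33, 28, 24, 27], [24, 36, 33, 39, 49, 8], []⟩) (.leaf ⟨6, 6, true, [32, 4, 31, 40, 30, 0], [8, 16, 10, 46, 49, 6], []⟩)))))) (.node 15 (.node 7 (.node 3 (.node 1 (.leaf ⟨6, 6, true, [18, 28, 28, 10, 33, 2], [10, 36, 29, 29, 13], []⟩) (.node 1 (.leaf ⟨6, 6, true, [23, 20, 26, 36, 4], [12, 24, 8, 44, 8, 10], []⟩) (.leaf ⟨6, 6, true, [31, 14, 33, 13, 10, 39], [4, 37, 49, 29, 36, 10], []⟩))) (.node 2 (.node 1 (.leaf ⟨6, 6, true, [41, 26, 26, 17, 10, 6], [32, 26, 24, 47, 6, 26], []⟩) (.leaf ⟨6, 5, true, [13, 22, 47, 12, 48, 2], [24, 15, 36, 22, 37, 30], []⟩)) (.node 1 (.leaf ⟨5, 6, true, [16, 10, 42,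 24, 30, 8], [37, 44, 43, 41, 28], []⟩) (.leaf ⟨6, 6, true, [21, 40, 13, 41, 12, 8], [16, 38, 23, 2, 25, 4], []⟩)))) (.node 4 (.node 2 (.node 1 (.leaf ⟨6, 6, true, [6, 24, 24, 41, 17, 6], [6, 22, 48, 16, 11, 8], []⟩) (.leaf ⟨6, 6, true, [41, 45, 11, 8, 31, 8], [49, 29, 32, 21, 26], []⟩)) (.node 1 (.leaf ⟨6, 6, true, [19, 13, 49, 27, 10, 2], [36, 4, 40, 26, 32, 43], []⟩) (.leaf ⟨6, 6, true, [46, 29, 26, 35, 42, 4], [14, 30, 22, 10, 20, 0], []⟩))) (.node 2 (.node 1 (.leaf ⟨6, 6, true, [6, 42, 15, 26, 23, 10], [36, 24, 39, 27, 30, 6], []⟩) (.leaf ⟨6, 6, true, [30, 2, 33, 36, 42, 38], [16, 11, 43, 40, 34, 0], []⟩)) (.node 1 (.leaf ⟨6, 6, true, [4, 31, 45, 40, 23, 8], [36, 27, 48, 41, 4, 6], []⟩) (.leaf ⟨6, 6, true, [38, 30, 24, 20, 28], [13, 48, 36, 32, 44, 8], []⟩))))) (.node 8 (.node 4 (.node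 2 (.node 1 (.leaf ⟨6, 6, true, [48, 0, 42, 49, 8, 32], [48, 30, 22, 47, 43], []⟩) (.leaf ⟨6, 6, true, [24, 33, 48, 24, 40], [21, 10, 37, 40, 38, 20], []⟩)) (.node 1 (.leaf ⟨6, 6, true, [34, 48, 44, 31, 31, 2], [11, 44, 25, 49, 11, 0], []⟩) (.leaf ⟨6, 6, true, [17, 15, 10, 6, 32], [32, 27, 49, 15, 43, 2], []⟩))) (.node 2 (.node 1 (.leaf ⟨6, 6, true, [15, 13, 33, 24, 29, 8], [29, 33, 38, 44, 0], []⟩) (.leaf ⟨6, 6, true, [30, 12, 29, 36, 15, 20], [32, 8, 2, 31, 17, 10], []⟩)) (.node 1 (.leaf ⟨6, 6, true, [8, 43, 23, 40, 48, 6], [29, 30, 6, 20, 4], []⟩) (.leaf ⟨6, 6, true, [17, 14, 16, 29, 47, 6], [14, 31, 28, 46, 43, 4], []⟩)))) (.node 4 (.node 2 (.node 1 (.leaf ⟨6, 6, true, [8, 43, 36, 16, 8, 0], [36, 10, 25, 6, 23], []⟩) (.leaf ⟨6, 6, true, [2, 20, 17, 8, 31, 6], [4, 8, 17, 37, 42, 8],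 []⟩)) (.node 1 (.leaf ⟨6, 6, true, [35, 47, 8, 36, 17], [4, 16, 13, 31, 35, 8], []⟩) (.leaf ⟨6, 6, true, [40, 4, 25, 42, 10], [35, 26, 11, 35, 48, 4], []⟩))) (.node 2 (.node 1 (.leaf ⟨6, 6, true, [45, 4, 6, 35, 42, 11], [31, 37, 35, 0, 44, 6], []⟩) (.leaf ⟨6, 6, true, [26, 48, 45, 25, 31, 8], [38, 21, 8, 38, 40, 42], []⟩)) (.node 1 (.leaf ⟨6, 6, true, [45, 11, 16, 22, 18], [39, 0, 35, 21, 32, 26], []⟩) (.leaf ⟨6, 6, true, [12, 28, 42, 13, 26, 4], [8, 47, 21, 36, 30, 4], []⟩)))))))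
noncomputable def dF2405 : BT Fct := (.node 30 (.node 15 (.node 7 (.node 3 (.node 1 (.leaf ⟨6, 6, true, [6, 39, 29, 39, 2, 0], [44, 19, 4, 43, 16, 10], []⟩) (.node 1 (.leaf ⟨6, 6, true, [47, 42, 42, 25, 28], [4, 2, 38, 28, 38, 6], []⟩) (.leaf ⟨6, 6, true, [8, 43, 27, 6, 16, 6], [15, 20, 36, 36, 33, 8], []⟩))) (.node 2 (.node 1 (.leaf ⟨6, 6, true, [17, 0, 37, 22, 14, 18], [24, 12, 49, 8, 38, 31], []⟩) (.leaf ⟨6, 6, true, [25, 15, 13, 36, 40, 20], [6, 14, 45, 35, 29, 44], []⟩)) (.node 1 (.leaf ⟨6, 6, true, [11, 32, 24, 19, 28, 0], [45, 34, 8, 30, 4], []⟩) (.leaf ⟨6, 6, true, [46, 48, 37, 24, 41, 4], [16, 4, 37, 23, 37, 13], []⟩)))) (.node 4 (.node 2 (.node 1 (.leaf ⟨6, 6, true, [21, 28, 46, 41, 14, 10], [23, 44, 32, 26, 17, 8], []⟩) (.leaf ⟨6, 6, true, [6, 37, 12, 49, 4], [25, 8, 22, 46,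 29, 20], []⟩)) (.node 1 (.leaf ⟨6, 6, true, [36, 2, 44, 4, 47, 11], [0, 48, 13, 36, 6], []⟩) (.leaf ⟨6, 6, true, [34, 24, 45, 47, 15, 44], [32, 19, 47, 35, 44, 43], []⟩))) (.node 2 (.node 1 (.leaf ⟨6, 6, true, [24, 34, 33, 33, 39], [30, 17, 49, 42, 42, 19], []⟩) (.leaf ⟨6, 6, true, [33, 0, 24, 2, 15], [37, 29, 32, 16, 4, 2], []⟩)) (.node 1 (.leaf ⟨6, 6, true, [18, 38, 37, 31, 20, 0], [8, 48, 19, 41, 15, 4], []⟩) (.leaf ⟨6, 6, true, [29, 10, 42, 47, 21], [19, 2, 30, 44, 20, 31], []⟩))))) (.node 7 (.node 3 (.node 1 (.leaf ⟨6, 6, true, [29, 25, 32, 48, 28, 6], [44, 44, 19, 47, 43], []⟩) (.node 1 (.leaf ⟨6, 6, true, [0, 39, 13, 41, 12], [47, 4, 14, 29, 42, 27], []⟩) (.leaf ⟨6, 6, true, [12, 36, 25, 26, 11], [31, 13, 41, 24, 24, 2], []⟩))) (.node 2 (.node 1 (.leaf ⟨6, 6, true, [22, 31, 31,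 49, 16, 10], [25, 21, 35, 42, 17, 4], []⟩) (.leaf ⟨6, 6, true, [35, 42, 11, 18, 36, 4], [6, 40, 8, 23, 6, 0], []⟩)) (.node 1 (.leaf ⟨6, 6, true, [30, 10, 32, 22, 25, 23], [36, 41, 49, 14, 30, 4], []⟩) (.leaf ⟨6, 6, true, [15, 10, 24, 21, 35, 20], [41, 2, 47, 2, 36, 10], []⟩)))) (.node 4 (.node 2 (.node 1 (.leaf ⟨6, 6, true, [24, 47, 22, 48, 39], [16, 26, 38, 31, 24], []⟩) (.leaf ⟨6, 6, true, [18, 11, 31, 8, 35, 27], [37, 8, 43, 45, 35, 36], []⟩)) (.node 1 (.leaf ⟨6, 6, true, [20, 48, 23, 39, 21, 4], [27, 14, 35, 8, 46, 29], []⟩) (.leaf ⟨6, 6, true, [35, 23, 15, 43, 46, 6], [26, 40, 38, 47, 16], []⟩))) (.node 2 (.node 1 (.leaf ⟨6, 6, true, [49, 49, 11, 40, 45, 4], [15, 35, 24, 26, 33, 10], []⟩) (.leaf ⟨6, 6, true, [16, 29, 24, 44, 21, 2], [8, 13, 11, 36, 16, 0], []⟩)) (.node 1 (.leaf ⟨3,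 6, true, [19, 44, 30, 44, 42], [22, 38, 25, 28, 12, 10], []⟩) (.leaf ⟨3, 6, true, [11, 36, 42, 23, 8], [17, 19, 30, 15, 28, 2], []⟩)))))) (.node 15 (.node 7 (.node 3 (.node 1 (.leaf ⟨6, 3, true, [30, 17, 14, 49, 24, 10], [22, 20, 22, 28, 34, 30], []⟩) (.node 1 (.leaf ⟨6, 6, true, [42, 24, 21, 11, 8], [13, 31, 29, 13, 27], []⟩) (.leaf ⟨6, 6, true, [33, 2, 21, 32, 23, 35], [17, 42, 0, 41, 15], []⟩))) (.node 2 (.node 1 (.leaf ⟨6, 6, true, [10, 18, 26, 43, 27, 19], [18, 6, 25, 41, 44, 20], []⟩) (.leaf ⟨3, 6, true, [18, 16, 44, 19, 33], [37, 19, 10, 41, 2, 21], []⟩)) (.node 1 (.leaf ⟨6, 3, true, [32, 20, 31, 11, 28, 0], [12, 14, 6, 48, 2, 4], []⟩) (.leaf ⟨6, 6, true, [42, 11, 40, 12, 19], [48, 0, 6, 37, 24, 36], []⟩)))) (.node 4 (.node 2 (.node 1 (.leaf ⟨6, 6, true, [16, 20, 39, 19, 40], [39,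 2, 21, 49, 43, 0], []⟩) (.leaf ⟨6, 6, true, [30, 14, 25, 39, 49, 13], [26, 32, 4, 36, 36, 6], []⟩)) (.node 1 (.leaf ⟨6, 6, true, [4, 18, 6, 38, 49], [13, 17, 31, 21, 8, 18], []⟩) (.leaf ⟨6, 6, true, [40, 21, 8, 33, 20], [28, 6, 37, 2, 18, 40], []⟩))) (.node 2 (.node 1 (.leaf ⟨6, 6, true, [13, 11, 18, 48, 19, 43], [25, 22, 44, 24, 23, 8], []⟩) (.leaf ⟨6, 6, true, [17, 10, 23, 45, 12, 8], [17, 19, 45, 20, 18, 16], []⟩)) (.node 1 (.leaf ⟨6, 6, true, [26, 8, 33, 37, 10, 40], [21, 12, 49, 42, 22, 12], []⟩) (.leaf ⟨6, 6, true, [32, 17, 36, 18, 37], [33, 18, 8, 34, 11], []⟩))))) (.node 7 (.node 3 (.node 1 (.leaf ⟨6, 6, true, [15, 34, 17, 32, 16], [41, 15, 34, 40, 48, 2], []⟩) (.node 1 (.leaf ⟨6, 6, true, [38, 49, 27, 31, 42, 4], [14, 37, 30, 34, 41, 8], []⟩) (.leaf ⟨6, 6, true, [39, 27, 14,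 45], [6, 36, 42, 18, 18, 6], []⟩))) (.node 2 (.node 1 (.leaf ⟨6, 6, true, [0, 15, 27, 46, 4], [4, 0, 44, 15, 26, 38], []⟩) (.leaf ⟨6, 6, true, [18, 4, 21, 33, 17, 42], [30, 15, 2, 36, 39, 22], []⟩)) (.node 1 (.leaf ⟨6, 6, true, [28, 19, 11, 33, 26, 0], [28, 17, 10, 45, 43], []⟩) (.leaf ⟨6, 6, true, [10, 22, 27, 11, 34, 2], [39, 22, 41, 23, 18, 37], []⟩)))) (.node 4 (.node 2 (.node 1 (.leaf ⟨6, 6, true, [19, 36, 16, 11, 45, 26], [11, 42, 10, 17, 11, 0], []⟩) (.leaf ⟨6, 6, true, [4, 21, 26, 40, 18, 6], [32, 20, 37, 29, 31], []⟩)) (.node 1 (.leaf ⟨6, 6, true, [42, 38, 6, 47, 37], [10, 15, 39, 22, 40, 4], []⟩) (.leaf ⟨6, 6, true, [21, 17, 12, 49, 49, 38], [26, 4, 6, 31, 20, 14], []⟩))) (.node 2 (.node 1 (.leaf ⟨6, 6, true, [35, 27, 36, 14, 41, 0], [14, 28, 31, 39, 27, 0], []⟩) (.leaf ⟨6,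 6, true, [47, 39, 11, 22, 17, 4], [37, 37, 42, 23, 40, 4], []⟩)) (.node 1 (.leaf ⟨6, 6, true, [17, 29, 46, 45, 10, 2], [8, 14, 42, 31, 21, 8], []⟩) (.leaf ⟨6, 6, true, [17, 27, 14, 21, 32], [0, 44, 29, 23, 46, 4], []⟩)))))))
noncomputable def dF2465 : BT Fct := (.node 30 (.node 15 (.node 7 (.node 3 (.node 1 (.leaf ⟨6, 6, true, [31, 21, 12, 38, 19, 28], [24, 45, 25, 14, 35, 8], []⟩) (.node 1 (.leaf ⟨6, 6, true, [14, 40, 19, 2, 37, 0], [35, 30, 30, 14, 42, 4], []⟩) (.leaf ⟨6, 6, true, [25, 31, 46, 25, 32], [6, 33, 11, 12, 17], []⟩))) (.node 2 (.node 1 (.leaf ⟨6, 6, true, [16, 16, 14, 30, 28, 8], [46, 24, 46, 29, 33, 43], []⟩) (.leaf ⟨6, 6, true, [37, 20, 40, 31, 4], [10, 33, 28, 10, 17, 10], []⟩)) (.node 1 (.leaf ⟨6, 6, true, [24, 28, 17, 31, 4], [15, 27, 6, 38, 19, 0], []⟩) (.leaf ⟨6,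 6, true, [35, 6, 43, 29, 15, 21], [0, 30, 16, 29, 25], []⟩)))) (.node 4 (.node 2 (.node 1 (.leaf ⟨6, 6, true, [6, 11, 22, 40, 12, 8], [17, 14, 36, 0, 41, 2], []⟩) (.leaf ⟨6, 6, true, [28, 30, 32, 23, 24, 2], [10, 29, 37, 14, 18], []⟩)) (.node 1 (.leaf ⟨6, 6, true, [8, 4, 0, 39], [44, 10, 25, 8, 46, 16], []⟩) (.leaf ⟨6, 6, true, [25, 20, 34, 23, 48, 27], [0, 4, 38, 8, 4, 0], []⟩))) (.node 2 (.node 1 (.leaf ⟨6, 6, true, [25, 6, 19, 4, 2], [8, 45, 32, 28, 27], []⟩) (.leaf ⟨6, 6, true, [8, 13, 14, 19, 43], [4, 12, 22, 48, 18, 6], []⟩)) (.node 1 (.leaf ⟨6, 6, true, [24, 33, 6, 18, 34, 10], [34, 10, 33, 22, 40, 32], []⟩) (.leaf ⟨6, 6, true, [22, 27, 39, 13, 4, 0], [46, 31, 0, 40, 27, 32], []⟩))))) (.node 7 (.node 3 (.node 1 (.leaf ⟨6, 6, true, [46, 15, 36, 32, 10, 13], [12, 38, 26, 23], []⟩)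 (.node 1 (.leaf ⟨6, 6, true, [24, 15, 27, 45, 17, 8], [14, 10, 27, 44, 28, 43], []⟩) (.leaf ⟨6, 6, true, [40, 27, 48, 36, 42, 4], [19, 6, 42, 20, 22, 11], []⟩))) (.node 2 (.node 1 (.leaf ⟨6, 6, true, [10, 32, 25, 16, 30, 2], [33, 14, 49, 31, 16, 15], []⟩) (.leaf ⟨6, 6, true, [2, 10, 25, 28, 18], [6, 47, 25, 38, 28, 10], []⟩)) (.node 1 (.leaf ⟨6, 6, true, [15, 12, 20, 45, 12, 8], [4, 40, 40, 0, 31, 6], []⟩) (.leaf ⟨6, 6, true, [30, 35, 14, 8, 11, 2], [6, 10, 46, 20, 27, 4], []⟩)))) (.node 4 (.node 2 (.node 1 (.leaf ⟨6, 6, true, [20, 18, 34, 23, 33, 6], [6, 12, 8, 30, 22], []⟩) (.leaf ⟨6, 6, true, [21, 22, 15, 31, 28], [20, 18, 38, 49, 35, 30], []⟩)) (.node 1 (.leaf ⟨6, 6, true, [49, 36, 48, 31, 25, 8], [44, 24, 15, 19, 11], []⟩) (.leaf ⟨6, 6, true, [36, 28, 4, 37, 19, 2], [49, 14, 22,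 41, 15, 17], []⟩))) (.node 2 (.node 1 (.leaf ⟨6, 6, true, [10, 27, 15, 44, 22, 2], [33, 46, 8, 11, 2], []⟩) (.leaf ⟨6, 6, true, [33, 49, 49, 23, 25, 10], [25, 16, 36, 18, 11, 41], []⟩)) (.node 1 (.leaf ⟨6, 6, true, [8, 28, 38, 48, 8], [34, 39, 20, 11, 46, 6], []⟩) (.leaf ⟨6, 6, true, [39, 4, 19, 31, 25, 47], [2, 29, 15, 6, 18, 8], []⟩)))))) (.node 15 (.node 7 (.node 3 (.node 1 (.leaf ⟨6, 6, true, [2, 46, 16, 21, 41, 0], [11, 35, 37, 49, 25], []⟩) (.node 1 (.leaf ⟨6, 6, true, [11, 28, 47, 23, 10, 10], [46, 45, 35, 49, 25], []⟩) (.leaf ⟨6, 6, true, [0, 44, 20, 40, 36, 4], [26, 43, 49, 43, 2, 4], []⟩))) (.node 2 (.node 1 (.leaf ⟨6, 6, true, [34, 37, 29, 43, 23, 10], [0, 37, 41, 21, 45, 0], []⟩) (.leaf ⟨6, 6, true, [48, 35, 20, 47, 41, 8], [4, 37, 32, 46, 23], []⟩)) (.node 1 (.leaf ⟨6, 6,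 true, [0, 15, 36, 4, 42, 0], [31, 2, 38, 49, 38, 8], []⟩) (.leaf ⟨6, 6, true, [34, 15, 6, 35, 2], [0, 20, 26, 39, 17, 2], []⟩)))) (.node 4 (.node 2 (.node 1 (.leaf ⟨6, 6, true, [8, 16, 48, 10, 20, 6], [48, 31, 31, 19, 21, 8], []⟩) (.leaf ⟨6, 6, true, [25, 49, 18, 43, 48, 4], [4, 38, 20, 2, 33], []⟩)) (.node 1 (.leaf ⟨6, 6, true, [29, 29, 46, 12, 4, 2], [34, 8, 27, 47, 6], []⟩) (.leaf ⟨6, 6, true, [29, 0, 49, 47, 44, 35], [42, 11, 19, 45, 29, 16], []⟩))) (.node 2 (.node 1 (.leaf ⟨6, 6, true, [46, 2, 4, 42, 41, 13], [17, 11, 33, 46, 12, 49], []⟩) (.leaf ⟨6, 6, true, [29, 43, 18, 17, 34, 4], [29, 11, 39, 29, 21, 13], []⟩)) (.node 1 (.leaf ⟨6, 6, true, [42, 40, 24, 39, 49], [48, 27, 40, 27, 6], []⟩) (.leaf ⟨6, 6, true, [13, 8, 34, 16, 49, 22], [23, 29, 17, 48, 35, 10], []⟩))))) (.node 7 (.node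 3 (.node 1 (.leaf ⟨6, 6, true, [0, 8, 42, 21, 19, 4], [48, 32, 44, 11, 19, 0], []⟩) (.node 1 (.leaf ⟨6, 6, true, [44, 15, 2, 48, 21], [49, 17, 26, 37, 18, 31], []⟩) (.leaf ⟨6, 6, true, [28, 18, 6, 34, 36, 47], [6, 4, 42, 34, 37, 15], []⟩))) (.node 2 (.node 1 (.leaf ⟨6, 6, true, [18, 28, 24, 15, 35, 6], [33, 21, 43, 45, 0], []⟩) (.leaf ⟨6, 6, true, [27, 25, 8, 32, 12, 6], [17, 40, 21, 39, 45, 0], []⟩)) (.node 1 (.leaf ⟨6, 6, true, [12, 42, 33, 18, 22], [13, 33, 29, 8, 29], []⟩) (.leaf ⟨6, 6, true, [0, 29, 14, 10, 32], [10, 32, 6, 40, 23, 2], []⟩)))) (.node 4 (.node 2 (.node 1 (.leaf ⟨6, 6, true, [13, 19, 17, 45, 43, 49], [29, 39, 24, 35, 45], []⟩) (.leaf ⟨6, 6, true, [29, 40, 10, 14, 6, 4], [39, 46, 48, 33, 15, 8], []⟩)) (.node 1 (.leaf ⟨6, 6, true, [18, 39, 30, 43, 40], [10, 13, 41, 48,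 17, 2], []⟩) (.leaf ⟨6, 6, true, [0, 37, 35, 28, 27, 10], [6, 43, 8, 40, 39, 4], []⟩))) (.node 2 (.node 1 (.leaf ⟨6, 6, true, [2, 0, 37, 35, 45, 4], [0, 24, 40, 33, 31, 4], []⟩) (.leaf ⟨6, 6, true, [27, 35, 28, 15, 4], [0, 44, 34, 36, 0, 2], []⟩)) (.node 1 (.leaf ⟨6, 6, true, [12, 33, 22, 37, 48, 10], [28, 28, 35, 46, 36], []⟩) (.leaf ⟨6, 6, true, [26, 25, 40, 14, 35, 4], [29, 21, 6, 28, 31, 8], []⟩)))))))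
noncomputable def dF2525 : BT Fct := (.node 30 (.node 15 (.node 7 (.node 3 (.node 1 (.leaf ⟨6, 6, true, [33, 4, 23, 14, 45, 47], [38, 28, 28, 26, 6], []⟩) (.node 1 (.leaf ⟨6, 6, true, [6, 0, 42, 11, 31, 28], [37, 29, 30, 32, 20], []⟩) (.leaf ⟨6, 6, true, [49, 45, 46, 37, 48, 6], [43, 21, 47, 45, 49, 0], []⟩))) (.node 2 (.node 1 (.leaf ⟨6, 6, true, [19, 43, 36, 4, 46], [31, 26, 11, 32, 35, 6], []⟩) (.leaf ⟨6, 6, true, [43, 26, 45, 28, 6], [15, 36, 17, 47, 14, 4], []⟩)) (.node 1 (.leaf ⟨6, 6, true, [31, 25, 23, 12, 31], [24, 4, 37, 10, 45, 10], []⟩) (.leaf ⟨6, 6, true, [45, 29, 37, 27, 44], [17, 44, 28, 49, 47, 0], []⟩)))) (.node 4 (.node 2 (.node 1 (.leaf ⟨6, 6, true, [47, 25, 27, 49, 39, 8], [2, 6, 47, 2, 43, 0], []⟩) (.leaf ⟨5, 6, true, [31, 6, 47, 8, 33, 21], [33, 0, 8, 37, 47, 30],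 []⟩)) (.node 1 (.leaf ⟨6, 5, true, [11, 12, 35, 33, 30, 10], [25, 23, 32, 28, 17, 2], []⟩) (.leaf ⟨6, 6, true, [35, 23, 6, 37, 23, 0], [10, 0, 14, 47, 17, 41], []⟩))) (.node 2 (.node 1 (.leaf ⟨6, 6, true, [10, 37, 28, 14, 2], [41, 38, 41, 48, 37], []⟩) (.leaf ⟨6, 6, true, [6, 33, 8, 35, 16, 4], [8, 31, 39, 21, 40], []⟩)) (.node 1 (.leaf ⟨6, 6, true, [2, 36, 45, 22, 21], [27, 29, 45, 18, 29], []⟩) (.leaf ⟨6, 6, true, [23, 11, 27, 38, 33, 14], [40, 26, 31, 2, 27], []⟩))))) (.node 7 (.node 3 (.node 1 (.leaf ⟨6, 6, true, [23, 42, 36, 0, 43, 2], [49, 29, 25, 37, 23, 4], []⟩) (.node 1 (.leaf ⟨6, 5, true, [8, 11, 42, 45, 8, 21], [10, 33, 18, 34, 44, 0], []⟩) (.leaf ⟨5, 6, true, [32, 31, 49, 23, 14, 4], [31, 26, 18, 37, 27, 2], []⟩))) (.node 2 (.node 1 (.leaf ⟨6, 6, true, [0, 40, 31, 21, 27,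 10], [10, 37, 40, 8, 46, 8], []⟩) (.leaf ⟨6, 6, true, [0, 12, 46, 15, 28, 6], [16, 34, 29, 21, 36, 10], []⟩)) (.node 1 (.leaf ⟨6, 6, true, [8, 32, 2, 4, 40], [12, 43, 44, 16, 20, 6], []⟩) (.leaf ⟨6, 6, true, [49, 36, 20, 42, 21, 4], [41, 14, 25, 33, 8, 4], []⟩)))) (.node 4 (.node 2 (.node 1 (.leaf ⟨6, 6, true, [8, 44, 30, 28, 41, 2], [29, 42, 18, 10, 12, 10], []⟩) (.leaf ⟨6, 6, true, [13, 35, 32, 17, 46], [32, 29, 2, 36, 27], []⟩)) (.node 1 (.leaf ⟨6, 6, true, [29, 8, 33, 15, 25, 49], [11, 25, 35, 42, 20, 6], []⟩) (.leaf ⟨6, 6, true, [24, 4, 6, 48, 31, 37], [39, 42, 45, 40, 45, 24], []⟩))) (.node 2 (.node 1 (.leaf ⟨6, 6, true, [20, 37, 10, 45, 14, 6], [15, 36, 49, 46, 34], []⟩) (.leaf ⟨6, 6, true, [44, 4, 48, 17, 43, 33], [16, 27, 30, 34, 31], []⟩)) (.node 1 (.leaf ⟨6, 6, true, [31, 17,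 44, 17, 14], [11, 37, 27, 16, 4, 2], []⟩) (.leaf ⟨6, 6, true, [21, 12, 49, 14, 39, 6], [17, 29, 37, 30, 27, 10], []⟩)))))) (.node 15 (.node 7 (.node 3 (.node 1 (.leaf ⟨6, 6, true, [32, 40, 17, 14, 29], [21, 11, 21, 49, 41, 41], []⟩) (.node 1 (.leaf ⟨6, 6, true, [30, 26, 10, 10, 40, 2], [0, 28, 40, 46, 6, 0], []⟩) (.leaf ⟨6, 6, true, [19, 15, 46, 42, 24, 6], [11, 47, 41, 17, 23, 0], []⟩))) (.node 2 (.node 1 (.leaf ⟨6, 6, true, [38, 15, 17, 11, 34, 0], [33, 24, 12, 44, 21, 2], []⟩) (.leaf ⟨6, 6, true, [32, 41, 38, 20, 27], [0, 44, 28, 18], []⟩)) (.node 1 (.leaf ⟨6, 6, true, [30, 45, 23, 37, 30], [44, 33, 21, 14, 8, 0], []⟩) (.leaf ⟨6, 6, true, [13, 48, 11, 23, 40, 0], [46, 15, 48, 34, 31, 45], []⟩)))) (.node 4 (.node 2 (.node 1 (.leaf ⟨6, 6, true, [4, 19, 11, 38, 45], [41, 0, 4, 46, 43,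 37], []⟩) (.leaf ⟨6, 6, true, [33, 41, 31, 23, 8, 2], [31, 24, 15, 36, 29, 4], []⟩)) (.node 1 (.leaf ⟨6, 6, true, [11, 11, 43, 28, 16, 29], [10, 0, 43, 23, 4, 35], []⟩) (.leaf ⟨6, 6, true, [35, 12, 27, 43, 32, 41], [41, 31, 17, 17, 35, 4], []⟩))) (.node 2 (.node 1 (.leaf ⟨6, 6, true, [2, 17, 33, 49, 10, 0], [26, 39, 39, 30, 16, 2], []⟩) (.leaf ⟨6, 6, true, [31, 0, 17, 24, 46, 14], [4, 11, 48, 32, 16, 2], []⟩)) (.node 1 (.leaf ⟨6, 6, true, [23, 29, 47, 43, 2], [24, 12, 2, 38, 47, 6], []⟩) (.leaf ⟨6, 6, true, [42, 0, 24, 34, 29, 42], [36, 21, 49, 15, 33, 13], []⟩))))) (.node 7 (.node 3 (.node 1 (.leaf ⟨6, 6, true, [35, 40, 31, 42, 12, 2], [10, 39, 28, 12, 43], []⟩) (.node 1 (.leaf ⟨6, 6, true, [4, 28, 38, 37, 29, 10], [22, 12, 27, 11, 47, 24], []⟩) (.leaf ⟨6, 6, true, [35, 11, 29, 40, 6],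 [6, 30, 35, 10, 38, 23], []⟩))) (.node 2 (.node 1 (.leaf ⟨6, 6, true, [28, 25, 40, 48, 46, 4], [36, 21, 36, 44, 31, 6], []⟩) (.leaf ⟨6, 6, true, [41, 11, 37, 43, 44, 18], [21, 10, 36, 29, 6, 4], []⟩)) (.node 1 (.leaf ⟨6, 6, true, [25, 0, 17, 37, 43, 25], [4, 31, 21, 49, 40, 6], []⟩) (.leaf ⟨6, 6, true, [43, 6, 46, 18, 39, 36], [30, 36, 30, 11, 19], []⟩)))) (.node 4 (.node 2 (.node 1 (.leaf ⟨6, 6, true, [16, 35, 38, 23, 21, 10], [19, 38, 22, 39, 40], []⟩) (.leaf ⟨6, 6, true, [27, 32, 19, 26, 6], [29, 13, 36, 31, 39, 32], []⟩)) (.node 1 (.leaf ⟨6, 6, true, [31, 13, 36, 26, 10, 0], [6, 47, 20, 23, 10], []⟩) (.leaf ⟨6, 6, true, [12, 37, 42, 47, 18, 8], [6, 8, 25, 44, 46, 16], []⟩))) (.node 2 (.node 1 (.leaf ⟨6, 6, true, [26, 29, 32, 42, 34, 6], [12, 10, 35, 42, 34, 37], []⟩) (.leaf ⟨6, 6,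 true, [6, 27, 15, 44, 17], [48, 48, 42, 35, 14], []⟩)) (.node 1 (.leaf ⟨6, 6, true, [32, 38, 29, 11, 40, 8], [31, 45, 19, 16, 34], []⟩) (.leaf ⟨6, 6, true, [35, 38, 37, 39, 28], [6, 20, 16, 14, 48, 32], []⟩)))))))
noncomputable def dF2585 : BT Fct := (.node 30 (.node 15 (.node 7 (.node 3 (.node 1 (.leaf ⟨6, 6, true, [37, 11, 11, 14, 25], [27, 42, 26, 28, 36, 6], []⟩) (.node 1 (.leaf ⟨6, 6, true, [20, 17, 41, 10, 46], [18, 32, 8, 48, 37], []⟩) (.leaf ⟨6, 6, true, [0, 24, 42, 35, 17, 8], [33, 49, 37, 21, 25], []⟩))) (.node 2 (.node 1 (.leaf ⟨6, 6, true, [4, 19, 13, 47, 41], [12, 40, 28, 49, 2, 4], []⟩) (.leaf ⟨6, 6, true, [19, 34, 14, 40, 23, 8], [25, 6, 39, 20, 23, 2], []⟩)) (.node 1 (.leaf ⟨6, 6, true, [16, 36, 45, 41, 16, 10], [43, 32, 34, 20, 29], []⟩) (.leaf ⟨6, 6, true, [24, 23, 2,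 19, 41, 2], [13, 39, 24, 19, 31, 0], []⟩)))) (.node 4 (.node 2 (.node 1 (.leaf ⟨6, 6, true, [2, 43, 36, 27, 20, 4], [6, 4, 30, 15, 47, 11], []⟩) (.leaf ⟨6, 6, true, [34, 27, 36, 18, 41, 0], [0, 21, 26, 37, 42, 2], []⟩)) (.node 1 (.leaf ⟨6, 6, true, [39, 15, 15, 42, 25, 30], [19, 2, 41, 42, 34, 26], []⟩) (.leaf ⟨6, 6, true, [35, 12, 45, 30, 20, 6], [33, 35, 23, 2, 28, 8], []⟩))) (.node 2 (.node 1 (.leaf ⟨6, 6, true, [30, 32, 31, 45, 16, 0], [38, 18, 8, 34, 21, 25], []⟩) (.leaf ⟨6, 6, true, [0, 28, 6, 44, 28], [21, 39, 19, 11, 27, 10], []⟩)) (.node 1 (.leaf ⟨6, 6, true, [26, 45, 24, 41, 27, 10], [12, 33, 13, 44, 31], []⟩) (.leaf ⟨6, 6, true, [41, 11, 15, 18, 41, 34], [11, 26, 45, 22, 15, 4], []⟩))))) (.node 7 (.node 3 (.node 1 (.leaf ⟨6, 6, true, [8, 25, 44, 27, 10], [37, 32, 17, 25, 34,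 0], []⟩) (.node 1 (.leaf ⟨6, 6, true, [23, 17, 35, 16, 30, 25], [15, 36, 48, 39, 41, 6], []⟩) (.leaf ⟨6, 6, true, [34, 8, 41, 13, 33, 16], [36, 2, 29, 15, 19, 46], []⟩))) (.node 2 (.node 1 (.leaf ⟨6, 6, true, [21, 24, 34, 43, 38, 6], [43, 27, 44, 8, 6], []⟩) (.leaf ⟨6, 6, true, [4, 17, 8, 26, 32, 8], [16, 47, 0, 30, 40, 0], []⟩)) (.node 1 (.leaf ⟨6, 6, true, [46, 41, 21, 14, 12, 2], [30, 35, 33, 39, 45, 8], []⟩) (.leaf ⟨6, 6, true, [19, 12, 33, 35, 28, 31], [33, 38, 30, 0, 43, 4], []⟩)))) (.node 4 (.node 2 (.node 1 (.leaf ⟨6, 6, true, [16, 29, 33, 25, 28, 8], [13, 35, 10, 16, 35, 6], []⟩) (.leaf ⟨6, 6, true, [4, 36, 24, 43, 0, 39], [37, 6, 30, 25, 11, 29], []⟩)) (.node 1 (.leaf ⟨6, 6, true, [10, 22, 17, 44, 28, 10], [31, 0, 11, 42, 29, 49], []⟩) (.leaf ⟨6, 6, true, [13, 42, 24, 37, 47,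 4], [38, 16, 44, 22, 10, 10], []⟩))) (.node 2 (.node 1 (.leaf ⟨6, 6, true, [18, 24, 33, 16, 0, 2], [31, 0, 43, 48, 30, 49], []⟩) (.leaf ⟨6, 6, true, [22, 10, 45, 36, 40, 8], [45, 20, 6, 39, 16], []⟩)) (.node 1 (.leaf ⟨6, 6, true, [47, 37, 24, 11, 18, 8], [8, 39, 32, 45, 20, 6], []⟩) (.leaf ⟨6, 6, true, [22, 4, 18, 42, 11, 41], [6, 30, 27, 28, 6, 8], []⟩)))))) (.node 15 (.node 7 (.node 3 (.node 1 (.leaf ⟨6, 6, true, [24, 18, 23, 42, 37], [15, 27, 20, 28, 43, 4], []⟩) (.node 1 (.leaf ⟨6, 6, true, [4, 11, 25, 29, 47, 8], [24, 28, 48, 35, 13], []⟩) (.leaf ⟨6, 6, true, [6, 11, 29, 16, 6, 2], [22, 47, 29, 33, 49, 6], []⟩))) (.node 2 (.node 1 (.leaf ⟨6, 6, true, [20, 16, 49, 43, 18, 0], [27, 0, 38, 41, 41, 41], []⟩) (.leaf ⟨6, 6, true, [23, 32, 36, 38, 10, 33], [45, 2, 43, 16, 31, 43], []⟩))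 (.node 1 (.leaf ⟨6, 6, true, [28, 15, 24, 38, 42, 47], [49, 38, 15, 30, 25], []⟩) (.leaf ⟨6, 6, true, [30, 20, 40, 25, 31, 10], [29, 31, 32, 48, 14], []⟩)))) (.node 4 (.node 2 (.node 1 (.leaf ⟨6, 6, true, [48, 48, 47, 31, 44], [38, 46, 4, 39, 45], []⟩) (.leaf ⟨6, 6, true, [29, 11, 15, 19, 45, 17], [16, 44, 17, 25, 0], []⟩)) (.node 1 (.leaf ⟨6, 6, true, [8, 48, 0, 35, 11], [40, 34, 18, 40, 47], []⟩) (.leaf ⟨6, 6, true, [48, 6, 40, 11, 28, 28], [37, 24, 17, 39, 4], []⟩))) (.node 2 (.node 1 (.leaf ⟨6, 6, true, [10, 30, 45, 22, 33, 8], [40, 45, 45, 37, 47], []⟩) (.leaf ⟨6, 6, true, [23, 48, 42, 36, 48, 6], [0, 45, 35, 11, 14, 10], []⟩)) (.node 1 (.leaf ⟨6, 6, true, [10, 37, 38, 12, 33], [27, 21, 36, 35, 35], []⟩) (.leaf ⟨6, 5, true, [8, 49, 49, 18, 10, 8], [11, 8, 31, 19, 40], []⟩))))) (.node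 7 (.node 3 (.node 1 (.leaf ⟨5, 6, true, [10, 42, 42, 27, 33, 10], [21, 13, 14, 34, 31, 19], []⟩) (.node 1 (.leaf ⟨6, 6, true, [48, 11, 26, 32, 35], [45, 34, 28, 46, 22, 0], []⟩) (.leaf ⟨6, 6, true, [38, 27, 47, 23, 41], [14, 14, 49, 10, 40], []⟩))) (.node 2 (.node 1 (.leaf ⟨6, 6, true, [15, 27, 32, 47, 11, 2], [11, 26, 18, 13, 37], []⟩) (.leaf ⟨6, 6, true, [28, 13, 45, 32, 42, 4], [27, 2, 34, 29, 37, 22], []⟩)) (.node 1 (.leaf ⟨6, 6, true, [40, 31, 19, 38, 17], [14, 46, 29, 41, 23, 0], []⟩) (.leaf ⟨6, 6, true, [47, 11, 16, 6, 45, 6], [38, 0, 48, 29, 42, 12], []⟩)))) (.node 4 (.node 2 (.node 1 (.leaf ⟨6, 6, true, [38, 49, 8, 19, 4, 0], [21, 48, 36, 28, 46, 2], []⟩) (.leaf ⟨6, 6, true, [0, 42, 16, 16, 27], [43, 16, 40, 29, 34], []⟩)) (.node 1 (.leaf ⟨6, 6, true, [4, 27, 11, 37, 43, 6],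 [29, 2, 17, 36, 2], []⟩) (.leaf ⟨6, 6, true, [33, 30, 48, 0, 35, 2], [42, 40, 19, 2, 22, 6], []⟩))) (.node 2 (.node 1 (.leaf ⟨6, 6, true, [33, 2, 11, 17, 26, 38], [26, 2, 15, 0, 49, 44], []⟩) (.leaf ⟨6, 6, true, [40, 34, 23, 47, 11, 8], [21, 6, 39, 15, 44, 23], []⟩)) (.node 1 (.leaf ⟨6, 6, true, [48, 8, 29, 12, 37], [23, 20, 30, 32, 27, 6], []⟩) (.leaf ⟨6, 6, true, [8, 15, 41, 42, 42], [31, 38, 26, 35, 31], []⟩)))))))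
noncomputable def dF2645 : BT Fct := (.node 30 (.node 15 (.node 7 (.node 3 (.node 1 (.leaf ⟨6, 6, true, [40, 28, 39, 6, 16], [40, 37, 30, 18, 41, 2], []⟩) (.node 1 (.leaf ⟨6, 6, true, [2, 12, 19, 46, 33, 6], [11, 8, 27, 21, 46], []⟩) (.leaf ⟨6, 6, true, [43, 13, 0, 14, 32], [18, 31, 11, 12, 19, 0], []⟩))) (.node 2 (.node 1 (.leaf ⟨6, 6, true, [0, 35, 24, 13, 44], [0, 30, 49, 21, 48, 8], []⟩) (.leaf ⟨6, 6, true, [2, 40, 21, 17, 13, 6], [11, 31, 4, 37, 0], []⟩)) (.node 1 (.leaf ⟨6, 6, true, [37, 27, 16, 45, 6, 8], [0, 43, 36, 34, 48, 8], []⟩) (.leaf ⟨6, 6, true, [2, 27, 25, 10, 39, 8], [23, 48, 40, 14, 27], []⟩)))) (.node 4 (.node 2 (.node 1 (.leaf ⟨6, 6, true, [32, 44, 4, 45, 20, 2], [15, 36, 20, 36, 42], []⟩) (.leaf ⟨6, 6, true, [41, 27, 21, 31, 34, 8], [13, 11, 46, 26, 23, 6], []⟩))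 (.node 1 (.leaf ⟨6, 6, true, [8, 37, 26, 26, 18, 10], [6, 32, 14, 35, 19, 4], []⟩) (.leaf ⟨6, 6, true, [26, 6, 20, 44, 47], [11, 28, 22, 25, 36, 8], []⟩))) (.node 2 (.node 1 (.leaf ⟨6, 6, true, [12, 25, 48, 20, 44, 2], [38, 4, 6, 19, 32, 29], []⟩) (.leaf ⟨6, 6, true, [28, 41, 10, 21, 32, 2], [46, 0, 44, 47, 21, 27], []⟩)) (.node 1 (.leaf ⟨6, 6, true, [47, 44, 16, 44, 27], [17, 8, 42, 28, 44, 20], []⟩) (.leaf ⟨6, 6, true, [32, 29, 44, 25, 47], [24, 34, 26, 10, 32, 4], []⟩))))) (.node 7 (.node 3 (.node 1 (.leaf ⟨6, 6, true, [2, 16, 13, 44, 47, 8], [37, 30, 27, 19, 10, 34], []⟩) (.node 1 (.leaf ⟨6, 6, true, [12, 41, 46, 39, 18, 2], [31, 48, 13, 43, 14, 4], []⟩) (.leaf ⟨6, 6, true, [38, 29, 25, 17, 8], [0, 44, 36, 0, 43, 0], []⟩))) (.node 2 (.node 1 (.leaf ⟨6, 6, true, [33, 13, 36, 11, 43,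 13], [21, 15, 21, 17, 39], []⟩) (.leaf ⟨6, 6, true, [38, 33, 42, 32, 18, 6], [18, 4, 32, 32, 45, 21], []⟩)) (.node 1 (.leaf ⟨6, 6, true, [6, 20, 10, 29, 41, 4], [49, 49, 40, 45, 35, 8], []⟩) (.leaf ⟨6, 6, true, [47, 23, 2, 38, 19], [16, 14, 34, 23, 15, 33], []⟩)))) (.node 4 (.node 2 (.node 1 (.leaf ⟨6, 6, true, [40, 18, 41, 11, 45, 0], [42, 20, 45, 23, 20, 8], []⟩) (.leaf ⟨6, 6, true, [35, 44, 29, 41, 36, 6], [27, 12, 40, 14, 47], []⟩)) (.node 1 (.leaf ⟨6, 6, true, [13, 20, 14, 30, 17, 6], [45, 18, 17, 48], []⟩) (.leaf ⟨6, 5, true, [29, 47, 20, 44, 32], [18, 32, 2, 37, 30], []⟩))) (.node 2 (.node 1 (.leaf ⟨6, 6, true, [12, 45, 37, 8, 28], [21, 14, 44, 21, 43], []⟩) (.leaf ⟨6, 6, true, [2, 17, 30, 46, 23, 6], [31, 21, 38, 38, 20, 2], []⟩)) (.node 1 (.leaf ⟨6, 6, true, [41, 33, 34, 19,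 46, 6], [41, 15, 31, 29, 14, 45], []⟩) (.leaf ⟨6, 6, true, [31, 13, 36, 29, 8], [13, 39, 34, 25, 18], []⟩)))))) (.node 15 (.node 7 (.node 3 (.node 1 (.leaf ⟨6, 6, true, [43, 4, 27, 2, 42, 34], [40, 8, 12, 30, 44, 19], []⟩) (.node 1 (.leaf ⟨6, 6, true, [49, 33, 14, 21, 42, 31], [29, 44, 43, 10, 13, 8], []⟩) (.leaf ⟨4, 7, true, [6], [], []⟩))) (.node 2 (.node 1 (.leaf ⟨7, 7, false, [20, 13, 23, 13], [], []⟩) (.leaf ⟨7, 7, false, [22, 27, 18, 15], [], []⟩)) (.node 1 (.leaf ⟨7, 7, false, [22, 12, 15, 0], [], []⟩) (.leaf ⟨7, 3, true, [26, 8, 24, 15, 6], [35, 29, 24, 10, 17], []⟩)))) (.node 4 (.node 2 (.node 1 (.leaf ⟨3, 7, true, [0, 6, 30, 15, 26, 6], [30, 49, 19, 24], []⟩) (.leaf ⟨7, 2, true, [8, 24, 23, 6, 4], [36, 2, 48, 22, 46, 13], []⟩)) (.node 1 (.leaf ⟨2, 7, true, [2, 27, 20, 24, 12],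 [6, 22, 25, 8, 0], []⟩) (.leaf ⟨7, 4, true, [35, 40, 46, 34, 38], [27, 39, 2, 23, 29, 4], []⟩))) (.node 2 (.node 1 (.leaf ⟨4, 7, true, [6, 39, 33, 13, 4, 6], [6, 8, 6, 22, 22], []⟩) (.leaf ⟨7, 4, true, [24, 13, 17, 6], [6, 28, 17, 6], []⟩)) (.node 1 (.leaf ⟨4, 7, true, [10, 48, 0, 2, 0], [6, 14, 25, 13], []⟩) (.leaf ⟨7, 6, true, [17, 23, 11, 45, 34, 2], [31, 44, 40, 40, 11, 0], []⟩))))) (.node 7 (.node 3 (.node 1 (.leaf ⟨6, 7, true, [43, 30, 24, 21, 30, 8], [24, 13, 2, 15, 17], []⟩) (.node 1 (.leaf ⟨7, 6, true, [6, 20, 15, 12, 21, 6], [4, 14, 2, 19, 25, 4], []⟩) (.leaf ⟨6, 7, true, [35, 45, 17, 19, 39, 0], [6, 23, 21, 26, 6], []⟩))) (.node 2 (.node 1 (.leaf ⟨7, 6, true, [36, 4, 49, 46, 10], [26, 2, 47, 43, 33, 19], []⟩) (.leaf ⟨6, 7, true, [6, 30, 6, 26, 22, 10], [24, 2, 14, 17, 15],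 []⟩)) (.node 1 (.leaf ⟨7, 6, true, [4, 2, 48, 0, 40, 23], [0, 49, 49, 40, 0, 2], []⟩) (.leaf ⟨7, 6, true, [10, 32, 47, 28, 16, 6], [16, 15, 49, 25, 49, 2], []⟩)))) (.node 4 (.node 2 (.node 1 (.leaf ⟨6, 7, true, [48, 26, 31, 40, 28], [22, 2, 22, 18, 21], []⟩) (.leaf ⟨7, 2, true, [0, 30, 4, 31], [0, 10, 13, 38, 23, 6], []⟩)) (.node 1 (.leaf ⟨7, 7, false, [8, 11, 49, 16, 31, 8], [], []⟩) (.leaf ⟨7, 6, true, [21, 14, 37, 32, 27, 2], [45, 31, 43, 38, 27, 25], []⟩))) (.node 2 (.node 1 (.leaf ⟨6, 7, true, [2, 21, 14, 10, 36, 4], [36, 19, 43, 25, 46, 0], []⟩) (.leaf ⟨7, 6, true, [2, 4, 48, 17, 11], [35, 16, 14, 20, 37, 45], []⟩)) (.node 1 (.leaf ⟨6, 7, true, [19, 42, 14, 42, 34], [10, 16, 4, 49, 4, 2], []⟩) (.leaf ⟨4, 7, true, [2, 6, 19, 26, 15], [14, 2, 25], []⟩)))))))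
noncomputable def dF2705 : BT Fct := (.node 30 (.node 15 (.node 7 (.node 3 (.node 1 (.leaf ⟨7, 4, true, [6, 8, 49, 11, 2, 4], [18, 25, 11, 32, 8], []⟩) (.node 1 (.leaf ⟨7, 6, true, [4, 8, 2, 23, 2, 4], [25, 37, 34, 37, 4], []⟩) (.leaf ⟨6, 7, true, [19, 2, 27, 39, 25, 41], [24, 2, 24, 18, 16], []⟩))) (.node 2 (.node 1 (.leaf ⟨7, 6, true, [44, 12, 4, 31], [14, 20, 42, 12, 31, 10], []⟩) (.leaf ⟨6, 7, true, [6, 0, 25, 40, 27, 44], [2, 22, 8, 2, 0], []⟩)) (.node 1 (.leaf ⟨7, 6, true, [14, 25, 47, 18, 44, 4], [33, 25, 42, 35, 33, 8], []⟩) (.leaf ⟨6, 7, true, [10, 15, 44, 6, 25, 20], [22, 2, 16, 8, 22], []⟩)))) (.node 4 (.node 2 (.node 1 (.leaf ⟨7, 6, true, [0, 34, 40, 49, 47, 0], [15, 4, 10, 48, 14, 31], []⟩) (.leaf ⟨7, 6, true, [24, 29, 2, 46, 34], [41, 8, 48, 38, 25, 16], []⟩)) (.node 1 (.leaf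 ⟨6, 7, true, [22, 0, 39, 49, 8, 40], [16, 15, 16, 2, 28], []⟩) (.leaf ⟨7, 6, true, [4, 33, 37, 21, 37, 2], [30, 48, 6, 25, 25], []⟩))) (.node 2 (.node 1 (.leaf ⟨6, 7, true, [8, 10, 29, 36, 38, 2], [13, 14, 2, 21, 24], []⟩) (.leaf ⟨7, 6, true, [38, 15, 36, 34, 15, 10], [6, 11, 27, 8, 49], []⟩)) (.node 1 (.leaf ⟨6, 7, true, [17, 17, 40, 31, 4, 35], [14, 38, 26, 33, 10, 6], []⟩) (.leaf ⟨7, 6, true, [21, 24, 47, 25, 2], [10, 19, 48, 34], []⟩))))) (.node 7 (.node 3 (.node 1 (.leaf ⟨6, 7, true, [19, 41, 16, 28, 10], [45, 10, 44, 19, 13], []⟩) (.node 1 (.leaf ⟨7, 6, true, [15, 27, 8, 47, 25, 2], [4, 20, 37, 35, 44], []⟩) (.leaf ⟨7, 6, true, [10, 24, 14, 20, 6], [28, 44, 49, 24, 24, 6], []⟩))) (.node 2 (.node 1 (.leaf ⟨7, 6, true, [10, 15, 15, 12, 6], [0, 32, 4, 46, 4, 2], []⟩) (.leaf ⟨7, 4,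 true, [18, 23, 12, 10], [34, 13, 18, 0, 42], []⟩)) (.node 1 (.leaf ⟨4, 7, true, [6, 28, 10, 25, 0], [11, 13, 22, 19, 0], []⟩) (.leaf ⟨7, 7, true, [11, 29, 13, 14, 0], [12, 16, 28, 39, 47], []⟩)))) (.node 4 (.node 2 (.node 1 (.leaf ⟨7, 5, true, [10, 2, 38, 21, 6], [45, 34, 13, 36, 0], []⟩) (.leaf ⟨5, 7, true, [0, 32, 36, 44, 23, 2], [29, 32, 38, 27, 6], []⟩)) (.node 1 (.leaf ⟨7, 5, true, [10, 33, 20, 10, 8, 10], [0, 36, 32, 21, 13, 6], []⟩) (.leaf ⟨7, 5, true, [4, 11, 24, 20, 16, 6], [38, 8, 23, 45, 0, 2], []⟩))) (.node 2 (.node 1 (.leaf ⟨5, 7, true, [4, 49, 2, 27, 4], [10, 22, 11, 23, 6], []⟩) (.leaf ⟨7, 5, true, [33, 6, 0], [12, 25, 46, 11, 2], []⟩)) (.node 1 (.leaf ⟨7, 6, true, [13, 33, 8, 6, 0], [2, 49, 8, 46, 41, 2], []⟩) (.leaf ⟨6, 7, true, [6, 30, 20, 14, 21, 0], [4, 6, 8, 32, 12],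 []⟩)))))) (.node 15 (.node 7 (.node 3 (.node 1 (.leaf ⟨7, 6, true, [12, 46, 6, 23, 2], [37, 2, 0, 16, 8], []⟩) (.node 1 (.leaf ⟨6, 7, true, [16, 15, 4, 2, 36], [2, 33, 26, 12, 29, 6], []⟩) (.leaf ⟨7, 6, true, [13, 29, 49, 14, 0], [2, 25, 22, 38, 26, 4], []⟩))) (.node 2 (.node 1 (.leaf ⟨7, 6, true, [4, 6, 21, 32, 38, 0], [36, 6, 37, 49, 22], []⟩) (.leaf ⟨7, 6, true, [0, 15, 28, 23, 14, 2], [42, 26, 37, 33, 14], []⟩)) (.node 1 (.leaf ⟨7, 6, true, [12, 40, 45, 43, 45, 4], [21, 47, 49, 22, 48, 6], []⟩) (.leaf ⟨6, 7, true, [10, 33, 29, 46, 24, 0], [8, 47, 10, 24, 0, 2], []⟩)))) (.node 4 (.node 2 (.node 1 (.leaf ⟨7, 5, true, [36, 29, 36, 11, 31], [33, 49, 40, 46, 44], []⟩) (.leaf ⟨5, 7, true, [48, 17, 26, 44, 28], [15, 21, 30, 10, 32, 10], []⟩)) (.node 1 (.leaf ⟨7, 6, true, [33, 10, 8, 19,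 2], [37, 33, 10, 34, 47, 4], []⟩) (.leaf ⟨6, 7, true, [35, 44, 28, 45, 10, 0], [10, 37, 34, 23, 34], []⟩))) (.node 2 (.node 1 (.leaf ⟨7, 6, true, [8, 36, 10, 30, 28, 8], [44, 31, 2, 14, 32, 6], []⟩) (.leaf ⟨6, 7, true, [34, 49, 6, 18, 13, 2], [13, 38, 45, 37, 29, 8], []⟩)) (.node 1 (.leaf ⟨7, 5, true, [8, 39, 49, 27, 27], [45, 6, 48, 33, 35, 22], []⟩) (.leaf ⟨5, 7, true, [11, 27, 42, 39, 32], [14, 37, 40, 46, 24, 4], []⟩))))) (.node 7 (.node 3 (.node 1 (.leaf ⟨7, 6, true, [30, 17, 18, 42, 4, 17], [13, 38, 4, 21, 18], []⟩) (.node 1 (.leaf ⟨6, 7, true, [0, 11, 18, 46, 6, 8], [16, 43, 19, 16, 31], []⟩) (.leaf ⟨7, 6, true, [30, 49, 8, 46, 23], [8, 2, 42, 32, 16, 37], []⟩))) (.node 2 (.node 1 (.leaf ⟨6, 7, true, [10, 6, 44, 20, 8, 22], [37, 30, 27, 20, 17, 0], []⟩) (.leaf ⟨7, 6, true, [26,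 22, 45, 36, 20], [26, 8, 20, 41, 48, 2], []⟩)) (.node 1 (.leaf ⟨6, 7, true, [23, 45, 15, 13, 28, 10], [0, 17, 26, 44, 41, 6], []⟩) (.leaf ⟨7, 3, true, [17, 40, 13, 17, 18], [36, 26, 17, 18, 40, 29], []⟩)))) (.node 4 (.node 2 (.node 1 (.leaf ⟨3, 7, true, [27, 49, 15, 49, 17, 6], [21, 22, 41, 16], []⟩) (.leaf ⟨7, 6, true, [42, 0, 21, 42, 33, 40], [15, 47, 47, 34, 19, 2], []⟩)) (.node 1 (.leaf ⟨7, 6, true, [20, 46, 16, 39, 24, 6], [13, 42, 44, 32, 23, 0], []⟩) (.leaf ⟨6, 7, true, [43, 18, 41, 43, 4], [24, 28, 17, 41, 14, 6], []⟩))) (.node 2 (.node 1 (.leaf ⟨7, 5, true, [16, 39, 4, 34, 37], [2, 15, 28, 42, 38], []⟩) (.leaf ⟨5, 7, true, [13, 22, 26, 42, 17, 0], [21, 37, 23, 16, 39, 2], []⟩)) (.node 1 (.leaf ⟨7, 6, true, [32, 10, 18, 33, 37, 2], [4, 37, 13, 23, 28, 2], []⟩) (.leaf ⟨6, 7, true,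 [40, 31, 15, 37, 26, 2], [44, 27, 8, 10, 33], []⟩)))))))
noncomputable def dF2765 : BT Fct := (.node 30 (.node 15 (.node 7 (.node 3 (.node 1 (.leaf ⟨7, 6, true, [32, 22, 25, 26, 12, 2], [33, 41, 28, 35, 27, 10], []⟩) (.node 1 (.leaf ⟨6, 7, true, [36, 12, 46, 17, 32, 14], [2, 20, 29, 16, 33], []⟩) (.leaf ⟨7, 6, true, [48, 16, 31, 4, 34, 18], [25, 35, 27, 27, 6, 8], []⟩))) (.node 2 (.node 1 (.leaf ⟨7, 6, true, [29, 2, 31, 44, 48, 10], [19, 21, 42, 6, 45, 6], []⟩) (.leaf ⟨7, 6, true, [18, 12, 41, 23, 29, 8], [30, 6, 8, 28, 15, 2], []⟩)) (.node 1 (.leaf ⟨6, 7, true, [49, 0, 14, 43, 37, 16], [19, 28, 40, 26, 13], []⟩) (.leaf ⟨7, 6, true, [39, 34, 0, 2, 26], [39, 10, 23, 28, 43, 40], []⟩)))) (.node 4 (.node 2 (.node 1 (.leaf ⟨6, 7, true, [35, 25, 49, 12, 17, 2], [45, 37, 30, 10, 45], []⟩) (.leaf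 ⟨7, 5, true, [0, 34, 25, 22, 30], [34, 16, 39, 24, 26, 37], []⟩)) (.node 1 (.leaf ⟨5, 7, true, [44, 14, 45, 16, 46], [28, 11, 48, 48, 10, 4], []⟩) (.leaf ⟨7, 6, true, [16, 43, 22, 36, 43, 8], [8, 11, 18, 35, 37, 32], []⟩))) (.node 2 (.node 1 (.leaf ⟨7, 5, true, [18, 15, 11, 49, 43, 4], [41, 6, 4, 28, 41, 13], []⟩) (.leaf ⟨5, 7, true, [49, 41, 38, 48, 12, 10], [33, 26, 14, 17, 35, 6], []⟩)) (.node 1 (.leaf ⟨7, 6, true, [37, 21, 45, 28, 27], [35, 43, 37, 8, 35, 4], []⟩) (.leaf ⟨6, 7, true, [49, 0, 38, 37, 26, 0], [24, 27, 44, 20, 36, 4], []⟩))))) (.node 7 (.node 3 (.node 1 (.leaf ⟨7, 6, true, [23, 0, 48, 0, 38], [47, 19, 49, 20, 13, 32], []⟩) (.node 1 (.leaf ⟨6, 7, true, [24, 23, 2, 43, 17, 2], [6, 32, 49, 14, 17, 43], []⟩) (.leaf ⟨7, 6, true, [4, 34, 32, 19, 4], [20, 39, 49, 6, 29], []⟩)))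 (.node 2 (.node 1 (.leaf ⟨6, 7, true, [47, 6, 31, 15, 32, 16], [18, 0, 33, 35, 4], []⟩) (.leaf ⟨7, 6, true, [30, 45, 45, 10, 6], [42, 11, 22, 39, 44, 4], []⟩)) (.node 1 (.leaf ⟨6, 7, true, [14, 19, 15, 42, 14, 10], [37, 30, 27, 18, 28], []⟩) (.leaf ⟨7, 6, true, [15, 42, 13, 36, 30, 6], [27, 13, 31, 37, 27, 6], []⟩)))) (.node 4 (.node 2 (.node 1 (.leaf ⟨7, 6, true, [36, 30, 22, 15, 12], [25, 28, 11, 16, 43, 2], []⟩) (.leaf ⟨7, 6, true, [12, 2, 48, 10, 22, 30], [34, 46, 43, 14, 18, 10], []⟩)) (.node 1 (.leaf ⟨6, 7, true, [36, 2, 8, 31, 47, 22], [2, 19, 48, 27, 39, 2], []⟩) (.leaf ⟨7, 6, true, [36, 4, 38, 26, 47, 6], [27, 25, 13, 49, 37, 0], []⟩))) (.node 2 (.node 1 (.leaf ⟨6, 7, true, [38, 10, 20, 46, 35, 49], [17, 20, 44, 17, 17, 48], []⟩) (.leaf ⟨7, 6, true, [16, 23, 15, 41, 37], [4,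 42, 13, 31, 12, 6], []⟩)) (.node 1 (.leaf ⟨6, 7, true, [43, 16, 48, 26, 29], [0, 37, 28, 39, 20, 6], []⟩) (.leaf ⟨7, 6, true, [2, 19, 17, 12, 0, 2], [31, 24, 39, 13, 17, 6], []⟩)))))) (.node 15 (.node 7 (.node 3 (.node 1 (.leaf ⟨6, 7, true, [11, 13, 49, 35, 49, 0], [2, 29, 23, 23, 4, 2], []⟩) (.node 1 (.leaf ⟨7, 6, true, [30, 10, 35, 42, 13, 4], [17, 11, 15, 20, 33, 6], []⟩) (.leaf ⟨7, 5, true, [34, 40, 32, 29, 49, 4], [49, 14, 35, 38, 42, 41], []⟩))) (.node 2 (.node 1 (.leaf ⟨5, 7, true, [2, 49, 25, 13, 16], [11, 46, 36, 14, 30, 2], []⟩) (.leaf ⟨7, 5, true, [25, 2, 43, 13, 45, 19], [39, 15, 46, 31, 10], []⟩)) (.node 1 (.leaf ⟨5, 7, true, [0, 49, 18, 16, 2], [47, 10, 19, 41, 20, 41], []⟩) (.leaf ⟨7, 5, true, [29, 15, 29, 38, 15], [40, 40, 11, 24, 49, 2], []⟩)))) (.node 4 (.node 2 (.node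 1 (.leaf ⟨5, 7, true, [30, 13, 17, 47, 6, 2], [19, 31, 38, 25, 19, 6], []⟩) (.leaf ⟨7, 6, true, [2, 34, 49, 44, 24, 4], [6, 44, 42, 33, 36, 4], []⟩)) (.node 1 (.leaf ⟨6, 7, true, [18, 4, 37, 37, 6], [18, 14, 45, 48, 35], []⟩) (.leaf ⟨7, 6, true, [0, 19, 34, 15, 15, 8], [2, 29, 44, 40, 14], []⟩))) (.node 2 (.node 1 (.leaf ⟨6, 7, true, [31, 14, 6, 39, 2, 48], [39, 25, 47, 13, 8], []⟩) (.leaf ⟨7, 5, true, [38, 19, 37, 47, 48], [39, 34, 47, 49, 13, 10], []⟩)) (.node 1 (.leaf ⟨5, 7, true, [18, 20, 38, 36, 16, 6], [2, 8, 32, 12, 11], []⟩) (.leaf ⟨7, 6, true, [15, 43, 34, 45, 23, 8], [44, 0, 48, 0, 44, 46], []⟩))))) (.node 7 (.node 3 (.node 1 (.leaf ⟨6, 7, true, [22, 2, 26, 31, 48, 4], [8, 47, 40, 35, 35, 10], []⟩) (.node 1 (.leaf ⟨7, 6, true, [48, 35, 8, 11, 0], [4, 44, 29, 27, 34, 4], []⟩)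 (.leaf ⟨6, 7, true, [43, 47, 30, 39, 42], [4, 10, 8, 34, 49], []⟩))) (.node 2 (.node 1 (.leaf ⟨7, 6, true, [48, 23, 25, 22, 13], [8, 38, 36, 24, 12, 10], []⟩) (.leaf ⟨6, 7, true, [40, 15, 38, 49, 4], [17, 13, 15, 49, 0], []⟩)) (.node 1 (.leaf ⟨7, 6, true, [6, 30, 10, 35, 42, 4], [21, 25, 37, 34, 33, 0], []⟩) (.leaf ⟨6, 7, true, [32, 23, 25, 47, 33, 2], [35, 10, 48, 47, 21], []⟩)))) (.node 4 (.node 2 (.node 1 (.leaf ⟨5, 7, true, [4, 41, 20, 2, 21, 6], [10, 33, 19, 20, 28, 6], []⟩) (.leaf ⟨7, 5, true, [34, 2, 39, 35, 4], [24, 0, 41, 2, 19, 11], []⟩)) (.node 1 (.leaf ⟨6, 7, true, [2, 39, 46, 14, 32, 2], [14, 4, 41, 16, 43, 23], []⟩) (.leaf ⟨7, 6, true, [11, 41, 27, 11, 23], [29, 11, 41, 35, 0], []⟩))) (.node 2 (.node 1 (.leaf ⟨6, 7, true, [33, 6, 33, 41, 24, 14], [19, 10, 45, 33, 20], []⟩)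 (.leaf ⟨7, 6, true, [4, 48, 2, 19, 28], [40, 40, 14, 49, 15, 0], []⟩)) (.node 1 (.leaf ⟨6, 7, true, [26, 45, 36, 29, 34, 6], [12, 37, 21, 49, 36, 10], []⟩) (.leaf ⟨7, 6, true, [33, 10, 44, 27, 24, 19], [35, 20, 27, 44, 46, 8], []⟩)))))))
noncomputable def dF2825 : BT Fct := (.node 30 (.node 15 (.node 7 (.node 3 (.node 1 (.leaf ⟨6, 7, true, [20, 11, 34, 45, 23, 24], [28, 38, 35, 17, 49, 2], []⟩) (.node 1 (.leaf ⟨7, 6, true, [31, 10, 25, 42, 20, 29], [35, 0, 45, 38, 12, 48], []⟩) (.leaf ⟨6, 7, true, [17, 8, 39, 45, 12, 10], [6, 46, 33, 21, 12, 0], []⟩))) (.node 2 (.node 1 (.leaf ⟨7, 6, true, [10, 40, 32, 2, 14, 0], [22, 8, 35, 4, 46, 6], []⟩) (.leaf ⟨6, 7, true, [34, 2, 39, 36, 4, 33], [21, 45, 47, 4, 49, 6], []⟩)) (.node 1 (.leaf ⟨7, 6, true, [6, 48, 28, 13, 16, 8], [29, 44, 48, 6, 16,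 2], []⟩) (.leaf ⟨6, 7, true, [11, 26, 33, 23, 45, 30], [10, 43, 31, 17, 49, 4], []⟩)))) (.node 4 (.node 2 (.node 1 (.leaf ⟨7, 6, true, [45, 33, 24, 27, 25], [20, 29, 8, 40, 33, 4], []⟩) (.leaf ⟨6, 7, true, [20, 35, 46, 8, 15, 0], [14, 29, 11, 34, 26], []⟩)) (.node 1 (.leaf ⟨7, 6, true, [0, 46, 0, 40, 20, 4], [10, 14, 18, 37, 12, 4], []⟩) (.leaf ⟨6, 7, true, [19, 23, 42, 15, 25, 6], [11, 20, 13, 45, 31, 4], []⟩))) (.node 2 (.node 1 (.leaf ⟨7, 6, true, [43, 0, 39, 35, 10, 36], [24, 2, 17, 49, 38], []⟩) (.leaf ⟨5, 7, true, [24, 43, 41, 32, 39, 8], [29, 0, 48, 28, 11, 14], []⟩)) (.node 1 (.leaf ⟨7, 5, true, [33, 45, 40, 25, 10], [6, 49, 10, 46, 39, 8], []⟩) (.leaf ⟨6, 7, true, [31, 36, 39, 2, 15], [43, 37, 45, 19, 8], []⟩))))) (.node 7 (.node 3 (.node 1 (.leaf ⟨7, 6, true, [15, 47, 40, 37,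 4], [14, 0, 2, 38, 37, 30], []⟩) (.node 1 (.leaf ⟨6, 7, true, [34, 29, 2, 42, 36, 8], [30, 13, 34, 37, 2, 4], []⟩) (.leaf ⟨7, 6, true, [11, 23, 49, 19, 21, 10], [44, 32, 30, 17, 38, 4], []⟩))) (.node 2 (.node 1 (.leaf ⟨4, 7, true, [24, 4, 47, 26, 33, 41], [25, 19, 49, 29, 49, 43], []⟩) (.leaf ⟨7, 4, true, [2, 17, 40, 19, 12, 4], [8, 10, 31, 37, 10, 10], []⟩)) (.node 1 (.leaf ⟨6, 7, true, [15, 0, 6, 23, 48, 37], [44, 39, 21, 12, 42], []⟩) (.leaf ⟨7, 6, true, [4, 39, 2, 22, 10, 2], [27, 48, 32, 4, 29, 6], []⟩)))) (.node 4 (.node 2 (.node 1 (.leaf ⟨5, 7, true, [35, 6, 30, 10, 19, 16], [13, 20, 12, 43, 44, 6], []⟩) (.leaf ⟨7, 5, true, [19, 10, 30, 10, 34, 2], [38, 18, 15, 43, 0], []⟩)) (.node 1 (.leaf ⟨6, 7, true, [0, 27, 32, 22, 34, 6], [24, 2, 16, 21, 23, 6], []⟩) (.leaf ⟨7, 6, true, [27,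 31, 44, 36, 23, 2], [36, 0, 32, 18, 12, 37], []⟩))) (.node 2 (.node 1 (.leaf ⟨6, 7, true, [12, 49, 17, 33, 36, 0], [30, 2, 0, 36, 24, 17], []⟩) (.leaf ⟨7, 6, true, [0, 18, 40, 25, 15, 0], [21, 40, 43, 36, 10, 8], []⟩)) (.node 1 (.leaf ⟨6, 7, true, [40, 0, 17, 34, 49, 23], [35, 29, 27, 23, 0], []⟩) (.leaf ⟨7, 6, true, [29, 16, 16, 34, 0], [42, 17, 38, 46, 24, 28], []⟩)))))) (.node 15 (.node 7 (.node 3 (.node 1 (.leaf ⟨6, 7, true, [47, 39, 2, 45, 16], [11, 37, 10, 35, 31, 4], []⟩) (.node 1 (.leaf ⟨7, 6, true, [15, 40, 25, 15, 0], [16, 36, 47, 43, 34, 8], []⟩) (.leaf ⟨6, 7, true, [40, 14, 33, 31, 31, 48], [44, 18, 23, 10, 22], []⟩))) (.node 2 (.node 1 (.leaf ⟨7, 6, true, [0, 6, 48, 2, 18], [6, 43, 34, 37, 26, 0], []⟩) (.leaf ⟨4, 7, true, [22, 35, 25, 39, 27], [26, 33, 47, 16, 41, 6], []⟩))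 (.node 1 (.leaf ⟨7, 4, true, [47, 2, 25, 22, 41, 12], [37, 45, 43, 22, 34, 10], []⟩) (.leaf ⟨6, 7, true, [32, 35, 42, 39, 35, 4], [38, 30, 37, 42, 10], []⟩)))) (.node 4 (.node 2 (.node 1 (.leaf ⟨7, 6, true, [2, 0, 38, 14, 11, 18], [46, 6, 27, 16, 25, 43], []⟩) (.leaf ⟨6, 7, true, [42, 30, 8, 43, 38, 4], [4, 33, 28, 20, 28, 10], []⟩)) (.node 1 (.leaf ⟨7, 6, true, [34, 29, 36, 27, 0], [40, 27, 43, 44, 43, 4], []⟩) (.leaf ⟨6, 7, true, [38, 36, 46, 36, 8, 6], [8, 25, 38, 40, 46, 6], []⟩))) (.node 2 (.node 1 (.leaf ⟨7, 6, true, [44, 0, 27, 13, 24, 11], [20, 19, 10, 23, 40], []⟩) (.leaf ⟨6, 7, true, [30, 21, 37, 28, 19, 8], [29, 8, 10, 46, 32, 11], []⟩)) (.node 1 (.leaf ⟨7, 6, true, [15, 8, 30, 22, 8, 0], [30, 11, 35, 28, 36, 26], []⟩) (.leaf ⟨6, 7, true, [0, 46, 26, 16, 20, 10], [31, 36, 24,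 17, 23], []⟩))))) (.node 8 (.node 4 (.node 2 (.node 1 (.leaf ⟨7, 6, true, [29, 10, 43, 26, 49, 2], [18, 47, 25, 28, 35, 6], []⟩) (.leaf ⟨6, 7, true, [45, 12, 0, 15, 37], [28, 30, 28, 31, 26, 8], []⟩)) (.node 1 (.leaf ⟨7, 6, true, [30, 29, 15, 8, 11, 4], [20, 34, 25, 25, 33, 6], []⟩) (.leaf ⟨5, 7, true, [38, 11, 2, 16, 15], [2, 36, 6, 24, 39, 2], []⟩))) (.node 2 (.node 1 (.leaf ⟨7, 5, true, [11, 0, 43, 27, 17, 19], [21, 42, 27, 31, 26, 10], []⟩) (.leaf ⟨7, 6, true, [35, 12, 28, 43, 25, 2], [16, 48, 39, 45, 17, 0], []⟩)) (.node 1 (.leaf ⟨6, 7, true, [28, 44, 20, 13, 28, 0], [20, 49, 25, 16, 31, 2], []⟩) (.leaf ⟨7, 6, true, [4, 48, 20, 16, 21], [20, 12, 47, 24, 42, 34], []⟩)))) (.node 4 (.node 2 (.node 1 (.leaf ⟨6, 7, true, [17, 30, 47, 42, 35, 4], [15, 23, 8, 24, 49, 4], []⟩) (.leaf ⟨7,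 5, true, [29, 12, 47, 27, 23, 25], [37, 27, 12, 41, 35, 2], []⟩)) (.node 1 (.leaf ⟨5, 7, true, [6, 30, 19, 20, 11, 6], [22, 2, 40, 47, 13, 35], []⟩) (.leaf ⟨7, 6, true, [2, 10, 41, 14, 32, 2], [38, 40, 44, 18, 40, 6], []⟩))) (.node 2 (.node 1 (.leaf ⟨6, 7, true, [24, 43, 37, 34, 43], [24, 26, 45, 19, 8], []⟩) (.leaf ⟨7, 6, true, [30, 17, 30, 27, 38, 6], [27, 0, 11, 20, 6, 37], []⟩)) (.node 1 (.leaf ⟨7, 5, true, [29, 31, 35, 49, 44, 4], [37, 49, 33, 10, 40, 4], []⟩) (.leaf ⟨5, 7, true, [39, 4, 14, 11, 43, 43], [12, 28, 44, 43, 44, 6], []⟩)))))))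
noncomputable def dF2886 : BT Fct := (.node 30 (.node 15 (.node 7 (.node 3 (.node 1 (.leaf ⟨7, 6, true, [36, 20, 4, 49, 30, 18], [8, 49, 33, 39, 20, 10], []⟩) (.node 1 (.leaf ⟨6, 7, true, [21, 4, 43, 20, 11, 49], [41, 17, 21, 48, 22, 4], []⟩) (.leaf ⟨5, 7, true, [6, 37, 19, 48, 19, 8], [17, 31, 43, 40, 26, 10], []⟩))) (.node 2 (.node 1 (.leaf ⟨7, 5, true, [30, 37, 6, 48, 23, 6], [14, 34, 21, 45, 30, 0], []⟩) (.leaf ⟨6, 7, true, [23, 29, 36, 36], [41, 39, 14, 47, 21, 4], []⟩)) (.node 1 (.leaf ⟨7, 6, true, [31, 12, 33, 21, 18], [4, 0, 37, 37, 28, 22], []⟩) (.leaf ⟨7, 7, true, [44, 16, 27, 23, 28], [14, 22, 17, 34, 10, 8], []⟩)))) (.node 4 (.node 2 (.node 1 (.leaf ⟨5, 7, true, [8, 46, 8, 27, 16, 4], [47, 26, 11, 6, 16], []⟩) (.leaf ⟨7, 5, true, [37, 15, 2, 14, 18], [0, 17, 26, 8, 47, 8],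 []⟩)) (.node 1 (.leaf ⟨6, 7, true, [15, 23, 30, 34, 16, 0], [11, 42, 32, 22, 38, 0], []⟩) (.leaf ⟨7, 6, true, [8, 34, 10, 32, 12, 6], [17, 4, 34, 36, 49, 24], []⟩))) (.node 2 (.node 1 (.leaf ⟨5, 7, true, [40, 42, 28, 20, 0], [37, 30, 29, 27, 24, 0], []⟩) (.leaf ⟨7, 5, true, [14, 44, 47, 6, 44], [4, 21, 29, 43, 41], []⟩)) (.node 1 (.leaf ⟨6, 7, true, [43, 22, 20, 43, 45], [8, 31, 8, 47, 49], []⟩) (.leaf ⟨7, 6, true, [37, 49, 33, 2, 46], [25, 33, 11, 0, 37, 8], []⟩))))) (.node 7 (.node 3 (.node 1 (.leaf ⟨5, 7, true, [21, 30, 15, 40, 34, 0], [0, 14, 31, 27, 47, 43], []⟩) (.node 1 (.leaf ⟨7, 5, true, [4, 48, 2, 46, 30, 0], [46, 10, 21, 43, 41, 29], []⟩) (.leaf ⟨6, 7, true, [4, 2, 28, 47, 6, 15], [26, 36, 49, 15, 6], []⟩))) (.node 2 (.node 1 (.leaf ⟨7, 6, true, [47, 2, 47, 31, 42, 33], [41,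 39, 2, 25, 23, 10], []⟩) (.leaf ⟨6, 7, true, [10, 47, 20, 33, 30, 0], [30, 35, 24, 31, 18, 8], []⟩)) (.node 1 (.leaf ⟨7, 6, true, [46, 29, 48, 35, 46, 48], [15, 22, 39, 45, 46, 8], []⟩) (.leaf ⟨6, 7, true, [26, 29, 22, 34, 44], [23, 0, 35, 39, 22, 39], []⟩)))) (.node 4 (.node 2 (.node 1 (.leaf ⟨7, 6, true, [31, 12, 26, 38, 36, 19], [20, 12, 24, 33, 10, 35], []⟩) (.leaf ⟨6, 7, true, [31, 12, 2, 39, 47], [37, 29, 46, 37, 44, 6], []⟩)) (.node 1 (.leaf ⟨7, 6, true, [49, 32, 39, 39, 15], [0, 26, 8, 2, 39, 0], []⟩) (.leaf ⟨6, 7, true, [8, 0, 24, 42, 29, 34], [39, 34, 10, 30, 16], []⟩))) (.node 2 (.node 1 (.leaf ⟨7, 6, true, [40, 2, 23, 44, 38, 8], [46, 42, 39, 31, 39, 0], []⟩) (.leaf ⟨6, 7, true, [36, 0, 16, 20, 49, 20], [2, 30, 14, 10, 18, 8], []⟩)) (.node 1 (.leaf ⟨7, 6, true, [15, 4, 22,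 2, 39, 29], [2, 38, 25, 45, 34, 10], []⟩) (.leaf ⟨6, 7, true, [11, 2, 28, 47, 11, 11], [37, 18, 14, 16, 34], []⟩)))))) (.node 15 (.node 7 (.node 3 (.node 1 (.leaf ⟨7, 6, true, [40, 40, 29, 26, 34, 8], [39, 30, 24, 6, 14], []⟩) (.node 1 (.leaf ⟨5, 7, true, [35, 29, 49, 2, 39], [28, 44, 44, 40, 19], []⟩) (.leaf ⟨7, 5, true, [10, 39, 28, 28, 24, 6], [10, 27, 44, 32, 6], []⟩))) (.node 2 (.node 1 (.leaf ⟨7, 6, true, [26, 36, 42, 26, 6], [28, 18, 18, 40, 33, 10], []⟩) (.leaf ⟨6, 7, true, [41, 46, 6, 17, 32, 2], [11, 37, 2, 28, 18], []⟩)) (.node 1 (.leaf ⟨7, 6, true, [30, 24, 11, 15, 15], [42, 8, 38, 32, 16, 21], []⟩) (.leaf ⟨6, 7, true, [35, 37, 33, 25, 20], [4, 35, 27, 16, 26], []⟩)))) (.node 4 (.node 2 (.node 1 (.leaf ⟨7, 6, true, [44, 36, 10, 42, 48], [4, 30, 46, 43, 34, 6], []⟩) (.leaf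 ⟨6, 7, true, [2, 42, 21, 25, 25, 2], [2, 26, 29, 6], []⟩)) (.node 1 (.leaf ⟨7, 6, true, [34, 8, 29, 37, 10, 8], [29, 15, 27, 45, 34], []⟩) (.leaf ⟨7, 5, true, [22, 43, 18, 49, 35, 2], [8, 40, 21, 40, 27], []⟩))) (.node 2 (.node 1 (.leaf ⟨5, 7, true, [30, 12, 21, 10, 26], [13, 10, 41, 25, 21, 6], []⟩) (.leaf ⟨7, 6, true, [8, 33, 45, 12, 19, 8], [16, 30, 40, 27, 28, 4], []⟩)) (.node 1 (.leaf ⟨6, 7, true, [12, 25, 2, 37, 19, 2], [23, 35, 0, 47, 39], []⟩) (.leaf ⟨7, 6, true, [4, 11, 19, 47, 33, 2], [13, 39, 30, 26, 32, 0], []⟩))))) (.node 7 (.node 3 (.node 1 (.leaf ⟨6, 7, true, [21, 44, 17, 8, 18, 2], [2, 40, 30, 38, 44, 0], []⟩) (.node 1 (.leaf ⟨7, 6, true, [49, 34, 24, 45, 22, 2], [21, 49, 36, 8, 34, 10], []⟩) (.leaf ⟨6, 7, true, [15, 43, 8, 20, 38, 6], [47, 19, 12, 30, 34, 4], []⟩))) (.node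 2 (.node 1 (.leaf ⟨7, 6, true, [37, 12, 31, 16, 41, 4], [35, 19, 6, 30, 40], []⟩) (.leaf ⟨6, 7, true, [20, 10, 30, 6, 16, 30], [35, 28, 16, 4, 35, 6], []⟩)) (.node 1 (.leaf ⟨7, 6, true, [16, 6, 27, 2, 49, 10], [48, 33, 16, 48, 24], []⟩) (.leaf ⟨7, 6, true, [26, 24, 46, 17, 48, 6], [11, 17, 42, 22, 2, 30], []⟩)))) (.node 4 (.node 2 (.node 1 (.leaf ⟨6, 7, true, [48, 12, 46, 28, 41, 2], [16, 32, 16, 20, 32, 0], []⟩) (.leaf ⟨7, 6, true, [19, 48, 10, 41, 28], [8, 34, 40, 15, 48], []⟩)) (.node 1 (.leaf ⟨6, 7, true, [37, 12, 29, 34, 25, 4], [46, 41, 28, 20, 46, 0], []⟩) (.leaf ⟨7, 6, true, [36, 26, 14, 45, 45, 4], [22, 4, 24, 46, 27, 43], []⟩))) (.node 2 (.node 1 (.leaf ⟨7, 7, true, [10, 0, 16, 2, 21, 35], [6, 30, 43, 23, 46], []⟩) (.leaf ⟨7, 6, true, [38, 16, 41, 47, 18, 8], [4, 43, 28, 44,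 30, 6], []⟩)) (.node 1 (.leaf ⟨3, 8, true, [11, 19, 11, 19, 2], [], []⟩) (.leaf ⟨8, 8, false, [28, 15, 21, 8], [], []⟩)))))))
noncomputable def dF2946 : BT Fct := (.node 30 (.node 15 (.node 7 (.node 3 (.node 1 (.leaf ⟨8, 6, true, [13, 8, 19, 14, 6], [24, 26, 40, 29, 35, 2], []⟩) (.node 1 (.leaf ⟨6, 8, true, [8, 39, 2, 37, 37], [6, 20, 23, 29, 20], []⟩) (.leaf ⟨8, 6, true, [14, 17, 21, 21, 6], [12, 17, 35, 8, 43, 31], []⟩))) (.node 2 (.node 1 (.leaf ⟨6, 8, true, [11, 0, 28, 13, 36, 26], [25, 29, 15, 6], []⟩) (.leaf ⟨8, 6, true, [19, 14, 29, 8, 6], [27, 48, 43, 31, 21, 6], []⟩)) (.node 1 (.leaf ⟨6, 8, true, [28, 45, 42, 21, 32, 2], [30, 49, 20, 13, 8], []⟩) (.leaf ⟨8, 6, true, [10, 36, 32, 10, 20], [31, 2, 39, 13, 26, 43], []⟩)))) (.node 4 (.node 2 (.node 1 (.leaf ⟨8, 8, false, [13, 37,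 35, 6, 32, 0], [], []⟩) (.leaf ⟨8, 6, true, [8, 17, 23, 12, 11], [31, 0, 13, 16, 38, 38], []⟩)) (.node 1 (.leaf ⟨6, 8, true, [6, 46, 44, 26, 11, 6], [8, 10, 16, 20, 18], []⟩) (.leaf ⟨8, 6, true, [10, 18, 10, 32, 47, 0], [43, 36, 35, 47, 14, 10], []⟩))) (.node 2 (.node 1 (.leaf ⟨8, 6, true, [2, 10, 22, 8, 19, 8], [47, 23, 21, 44, 2], []⟩) (.leaf ⟨8, 8, true, [8, 43, 19, 26, 4, 0], [13, 39, 11, 46, 29], []⟩)) (.node 1 (.leaf ⟨3, 9, true, [37, 11, 6, 2, 26, 2], [], []⟩) (.leaf ⟨9, 9, false, [28, 4, 21, 19], [], []⟩))))) (.node 7 (.node 3 (.node 1 (.leaf ⟨9, 9, false, [25, 16, 22, 0], [], []⟩) (.node 1 (.leaf ⟨9, 8, true, [19, 20, 19, 17, 6], [6, 13, 8, 24, 12], []⟩) (.leaf ⟨8, 9, true, [2, 16, 20, 14, 13], [29, 29, 6, 22, 16], []⟩))) (.node 2 (.node 1 (.leaf ⟨9, 6, true, [23, 24, 28, 13,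 6], [2, 16, 46, 16, 2], []⟩) (.leaf ⟨9, 6, true, [28, 15, 16, 15, 6], [4, 29, 16, 21, 34, 10], []⟩)) (.node 1 (.leaf ⟨9, 6, true, [22, 15, 28, 18, 6], [4, 10, 43, 28, 14, 0], []⟩) (.leaf ⟨6, 9, true, [4, 45, 26, 28, 49, 8], [26, 26, 21, 6], []⟩)))) (.node 4 (.node 2 (.node 1 (.leaf ⟨9, 8, true, [19, 29, 17, 8, 6], [12, 19, 45, 39, 49], []⟩) (.leaf ⟨9, 9, false, [43, 14, 33, 43, 21, 16], [], []⟩)) (.node 1 (.leaf ⟨9, 6, true, [19, 28, 12, 8, 6], [17, 38, 37, 41, 20, 4], []⟩) (.leaf ⟨6, 9, true, [17, 27, 6, 30, 23], [6, 25, 17, 17, 13], []⟩))) (.node 2 (.node 1 (.leaf ⟨9, 3, true, [16, 27, 6, 38, 34], [21, 11, 38, 43, 19, 26], []⟩) (.leaf ⟨3, 9, true, [36, 36, 10, 32, 22], [39, 33, 18, 44, 37, 6], []⟩)) (.node 1 (.leaf ⟨9, 6, true, [10, 43, 10, 28, 44], [41, 30, 11, 16, 38, 8], []⟩) (.leaf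 ⟨6, 9, true, [10, 6, 47, 22, 41, 19], [45, 40, 49, 33, 6], []⟩)))))) (.node 15 (.node 7 (.node 3 (.node 1 (.leaf ⟨9, 6, true, [11, 46, 12, 23, 25, 4], [19, 11, 27, 22, 42, 0], []⟩) (.node 1 (.leaf ⟨6, 9, true, [46, 26, 23, 40, 12, 17], [11, 24, 11, 15, 46, 6], []⟩) (.leaf ⟨9, 6, true, [29, 13, 45, 39, 23], [0, 11, 38, 46, 24, 8], []⟩))) (.node 2 (.node 1 (.leaf ⟨6, 9, true, [18, 6, 33, 30, 19, 29], [11, 35, 42, 26, 25, 0], []⟩) (.leaf ⟨9, 6, true, [2, 29, 18, 23, 14], [19, 40, 19, 30, 8, 10], []⟩)) (.node 1 (.leaf ⟨6, 9, true, [11, 16, 27, 45, 19], [29, 14, 18, 14, 2], []⟩) (.leaf ⟨9, 6, true, [16, 15, 42, 34, 14], [14, 47, 41, 25, 22, 2], []⟩)))) (.node 4 (.node 2 (.node 1 (.leaf ⟨9, 6, true, [35, 21, 34, 24, 35], [20, 19, 40, 29, 40, 2], []⟩) (.leaf ⟨6, 9, true, [19, 39, 18, 29, 15],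 [14, 48, 6, 30, 28, 0], []⟩)) (.node 1 (.leaf ⟨9, 6, true, [28, 30, 49, 35, 41, 0], [31, 21, 30, 35, 16, 4], []⟩) (.leaf ⟨6, 9, true, [31, 4, 47, 41, 16, 34], [18, 18, 38, 15, 17], []⟩))) (.node 2 (.node 1 (.leaf ⟨9, 6, true, [38, 24, 8, 29, 8], [21, 31, 39, 49, 4, 2], []⟩) (.leaf ⟨6, 9, true, [31, 12, 39, 6, 2], [15, 20, 19, 23, 39], []⟩)) (.node 1 (.leaf ⟨9, 6, true, [2, 46, 18, 25, 23, 8], [48, 27, 42, 47, 44, 4], []⟩) (.leaf ⟨9, 6, true, [41, 4, 39, 39, 24], [47, 31, 20, 12, 41, 2], []⟩))))) (.node 7 (.node 3 (.node 1 (.leaf ⟨6, 9, true, [10, 15, 32, 14, 11, 4], [34, 13, 31, 29, 18, 6], []⟩) (.node 1 (.leaf ⟨9, 6, true, [27, 29, 46, 42, 42], [21, 35, 25, 40, 49, 17], []⟩) (.leaf ⟨6, 9, true, [38, 8, 38, 27, 32, 2], [11, 16, 25, 16, 47, 8], []⟩))) (.node 2 (.node 1 (.leaf ⟨9, 6, true,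 [2, 31, 4, 42, 21, 4], [29, 44, 2, 21, 33, 6], []⟩) (.leaf ⟨6, 9, true, [29, 8, 11, 33, 49, 16], [0, 20, 43, 4, 30, 2], []⟩)) (.node 1 (.leaf ⟨9, 6, true, [2, 39, 47, 30, 49], [18, 28, 32, 22, 29], []⟩) (.leaf ⟨6, 9, true, [14, 21, 33, 29, 19], [13, 28, 15, 44, 28, 8], []⟩)))) (.node 4 (.node 2 (.node 1 (.leaf ⟨9, 6, true, [48, 8, 10, 48, 25, 10], [24, 36, 4, 20, 49, 0], []⟩) (.leaf ⟨6, 9, true, [8, 10, 41, 23, 17], [12, 26, 35, 49, 33], []⟩)) (.node 1 (.leaf ⟨9, 6, true, [30, 13, 10, 32, 25], [0, 34, 11, 11, 2], []⟩) (.leaf ⟨9, 7, true, [2, 33, 12, 26, 8], [17, 46, 24, 42, 42, 2], []⟩))) (.node 2 (.node 1 (.leaf ⟨7, 9, true, [47, 34, 25, 26, 10, 0], [6, 11, 23, 15, 28], []⟩) (.leaf ⟨9, 6, true, [4, 49, 44, 25, 13], [38, 12, 18, 46, 36, 48], []⟩)) (.node 1 (.leaf ⟨6, 9, true, [49, 16,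 49, 13, 20, 12], [13, 44, 0, 43, 44], []⟩) (.leaf ⟨9, 6, true, [4, 17, 2, 44, 19], [49, 12, 2, 16, 38], []⟩)))))))
noncomputable def dF3006 : BT Fct := (.node 30 (.node 15 (.node 7 (.node 3 (.node 1 (.leaf ⟨9, 6, true, [46, 40, 46, 22, 25, 10], [33, 10, 22, 25, 37], []⟩) (.node 1 (.leaf ⟨6, 9, true, [44, 17, 47, 18, 28], [22, 46, 34, 16, 28, 4], []⟩) (.leaf ⟨9, 6, true, [45, 10, 25, 31, 10], [2, 35, 36, 14, 11, 0], []⟩))) (.node 2 (.node 1 (.leaf ⟨6, 9, true, [4, 22, 31, 33, 22, 0], [16, 2, 22, 15, 11, 24], []⟩) (.leaf ⟨9, 6, true, [13, 33, 8, 40, 21, 8], [0, 36, 31, 40, 42, 2], []⟩)) (.node 1 (.leaf ⟨6, 9, true, [37, 24, 36, 30, 15, 2], [28, 17, 29, 32, 0], []⟩) (.leaf ⟨9, 6, true, [27, 23, 11, 49, 18], [41, 46, 46, 15, 24], []⟩)))) (.node 4 (.node 2 (.node 1 (.leaf ⟨6, 9, true, [18,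 37, 23, 36, 35, 8], [11, 37, 33, 14, 28, 10], []⟩) (.leaf ⟨9, 6, true, [0, 49, 10, 19, 12, 10], [0, 46, 36, 12, 34, 8], []⟩)) (.node 1 (.leaf ⟨6, 9, true, [42, 42, 44, 37, 12, 0], [10, 37, 38, 14, 16, 8], []⟩) (.leaf ⟨9, 6, true, [0, 6, 14, 26, 16, 6], [30, 16, 31, 31, 14, 21], []⟩))) (.node 2 (.node 1 (.leaf ⟨9, 6, true, [45, 11, 29, 32, 17], [6, 23, 15, 49, 28, 2], []⟩) (.leaf ⟨6, 9, true, [36, 38, 12, 17, 33, 6], [26, 26, 34, 28, 45, 0], []⟩)) (.node 1 (.leaf ⟨9, 6, true, [4, 42, 25, 22, 18, 0], [6, 8, 25, 29, 33, 0], []⟩) (.leaf ⟨6, 9, true, [14, 21, 45, 22, 27, 6], [4, 19, 23, 24, 43, 4], []⟩))))) (.node 7 (.node 3 (.node 1 (.leaf ⟨9, 6, true, [24, 33, 11, 45, 25], [2, 16, 35, 30, 8, 38], []⟩) (.node 1 (.leaf ⟨6, 9, true, [12, 15, 19, 38, 42, 8], [6, 21, 22, 24, 6], []⟩) (.leaf ⟨9,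 9, true, [10, 36, 21, 46, 29, 10], [10, 29, 48, 25, 23, 8], []⟩))) (.node 2 (.node 1 (.leaf ⟨9, 9, true, [25, 8, 37, 28, 45, 49], [10, 6, 13, 41, 44, 17], []⟩) (.leaf ⟨9, 9, true, [32, 43, 22, 20, 0], [6, 34, 44, 39, 35, 6], []⟩)) (.node 1 (.leaf ⟨9, 9, true, [26, 11, 17, 46, 23, 6], [4, 21, 23, 42, 33], []⟩) (.leaf ⟨9, 5, true, [20, 20, 10, 12, 6], [20, 29, 33, 11, 12, 6], []⟩)))) (.node 4 (.node 2 (.node 1 (.leaf ⟨5, 9, true, [12, 35, 41, 2, 26], [43, 31, 13, 33, 37], []⟩) (.leaf ⟨9, 6, true, [28, 13, 2, 17, 4], [28, 0, 34, 39, 20, 28], []⟩)) (.node 1 (.leaf ⟨6, 9, true, [13, 35, 6, 29, 47, 8], [0, 16, 12, 2, 29], []⟩) (.leaf ⟨6, 9, true, [48, 43, 21, 40, 6, 2], [26, 34, 39, 32, 39], []⟩))) (.node 2 (.node 1 (.leaf ⟨9, 6, true, [6, 2, 12, 46, 46, 14], [20, 19, 12, 35, 21, 2], []⟩) (.leaf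 ⟨9, 6, true, [11, 14, 14, 27, 4], [4, 17, 11, 16, 41], []⟩)) (.node 1 (.leaf ⟨9, 6, true, [17, 8, 29, 48, 42, 4], [19, 21, 35, 28, 23], []⟩) (.leaf ⟨9, 9, true, [48, 0, 37, 6, 27], [2, 24, 46, 13, 28, 4], []⟩)))))) (.node 15 (.node 7 (.node 3 (.node 1 (.leaf ⟨9, 5, true, [19, 10, 18, 18, 8, 6], [37, 38, 29, 30, 10], []⟩) (.node 1 (.leaf ⟨5, 9, true, [46, 38, 37, 11, 39, 2], [18, 2, 46, 16, 18], []⟩) (.leaf ⟨9, 9, true, [27, 37, 22, 18, 39], [6, 17, 17, 13, 8], []⟩))) (.node 2 (.node 1 (.leaf ⟨9, 6, true, [32, 47, 21, 23], [47, 16, 14, 35, 6, 0], []⟩) (.leaf ⟨6, 9, true, [23, 6, 16, 45, 35, 6], [6, 20, 10, 28, 4], []⟩)) (.node 1 (.leaf ⟨9, 6, true, [10, 36, 0, 42, 10], [0, 2, 46, 45, 48, 31], []⟩) (.leaf ⟨9, 6, true, [17, 46, 6, 33, 21], [15, 33, 42, 45, 11, 8], []⟩)))) (.node 4 (.node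 2 (.node 1 (.leaf ⟨9, 6, true, [21, 21, 11, 4, 6], [49, 18, 24, 31, 42, 4], []⟩) (.leaf ⟨6, 9, true, [48, 8, 19, 21, 49, 32], [21, 19, 12, 11, 6], []⟩)) (.node 1 (.leaf ⟨9, 9, true, [26, 21, 21, 6, 28], [37, 46, 11, 14, 47], []⟩) (.leaf ⟨9, 9, true, [26, 34, 6, 41, 27], [12, 21, 6, 20, 4], []⟩))) (.node 2 (.node 1 (.leaf ⟨6, 9, true, [48, 39, 42, 40, 15, 0], [48, 8, 32, 43, 45, 49], []⟩) (.leaf ⟨9, 6, true, [11, 44, 27, 29, 18, 8], [2, 4, 35, 18, 36, 0], []⟩)) (.node 1 (.leaf ⟨9, 6, true, [28, 10, 33, 37, 26], [4, 16, 40, 26, 11, 6], []⟩) (.leaf ⟨9, 6, true, [22, 10, 15, 41, 43], [30, 15, 44, 30, 47], []⟩))))) (.node 7 (.node 3 (.node 1 (.leaf ⟨6, 9, true, [29, 33, 18, 40, 27, 0], [11, 23, 24, 46, 33], []⟩) (.node 1 (.leaf ⟨9, 6, true, [8, 18, 33, 38, 49, 28], [13, 44, 25, 18, 24], []⟩)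 (.leaf ⟨6, 9, true, [8, 26, 23, 30, 28], [48, 0, 13, 44, 16, 33], []⟩))) (.node 2 (.node 1 (.leaf ⟨9, 3, true, [28, 20, 48, 27, 10, 0], [33, 48, 16, 46, 41], []⟩) (.leaf ⟨3, 9, true, [28, 40, 38, 16, 35, 8], [13, 25, 2, 15, 21, 4], []⟩)) (.node 1 (.leaf ⟨9, 6, true, [11, 39, 35, 17, 17], [11, 26, 41, 4, 46, 4], []⟩) (.leaf ⟨6, 9, true, [40, 40, 19, 42, 21, 6], [4, 32, 22, 35, 22, 2], []⟩)))) (.node 4 (.node 2 (.node 1 (.leaf ⟨9, 9, true, [35, 0, 40, 15, 36, 15], [11, 14, 2, 31, 27, 22], []⟩) (.leaf ⟨9, 9, true, [29, 37, 10, 34, 10, 8], [32, 2, 21, 45, 27, 11], []⟩)) (.node 1 (.leaf ⟨9, 3, true, [32, 6, 24, 39, 17, 44], [47, 47, 40, 33, 17, 6], []⟩) (.leaf ⟨3, 9, true, [11, 16, 44, 36, 44, 0], [27, 6, 21, 13, 45, 22], []⟩))) (.node 2 (.node 1 (.leaf ⟨9, 8, true, [16, 36, 35, 13, 48, 4],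 [2, 19, 16, 27, 16], []⟩) (.leaf ⟨8, 9, true, [2, 28, 17, 6, 24, 0], [29, 6, 40, 32, 16, 2], []⟩)) (.node 1 (.leaf ⟨6, 9, true, [10, 20, 35, 43, 12, 2], [36, 40, 36, 23, 38, 4], []⟩) (.leaf ⟨9, 6, true, [42, 10, 39, 41, 25], [13, 40, 22, 47, 27, 10], []⟩)))))))
noncomputable def dF3066 : BT Fct := (.node 30 (.node 15 (.node 7 (.node 3 (.node 1 (.leaf ⟨9, 6, true, [34, 16, 10, 19, 40], [34, 40, 45, 22, 26, 6], []⟩) (.node 1 (.leaf ⟨6, 9, true, [39, 15, 12, 36, 40], [11, 13, 15, 11, 45, 4], []⟩) (.leaf ⟨9, 6, true, [33, 42, 20, 10, 6, 8], [19, 37, 22, 14, 11, 0], []⟩))) (.node 2 (.node 1 (.leaf ⟨6, 9, true, [30, 34, 15, 30, 44, 4], [30, 15, 32, 27, 18, 27], []⟩) (.leaf ⟨6, 9, true, [36, 6, 31, 37, 22, 44], [4, 37, 11, 48, 19, 10], []⟩)) (.node 1 (.leaf ⟨9, 6, true, [11, 49, 17, 21, 18,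 0], [49, 12, 30, 39, 18, 47], []⟩) (.leaf ⟨9, 6, true, [30, 47, 44, 36, 19], [8, 36, 38, 32, 47], []⟩)))) (.node 4 (.node 2 (.node 1 (.leaf ⟨6, 9, true, [49, 45, 43, 25, 43, 6], [37, 38, 44, 12, 0], []⟩) (.leaf ⟨9, 5, true, [42, 29, 45, 33, 16, 10], [38, 41, 0, 44, 33, 4], []⟩)) (.node 1 (.leaf ⟨5, 9, true, [30, 6, 28, 6, 18, 20], [18, 17, 6, 17, 11, 2], []⟩) (.leaf ⟨9, 5, true, [28, 8, 48, 19, 19, 15], [35, 11, 43, 31, 38, 4], []⟩))) (.node 2 (.node 1 (.leaf ⟨5, 9, true, [2, 31, 35, 8, 14], [31, 6, 25, 36, 26, 42], []⟩) (.leaf ⟨9, 6, true, [15, 40, 26, 15, 6, 4], [28, 13, 15, 35, 13, 42], []⟩)) (.node 1 (.leaf ⟨6, 9, true, [43, 25, 6, 34, 17, 10], [12, 21, 35, 43, 46], []⟩) (.leaf ⟨9, 6, true, [6, 38, 44, 42, 12, 8], [41, 21, 11, 22, 49, 8], []⟩))))) (.node 7 (.node 3 (.node 1 (.leaf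 ⟨6, 9, true, [13, 0, 18, 2, 4, 40], [0, 6, 37, 45, 48, 8], []⟩) (.node 1 (.leaf ⟨9, 7, true, [11, 34, 0, 36, 44, 4], [6, 8, 34, 34, 33, 8], []⟩) (.leaf ⟨7, 9, true, [29, 33, 12, 18, 22, 4], [49, 17, 10, 29, 23], []⟩))) (.node 2 (.node 1 (.leaf ⟨9, 6, true, [27, 6, 38, 23, 4], [44, 46, 20, 39, 19], []⟩) (.leaf ⟨6, 9, true, [27, 12, 20, 44, 36, 8], [0, 22, 39, 6, 26], []⟩)) (.node 1 (.leaf ⟨9, 6, true, [16, 25, 16, 6, 2], [26, 41, 39, 25, 27, 4], []⟩) (.leaf ⟨6, 9, true, [2, 33, 2, 21, 47, 2], [34, 4, 39, 35, 24], []⟩)))) (.node 4 (.node 2 (.node 1 (.leaf ⟨9, 6, true, [42, 38, 22, 31, 48], [13, 14, 46, 20, 39], []⟩) (.leaf ⟨6, 9, true, [2, 33, 37, 31, 19, 10], [4, 38, 46, 22, 26, 0], []⟩)) (.node 1 (.leaf ⟨9, 6, true, [49, 0, 40, 35, 24, 40], [40, 40, 10, 37, 48], []⟩) (.leaf ⟨6, 9, true,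 [0, 21, 17, 14, 42], [28, 42, 29, 27, 2], []⟩))) (.node 2 (.node 1 (.leaf ⟨9, 6, true, [2, 48, 44, 12, 45, 0], [27, 24, 46, 49, 34, 0], []⟩) (.leaf ⟨6, 9, true, [33, 27, 18, 43, 33, 8], [44, 13, 45, 49], []⟩)) (.node 1 (.leaf ⟨9, 6, true, [10, 23, 20, 2, 15, 2], [31, 24, 35, 35, 32, 0], []⟩) (.leaf ⟨6, 9, true, [22, 36, 33, 29, 40], [12, 21, 35, 43, 46, 4], []⟩)))))) (.node 15 (.node 7 (.node 3 (.node 1 (.leaf ⟨9, 6, true, [0, 12, 4, 41, 46, 8], [43, 4, 8, 49, 47, 31], []⟩) (.node 1 (.leaf ⟨9, 7, true, [0, 36, 24, 11, 16, 8], [24, 18, 47, 28, 11, 6], []⟩) (.leaf ⟨7, 9, true, [16, 31, 40, 11, 2], [13, 42, 20, 24, 20], []⟩))) (.node 2 (.node 1 (.leaf ⟨9, 6, true, [47, 13, 11, 15, 26], [21, 14, 48, 18, 22], []⟩) (.leaf ⟨6, 9, true, [19, 24, 49, 15, 20], [17, 43, 45, 11, 46], []⟩)) (.node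 1 (.leaf ⟨9, 6, true, [8, 6, 0, 2], [25, 8, 11, 35, 6, 15], []⟩) (.leaf ⟨6, 9, true, [33, 22, 37, 21, 2], [0, 4, 6, 8, 2, 0], []⟩)))) (.node 4 (.node 2 (.node 1 (.leaf ⟨9, 6, true, [35, 29, 38, 6, 24], [30, 6, 11, 29, 29, 40], []⟩) (.leaf ⟨6, 9, true, [30, 26, 12, 14, 16], [23, 19, 42, 10, 34, 8], []⟩)) (.node 1 (.leaf ⟨9, 5, true, [14, 41, 2, 44, 12, 2], [27, 14, 6, 15, 38, 13], []⟩) (.leaf ⟨5, 9, true, [10, 20, 42, 26, 43, 8], [36, 25, 34, 2, 48], []⟩))) (.node 2 (.node 1 (.leaf ⟨9, 6, true, [11, 46, 25, 11, 22], [48, 29, 2, 26, 18, 29], []⟩) (.leaf ⟨6, 9, true, [23, 33, 47, 42, 10, 8], [13, 44, 14, 21, 12], []⟩)) (.node 1 (.leaf ⟨9, 6, true, [19, 11, 41, 24, 11, 2], [13, 16, 32, 39, 6, 2], []⟩) (.leaf ⟨6, 9, true, [22, 19, 31, 38, 27], [32, 0, 47, 15, 40, 39], []⟩))))) (.node 7 (.node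 3 (.node 1 (.leaf ⟨9, 6, true, [25, 6, 25, 26, 48, 26], [8, 11, 22, 19, 37, 18], []⟩) (.node 1 (.leaf ⟨6, 9, true, [23, 49, 21, 45, 37], [34, 12, 6, 23, 47], []⟩) (.leaf ⟨9, 6, true, [0, 40, 46, 10, 8, 6], [28, 28, 35, 16, 27, 2], []⟩))) (.node 2 (.node 1 (.leaf ⟨6, 9, true, [30, 32, 10, 18], [11, 45, 23, 24, 11], []⟩) (.leaf ⟨9, 6, true, [45, 16, 49, 36, 8, 0], [21, 2, 22, 24, 46, 21], []⟩)) (.node 1 (.leaf ⟨6, 9, true, [49, 8, 20, 18, 6], [19, 47, 19, 49, 32, 2], []⟩) (.leaf ⟨9, 6, true, [49, 22, 31, 4, 49], [42, 14, 36, 26, 39, 2], []⟩)))) (.node 4 (.node 2 (.node 1 (.leaf ⟨9, 6, true, [38, 33, 42, 13, 30, 6], [13, 14, 38, 10, 49, 8], []⟩) (.leaf ⟨9, 6, true, [29, 16, 22, 6, 2], [38, 30, 36, 40, 23], []⟩)) (.node 1 (.leaf ⟨6, 9, true, [20, 43, 32, 20, 30, 2], [34, 36, 10, 13, 6], []⟩)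 (.leaf ⟨9, 6, true, [2, 4, 33, 2, 47], [21, 40, 32, 27, 47, 6], []⟩))) (.node 2 (.node 1 (.leaf ⟨9, 6, true, [2, 34, 12, 36, 39, 6], [23, 16, 11, 22, 33, 44], []⟩) (.leaf ⟨9, 6, true, [38, 24, 24, 39, 47], [49, 37, 11, 16, 45, 4], []⟩)) (.node 1 (.leaf ⟨6, 9, true, [35, 28, 45, 42, 22, 8], [25, 11, 23, 14, 46], []⟩) (.leaf ⟨9, 6, true, [10, 24, 37, 47, 24, 2], [22, 25, 18, 35, 33, 10], []⟩)))))))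
noncomputable def dF3126 : BT Fct := (.node 30 (.node 15 (.node 7 (.node 3 (.node 1 (.leaf ⟨6, 9, true, [30, 6, 34, 27, 45, 20], [47, 25, 23, 38, 17, 6], []⟩) (.node 1 (.leaf ⟨9, 6, true, [0, 41, 46, 16, 12, 8], [38, 6, 34, 19, 43, 31], []⟩) (.leaf ⟨6, 9, true, [0, 28, 43, 16, 26, 8], [30, 34, 36, 16, 41], []⟩))) (.node 2 (.node 1 (.leaf ⟨9, 6, true, [10, 19, 26, 12, 2], [14, 0, 41, 20, 45, 39], []⟩) (.leaf ⟨6, 9, true, [34, 2, 17, 48, 15, 40], [41, 33, 31, 38, 0], []⟩)) (.node 1 (.leaf ⟨9, 6, true, [30, 17, 41, 20, 13, 2], [21, 19, 45, 13, 4, 0], []⟩) (.leaf ⟨6, 9, true, [11, 47, 21, 18, 25], [22, 2, 29, 35, 35, 2], []⟩)))) (.node 4 (.node 2 (.node 1 (.leaf ⟨9, 6, true, [27, 46, 23, 29, 6, 0], [31, 8, 41, 35, 33, 16], []⟩) (.leaf ⟨6, 9, true, [21, 2, 28, 34, 15, 36], [19, 33, 30, 41,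 46, 0], []⟩)) (.node 1 (.leaf ⟨9, 6, true, [40, 29, 11, 37, 8], [31, 15, 44, 34, 38, 2], []⟩) (.leaf ⟨6, 9, true, [37, 33, 6, 49, 20], [8, 27, 32, 25, 22], []⟩))) (.node 2 (.node 1 (.leaf ⟨9, 6, true, [40, 40, 46, 23, 4], [17, 42, 12, 15, 15, 6], []⟩) (.leaf ⟨6, 9, true, [18, 16, 33, 6, 16], [0, 22, 47, 41, 41], []⟩)) (.node 1 (.leaf ⟨9, 6, true, [8, 12, 46, 27, 18], [2, 35, 49, 42, 27, 8], []⟩) (.leaf ⟨6, 9, true, [37, 41, 10, 31, 10], [2, 28, 31, 45, 42, 0], []⟩))))) (.node 7 (.node 3 (.node 1 (.leaf ⟨9, 6, true, [0, 25, 33, 15, 12, 10], [21, 6, 22, 12, 40, 39], []⟩) (.node 1 (.leaf ⟨9, 6, true, [28, 25, 43, 4, 33], [45, 0, 43, 17, 6, 44], []⟩) (.leaf ⟨6, 9, true, [34, 30, 48, 2, 33], [48, 11, 35, 31, 42, 21], []⟩))) (.node 2 (.node 1 (.leaf ⟨9, 5, true, [8, 23, 11, 24, 37, 6], [38,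 6, 29, 14, 16, 32], []⟩) (.leaf ⟨5, 9, true, [44, 39, 12, 24, 47, 4], [46, 12, 0, 34, 6], []⟩)) (.node 1 (.leaf ⟨9, 6, true, [25, 31, 36], [39, 26, 19, 0, 46, 2], []⟩) (.leaf ⟨6, 9, true, [36, 14, 6, 45, 49, 27], [22, 49, 39, 28], []⟩)))) (.node 4 (.node 2 (.node 1 (.leaf ⟨9, 5, true, [2, 39, 10, 47, 25], [30, 8, 22, 49, 40, 11], []⟩) (.leaf ⟨5, 9, true, [44, 14, 47, 41, 45, 33], [0, 13, 15, 13, 32, 8], []⟩)) (.node 1 (.leaf ⟨9, 5, true, [49, 16, 47, 33, 17, 10], [12, 39, 47, 36, 31, 4], []⟩) (.leaf ⟨5, 9, true, [32, 24, 10, 27, 25, 4], [36, 22, 42, 28, 27, 2], []⟩))) (.node 2 (.node 1 (.leaf ⟨9, 6, true, [2, 13, 47, 33, 28], [25, 0, 43, 20, 0, 30], []⟩) (.leaf ⟨6, 9, true, [21, 42, 2, 18, 29], [23, 29, 47, 30, 35], []⟩)) (.node 1 (.leaf ⟨9, 6, true, [29, 2, 31, 35, 23], [22, 10, 22,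 25, 35, 0], []⟩) (.leaf ⟨6, 9, true, [49, 44, 31, 24, 26], [11, 25, 15, 36, 28, 4], []⟩)))))) (.node 15 (.node 7 (.node 3 (.node 1 (.leaf ⟨9, 6, true, [28, 24, 13, 49, 43], [33, 38, 40, 14, 19, 2], []⟩) (.node 1 (.leaf ⟨6, 9, true, [15, 2, 21, 24, 42, 14], [36, 31, 6, 0, 49], []⟩) (.leaf ⟨9, 6, true, [13, 6, 2, 4, 0], [2, 4, 37, 33, 30, 40], []⟩))) (.node 2 (.node 1 (.leaf ⟨6, 9, true, [16, 42, 6, 41, 19, 0], [12, 6, 2], []⟩) (.leaf ⟨9, 5, true, [12, 46, 46, 46, 4, 0], [10, 18, 26, 38, 2, 18], []⟩)) (.node 1 (.leaf ⟨5, 9, true, [31, 29, 47, 21, 41, 0], [47, 47, 47, 13], []⟩) (.leaf ⟨9, 6, true, [37, 13, 40, 36, 32], [31, 10, 45, 33, 10, 14], []⟩)))) (.node 4 (.node 2 (.node 1 (.leaf ⟨6, 9, true, [49, 10, 31, 27, 22, 17], [31, 8, 38, 27, 18, 38], []⟩) (.leaf ⟨9, 5, true, [21, 2, 34, 11,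 41, 37], [43, 6, 8, 23, 29], []⟩)) (.node 1 (.leaf ⟨5, 9, true, [37, 0, 45, 2, 20, 26], [48, 47, 42, 23, 46], []⟩) (.leaf ⟨9, 6, true, [0, 25, 31, 36, 8, 10], [44, 11, 40, 18, 12, 17], []⟩))) (.node 2 (.node 1 (.leaf ⟨6, 9, true, [15, 17, 41, 39, 47, 36], [10, 46, 11, 12, 8], []⟩) (.leaf ⟨9, 6, true, [2, 39, 35, 22], [40, 14, 46, 42, 11, 11], []⟩)) (.node 1 (.leaf ⟨6, 9, true, [25, 32, 29, 17, 6, 2], [23, 0, 34, 38, 2], []⟩) (.leaf ⟨9, 6, true, [35, 47, 25, 30, 8], [6, 17, 27, 35, 35, 4], []⟩))))) (.node 7 (.node 3 (.node 1 (.leaf ⟨6, 9, true, [0, 14, 11, 31, 16, 6], [18, 29, 6, 26, 41], []⟩) (.node 1 (.leaf ⟨9, 6, true, [0, 48, 13, 29, 32, 4], [13, 21, 36, 28, 34, 2], []⟩) (.leaf ⟨6, 9, true, [39, 29, 13, 20, 11, 4], [0, 33, 28, 12, 49, 0], []⟩))) (.node 2 (.node 1 (.leaf ⟨9, 6, true,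 [11, 6, 44, 41, 37, 39], [25, 11, 36, 35, 31, 0], []⟩) (.leaf ⟨6, 9, true, [0, 25, 6, 46, 21], [14, 17, 33, 2, 38, 4], []⟩)) (.node 1 (.leaf ⟨9, 6, true, [42, 8, 22, 20, 40, 0], [22, 8, 19, 11, 45, 21], []⟩) (.leaf ⟨6, 9, true, [11, 29, 45, 14, 18, 8], [44, 34, 16, 21, 45], []⟩)))) (.node 4 (.node 2 (.node 1 (.leaf ⟨6, 9, true, [34, 14, 18, 15, 46, 4], [22, 2, 20, 22, 13, 0], []⟩) (.leaf ⟨9, 6, true, [12, 10, 49, 19, 21, 0], [10, 36, 43, 15, 21, 10], []⟩)) (.node 1 (.leaf ⟨9, 6, true, [15, 13, 11, 16, 45], [18, 21, 10, 37, 25, 6], []⟩) (.leaf ⟨6, 9, true, [6, 26, 49, 18, 12], [48, 25, 6, 19, 10], []⟩))) (.node 2 (.node 1 (.leaf ⟨9, 6, true, [10, 30, 8, 22, 19], [20, 2, 47, 44, 22], []⟩) (.leaf ⟨6, 9, true, [4, 31, 20, 38, 17, 2], [2, 29, 12, 49, 31], []⟩)) (.node 1 (.leaf ⟨9, 9, true,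 [6, 30, 26, 25, 8], [6, 29, 27, 11, 19], []⟩) (.leaf ⟨9, 9, true, [22, 10, 25, 4, 6], [23, 2, 23, 36, 24], []⟩)))))))
noncomputable def dF3186 : BT Fct := (.node 30 (.node 15 (.node 7 (.node 3 (.node 1 (.leaf ⟨9, 9, true, [4, 33, 12, 45, 46, 2], [4, 6, 28, 37, 37, 32], []⟩) (.node 1 (.leaf ⟨9, 6, true, [36, 2, 19, 20, 35, 42], [36, 41, 23, 33, 21, 6], []⟩) (.leaf ⟨6, 9, true, [43, 15, 23, 26, 2, 47], [18, 10, 31, 15, 16, 0], []⟩))) (.node 2 (.node 1 (.leaf ⟨6, 9, true, [8, 49, 33, 33, 28, 6], [18, 39, 46, 17, 13, 4], []⟩) (.leaf ⟨9, 6, true, [43, 10, 31, 0], [32, 2, 45, 30, 27, 46], []⟩)) (.node 1 (.leaf ⟨3, 9, true, [43, 35, 25, 12, 44, 2], [15, 15, 16, 6, 49, 8], []⟩) (.leaf ⟨6, 9, true, [13, 49, 44, 17, 27], [43, 0, 37, 14, 27], []⟩)))) (.node 4 (.node 2 (.node 1 (.leaf ⟨9, 6, true,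 [43, 45, 16, 22, 6], [24, 29, 26, 16, 48, 6], []⟩) (.leaf ⟨9, 8, true, [12, 20, 22, 11, 6], [35, 30, 11, 47, 39, 8], []⟩)) (.node 1 (.leaf ⟨8, 9, true, [8, 43, 12, 0, 43, 0], [11, 30, 49, 18, 14], []⟩) (.leaf ⟨9, 6, true, [26, 30, 4, 38, 27, 0], [4, 45, 35, 11, 39], []⟩))) (.node 2 (.node 1 (.leaf ⟨6, 9, true, [4, 48, 15, 48, 16, 2], [44, 31, 32, 0, 35], []⟩) (.leaf ⟨9, 6, true, [23, 17, 39, 15, 45, 8], [42, 0, 34, 19, 33, 43], []⟩)) (.node 1 (.leaf ⟨6, 9, true, [35, 16, 48, 32, 4, 6], [11, 48, 45, 47, 25, 10], []⟩) (.leaf ⟨6, 9, true, [36, 30, 18, 11, 28, 6], [39, 41, 33, 15, 33, 8], []⟩))))) (.node 7 (.node 3 (.node 1 (.leaf ⟨9, 6, true, [13, 30, 48, 34, 30, 0], [44, 41, 42, 33, 35], []⟩) (.node 1 (.leaf ⟨6, 9, true, [22, 45, 22, 8, 37, 0], [6, 2, 12, 25, 29, 21], []⟩) (.leaf ⟨9, 6,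 true, [16, 24, 24, 46, 6], [8, 37, 25, 41, 42, 8], []⟩))) (.node 2 (.node 1 (.leaf ⟨6, 9, true, [4, 15, 11, 39, 13], [2, 6, 26, 25, 18, 0], []⟩) (.leaf ⟨9, 6, true, [11, 0, 47, 13, 8], [0, 41, 33, 27, 22, 10], []⟩)) (.node 1 (.leaf ⟨5, 9, true, [44, 44, 28, 44, 35], [2, 30, 49, 26, 24], []⟩) (.leaf ⟨9, 5, true, [13, 23, 12, 6, 2], [20, 34, 38, 11, 35, 8], []⟩)))) (.node 4 (.node 2 (.node 1 (.leaf ⟨9, 6, true, [4, 24, 26, 48, 27, 2], [20, 35, 45, 37, 24, 6], []⟩) (.leaf ⟨6, 9, true, [25, 47, 39, 31, 36, 10], [11, 28, 31, 11, 31, 10], []⟩)) (.node 1 (.leaf ⟨6, 9, true, [2, 44, 42, 30, 20], [8, 33, 26, 16, 13, 10], []⟩) (.leaf ⟨9, 6, true, [28, 11, 8, 32, 8], [18, 46, 35, 35, 22], []⟩))) (.node 2 (.node 1 (.leaf ⟨6, 9, true, [29, 13, 47, 27, 17, 8], [35, 6, 28, 41, 2], []⟩) (.leaf ⟨9, 6,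 true, [8, 36, 35, 49, 14, 4], [12, 48, 28, 18, 48, 0], []⟩)) (.node 1 (.leaf ⟨6, 9, true, [41, 4, 27, 6, 18, 15], [6, 27, 22, 31, 31, 0], []⟩) (.leaf ⟨9, 6, true, [32, 43, 33, 46, 28, 0], [22, 19, 36, 46, 49, 8], []⟩)))))) (.node 15 (.node 7 (.node 3 (.node 1 (.leaf ⟨6, 9, true, [4, 32, 15, 22, 18, 10], [11, 32, 29, 23, 2], []⟩) (.node 1 (.leaf ⟨9, 6, true, [10, 22, 6, 38, 23, 4], [23, 12, 25, 37, 13], []⟩) (.leaf ⟨6, 9, true, [8, 10, 6, 40, 10], [36, 6, 17, 27, 10], []⟩))) (.node 2 (.node 1 (.leaf ⟨9, 6, true, [0, 11, 40, 40, 46, 6], [10, 33, 42, 19, 4, 2], []⟩) (.leaf ⟨7, 9, true, [23, 34, 33, 45], [4, 31, 26, 40, 47, 4], []⟩)) (.node 1 (.leaf ⟨9, 7, true, [37, 21, 32, 31, 47, 2], [38, 10, 22, 12, 31], []⟩) (.leaf ⟨6, 9, true, [20, 2, 10, 4, 25, 33], [13, 22, 8, 33, 6], []⟩)))) (.node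 4 (.node 2 (.node 1 (.leaf ⟨9, 6, true, [48, 21, 32, 8, 48], [30, 18, 31, 26, 41, 49], []⟩) (.leaf ⟨9, 6, true, [25, 29, 32, 42, 18, 4], [48, 17, 13, 18, 43, 4], []⟩)) (.node 1 (.leaf ⟨6, 9, true, [15, 17, 37, 19, 13, 47], [16, 39, 49, 39, 42, 6], []⟩) (.leaf ⟨6, 9, true, [34, 43, 21, 35, 49], [0, 30, 0, 24, 10], []⟩))) (.node 2 (.node 1 (.leaf ⟨9, 6, true, [2, 4, 2, 29, 22, 6], [13, 16, 19, 37, 29, 36], []⟩) (.leaf ⟨6, 9, true, [4, 18, 22, 40, 28], [2, 6, 22, 20, 24, 8], []⟩)) (.node 1 (.leaf ⟨9, 6, true, [18, 26, 46, 4, 44, 4], [29, 41, 8, 27, 13, 0], []⟩) (.leaf ⟨6, 9, true, [39, 30, 6, 20, 14, 8], [44, 37, 35, 18, 14, 4], []⟩))))) (.node 7 (.node 3 (.node 1 (.leaf ⟨9, 6, true, [35, 26, 8, 46, 32], [18, 28, 11, 47, 40, 0], []⟩) (.node 1 (.leaf ⟨5, 9, true, [30, 12, 26, 18, 14], [4,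 31, 36, 21, 18, 8], []⟩) (.leaf ⟨9, 5, true, [33, 28, 13, 40, 25], [14, 17, 29, 15, 31, 2], []⟩))) (.node 2 (.node 1 (.leaf ⟨8, 9, true, [12, 43, 31, 39, 2], [6, 8, 49, 13, 10, 6], []⟩) (.leaf ⟨9, 8, true, [37, 20, 20, 25, 8, 10], [22, 15, 8, 11, 6], []⟩)) (.node 1 (.leaf ⟨6, 9, true, [4, 38, 41, 14, 30], [0, 31, 29, 16, 36, 6], []⟩) (.leaf ⟨9, 6, true, [49, 8, 23, 15, 10], [10, 15, 13, 21, 44, 0], []⟩)))) (.node 4 (.node 2 (.node 1 (.leaf ⟨6, 9, true, [6, 26, 26, 37, 44, 6], [34, 28, 47, 21, 16], []⟩) (.leaf ⟨9, 6, true, [11, 23, 39, 13, 32, 43], [13, 40, 35, 11, 8, 10], []⟩)) (.node 1 (.leaf ⟨6, 9, true, [26, 31, 25, 26, 37], [16, 4, 37, 45, 30], []⟩) (.leaf ⟨9, 6, true, [31, 32, 48, 20, 29, 4], [26, 8, 26, 45, 24, 8], []⟩))) (.node 2 (.node 1 (.leaf ⟨9, 6, true, [26, 35, 41, 20, 29],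 [42, 41, 12, 23, 44, 8], []⟩) (.leaf ⟨6, 9, true, [26, 20, 38, 6, 28, 2], [6, 22, 4, 31, 8], []⟩)) (.node 1 (.leaf ⟨6, 9, true, [15, 28, 48, 25, 49, 46], [11, 37, 6, 47, 18, 8], []⟩) (.leaf ⟨9, 6, true, [6, 4, 30, 23, 16, 0], [19, 39, 39, 36, 26, 0], []⟩)))))))
noncomputable def dF3246 : BT Fct := (.node 30 (.node 15 (.node 7 (.node 3 (.node 1 (.leaf ⟨6, 9, true, [0, 49, 15, 36, 36, 10], [36, 39, 22, 6, 30, 8], []⟩) (.node 1 (.leaf ⟨9, 6, true, [8, 46, 38, 25, 34], [36, 38, 28, 11, 13, 2], []⟩) (.leaf ⟨9, 9, true, [12, 39, 28, 36, 6, 0], [27, 27, 44, 24, 20, 6], []⟩))) (.node 2 (.node 1 (.leaf ⟨9, 9, true, [49, 19, 13, 29], [4, 6, 37, 29, 38, 13], []⟩) (.leaf ⟨9, 9, true, [40, 27, 48, 27, 13, 0], [10, 36, 0, 39, 31, 6], []⟩)) (.node 1 (.leaf ⟨9, 9, true, [12, 28, 40, 11, 48], [12, 26,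 49, 26, 41, 2], []⟩) (.leaf ⟨6, 9, true, [0, 39, 23, 34, 20], [0, 41, 31, 10, 45], []⟩)))) (.node 4 (.node 2 (.node 1 (.leaf ⟨9, 6, true, [40, 19, 24, 49, 41, 8], [33, 12, 23, 30, 0], []⟩) (.leaf ⟨6, 9, true, [32, 8, 16, 2, 37, 6], [18, 49, 34, 11, 27], []⟩)) (.node 1 (.leaf ⟨9, 6, true, [33, 36, 42, 22, 29, 0], [39, 14, 22, 26, 33, 13], []⟩) (.leaf ⟨9, 9, true, [34, 8, 41, 17, 28, 26], [15, 32, 29, 23, 42, 6], []⟩))) (.node 2 (.node 1 (.leaf ⟨9, 6, true, [2, 26, 35, 41, 25, 10], [13, 4, 37, 8, 37, 43], []⟩) (.leaf ⟨6, 9, true, [29, 44, 49, 41, 44], [15, 0, 15, 35, 26, 28], []⟩)) (.node 1 (.leaf ⟨9, 6, true, [13, 2, 21, 46, 36, 43], [2, 27, 29, 40, 27], []⟩) (.leaf ⟨6, 9, true, [6, 11, 25, 45, 26, 0], [42, 0, 18, 35, 30, 37], []⟩))))) (.node 7 (.node 3 (.node 1 (.leaf ⟨9, 6, true, [24,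 41, 33, 39, 6], [2, 40, 28, 19, 40, 6], []⟩) (.node 1 (.leaf ⟨6, 9, true, [29, 30, 26, 46, 18, 48], [12, 33, 4, 42, 23, 2], []⟩) (.leaf ⟨9, 6, true, [35, 48, 29, 2, 48, 0], [16, 41, 47, 13, 20, 2], []⟩))) (.node 2 (.node 1 (.leaf ⟨7, 9, true, [32, 36, 30, 19, 12, 6], [44, 19, 21, 46, 28, 17], []⟩) (.leaf ⟨9, 7, true, [13, 19, 46, 38, 37], [2, 18, 13, 43, 35], []⟩)) (.node 1 (.leaf ⟨6, 9, true, [2, 47, 21, 42, 10, 2], [4, 32, 15, 27, 16], []⟩) (.leaf ⟨9, 6, true, [8, 20, 15, 38, 44], [44, 43, 21, 40, 14, 0], []⟩)))) (.node 4 (.node 2 (.node 1 (.leaf ⟨9, 9, true, [2, 13, 43, 6, 20, 10], [29, 6, 16, 20, 42, 8], []⟩) (.leaf ⟨9, 9, true, [36, 31, 10, 21, 10, 8], [12, 28, 18, 41, 33, 8], []⟩)) (.node 1 (.leaf ⟨6, 9, true, [12, 17, 41, 24, 16, 40], [10, 33, 28, 25, 15], []⟩) (.leaf ⟨9, 6, true,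 [29, 29, 49, 13, 18, 2], [43, 24, 2, 16, 2, 48], []⟩))) (.node 2 (.node 1 (.leaf ⟨9, 9, true, [23, 48, 14, 44, 29, 10], [34, 32, 10, 23, 30, 4], []⟩) (.leaf ⟨9, 9, true, [47, 33, 20, 27, 37], [8, 41, 43, 8, 45, 8], []⟩)) (.node 1 (.leaf ⟨6, 9, true, [12, 16, 2, 47, 36, 49], [36, 28, 46, 40, 27, 2], []⟩) (.leaf ⟨9, 6, true, [2, 18, 11, 19, 28], [19, 34, 34, 10, 10, 4], []⟩)))))) (.node 15 (.node 7 (.node 3 (.node 1 (.leaf ⟨6, 9, true, [24, 12, 43, 23, 31, 10], [17, 26, 29, 48, 14, 2], []⟩) (.node 1 (.leaf ⟨9, 6, true, [22, 46, 39, 29, 18, 6], [6, 37, 41, 38, 26, 6], []⟩) (.leaf ⟨6, 9, true, [16, 12, 42, 25, 49, 8], [30, 34, 8, 2, 47, 0], []⟩))) (.node 2 (.node 1 (.leaf ⟨9, 6, true, [2, 24, 23, 30, 40], [35, 47, 17, 45, 4, 2], []⟩) (.leaf ⟨6, 9, true, [20, 14, 47, 35, 33, 10], [38, 31,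 6, 41, 47, 4], []⟩)) (.node 1 (.leaf ⟨9, 6, true, [0, 17, 14, 12, 11, 2], [29, 14, 29, 35, 0, 37], []⟩) (.leaf ⟨6, 9, true, [24, 28, 26, 45, 43, 43], [40, 45, 29, 32, 23], []⟩)))) (.node 4 (.node 2 (.node 1 (.leaf ⟨9, 6, true, [27, 18, 41, 12, 24, 2], [44, 8, 33, 41, 15, 4], []⟩) (.leaf ⟨6, 9, true, [36, 13, 42, 22, 19, 0], [43, 4, 2, 21, 45, 36], []⟩)) (.node 1 (.leaf ⟨9, 6, true, [18, 39, 42, 37, 12, 0], [29, 14, 47, 33, 41, 8], []⟩) (.leaf ⟨6, 9, true, [39, 17, 8, 16, 0, 2], [24, 10, 38, 24, 16, 0], []⟩))) (.node 2 (.node 1 (.leaf ⟨9, 6, true, [0, 4, 38, 16, 8, 10], [2, 17, 8, 22, 8, 38], []⟩) (.leaf ⟨6, 9, true, [18, 13, 43, 48, 36, 4], [27, 42, 33, 40, 26], []⟩)) (.node 1 (.leaf ⟨9, 6, true, [4, 31, 24, 23, 20, 0], [44, 34, 17, 41, 49, 2], []⟩) (.leaf ⟨9, 6, true, [0, 31, 43, 31,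 10, 0], [14, 47, 26, 40, 30, 2], []⟩))))) (.node 7 (.node 3 (.node 1 (.leaf ⟨6, 9, true, [33, 14, 33, 28, 48, 12], [19, 21, 11, 21, 36], []⟩) (.node 1 (.leaf ⟨9, 9, true, [6, 0, 38, 10, 0], [33, 47, 45, 19, 11], []⟩) (.leaf ⟨9, 9, true, [29, 11, 36, 27, 27], [11, 4, 39, 6, 0], []⟩))) (.node 2 (.node 1 (.leaf ⟨6, 9, true, [20, 6, 49, 19, 47, 36], [28, 22, 11, 34, 8, 46], []⟩) (.leaf ⟨9, 6, true, [12, 44, 4, 29, 8], [39, 43, 11, 42, 20, 4], []⟩)) (.node 1 (.leaf ⟨9, 6, true, [10, 47, 29, 12, 0], [11, 17, 48, 35, 27], []⟩) (.leaf ⟨6, 9, true, [35, 14, 26, 33, 38, 33], [4, 13, 28, 46, 11], []⟩)))) (.node 4 (.node 2 (.node 1 (.leaf ⟨9, 6, true, [12, 10, 27, 49, 39], [24, 22, 33, 25, 44, 2], []⟩) (.leaf ⟨6, 9, true, [10, 30, 39, 2, 16, 8], [10, 45, 2, 47, 26], []⟩)) (.node 1 (.leaf ⟨9, 6, true,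 [17, 14, 42, 48, 44, 6], [28, 2, 14, 20, 38, 8], []⟩) (.leaf ⟨6, 9, true, [20, 15, 49, 15, 35, 44], [13, 26, 13, 34, 30, 8], []⟩))) (.node 2 (.node 1 (.leaf ⟨9, 6, true, [4, 46, 44, 25, 11, 2], [8, 27, 20, 28, 34, 8], []⟩) (.leaf ⟨6, 9, true, [2, 31, 45, 38, 32, 2], [47, 25, 20, 13, 40], []⟩)) (.node 1 (.leaf ⟨9, 6, true, [13, 36, 2, 19, 25, 8], [41, 39, 33, 16, 41, 6], []⟩) (.leaf ⟨6, 9, true, [11, 49, 36, 8, 43], [31, 17, 22, 39, 19, 21], []⟩)))))))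
noncomputable def dF3306 : BT Fct := (.node 30 (.node 15 (.node 7 (.node 3 (.node 1 (.leaf ⟨9, 7, true, [4, 23, 24, 44, 12, 10], [24, 16, 48, 21, 40, 42], []⟩) (.node 1 (.leaf ⟨7, 9, true, [11, 8, 40, 45, 16], [10, 30, 28, 37, 35], []⟩) (.leaf ⟨7, 9, true, [8, 30, 49, 6, 46, 8], [19, 13, 44, 12, 32], []⟩))) (.node 2 (.node 1 (.leaf ⟨6, 9, true, [34, 29, 13, 17, 44, 8], [38, 0, 41, 6, 39, 47], []⟩) (.leaf ⟨9, 6, true, [2, 15, 48, 11, 30, 8], [46, 8, 25, 39, 32, 45], []⟩)) (.node 1 (.leaf ⟨5, 9, true, [0, 11, 38, 18, 11, 8], [19, 10, 47, 12, 17, 31], []⟩) (.leaf ⟨9, 5, true, [49, 11, 2, 16, 10], [13, 39, 35, 22, 35], []⟩)))) (.node 4 (.node 2 (.node 1 (.leaf ⟨6, 9, true, [35, 15, 13, 6, 23, 0], [23, 15, 6, 19, 38, 26], []⟩) (.leaf ⟨9, 6, true, [2, 39, 2, 20, 19], [12, 47, 11, 40, 35, 8],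 []⟩)) (.node 1 (.leaf ⟨6, 9, true, [15, 45, 20, 35, 20, 8], [18, 46, 23, 18, 20, 10], []⟩) (.leaf ⟨9, 6, true, [2, 27, 13, 19, 39, 2], [45, 2, 23, 19, 45, 26], []⟩))) (.node 2 (.node 1 (.leaf ⟨6, 9, true, [2, 4, 41, 43, 21], [26, 11, 11, 20, 44, 4], []⟩) (.leaf ⟨9, 5, true, [31, 11, 33, 18, 29, 0], [4, 10, 19, 28, 43, 2], []⟩)) (.node 1 (.leaf ⟨5, 9, true, [6, 0, 38, 32, 24, 42], [20, 39, 23, 33, 43, 6], []⟩) (.leaf ⟨9, 6, true, [8, 47, 29, 10, 19, 0], [48, 28, 11, 48, 29], []⟩))))) (.node 7 (.node 3 (.node 1 (.leaf ⟨6, 9, true, [41, 46, 43, 40, 34, 2], [2, 39, 33, 18, 25, 4], []⟩) (.node 1 (.leaf ⟨9, 6, true, [8, 29, 49, 24, 28], [28, 11, 42, 35, 35], []⟩) (.leaf ⟨6, 9, true, [36, 14, 2, 33, 30, 24], [46, 28, 4, 21, 13, 10], []⟩))) (.node 2 (.node 1 (.leaf ⟨9, 6, true, [10, 18, 21, 15,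 2], [2, 43, 17, 14, 27, 6], []⟩) (.leaf ⟨6, 9, true, [18, 26, 19, 33, 42, 6], [12, 44, 23, 29, 12, 10], []⟩)) (.node 1 (.leaf ⟨9, 6, true, [44, 13, 28, 6, 0], [8, 31, 25, 47, 13, 2], []⟩) (.leaf ⟨6, 9, true, [18, 42, 37, 20, 24, 6], [44, 6, 4, 29, 2, 46], []⟩)))) (.node 4 (.node 2 (.node 1 (.leaf ⟨9, 6, true, [26, 29, 11, 34, 2, 15], [41, 36, 4, 17, 36], []⟩) (.leaf ⟨6, 9, true, [0, 10, 6, 29, 47, 0], [37, 38, 44, 20, 22], []⟩)) (.node 1 (.leaf ⟨9, 6, true, [33, 4, 45, 18, 27, 15], [4, 46, 28, 10, 6, 0], []⟩) (.leaf ⟨6, 9, true, [0, 2, 28, 42, 10], [8, 41, 24, 46, 21], []⟩))) (.node 2 (.node 1 (.leaf ⟨9, 6, true, [44, 10, 32, 47, 10], [27, 0, 35, 41, 32, 36], []⟩) (.leaf ⟨6, 9, true, [2, 15, 33, 44, 21, 8], [33, 10, 42, 8, 17], []⟩)) (.node 1 (.leaf ⟨9, 6, true, [38, 8, 41, 46, 49, 15],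 [32, 23, 48, 16, 19], []⟩) (.leaf ⟨9, 9, true, [20, 2, 31, 39, 12, 37], [26, 2, 26, 0, 46, 28], []⟩)))))) (.node 15 (.node 7 (.node 3 (.node 1 (.leaf ⟨9, 9, true, [22, 15, 41, 42, 30, 27], [14, 24, 38, 40, 30, 10], []⟩) (.node 1 (.leaf ⟨9, 9, true, [43, 40, 37, 22, 34], [28, 31, 12, 36, 41, 6], []⟩) (.leaf ⟨6, 9, true, [13, 19, 45, 48, 2], [35, 0, 30, 10, 46, 43], []⟩))) (.node 2 (.node 1 (.leaf ⟨9, 6, true, [46, 25, 10, 23], [25, 35, 33, 26, 32], []⟩) (.leaf ⟨9, 6, true, [46, 12, 20, 8, 27], [47, 25, 46, 40, 37, 8], []⟩)) (.node 1 (.leaf ⟨6, 9, true, [4, 40, 40, 49, 13, 8], [26, 25, 15, 24, 47], []⟩) (.leaf ⟨7, 9, true, [29, 0, 23, 34, 2], [2, 30, 42, 39, 46], []⟩)))) (.node 4 (.node 2 (.node 1 (.leaf ⟨9, 7, true, [0, 20, 11, 15, 32, 10], [10, 31, 8, 14, 11], []⟩) (.leaf ⟨6, 9, true,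 [23, 28, 39, 14, 12, 2], [41, 21, 19, 41, 24], []⟩)) (.node 1 (.leaf ⟨9, 6, true, [8, 12, 41, 2, 16], [11, 18, 14, 39, 40, 2], []⟩) (.leaf ⟨5, 9, true, [12, 31, 15, 22, 11, 4], [38, 28, 10, 26, 17, 4], []⟩))) (.node 2 (.node 1 (.leaf ⟨9, 5, true, [30, 20, 46, 38, 22], [10, 23, 14, 36, 6], []⟩) (.leaf ⟨6, 9, true, [16, 45, 48, 46, 17, 8], [38, 11, 47, 20, 32, 38], []⟩)) (.node 1 (.leaf ⟨9, 6, true, [10, 44, 32, 21, 19, 10], [18, 0, 11, 12, 35, 47], []⟩) (.leaf ⟨9, 6, true, [46, 10, 13, 18, 21], [17, 44, 36, 18, 29, 6], []⟩))))) (.node 8 (.node 4 (.node 2 (.node 1 (.leaf ⟨6, 9, true, [13, 29, 22, 34, 31], [13, 23, 17, 46, 10, 6], []⟩) (.leaf ⟨9, 6, true, [33, 12, 31, 10, 48], [33, 2, 10, 16, 24, 42], []⟩)) (.node 1 (.leaf ⟨6, 9, true, [46, 25, 27, 13, 39, 4], [2, 48, 38, 49, 26, 2], []⟩)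 (.leaf ⟨9, 6, true, [11, 39, 19, 29, 6, 4], [11, 16, 2, 24, 34, 0], []⟩))) (.node 2 (.node 1 (.leaf ⟨6, 9, true, [41, 0, 38, 21, 24, 30], [16, 45, 36, 28, 49, 2], []⟩) (.leaf ⟨9, 6, true, [47, 15, 40, 19, 17, 4], [31, 8, 47, 25, 11, 44], []⟩)) (.node 1 (.leaf ⟨9, 6, true, [10, 29, 32, 20, 17, 0], [30, 17, 43, 30, 25, 46], []⟩) (.leaf ⟨6, 9, true, [44, 43, 11, 25, 43, 0], [24, 35, 29, 13, 31], []⟩)))) (.node 4 (.node 2 (.node 1 (.leaf ⟨9, 6, true, [36, 11, 32, 36, 0], [18, 44, 17, 28, 31, 6], []⟩) (.leaf ⟨6, 9, true, [41, 31, 23, 10, 2, 0], [6, 17, 26, 48, 0], []⟩)) (.node 1 (.leaf ⟨9, 9, true, [33, 8, 43, 8, 17, 28], [11, 22, 10, 33, 8], []⟩) (.leaf ⟨6, 9, true, [23, 42, 21, 8, 24, 10], [26, 35, 6, 38, 34, 2], []⟩))) (.node 2 (.node 1 (.leaf ⟨9, 6, true, [36, 39, 6, 33, 28], [45, 42,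 46, 49, 31], []⟩) (.leaf ⟨9, 6, true, [40, 8, 17, 26, 40, 29], [31, 12, 39, 15, 10, 18], []⟩)) (.node 1 (.leaf ⟨6, 9, true, [28, 10, 30, 23, 16], [13, 18, 16, 26, 47, 0], []⟩) (.leaf ⟨6, 9, true, [36, 47, 49, 41, 15, 6], [2, 19, 32, 38, 25, 0], []⟩)))))))
noncomputable def dF3367 : BT Fct := (.node 30 (.node 15 (.node 7 (.node 3 (.node 1 (.leaf ⟨9, 6, true, [46, 10, 25, 22, 6], [20, 40, 21, 27, 12, 8], []⟩) (.node 1 (.leaf ⟨9, 9, true, [2, 28, 23, 14, 11], [48, 25, 28, 44, 13, 4], []⟩) (.leaf ⟨6, 9, true, [10, 38, 28, 6, 17], [49, 13, 47, 49, 46], []⟩))) (.node 2 (.node 1 (.leaf ⟨9, 6, true, [31, 34, 43, 8, 31], [18, 15, 29, 47, 25], []⟩) (.leaf ⟨6, 9, true, [11, 8, 31, 25, 21, 46], [0, 10, 2, 39, 35, 8], []⟩)) (.node 1 (.leaf ⟨9, 6, true, [11, 8, 2, 28, 8], [26, 39, 14, 27, 20, 8], []⟩)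 (.leaf ⟨6, 9, true, [21, 8, 49, 43, 16, 41], [27, 29, 8, 47, 48, 6], []⟩)))) (.node 4 (.node 2 (.node 1 (.leaf ⟨9, 6, true, [11, 41, 17, 46, 2, 4], [29, 11, 13, 45, 40, 36], []⟩) (.leaf ⟨9, 6, true, [38, 26, 17, 11, 0], [17, 40, 38, 23, 11, 2], []⟩)) (.node 1 (.leaf ⟨6, 9, true, [8, 32, 12, 22, 0], [4, 10, 16, 27, 39], []⟩) (.leaf ⟨9, 4, true, [29, 37, 21, 14, 21, 8], [28, 27, 31, 27, 23], []⟩))) (.node 2 (.node 1 (.leaf ⟨4, 9, true, [10, 46, 28, 15, 0], [18, 47, 11, 38, 32, 4], []⟩) (.leaf ⟨9, 6, true, [24, 44, 12, 48, 13, 4], [46, 24, 32, 2, 44], []⟩)) (.node 1 (.leaf ⟨6, 9, true, [33, 2, 37, 46, 13, 45], [28, 42, 32, 40, 19, 0], []⟩) (.leaf ⟨9, 9, true, [34, 0, 10, 6, 47, 17], [27, 6, 15, 39, 43], []⟩))))) (.node 7 (.node 3 (.node 1 (.leaf ⟨9, 7, true, [8, 29, 45, 11, 23, 0], [39,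 43, 16, 18, 15, 8], []⟩) (.node 1 (.leaf ⟨7, 9, true, [10, 39, 19, 33, 20], [4, 22, 10, 44, 28, 8], []⟩) (.leaf ⟨6, 9, true, [32, 18, 49, 36, 28, 49], [25, 39, 0, 47, 26], []⟩))) (.node 2 (.node 1 (.leaf ⟨9, 6, true, [48, 44, 42, 26, 35, 0], [15, 12, 21, 33, 33, 17], []⟩) (.leaf ⟨6, 9, true, [10, 32, 24, 14, 20], [18, 39, 48, 15, 39, 6], []⟩)) (.node 1 (.leaf ⟨9, 6, true, [0, 35, 10, 48, 41, 2], [18, 20, 29, 44, 0], []⟩) (.leaf ⟨9, 6, true, [4, 24, 46, 22, 18, 10], [19, 49, 36, 20, 18], []⟩)))) (.node 4 (.node 2 (.node 1 (.leaf ⟨9, 9, true, [20, 34, 17, 31, 25], [6, 18, 10, 8, 46, 31], []⟩) (.leaf ⟨6, 9, true, [44, 16, 36, 38, 34, 14], [11, 33, 26, 32, 2], []⟩)) (.node 1 (.leaf ⟨9, 6, true, [36, 31, 49, 18, 10], [29, 16, 49, 31, 47, 6], []⟩) (.leaf ⟨9, 5, true, [29, 32, 6, 24, 21], [36,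 12, 8, 39, 33], []⟩))) (.node 2 (.node 1 (.leaf ⟨5, 9, true, [4, 14, 12, 19, 49, 4], [4, 10, 24, 45, 12, 0], []⟩) (.leaf ⟨9, 6, true, [2, 32, 14, 43, 17, 2], [6, 39, 32, 35, 6], []⟩)) (.node 1 (.leaf ⟨6, 9, true, [23, 30, 40, 32, 38, 0], [0, 15, 33, 46, 25, 8], []⟩) (.leaf ⟨9, 9, true, [0, 2, 23, 11, 15, 6], [16, 21, 32, 30, 27], []⟩)))))) (.node 15 (.node 7 (.node 3 (.node 1 (.leaf ⟨5, 9, true, [42, 12, 25, 41, 14, 4], [43, 4, 45, 27, 43, 2], []⟩) (.node 1 (.leaf ⟨9, 5, true, [33, 21, 31, 37, 23, 21], [25, 15, 44, 28, 10], []⟩) (.leaf ⟨9, 6, true, [33, 8, 40, 40, 30, 49], [19, 11, 27, 44, 13, 11], []⟩))) (.node 2 (.node 1 (.leaf ⟨6, 9, true, [44, 6, 15, 32, 45, 15], [32, 21, 28, 15, 30, 4], []⟩) (.leaf ⟨5, 10, true, [6], [], []⟩)) (.node 1 (.leaf ⟨10, 10, false, [18, 17, 13, 4], [],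 []⟩) (.leaf ⟨10, 10, false, [22, 27, 18, 15], [], []⟩)))) (.node 4 (.node 2 (.node 1 (.leaf ⟨10, 3, true, [19, 22, 0, 22, 6], [22, 40, 6, 41, 25, 6], []⟩) (.leaf ⟨3, 10, true, [0, 27, 44, 31, 19, 10], [6, 12, 21, 14, 14], []⟩)) (.node 1 (.leaf ⟨10, 3, true, [19, 29, 23, 15, 6], [11, 18, 36, 17, 44, 4], []⟩) (.leaf ⟨3, 10, true, [2, 6, 29, 26, 21, 4], [6, 26, 17, 24, 4], []⟩))) (.node 2 (.node 1 (.leaf ⟨10, 3, true, [15, 27, 19, 23, 6], [27, 19, 6, 28, 0], []⟩) (.leaf ⟨3, 10, true, [4, 6, 27, 19, 4], [6, 18, 23, 16, 16], []⟩)) (.node 1 (.leaf ⟨10, 5, true, [29, 18, 11, 32, 2], [0, 18, 39, 2, 18, 4], []⟩) (.leaf ⟨5, 10, true, [2, 23, 19, 29, 8], [13, 8, 6, 21, 0], []⟩))))) (.node 7 (.node 3 (.node 1 (.leaf ⟨10, 5, true, [4, 6, 14, 17], [6, 12, 28, 22, 4, 6], []⟩) (.node 1 (.leaf ⟨5, 10,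 true, [48, 2, 45, 6, 26], [18, 13, 27, 6, 0], []⟩) (.leaf ⟨10, 5, true, [26, 19, 12, 6, 8], [39, 29, 30, 11, 4], []⟩))) (.node 2 (.node 1 (.leaf ⟨10, 6, true, [37, 47, 24, 16, 25], [14, 0, 12, 2, 22, 15], []⟩) (.leaf ⟨6, 10, true, [20, 35, 47, 16, 10, 2], [6, 48, 30, 12, 18, 4], []⟩)) (.node 1 (.leaf ⟨10, 6, true, [14, 14, 20, 2, 23, 4], [49, 23, 42, 29, 13, 8], []⟩) (.leaf ⟨6, 10, true, [28, 2, 4, 40, 14, 6], [13, 24, 2, 24, 26, 4], []⟩)))) (.node 4 (.node 2 (.node 1 (.leaf ⟨10, 6, true, [16, 16, 2, 17, 20, 19], [43, 25, 33, 31, 49], []⟩) (.leaf ⟨6, 10, true, [19, 27, 36, 10, 48], [22, 12, 2, 17, 17], []⟩)) (.node 1 (.leaf ⟨10, 6, true, [15, 12, 46, 44, 19, 4], [31, 16, 28, 16, 45, 17], []⟩) (.leaf ⟨6, 10, true, [35, 30, 14, 19, 36, 6], [21, 41, 11, 30, 21], []⟩))) (.node 2 (.node 1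 (.leaf ⟨10, 6, true, [40, 44, 6, 8, 27], [47, 23, 8, 34, 27, 6], []⟩) (.leaf ⟨6, 10, true, [16, 14, 8, 2, 23], [0, 24, 2, 14, 20, 0], []⟩)) (.node 1 (.leaf ⟨10, 5, true, [20, 17, 2, 29, 0, 2], [28, 30, 15, 36, 15], []⟩) (.leaf ⟨5, 10, true, [47, 23, 40, 44, 2], [2, 24, 2, 24, 29, 8], []⟩)))))))
noncomputable def dF3427 : BT Fct := (.node 30 (.node 15 (.node 7 (.node 3 (.node 1 (.leaf ⟨10, 5, true, [24, 31, 36, 6, 2], [20, 19, 24, 2, 29], []⟩) (.node 1 (.leaf ⟨10, 6, true, [24, 14, 33, 45, 39, 0], [2, 14, 21, 14, 42, 6], []⟩) (.leaf ⟨6, 10, true, [47, 14, 44, 48, 38, 30], [2, 35, 49, 21, 22], []⟩))) (.node 2 (.node 1 (.leaf ⟨10, 5, true, [34, 2, 32, 44, 0], [2, 34, 0, 39, 44], []⟩) (.leaf ⟨5, 10, true, [12, 35, 22, 19, 32, 10], [4, 45, 33, 35, 2], []⟩)) (.node 1 (.leaf ⟨10, 6, true, [24,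 2, 25, 38, 10, 21], [30, 21, 25, 12, 46, 48], []⟩) (.leaf ⟨6, 10, true, [20, 30, 0, 42, 15, 2], [10, 21, 41, 30, 16], []⟩)))) (.node 4 (.node 2 (.node 1 (.leaf ⟨10, 6, true, [0, 10, 29, 48, 0, 2], [30, 13, 10, 32, 14, 8], []⟩) (.leaf ⟨6, 10, true, [0, 22, 45, 39, 36, 6], [0, 22, 39, 30, 32, 2], []⟩)) (.node 1 (.leaf ⟨10, 6, true, [10, 33, 8, 44, 23, 0], [33, 40, 42, 47, 31, 4], []⟩) (.leaf ⟨6, 10, true, [18, 20, 37, 37, 21], [22, 10, 2, 28, 11], []⟩))) (.node 2 (.node 1 (.leaf ⟨10, 6, true, [34, 34, 33, 26, 36], [25, 6, 43, 36, 18, 30], []⟩) (.leaf ⟨10, 6, true, [10, 32, 44, 13, 29, 0], [20, 46, 10, 36, 10, 6], []⟩)) (.node 1 (.leaf ⟨6, 10, true, [11, 14, 37, 27, 30, 0], [22, 2, 25, 20, 4], []⟩) (.leaf ⟨10, 10, false, [41, 2, 26, 18, 31, 6], [], []⟩))))) (.node 7 (.node 3 (.node 1 (.leaf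 ⟨10, 6, true, [41, 49, 28, 44, 0], [6, 25, 14, 6, 29, 8], []⟩) (.node 1 (.leaf ⟨6, 10, true, [10, 29, 12, 31, 48, 4], [4, 45, 29, 48, 40], []⟩) (.leaf ⟨10, 6, true, [36, 21, 43, 28, 49], [47, 10, 49, 30, 18, 41], []⟩))) (.node 2 (.node 1 (.leaf ⟨6, 10, true, [20, 45, 36, 31, 20], [47, 33, 13, 39, 12], []⟩) (.leaf ⟨10, 6, true, [28, 0, 2, 23, 4], [34, 17, 47, 33, 24], []⟩)) (.node 1 (.leaf ⟨6, 10, true, [40, 25, 20, 39, 40], [0, 22, 2, 29, 0], []⟩) (.leaf ⟨10, 6, true, [4, 46, 13, 39, 12, 6], [20, 45, 47, 0, 23], []⟩)))) (.node 4 (.node 2 (.node 1 (.leaf ⟨10, 6, true, [10, 23, 32, 48, 4, 6], [47, 25, 37, 21, 49], []⟩) (.leaf ⟨10, 6, true, [18, 49, 20, 20, 2], [35, 42, 19, 21, 21, 10], []⟩)) (.node 1 (.leaf ⟨6, 10, true, [15, 38, 18, 27, 35, 6], [15, 22, 14, 47, 10, 10], []⟩) (.leaf ⟨10,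 5, true, [8, 13, 43, 2, 33], [0, 31, 27, 46, 26, 8], []⟩))) (.node 2 (.node 1 (.leaf ⟨5, 10, true, [42, 36, 28, 41, 35], [29, 31, 27, 38, 30, 10], []⟩) (.leaf ⟨10, 6, true, [2, 27, 8, 39, 48], [37, 41, 22, 24, 10, 2], []⟩)) (.node 1 (.leaf ⟨10, 6, true, [31, 45, 30, 10, 12, 8], [12, 0, 39, 20, 10, 43], []⟩) (.leaf ⟨6, 10, true, [8, 4, 39, 25, 36, 46], [10, 38, 15, 28, 39, 4], []⟩)))))) (.node 15 (.node 7 (.node 3 (.node 1 (.leaf ⟨10, 6, true, [18, 43, 27, 0, 37, 8], [6, 2, 29, 44, 33, 28], []⟩) (.node 1 (.leaf ⟨10, 6, true, [17, 17, 11, 45, 34, 2], [46, 35, 23, 30, 23, 4], []⟩) (.leaf ⟨6, 10, true, [31, 11, 42, 13, 17, 0], [22, 8, 2, 0, 24, 8], []⟩))) (.node 2 (.node 1 (.leaf ⟨10, 5, true, [41, 38, 19, 13, 4], [14, 2, 16, 24, 8], []⟩) (.leaf ⟨5, 10, true, [42, 40, 26, 28, 12], [0, 12,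 18, 39, 40], []⟩)) (.node 1 (.leaf ⟨10, 5, true, [8, 49, 22, 24], [15, 32, 27, 46, 36], []⟩) (.leaf ⟨5, 10, true, [38, 48, 31, 6, 21], [21, 29, 15, 41], []⟩)))) (.node 4 (.node 2 (.node 1 (.leaf ⟨10, 6, true, [44, 14, 10, 22, 18], [44, 4, 35, 33, 27, 44], []⟩) (.leaf ⟨6, 10, true, [41, 13, 32, 27, 8, 2], [10, 21, 2, 0, 35, 4], []⟩)) (.node 1 (.leaf ⟨10, 6, true, [12, 42, 13, 15, 2], [42, 13, 25, 41, 36, 34], []⟩) (.leaf ⟨6, 10, true, [26, 40, 23, 34, 30, 6], [8, 48, 22, 44, 35, 0], []⟩))) (.node 2 (.node 1 (.leaf ⟨10, 6, true, [15, 38, 21, 43, 25], [24, 47, 36, 13, 11], []⟩) (.leaf ⟨10, 2, true, [27, 8, 6, 15, 28], [34, 16, 47, 23, 16, 4], []⟩)) (.node 1 (.leaf ⟨2, 10, true, [12, 46, 48, 13, 42], [20, 15, 6, 20, 18, 8], []⟩) (.leaf ⟨3, 10, true, [6, 16, 26, 20, 6], [36, 42, 30, 15, 19],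 []⟩))))) (.node 7 (.node 3 (.node 1 (.leaf ⟨10, 3, true, [4, 0, 33, 21, 23, 24], [24, 8, 2, 4, 17], []⟩) (.node 1 (.leaf ⟨10, 5, true, [12, 27, 18, 46, 32, 10], [38, 2, 13, 49, 40, 25], []⟩) (.leaf ⟨5, 10, true, [4, 32, 21, 31, 49, 0], [45, 22, 18, 29, 39, 4], []⟩))) (.node 2 (.node 1 (.leaf ⟨10, 6, true, [2, 41, 18, 42, 37], [35, 17, 20, 12, 34], []⟩) (.leaf ⟨10, 6, true, [18, 30, 45, 21, 13], [37, 33, 26, 21, 28], []⟩)) (.node 1 (.leaf ⟨10, 4, true, [4, 20, 11, 26, 10, 6], [16, 49, 6, 46], []⟩) (.leaf ⟨4, 10, true, [0, 29, 20, 32, 10, 2], [6, 15, 18, 14, 11, 8], []⟩)))) (.node 4 (.node 2 (.node 1 (.leaf ⟨10, 6, true, [28, 39, 26, 29, 18, 0], [22, 18, 23, 39, 33, 10], []⟩) (.leaf ⟨10, 4, true, [10, 39, 35, 24], [0, 30, 47, 25, 42, 8], []⟩)) (.node 1 (.leaf ⟨4, 10, true, [36, 6, 31, 10,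 4], [25, 0, 34, 38, 11], []⟩) (.leaf ⟨10, 6, true, [0, 29, 10, 12, 18, 6], [0, 16, 41, 12, 44], []⟩))) (.node 2 (.node 1 (.leaf ⟨10, 7, true, [0, 10, 24, 23, 8, 6], [18, 42, 8, 49, 29], []⟩) (.leaf ⟨7, 10, true, [8, 20, 41, 43, 19], [28, 22, 25, 30, 45, 8], []⟩)) (.node 1 (.leaf ⟨10, 6, true, [0, 10, 6, 36, 26, 10], [41, 13, 43, 18, 10], []⟩) (.leaf ⟨10, 6, true, [29, 10, 18, 18, 6], [6, 43, 45, 19, 24, 6], []⟩)))))))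
noncomputable def dF3487 : BT Fct := (.node 30 (.node 15 (.node 7 (.node 3 (.node 1 (.leaf ⟨10, 6, true, [26, 8, 44, 31, 26], [6, 15, 10, 23, 6], []⟩) (.node 1 (.leaf ⟨10, 6, true, [24, 47, 47, 34], [12, 37, 38, 28, 12, 4], []⟩) (.leaf ⟨10, 6, true, [8, 22, 2, 26, 45, 4], [6, 28, 11, 26, 23, 6], []⟩))) (.node 2 (.node 1 (.leaf ⟨6, 10, true, [16, 2, 48, 15, 10], [0, 44, 27, 2, 23, 8], []⟩) (.leaf ⟨10, 5, true, [10, 26, 23, 29, 4], [22, 16, 32, 4, 41, 46], []⟩)) (.node 1 (.leaf ⟨5, 10, true, [30, 28, 39, 4, 31], [0, 28, 22, 27, 11], []⟩) (.leaf ⟨10, 10, true, [26, 28, 23, 11, 8], [12, 17, 10, 16], []⟩)))) (.node 4 (.node 2 (.node 1 (.leaf ⟨10, 5, true, [12, 20, 32, 2, 28], [30, 25, 30, 4, 41], []⟩) (.leaf ⟨5, 10, true, [32, 45, 49, 26, 20, 0], [31, 38, 2, 20, 23], []⟩)) (.node 1 (.leaf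 ⟨10, 7, true, [48, 24, 2, 27, 10], [13, 10, 19, 6, 2], []⟩) (.leaf ⟨7, 10, true, [6, 24, 26, 11, 17], [18, 47, 25, 6, 0], []⟩))) (.node 2 (.node 1 (.leaf ⟨10, 5, true, [4, 2, 17, 19, 16, 0], [2, 38, 11, 28, 18], []⟩) (.leaf ⟨5, 10, true, [2, 29, 17, 11, 17, 0], [4, 17, 18, 16, 2, 4], []⟩)) (.node 1 (.leaf ⟨10, 5, true, [2, 10, 30, 36, 28], [43, 22, 34, 41, 25], []⟩) (.leaf ⟨10, 10, true, [4, 32, 2, 20, 27, 10], [45, 29, 31, 10, 28], []⟩))))) (.node 7 (.node 3 (.node 1 (.leaf ⟨10, 5, true, [23, 30, 36, 45, 24], [10, 36, 6, 34, 10, 2], []⟩) (.node 1 (.leaf ⟨5, 10, true, [2, 11, 11, 14, 12, 0], [40, 47, 48, 43, 19], []⟩) (.leaf ⟨6, 10, true, [21, 11, 44, 0, 37], [17, 47, 33, 12, 6], []⟩))) (.node 2 (.node 1 (.leaf ⟨10, 5, true, [4, 6, 27, 19, 10, 4], [10, 23, 6, 37, 38], []⟩) (.leaf ⟨10,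 4, true, [41, 2, 26, 11, 19], [10, 35, 4, 36, 42, 6], []⟩)) (.node 1 (.leaf ⟨4, 10, true, [2, 23, 10, 10], [11, 20, 49, 29, 49], []⟩) (.leaf ⟨10, 7, true, [25, 16, 11, 6, 4], [6, 27, 13, 11, 4], []⟩)))) (.node 4 (.node 2 (.node 1 (.leaf ⟨7, 10, true, [2, 11, 28, 28, 21, 8], [11, 6, 17, 24, 0], []⟩) (.leaf ⟨10, 5, true, [0, 2, 48, 42, 4], [13, 35, 47, 4, 39], []⟩)) (.node 1 (.leaf ⟨10, 4, true, [44, 4, 30, 20, 12], [6, 4, 43, 45, 6], []⟩) (.leaf ⟨10, 10, true, [4, 2, 16, 11, 23, 8], [6, 19, 10, 21, 27, 0], []⟩))) (.node 2 (.node 1 (.leaf ⟨10, 10, true, [2, 8, 48, 30, 34, 6], [20, 0, 19, 40, 34, 30], []⟩) (.leaf ⟨10, 6, true, [4, 46, 26, 24, 4, 6], [36, 29, 34, 0, 32], []⟩)) (.node 1 (.leaf ⟨6, 10, true, [13, 26, 28, 2, 36], [20, 18, 18, 33, 28], []⟩) (.leaf ⟨10, 6, true, [11, 8, 44, 32,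 28, 6], [21, 36, 11, 37, 6], []⟩)))))) (.node 15 (.node 7 (.node 3 (.node 1 (.leaf ⟨10, 6, true, [13, 26, 15, 25, 11, 6], [6, 11, 25, 31, 49], []⟩) (.node 1 (.leaf ⟨6, 10, true, [36, 11, 2, 37, 10], [6, 26, 13, 10, 10, 4], []⟩) (.leaf ⟨10, 6, true, [4, 24, 31, 35, 0, 2], [19, 33, 49, 4, 29, 2], []⟩))) (.node 2 (.node 1 (.leaf ⟨6, 10, true, [15, 46, 13, 41, 37], [17, 46, 33, 12, 11], []⟩) (.leaf ⟨10, 6, true, [18, 11, 29, 4, 6], [18, 32, 38, 13, 10], []⟩)) (.node 1 (.leaf ⟨10, 6, true, [17, 23, 48, 37, 30], [20, 11, 43, 37, 30, 8], []⟩) (.leaf ⟨10, 6, true, [12, 20, 32, 38, 21, 10], [6, 21, 21, 11, 26, 6], []⟩)))) (.node 4 (.node 2 (.node 1 (.leaf ⟨10, 7, true, [0, 23, 26, 17, 11, 6], [24, 18, 16, 47, 8], []⟩) (.leaf ⟨10, 6, true, [28, 6, 8, 32, 13, 2], [6, 23, 23, 32, 23, 2], []⟩)) (.node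 1 (.leaf ⟨10, 6, true, [8, 41, 29, 31, 47, 4], [11, 39, 10, 2, 15, 10], []⟩) (.leaf ⟨6, 10, true, [13, 30, 42, 41, 43, 0], [19, 31, 36, 49, 16], []⟩))) (.node 2 (.node 1 (.leaf ⟨10, 10, true, [6, 13, 8, 43, 26, 4], [2, 29, 49, 23, 6, 8], []⟩) (.leaf ⟨10, 6, true, [4, 36, 22, 2, 15, 6], [0, 21, 32, 10, 36, 0], []⟩)) (.node 1 (.leaf ⟨10, 5, true, [26, 11, 32, 6, 38], [43, 8, 2, 40, 22, 10], []⟩) (.leaf ⟨5, 10, true, [31, 36, 31, 18, 13], [23, 14, 33, 10, 37], []⟩))))) (.node 7 (.node 3 (.node 1 (.leaf ⟨10, 5, true, [4, 18, 6, 27, 20, 10], [45, 2, 28, 24, 10], []⟩) (.node 1 (.leaf ⟨5, 10, true, [29, 38, 46, 6, 45], [6, 29, 10, 29, 12, 4], []⟩) (.leaf ⟨10, 6, true, [16, 45, 34, 0, 31], [35, 46, 38, 28, 20], []⟩))) (.node 2 (.node 1 (.leaf ⟨6, 10, true, [27, 25, 8, 2, 0], [6, 29, 42, 35, 19,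 2], []⟩) (.leaf ⟨10, 6, true, [21, 42, 36, 19, 44], [0, 2, 25, 25, 22], []⟩)) (.node 1 (.leaf ⟨10, 6, true, [11, 29, 49, 16, 27, 0], [17, 22, 38, 17, 46, 4], []⟩) (.leaf ⟨6, 10, true, [32, 20, 6, 44, 44], [4, 26, 17, 48, 28, 10], []⟩)))) (.node 4 (.node 2 (.node 1 (.leaf ⟨10, 6, true, [28, 38, 27, 30, 42], [8, 20, 34, 26, 25, 0], []⟩) (.leaf ⟨6, 10, true, [31, 33, 38, 48, 24], [26, 35, 37, 47, 47], []⟩)) (.node 1 (.leaf ⟨4, 10, true, [44, 28, 0, 47], [30, 13, 4, 32, 39, 0], []⟩) (.leaf ⟨10, 4, true, [40, 11, 41, 38], [0, 2, 25, 17, 14], []⟩))) (.node 2 (.node 1 (.leaf ⟨10, 6, true, [35, 36, 44, 27, 28], [48, 11, 39, 41, 22], []⟩) (.leaf ⟨6, 10, true, [4, 30, 29, 25, 34, 8], [4, 2, 48, 14, 42, 8], []⟩)) (.node 1 (.leaf ⟨10, 6, true, [11, 12, 29, 48, 21, 0], [27, 37, 14, 32, 30, 10], []⟩)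 (.leaf ⟨6, 10, true, [32, 8, 24, 45, 13, 2], [4, 20, 49, 28, 13, 10], []⟩)))))))
noncomputable def dF3547 : BT Fct := (.node 30 (.node 15 (.node 7 (.node 3 (.node 1 (.leaf ⟨10, 5, true, [12, 44, 19, 20, 10, 6], [13, 8, 2, 24, 6], []⟩) (.node 1 (.leaf ⟨5, 10, true, [28, 48, 24, 46, 0], [40, 24, 45, 22, 33], []⟩) (.leaf ⟨10, 6, true, [10, 30, 36, 39, 33, 6], [0, 34, 38, 14, 13, 8], []⟩))) (.node 2 (.node 1 (.leaf ⟨6, 10, true, [13, 20, 17, 39, 35, 0], [20, 0, 10, 38, 45, 14], []⟩) (.leaf ⟨10, 6, true, [15, 29, 47, 43, 26, 0], [32, 4, 18, 42, 28, 21], []⟩)) (.node 1 (.leaf ⟨10, 5, true, [40, 27, 38, 48, 6, 2], [25, 30, 34, 13, 37], []⟩) (.leaf ⟨5, 10, true, [48, 10, 6, 24, 27], [42, 13, 38, 28, 12, 30], []⟩)))) (.node 4 (.node 2 (.node 1 (.leaf ⟨10, 6, true, [17, 21, 35, 32, 34, 0], [47,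 30, 36, 44, 14, 6], []⟩) (.leaf ⟨6, 10, true, [16, 41, 33, 40, 25, 4], [25, 33, 36, 16, 22], []⟩)) (.node 1 (.leaf ⟨10, 6, true, [42, 2, 38, 30, 10, 45], [10, 25, 44, 21, 19], []⟩) (.leaf ⟨6, 10, true, [26, 49, 44, 27, 18], [40, 30, 26, 37, 12], []⟩))) (.node 2 (.node 1 (.leaf ⟨10, 5, true, [6, 2, 0, 16, 8], [2, 26, 19, 25, 12, 6], []⟩) (.leaf ⟨5, 10, true, [13, 15, 6, 20, 2], [8, 17, 6, 2], []⟩)) (.node 1 (.leaf ⟨10, 5, true, [11, 11, 29, 49, 22, 4], [12, 2, 21, 27, 25, 42], []⟩) (.leaf ⟨5, 10, true, [6, 46, 21, 11, 18, 10], [0, 23, 48, 28, 10, 10], []⟩))))) (.node 7 (.node 3 (.node 1 (.leaf ⟨10, 6, true, [36, 11, 6, 32, 0], [34, 6, 44, 29, 33, 4], []⟩) (.node 1 (.leaf ⟨10, 3, true, [28, 8, 23, 4, 2], [13, 0, 2, 22, 4], []⟩) (.leaf ⟨3, 10, true, [31, 36, 4, 6, 2], [31, 36, 6, 2], []⟩)))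 (.node 2 (.node 1 (.leaf ⟨10, 6, true, [25, 19, 31, 28, 32, 10], [15, 13, 24, 2, 16, 4], []⟩) (.leaf ⟨6, 10, true, [29, 16, 2, 23, 16], [44, 42, 37, 31, 6], []⟩)) (.node 1 (.leaf ⟨10, 6, true, [44, 32, 35, 6], [44, 11, 11, 49, 17, 47], []⟩) (.leaf ⟨10, 6, true, [0, 35, 8, 48, 6, 0], [13, 36, 40, 33, 4, 6], []⟩)))) (.node 4 (.node 2 (.node 1 (.leaf ⟨6, 10, true, [23, 13, 34, 33, 24, 4], [49, 21, 15, 43, 4], []⟩) (.leaf ⟨10, 5, true, [23, 49, 21, 23, 25, 10], [33, 23, 15, 10, 0], []⟩)) (.node 1 (.leaf ⟨5, 10, true, [36, 31, 39, 4, 30], [12, 10, 39, 36, 25, 8], []⟩) (.leaf ⟨10, 5, true, [12, 42, 20, 17, 11], [49, 22, 39, 27, 25, 6], []⟩))) (.node 2 (.node 1 (.leaf ⟨5, 10, true, [11, 31, 35, 23, 30], [46, 11, 33, 26, 44], []⟩) (.leaf ⟨10, 6, true, [10, 35, 22, 48, 6], [38, 31, 19, 36, 20,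 2], []⟩)) (.node 1 (.leaf ⟨6, 10, true, [35, 20, 44, 10, 15, 6], [31, 0, 2, 32, 8], []⟩) (.leaf ⟨10, 6, true, [11, 33, 21, 30, 49], [19, 10, 14, 36, 24, 4], []⟩)))))) (.node 15 (.node 7 (.node 3 (.node 1 (.leaf ⟨6, 10, true, [31, 38, 8, 27, 38, 0], [17, 25, 38, 6, 27], []⟩) (.node 1 (.leaf ⟨10, 9, true, [12, 36, 21, 18, 6, 8], [18, 34, 22, 32, 37, 6], []⟩) (.leaf ⟨9, 10, true, [44, 20, 28, 30, 42], [19, 6, 15, 18, 32, 8], []⟩))) (.node 2 (.node 1 (.leaf ⟨10, 6, true, [15, 31, 12, 39, 12, 0], [32, 21, 13, 42, 12, 10], []⟩) (.leaf ⟨6, 10, true, [28, 47, 21, 45, 10, 4], [10, 10, 18, 29, 47, 6], []⟩)) (.node 1 (.leaf ⟨10, 6, true, [22, 8, 16, 43, 19], [27, 36, 23, 24, 39, 6], []⟩) (.leaf ⟨6, 10, true, [46, 34, 24, 34, 23, 2], [10, 26, 18, 25, 39, 0], []⟩)))) (.node 4 (.node 2 (.node 1 (.leaf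 ⟨10, 6, true, [15, 49, 31, 21, 11], [43, 49, 6, 24, 37, 2], []⟩) (.leaf ⟨6, 10, true, [23, 10, 42, 24, 24, 0], [48, 25, 19, 17, 39, 6], []⟩)) (.node 1 (.leaf ⟨10, 6, true, [12, 4, 6, 0, 2], [15, 0, 22, 46, 10, 10], []⟩) (.leaf ⟨10, 6, true, [10, 27, 34, 8, 0], [14, 25, 18, 24, 37, 4], []⟩))) (.node 2 (.node 1 (.leaf ⟨10, 5, true, [10, 8, 46, 15, 27], [13, 2, 10, 33, 16, 42], []⟩) (.leaf ⟨5, 10, true, [33, 8, 31, 44, 43, 8], [15, 29, 13, 20, 46, 8], []⟩)) (.node 1 (.leaf ⟨10, 6, true, [8, 46, 16, 12, 27, 10], [46, 41, 49, 6, 30, 10], []⟩) (.leaf ⟨6, 10, true, [10, 8, 31, 33, 27], [6, 27, 38, 45, 16], []⟩))))) (.node 7 (.node 3 (.node 1 (.leaf ⟨10, 6, true, [25, 34, 34, 14, 35, 6], [42, 36, 6, 14, 31, 6], []⟩) (.node 1 (.leaf ⟨6, 10, true, [11, 41, 39, 40, 2], [8, 30, 32, 14, 42, 0], []⟩)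 (.leaf ⟨10, 6, true, [31, 2, 37, 23, 24, 32], [23, 18, 41, 41, 32, 4], []⟩))) (.node 2 (.node 1 (.leaf ⟨6, 10, true, [33, 41, 41, 21, 37, 2], [24, 23, 28, 30, 37, 4], []⟩) (.leaf ⟨10, 6, true, [6, 15, 6, 40, 25, 8], [26, 41, 34, 22, 34], []⟩)) (.node 1 (.leaf ⟨6, 10, true, [24, 27, 43, 23, 23, 10], [2, 13, 23, 37, 12, 0], []⟩) (.leaf ⟨6, 10, true, [10, 24, 45, 16, 31, 8], [31, 33, 13, 24, 48], []⟩)))) (.node 4 (.node 2 (.node 1 (.leaf ⟨10, 6, true, [10, 28, 11, 37, 30], [42, 0, 48, 22, 46, 41], []⟩) (.leaf ⟨10, 6, true, [8, 35, 29, 46, 46], [41, 8, 44, 10, 49, 21], []⟩)) (.node 1 (.leaf ⟨6, 10, true, [25, 43, 44, 34, 33, 8], [31, 6, 18, 49, 34, 47], []⟩) (.leaf ⟨10, 6, true, [18, 21, 33, 21, 11, 36], [12, 45, 11, 15, 49], []⟩))) (.node 2 (.node 1 (.leaf ⟨6, 10, true, [13, 49, 31, 39,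 2, 0], [10, 16, 13, 27, 46, 0], []⟩) (.leaf ⟨10, 6, true, [11, 46, 24, 28, 10, 0], [29, 6, 29, 23, 49, 35], []⟩)) (.node 1 (.leaf ⟨6, 10, true, [43, 47, 47, 23, 24, 0], [11, 18, 20, 38, 48], []⟩) (.leaf ⟨10, 5, true, [29, 4, 37, 30, 0], [35, 24, 13, 6, 16], []⟩)))))))
noncomputable def dF3607 : BT Fct := (.node 30 (.node 15 (.node 7 (.node 3 (.node 1 (.leaf ⟨5, 10, true, [4, 19, 46, 12, 46, 6], [6, 27, 18, 2], []⟩) (.node 1 (.leaf ⟨10, 6, true, [0, 12, 30, 19, 14, 4], [23, 38, 40, 29, 17, 8], []⟩) (.leaf ⟨6, 10, true, [23, 37, 40, 8, 14, 8], [0, 15, 18, 31, 13, 0], []⟩))) (.node 2 (.node 1 (.leaf ⟨10, 6, true, [28, 33, 17, 20, 13], [17, 46, 19, 40, 31, 10], []⟩) (.leaf ⟨6, 10, true, [22, 2, 31, 41, 10, 4], [13, 25, 17, 46, 29, 10], []⟩)) (.node 1 (.leaf ⟨6, 10, true, [39, 16, 37, 19,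 34, 10], [2, 12, 21, 25, 10, 2], []⟩) (.leaf ⟨10, 6, true, [6, 25, 22, 46, 24], [39, 27, 14, 21, 44, 8], []⟩)))) (.node 4 (.node 2 (.node 1 (.leaf ⟨10, 6, true, [10, 44, 10, 23, 23, 4], [13, 38, 24, 8, 30], []⟩) (.leaf ⟨6, 10, true, [26, 2, 40, 21, 49, 36], [2, 22, 6, 38, 14, 2], []⟩)) (.node 1 (.leaf ⟨10, 5, true, [2, 29, 21, 22, 16, 6], [6, 33, 43, 32, 42, 0], []⟩) (.leaf ⟨5, 10, true, [8, 20, 11, 17, 32, 36], [24, 6, 49, 11, 4], []⟩))) (.node 2 (.node 1 (.leaf ⟨10, 9, true, [45, 6, 8, 17, 28], [32, 25, 35, 24, 29], []⟩) (.leaf ⟨9, 10, true, [32, 8, 13, 28, 38, 25], [38, 31, 14, 26, 42], []⟩)) (.node 1 (.leaf ⟨4, 10, true, [21, 49, 24, 11, 48], [49, 49, 40, 0, 15], []⟩) (.leaf ⟨10, 4, true, [36, 11, 8, 44, 4], [2, 49, 49, 4, 40, 2], []⟩))))) (.node 7 (.node 3 (.node 1 (.leaf ⟨10, 6,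 true, [17, 49, 43, 21, 46, 8], [19, 26, 41, 37, 35, 4], []⟩) (.node 1 (.leaf ⟨6, 10, true, [21, 32, 46, 16, 35, 6], [22, 15, 21, 11, 41, 6], []⟩) (.leaf ⟨10, 5, true, [11, 49, 19, 13, 11], [6, 18, 46, 41, 34, 2], []⟩))) (.node 2 (.node 1 (.leaf ⟨5, 10, true, [29, 45, 11, 49, 31, 10], [15, 25, 20, 48, 12], []⟩) (.leaf ⟨10, 6, true, [38, 6, 42, 17, 48], [35, 41, 47, 16, 2, 0], []⟩)) (.node 1 (.leaf ⟨6, 10, true, [30, 48, 17, 44, 44, 0], [30, 32, 6, 36, 39], []⟩) (.leaf ⟨10, 3, true, [32, 38, 35, 30, 29, 6], [16, 23, 37, 38, 44], []⟩)))) (.node 4 (.node 2 (.node 1 (.leaf ⟨6, 10, true, [34, 30, 45, 30, 44], [6, 29, 31, 49, 33, 10], []⟩) (.leaf ⟨10, 6, true, [10, 13, 30, 23, 4], [24, 24, 39, 28, 13, 48], []⟩)) (.node 1 (.leaf ⟨10, 6, true, [0, 6, 49, 20, 19, 4], [40, 4, 11, 40, 29, 15], []⟩)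 (.leaf ⟨6, 10, true, [49, 28, 41, 27, 16], [0, 18, 21, 48, 6, 0], []⟩))) (.node 2 (.node 1 (.leaf ⟨10, 6, true, [24, 27, 38, 24, 12, 6], [34, 38, 49, 17, 29, 10], []⟩) (.leaf ⟨6, 10, true, [25, 31, 6, 28, 41], [18, 23, 12, 40, 12, 4], []⟩)) (.node 1 (.leaf ⟨10, 6, true, [35, 10, 0, 22, 37, 6], [12, 10, 34, 11, 41, 46], []⟩) (.leaf ⟨6, 10, true, [22, 4, 29, 41, 35, 35], [46, 40, 48, 13, 22], []⟩)))))) (.node 15 (.node 7 (.node 3 (.node 1 (.leaf ⟨10, 4, true, [4, 10, 31, 13, 11, 4], [34, 20, 2, 33, 44, 22], []⟩) (.node 1 (.leaf ⟨4, 10, true, [25, 16, 38, 14, 6, 38], [0, 10, 12, 30, 11, 4], []⟩) (.leaf ⟨10, 6, true, [8, 33, 45, 18, 15], [35, 22, 27, 39, 28], []⟩))) (.node 2 (.node 1 (.leaf ⟨6, 10, true, [30, 11, 15, 11, 11], [13, 48, 10, 38, 37], []⟩) (.leaf ⟨10, 6, true, [6, 41, 21, 40,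 19, 0], [22, 10, 30, 13, 41, 33], []⟩)) (.node 1 (.leaf ⟨6, 10, true, [32, 10, 36, 39, 49, 0], [4, 18, 41, 20, 40, 6], []⟩) (.leaf ⟨6, 10, true, [32, 26, 38, 4, 30, 2], [2, 16, 14, 30, 48, 6], []⟩)))) (.node 4 (.node 2 (.node 1 (.leaf ⟨10, 6, true, [21, 29, 12, 48, 25, 10], [6, 47, 14, 44, 4, 2], []⟩) (.leaf ⟨10, 6, true, [0, 33, 20, 14, 27, 8], [37, 14, 4, 44, 19], []⟩)) (.node 1 (.leaf ⟨6, 10, true, [40, 15, 46, 10, 4, 47], [11, 16, 34, 49, 29, 0], []⟩) (.leaf ⟨6, 10, true, [45, 17, 42, 27, 28], [47, 49, 15, 11, 26], []⟩))) (.node 2 (.node 1 (.leaf ⟨10, 6, true, [30, 0, 37, 27, 47], [44, 14, 49, 22, 25, 0], []⟩) (.leaf ⟨10, 6, true, [23, 0, 13, 10, 34, 42], [23, 0, 43, 20, 6, 23], []⟩)) (.node 1 (.leaf ⟨6, 10, true, [14, 29, 46, 22, 46], [37, 13, 46, 15, 38, 45], []⟩) (.leaf ⟨10, 6,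 true, [36, 16, 10, 24, 27, 0], [2, 37, 22, 32, 41, 2], []⟩))))) (.node 7 (.node 3 (.node 1 (.leaf ⟨6, 10, true, [36, 20, 10, 24, 28], [45, 36, 35, 47, 21, 0], []⟩) (.node 1 (.leaf ⟨10, 5, true, [0, 46, 11, 17, 11], [33, 27, 43, 32, 48, 0], []⟩) (.leaf ⟨5, 10, true, [18, 32, 16, 47, 17, 0], [10, 16, 10, 4, 47, 0], []⟩))) (.node 2 (.node 1 (.leaf ⟨10, 6, true, [2, 18, 25, 13, 20], [20, 11, 45, 49, 16], []⟩) (.leaf ⟨6, 10, true, [25, 2, 15, 19, 29], [8, 20, 26, 16, 2], []⟩)) (.node 1 (.leaf ⟨5, 10, true, [46, 45, 4, 48, 13], [22, 2, 19, 17, 4], []⟩) (.leaf ⟨10, 5, true, [12, 40, 29, 15, 18], [11, 18, 10, 31, 28], []⟩)))) (.node 4 (.node 2 (.node 1 (.leaf ⟨10, 10, true, [2, 25, 35, 31, 11], [39, 2, 32, 2, 0], []⟩) (.leaf ⟨6, 10, true, [6, 26, 13, 21, 10, 6], [44, 10, 45, 21, 17], []⟩)) (.node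 1 (.leaf ⟨10, 6, true, [11, 22, 14, 4, 6], [4, 22, 41, 8, 45, 8], []⟩) (.leaf ⟨10, 5, true, [23, 30, 34, 24, 8, 4], [22, 10, 8, 33, 37, 47], []⟩))) (.node 2 (.node 1 (.leaf ⟨5, 10, true, [0, 31, 38, 16, 21, 10], [10, 47, 13, 4, 48, 8], []⟩) (.leaf ⟨5, 10, true, [13, 29, 30, 19, 45, 2], [2, 16, 4, 21, 8], []⟩)) (.node 1 (.leaf ⟨10, 5, true, [15, 0, 48, 39, 16, 42], [11, 26, 22, 24, 6, 2], []⟩) (.leaf ⟨5, 10, true, [36, 19, 29, 21, 0], [6, 29, 49, 11, 21, 0], []⟩)))))))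
noncomputable def dF3667 : BT Fct := (.node 30 (.node 15 (.node 7 (.node 3 (.node 1 (.leaf ⟨10, 5, true, [6, 42, 32, 46, 43], [41, 30, 0, 22, 2], []⟩) (.node 1 (.leaf ⟨6, 10, true, [34, 13, 22, 16, 43, 49], [28, 13, 47, 45, 33], []⟩) (.leaf ⟨10, 6, true, [33, 27, 27, 10, 25], [46, 33, 16, 33, 34, 17], []⟩))) (.node 2 (.node 1 (.leaf ⟨6, 10, true, [38, 38, 36, 10, 16], [2, 6, 19, 22, 28], []⟩) (.leaf ⟨10, 6, true, [13, 34, 45, 40, 18], [19, 48, 31, 39, 20, 8], []⟩)) (.node 1 (.leaf ⟨6, 10, true, [20, 8, 39, 41, 18, 29], [2, 16, 19, 28, 16, 6], []⟩) (.leaf ⟨10, 6, true, [32, 40, 15, 4, 29], [15, 38, 16, 49, 44, 6], []⟩)))) (.node 4 (.node 2 (.node 1 (.leaf ⟨10, 6, true, [4, 34, 36, 25, 30, 8], [17, 29, 44, 21, 49], []⟩) (.leaf ⟨5, 10, true, [44, 20, 11, 23, 21], [2, 16, 48, 30, 17, 4],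 []⟩)) (.node 1 (.leaf ⟨10, 5, true, [39, 15, 13, 37, 24], [34, 17, 18, 30, 43], []⟩) (.leaf ⟨6, 10, true, [29, 21, 38, 33, 13, 4], [21, 41, 34, 10, 49, 0], []⟩))) (.node 2 (.node 1 (.leaf ⟨10, 6, true, [42, 15, 38, 22, 46], [13, 21, 41, 48, 13, 0], []⟩) (.leaf ⟨6, 10, true, [6, 17, 27, 14, 2, 4], [2, 6, 26, 18, 16, 0], []⟩)) (.node 1 (.leaf ⟨10, 6, true, [36, 49, 11, 47, 38, 8], [0, 2, 15, 26, 16, 6], []⟩) (.leaf ⟨6, 10, true, [6, 19, 26, 49, 19, 4], [29, 38, 2, 16, 6, 0], []⟩))))) (.node 7 (.node 3 (.node 1 (.leaf ⟨10, 6, true, [35, 11, 23, 12, 28, 2], [23, 10, 31, 10, 37], []⟩) (.node 1 (.leaf ⟨6, 10, true, [49, 8, 32, 17, 30], [10, 33, 48, 47, 48], []⟩) (.leaf ⟨10, 6, true, [40, 23, 15, 11, 8], [26, 33, 28, 17, 38], []⟩))) (.node 2 (.node 1 (.leaf ⟨6, 10, true, [49, 8, 44, 6, 45, 33],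 [6, 2, 18, 13], []⟩) (.leaf ⟨10, 6, true, [11, 36, 24, 18, 10, 4], [2, 8, 43, 43, 34], []⟩)) (.node 1 (.leaf ⟨5, 10, true, [24, 0, 21, 39, 18, 47], [19, 8, 31, 24, 35], []⟩) (.leaf ⟨10, 5, true, [10, 33, 14, 19, 20, 8], [28, 13, 48, 48, 32, 6], []⟩)))) (.node 4 (.node 2 (.node 1 (.leaf ⟨6, 10, true, [26, 4, 16, 34, 15, 47], [2, 6, 17, 20, 28, 0], []⟩) (.leaf ⟨10, 6, true, [36, 16, 30, 21, 10, 2], [14, 12, 33, 21, 8, 34], []⟩)) (.node 1 (.leaf ⟨6, 10, true, [25, 35, 4, 44, 11, 6], [38, 29, 10, 4, 6], []⟩) (.leaf ⟨10, 6, true, [10, 40, 28, 44, 36, 0], [19, 0, 10, 30, 35, 41], []⟩))) (.node 2 (.node 1 (.leaf ⟨6, 10, true, [38, 2, 8, 25, 30, 36], [4, 11, 16, 25, 32, 10], []⟩) (.leaf ⟨6, 10, true, [34, 0, 35, 11, 46, 35], [6, 2, 29, 18, 4], []⟩)) (.node 1 (.leaf ⟨10, 6, true, [33, 18, 22],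 [18, 27, 42, 19, 49, 4], []⟩) (.leaf ⟨6, 10, true, [11, 42, 14, 19, 19, 0], [0, 30, 18, 10, 28, 4], []⟩)))))) (.node 15 (.node 7 (.node 3 (.node 1 (.leaf ⟨10, 6, true, [8, 23, 42, 12, 24], [46, 39, 26, 16, 39], []⟩) (.node 1 (.leaf ⟨6, 10, true, [17, 28, 44, 16, 38], [35, 30, 28, 23, 25], []⟩) (.leaf ⟨10, 6, true, [21, 31, 31, 47, 39, 0], [42, 26, 24, 39, 16], []⟩))) (.node 2 (.node 1 (.leaf ⟨6, 10, true, [38, 31, 28, 41, 45, 4], [37, 2, 49, 11, 30, 23], []⟩) (.leaf ⟨10, 6, true, [14, 10, 49, 10, 36, 0], [6, 21, 49, 8, 24, 8], []⟩)) (.node 1 (.leaf ⟨6, 10, true, [28, 41, 32, 16, 13], [33, 25, 6, 45, 35, 8], []⟩) (.leaf ⟨10, 6, true, [29, 49, 30, 17, 46], [18, 40, 34, 38, 35, 4], []⟩)))) (.node 4 (.node 2 (.node 1 (.leaf ⟨5, 10, true, [28, 10, 45, 21, 43, 2], [24, 10, 2, 14, 12], []⟩)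 (.leaf ⟨10, 5, true, [12, 47, 11, 27, 17, 8], [13, 41, 36, 20, 29, 0], []⟩)) (.node 1 (.leaf ⟨6, 10, true, [29, 0, 37, 24, 24, 28], [6, 17, 36, 48, 20, 2], []⟩) (.leaf ⟨10, 6, true, [10, 35, 11, 13, 23, 6], [42, 27, 42, 30, 40], []⟩))) (.node 2 (.node 1 (.leaf ⟨6, 10, true, [17, 27, 17, 39, 12, 39], [2, 30, 37, 2, 38], []⟩) (.leaf ⟨10, 6, true, [8, 21, 22, 48, 11], [6, 22, 34, 13, 19, 2], []⟩)) (.node 1 (.leaf ⟨6, 10, true, [44, 30, 23, 34, 22, 0], [0, 35, 19, 16, 18, 6], []⟩) (.leaf ⟨10, 6, true, [34, 10, 41, 47, 36, 13], [23, 4, 35, 22, 31, 45], []⟩))))) (.node 7 (.node 3 (.node 1 (.leaf ⟨5, 10, true, [13, 43, 12, 18, 20, 6], [6, 15, 11, 30, 45, 6], []⟩) (.node 1 (.leaf ⟨10, 5, true, [24, 47, 28, 39, 45, 2], [33, 43, 23, 17, 26], []⟩) (.leaf ⟨6, 10, true, [48, 47, 32, 17, 13, 0], [16,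 38, 47, 11, 15], []⟩))) (.node 2 (.node 1 (.leaf ⟨10, 6, true, [8, 40, 15, 21, 18], [10, 22, 38, 28, 15, 8], []⟩) (.leaf ⟨6, 10, true, [41, 27, 16, 39, 31, 8], [15, 47, 18, 40, 36, 8], []⟩)) (.node 1 (.leaf ⟨10, 6, true, [19, 35, 44, 18, 11, 2], [14, 6, 31, 10, 41, 2], []⟩) (.leaf ⟨5, 10, true, [48, 41, 29, 31, 11], [25, 20, 41, 30, 14], []⟩)))) (.node 4 (.node 2 (.node 1 (.leaf ⟨10, 5, true, [2, 17, 10, 17, 24], [21, 19, 10, 29, 39, 6], []⟩) (.leaf ⟨6, 10, true, [36, 2, 22, 30, 10], [2, 17, 43, 6, 32], []⟩)) (.node 1 (.leaf ⟨10, 6, true, [41, 25, 16, 46], [4, 25, 21, 44, 44, 6], []⟩) (.leaf ⟨10, 9, true, [6, 8, 31, 18, 20, 6], [14, 32, 45, 42, 41], []⟩))) (.node 2 (.node 1 (.leaf ⟨9, 10, true, [43, 13, 32, 25, 21], [15, 48, 0, 45, 17], []⟩) (.leaf ⟨6, 10, true, [22, 36, 11, 46, 37, 2],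 [8, 6, 15, 44, 39, 0], []⟩)) (.node 1 (.leaf ⟨10, 6, true, [12, 38, 30, 42, 23], [15, 42, 17, 13, 33, 2], []⟩) (.leaf ⟨6, 10, true, [27, 31, 2, 31, 33, 10], [41, 8, 35, 17, 14, 6], []⟩)))))))
noncomputable def dF3727 : BT Fct := (.node 30 (.node 15 (.node 7 (.node 3 (.node 1 (.leaf ⟨10, 6, true, [32, 0, 44, 29, 0, 31], [20, 45, 21, 44, 36], []⟩) (.node 1 (.leaf ⟨6, 10, true, [45, 11, 26, 32, 46, 0], [47, 28, 25, 10, 6], []⟩) (.leaf ⟨10, 6, true, [40, 45, 14, 17, 15], [15, 47, 14, 43, 26, 10], []⟩))) (.node 2 (.node 1 (.leaf ⟨6, 10, true, [23, 46, 42, 6, 35, 8], [0, 4, 6, 36, 18, 6], []⟩) (.leaf ⟨10, 6, true, [31, 15, 35, 23, 33], [18, 18, 35, 2, 31, 6], []⟩)) (.node 1 (.leaf ⟨6, 10, true, [19, 45, 47, 12, 38, 8], [8, 40, 46, 6, 30], []⟩) (.leaf ⟨10, 6, true, [45, 26, 35, 37, 29, 0], [38,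 46, 49, 36, 23, 2], []⟩)))) (.node 4 (.node 2 (.node 1 (.leaf ⟨6, 10, true, [43, 28, 40, 15, 10], [10, 41, 4, 33, 31, 8], []⟩) (.leaf ⟨10, 6, true, [16, 4, 34, 37, 19, 4], [11, 14, 0, 41, 29, 42], []⟩)) (.node 1 (.leaf ⟨6, 10, true, [29, 6, 15, 44, 13, 16], [2, 13, 6, 28, 20, 8], []⟩) (.leaf ⟨10, 6, true, [0, 49, 46, 38, 12, 4], [32, 42, 32, 39, 6, 0], []⟩))) (.node 2 (.node 1 (.leaf ⟨10, 10, true, [14, 45, 6, 44, 41], [4, 29, 34, 20, 32, 2], []⟩) (.leaf ⟨10, 10, true, [28, 34, 12, 37, 6], [15, 47, 33, 10, 42], []⟩)) (.node 1 (.leaf ⟨6, 10, true, [34, 0, 2, 26, 19, 10], [43, 15, 24, 24, 48, 16], []⟩) (.leaf ⟨10, 6, true, [0, 29, 31, 11, 46], [14, 44, 42, 47, 11, 0], []⟩))))) (.node 7 (.node 3 (.node 1 (.leaf ⟨6, 10, true, [0, 38, 33, 41, 16, 0], [18, 42, 10, 37, 21], []⟩) (.node 1 (.leaf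 ⟨10, 6, true, [40, 2, 29, 32, 4], [4, 17, 40, 32, 39, 0], []⟩) (.leaf ⟨6, 10, true, [6, 37, 8, 29, 6], [2, 26, 16, 14, 18], []⟩))) (.node 2 (.node 1 (.leaf ⟨10, 6, true, [42, 21, 32, 23, 30], [8, 12, 26, 36, 10, 0], []⟩) (.leaf ⟨6, 10, true, [4, 46, 10, 28, 47, 2], [47, 48, 34, 39, 28, 6], []⟩)) (.node 1 (.leaf ⟨10, 6, true, [48, 14, 46, 26, 12], [13, 39, 34, 39, 48, 2], []⟩) (.leaf ⟨10, 6, true, [48, 24, 27, 41, 31], [32, 0, 10, 26, 2, 42], []⟩)))) (.node 4 (.node 2 (.node 1 (.leaf ⟨6, 10, true, [6, 0, 30, 14, 0, 35], [21, 14, 20, 2, 49, 6], []⟩) (.leaf ⟨10, 6, true, [13, 47, 27, 20, 24, 10], [18, 6, 26, 41, 47, 27], []⟩)) (.node 1 (.leaf ⟨10, 6, true, [10, 27, 19, 26, 40], [43, 26, 38, 18, 41], []⟩) (.leaf ⟨6, 10, true, [38, 47, 47, 21, 46, 0], [15, 29, 45, 8, 39], []⟩))) (.node 2 (.node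 1 (.leaf ⟨10, 6, true, [8, 23, 11, 36, 32, 2], [26, 45, 17, 19, 43, 8], []⟩) (.leaf ⟨6, 10, true, [15, 31, 11, 41, 20, 2], [43, 36, 48, 44, 28], []⟩)) (.node 1 (.leaf ⟨10, 5, true, [30, 36, 0, 16, 30], [35, 35, 27, 19, 47, 0], []⟩) (.leaf ⟨5, 10, true, [24, 46, 6, 21, 12, 8], [48, 15, 49, 17, 25, 2], []⟩)))))) (.node 15 (.node 7 (.node 3 (.node 1 (.leaf ⟨10, 5, true, [19, 6, 26, 33, 36, 4], [2, 15, 37, 30, 32, 10], []⟩) (.node 1 (.leaf ⟨5, 10, true, [0, 32, 19, 8, 20, 6], [37, 31, 36, 27, 19, 0], []⟩) (.leaf ⟨10, 6, true, [42, 39, 46, 4, 29], [12, 17, 44, 11, 39], []⟩))) (.node 2 (.node 1 (.leaf ⟨10, 6, true, [13, 38, 32, 46, 20, 0], [16, 44, 37, 47, 41, 0], []⟩) (.leaf ⟨6, 10, true, [14, 42, 36, 38, 16, 8], [12, 29, 43, 37, 38, 6], []⟩)) (.node 1 (.leaf ⟨10, 6, true, [2, 10, 8, 18, 16],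 [14, 43, 14, 21, 43, 0], []⟩) (.leaf ⟨10, 10, true, [11, 32, 32, 28, 41, 4], [24, 16, 28, 43, 20, 37], []⟩)))) (.node 4 (.node 2 (.node 1 (.leaf ⟨10, 6, true, [16, 39, 25, 13, 10, 6], [23, 10, 8, 47, 39, 4], []⟩) (.leaf ⟨6, 10, true, [13, 34, 37, 35, 39, 47], [15, 15, 10, 23, 48, 0], []⟩)) (.node 1 (.leaf ⟨10, 6, true, [2, 11, 23, 17, 12], [36, 35, 45, 21, 33, 2], []⟩) (.leaf ⟨6, 10, true, [13, 28, 30, 20, 34], [31, 2, 34, 23, 44, 35], []⟩))) (.node 2 (.node 1 (.leaf ⟨10, 6, true, [0, 20, 28, 46, 35, 2], [43, 26, 30, 36, 45], []⟩) (.leaf ⟨9, 10, true, [11, 26, 31, 33, 19, 0], [18, 32, 38, 14, 49, 2], []⟩)) (.node 1 (.leaf ⟨10, 9, true, [23, 12, 49, 15, 11, 0], [2, 41, 20, 39, 29, 8], []⟩) (.leaf ⟨6, 10, true, [6, 31, 45, 23, 25, 2], [19, 39, 36, 15, 17], []⟩))))) (.node 7 (.node 3 (.node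 1 (.leaf ⟨10, 6, true, [29, 0, 36, 42, 14, 27], [8, 42, 26, 28, 11, 8], []⟩) (.node 1 (.leaf ⟨5, 10, true, [10, 40, 8, 19, 14, 4], [39, 28, 19, 44, 11, 8], []⟩) (.leaf ⟨10, 5, true, [30, 29, 10, 41, 12], [13, 21, 24, 41, 11], []⟩))) (.node 2 (.node 1 (.leaf ⟨6, 10, true, [24, 22, 2, 20, 27, 0], [18, 35, 10, 12, 36, 10], []⟩) (.leaf ⟨10, 6, true, [49, 15, 11, 12, 17], [43, 30, 13, 38, 41], []⟩)) (.node 1 (.leaf ⟨10, 6, true, [4, 40, 26, 14, 13, 10], [35, 0, 14, 12, 48], []⟩) (.leaf ⟨10, 6, true, [8, 30, 36, 27, 12], [10, 10, 25, 46, 36, 44], []⟩)))) (.node 4 (.node 2 (.node 1 (.leaf ⟨6, 10, true, [43, 15, 48, 38, 11, 6], [0, 8, 21, 19, 32, 8], []⟩) (.leaf ⟨10, 6, true, [20, 15, 31, 19, 25, 8], [29, 21, 45, 24, 13], []⟩)) (.node 1 (.leaf ⟨10, 6, true, [10, 38, 11, 27, 29, 10], [12, 37,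 38, 15, 11], []⟩) (.leaf ⟨6, 10, true, [22, 11, 18, 2, 17, 10], [15, 23, 27, 33, 45, 4], []⟩))) (.node 2 (.node 1 (.leaf ⟨6, 10, true, [17, 10, 37, 39, 11], [6, 23, 30, 34, 20, 4], []⟩) (.leaf ⟨10, 6, true, [4, 48, 36, 13, 35], [29, 4, 38, 17, 15, 49], []⟩)) (.node 1 (.leaf ⟨6, 10, true, [32, 10, 36, 30, 36, 11], [38, 27, 24, 23, 11], []⟩) (.leaf ⟨10, 6, true, [28, 46, 34, 23, 18, 8], [2, 16, 25, 36, 49, 42], []⟩)))))))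
noncomputable def dF3787 : BT Fct := (.node 30 (.node 15 (.node 7 (.node 3 (.node 1 (.leaf ⟨6, 10, true, [47, 14, 35, 12, 22], [11, 34, 13, 36, 21], []⟩) (.node 1 (.leaf ⟨10, 6, true, [6, 17, 35, 13, 41, 0], [23, 0, 13, 34, 15, 46], []⟩) (.leaf ⟨6, 10, true, [27, 41, 37, 49, 29], [0, 48, 29, 39, 22, 2], []⟩))) (.node 2 (.node 1 (.leaf ⟨10, 6, true, [48, 4, 33, 22, 21, 15], [11, 43, 48, 38, 38, 0], []⟩) (.leaf ⟨5, 10, true, [44, 28, 6, 25, 26], [43, 25, 35, 18, 35, 0], []⟩)) (.node 1 (.leaf ⟨10, 5, true, [30, 16, 15, 11, 15, 10], [17, 22, 10, 39, 40, 0], []⟩) (.leaf ⟨6, 10, true, [32, 13, 15, 42, 14], [47, 48, 23, 29, 12], []⟩)))) (.node 4 (.node 2 (.node 1 (.leaf ⟨10, 6, true, [6, 24, 41, 11, 25, 8], [15, 0, 43, 14, 12, 33], []⟩) (.leaf ⟨6, 10, true, [6, 43, 21, 18, 0], [27, 23, 24, 40,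 16, 10], []⟩)) (.node 1 (.leaf ⟨10, 6, true, [2, 45, 22, 28, 41], [19, 4, 20, 42, 6], []⟩) (.leaf ⟨6, 10, true, [32, 8, 14, 49, 42, 32], [45, 39, 26, 28, 4], []⟩))) (.node 2 (.node 1 (.leaf ⟨10, 6, true, [13, 18, 33, 2, 25], [23, 32, 25, 42, 19, 8], []⟩) (.leaf ⟨6, 10, true, [43, 24, 40, 30, 43, 6], [36, 11, 11, 8, 27, 0], []⟩)) (.node 1 (.leaf ⟨10, 6, true, [47, 27, 13, 25, 10], [29, 6, 22, 29, 2, 36], []⟩) (.leaf ⟨6, 10, true, [38, 31, 32, 20, 23, 4], [25, 46, 32, 0, 33], []⟩))))) (.node 7 (.node 3 (.node 1 (.leaf ⟨10, 6, true, [31, 4, 36, 16, 10], [18, 35, 45, 21, 14, 6], []⟩) (.node 1 (.leaf ⟨10, 6, true, [33, 49, 17, 10, 23], [12, 27, 35, 40, 21, 4], []⟩) (.leaf ⟨6, 10, true, [41, 11, 33, 37, 23, 4], [24, 47, 47, 24, 41, 2], []⟩))) (.node 2 (.node 1 (.leaf ⟨10, 6, true, [35, 44,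 24, 13, 26], [46, 2, 6, 37, 37, 33], []⟩) (.leaf ⟨6, 10, true, [33, 12, 38, 13, 22], [14, 25, 29, 48, 11, 0], []⟩)) (.node 1 (.leaf ⟨6, 10, true, [44, 4, 24, 44, 38, 18], [2, 10, 33, 14, 14, 2], []⟩) (.leaf ⟨6, 10, true, [20, 2, 39, 25, 42, 0], [40, 24, 44, 26, 32, 2], []⟩)))) (.node 4 (.node 2 (.node 1 (.leaf ⟨10, 6, true, [6, 49, 24, 47, 37, 8], [17, 25, 12, 11, 44], []⟩) (.leaf ⟨10, 6, true, [19, 24, 28, 38, 32, 8], [43, 8, 24, 13, 42, 45], []⟩)) (.node 1 (.leaf ⟨6, 10, true, [33, 36, 13, 23, 49, 4], [25, 40, 49, 44, 43], []⟩) (.leaf ⟨6, 10, true, [10, 48, 8, 14, 30, 6], [39, 13, 15, 35, 33, 6], []⟩))) (.node 2 (.node 1 (.leaf ⟨10, 6, true, [10, 42, 17, 4, 29], [35, 44, 36, 44, 47, 2], []⟩) (.leaf ⟨10, 9, true, [38, 6, 45, 12, 42, 22], [11, 41, 8, 49, 39], []⟩)) (.node 1 (.leaf ⟨9,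 10, true, [11, 13, 33, 11, 32], [33, 13, 49, 21, 25, 4], []⟩) (.leaf ⟨10, 9, true, [36, 6, 20, 18, 21], [13, 34, 36, 39, 10], []⟩)))))) (.node 15 (.node 7 (.node 3 (.node 1 (.leaf ⟨6, 10, true, [32, 43, 23, 26, 29], [24, 24, 48, 18, 16, 0], []⟩) (.node 1 (.leaf ⟨10, 6, true, [6, 29, 36, 17, 18, 4], [18, 23, 24, 42, 33, 2], []⟩) (.leaf ⟨6, 10, true, [48, 35, 27, 10, 48], [10, 4, 23, 37, 33, 21], []⟩))) (.node 2 (.node 1 (.leaf ⟨10, 6, true, [4, 49, 21, 19, 46, 2], [26, 30, 20, 36, 14, 29], []⟩) (.leaf ⟨6, 10, true, [0, 40, 38, 13, 45, 0], [12, 35, 32, 12, 39, 8], []⟩)) (.node 1 (.leaf ⟨10, 6, true, [14, 25, 17, 47, 19, 6], [4, 44, 12, 39, 41, 0], []⟩) (.leaf ⟨6, 10, true, [8, 13, 44, 21, 34], [25, 17, 33, 26, 2], []⟩)))) (.node 4 (.node 2 (.node 1 (.leaf ⟨10, 6, true, [10, 17, 6, 40, 46,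 0], [47, 39, 34, 24, 0], []⟩) (.leaf ⟨6, 10, true, [49, 8, 13, 48, 25, 27], [47, 28, 22, 30, 45], []⟩)) (.node 1 (.leaf ⟨10, 6, true, [28, 44, 16, 19, 12], [24, 26, 6, 35, 43, 2], []⟩) (.leaf ⟨9, 10, true, [16, 15, 17, 43, 43], [16, 6, 49, 43, 24], []⟩))) (.node 2 (.node 1 (.leaf ⟨10, 9, true, [28, 24, 15, 40, 17, 4], [13, 29, 19, 46, 12, 6], []⟩) (.leaf ⟨10, 6, true, [2, 18, 10, 28, 26, 6], [32, 26, 34, 34, 22, 6], []⟩)) (.node 1 (.leaf ⟨6, 10, true, [29, 21, 38, 18, 38, 8], [0, 2, 16, 39, 25, 45], []⟩) (.leaf ⟨10, 6, true, [12, 46, 18, 27, 8], [0, 40, 28, 35, 32, 4], []⟩))))) (.node 8 (.node 4 (.node 2 (.node 1 (.leaf ⟨10, 6, true, [4, 19, 15, 49, 45, 0], [48, 36, 47, 30, 16, 4], []⟩) (.leaf ⟨6, 10, true, [12, 36, 10, 14, 29], [4, 44, 48, 14, 18, 4], []⟩)) (.node 1 (.leaf ⟨5, 10, true,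 [38, 48, 10, 17, 13, 4], [11, 33, 43, 39, 20, 6], []⟩) (.leaf ⟨10, 5, true, [2, 22, 4, 36, 6, 4], [14, 39, 12, 30, 13], []⟩))) (.node 2 (.node 1 (.leaf ⟨9, 10, true, [29, 48, 31, 31, 32, 8], [34, 26, 49, 27, 17, 0], []⟩) (.leaf ⟨10, 9, true, [19, 46, 6, 42, 39, 4], [17, 25, 42, 10, 33, 0], []⟩)) (.node 1 (.leaf ⟨6, 10, true, [8, 43, 19, 28, 12], [17, 24, 27, 31, 42, 6], []⟩) (.leaf ⟨10, 6, true, [34, 0, 33, 28, 27, 8], [22, 21, 2, 39], []⟩)))) (.node 4 (.node 2 (.node 1 (.leaf ⟨6, 10, true, [30, 33, 13, 8, 33, 0], [4, 35, 22, 16], []⟩) (.leaf ⟨10, 6, true, [18, 34, 42, 49, 39, 0], [12, 17, 32, 22, 20, 2], []⟩)) (.node 1 (.leaf ⟨9, 10, true, [48, 28, 48, 22, 16, 0], [49, 0, 33, 28, 28], []⟩) (.leaf ⟨10, 9, true, [24, 41, 4, 33, 29, 10], [2, 12, 43, 32, 42, 8], []⟩))) (.node 2 (.node 1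 (.leaf ⟨7, 10, true, [30, 0, 24, 2, 45, 17], [0, 45, 40, 17, 37, 2], []⟩) (.leaf ⟨10, 7, true, [30, 32, 18, 12, 18], [6, 19, 48, 29, 45, 4], []⟩)) (.node 1 (.leaf ⟨10, 6, true, [13, 29, 48, 14, 38], [16, 13, 43, 4, 41, 2], []⟩) (.leaf ⟨6, 10, true, [11, 30, 39, 37, 0, 2], [22, 21, 12, 23, 47, 8], []⟩)))))))
noncomputable def dd : Dce := ⟨15, m_ts, [2, 3, 6, 1, 0], [], [5, 1], [], [[0], [4], [8], [12], [14], [16], [18], [20]], [[0], [4], [8], [13], [22], [24], [26], [28]], [[], [], [], [], [], [], [], []], [[[4, 6, 0], [6, 8], [4, 6, 0], [6, 8]], [[22, 2, 0, 23], [31, 36, 49, 11, 6], [6, 14, 21, 13, 0], [4, 6, 0]], [[11, 4, 0], [11, 4, 0], [11]], [[11, 11, 11, 6], [11, 11, 11, 6], [11, 11, 11, 6], [6, 29, 17, 11, 16]], [[10], [10, 4, 0], [10]], [[11], [11], [11]], [[10, 6], [6, 20, 29,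 21, 13, 6], [10, 6, 8, 11]], [[6], [6, 20, 27, 29, 8], [6, 4, 0], [17, 21, 23, 6, 8]], [[6], [27, 18, 33, 37, 20], [6, 4, 0], [28, 28, 44, 11, 42]], [[11, 6], [18, 21, 18, 6, 28], [6, 4, 0], [30, 0, 32, 44, 42]], [[11, 6], [15, 13, 11, 15, 0], [6, 4, 0], [0, 14, 48, 0, 36, 4]], [[2], [8, 2], [2, 4, 0], [8, 4, 0, 2]], [[2], [], [2, 4, 0], [16, 12, 21, 0]], [[6], [0, 16, 21, 31, 49], [2, 4, 0], [40, 15, 16, 48, 2]], [[6], [21, 27, 17, 6, 24], [2, 4, 0], [0, 23, 24, 2, 17]], [[6, 2], [14, 2, 24, 18, 0], [6, 2, 4, 0], [6, 49, 29, 48, 4]], [[6, 2], [4, 0], [6, 2, 4, 0], []], [[], [5, 1]]], [[], [], [], [], [], [], [], [], [], [], [], [], [], [], [], [], [], []], (.node 1924 (.node 962 (.node 481 (.node 240 (.node 120 (.node 60 dF0 dF60) (.node 60 dF120 dF180)) (.node 120 (.node 60 dF240 dF300)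 (.node 60 dF360 dF420))) (.node 240 (.node 120 (.node 60 dF481 dF541) (.node 60 dF601 dF661)) (.node 120 (.node 60 dF721 dF781) (.node 60 dF841 dF901)))) (.node 481 (.node 240 (.node 120 (.node 60 dF962 dF1022) (.node 60 dF1082 dF1142)) (.node 120 (.node 60 dF1202 dF1262) (.node 60 dF1322 dF1382))) (.node 240 (.node 120 (.node 60 dF1443 dF1503) (.node 60 dF1563 dF1623)) (.node 120 (.node 60 dF1683 dF1743) (.node 60 dF1803 dF1863))))) (.node 962 (.node 481 (.node 240 (.node 120 (.node 60 dF1924 dF1984) (.node 60 dF2044 dF2104)) (.node 120 (.node 60 dF2164 dF2224) (.node 60 dF2284 dF2344))) (.node 240 (.node 120 (.node 60 dF2405 dF2465) (.node 60 dF2525 dF2585)) (.node 120 (.node 60 dF2645 dF2705) (.node 60 dF2765 dF2825)))) (.node 481 (.node 240 (.node 120 (.node 60 dF2886 dF2946) (.node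 60 dF3006 dF3066)) (.node 120 (.node 60 dF3126 dF3186) (.node 60 dF3246 dF3306))) (.node 240 (.node 120 (.node 60 dF3367 dF3427) (.node 60 dF3487 dF3547)) (.node 120 (.node 60 dF3607 dF3667) (.node 60 dF3727 dF3787)))))), [0, 7, 16, 29, 61, 70, 111, 2677, 2944, 2959, 3401], []⟩
theorem dd_c0 : dd.checks [⟨1, [], 0, 0, []⟩, ⟨1, [], 0, 0, []⟩, ⟨1, [], 0, 0, []⟩, ⟨1, [], 0, 0, []⟩, ⟨1, [], 0, 0, []⟩, ⟨1, [], 0, 0, []⟩, ⟨1, [], 0, 0, []⟩, ⟨0, [], 0, 0, []⟩, ⟨3, [14, 5, 2, 11, 12, 13, 10, 3, 15], 17, 0, [[], [0]]⟩, ⟨3, [14, 13, 6, 1, 6, 15], 17, 0, [[], [7, 2]]⟩, ⟨3, [14, 8, 11, 9, 10, 15], 17, 0, [[], [11, 6, 0, 10, 7]]⟩, ⟨3, [14, 3, 8, 6, 11, 3, 10, 7, 15], 17, 0, [[], [4, 2, 0]]⟩, ⟨3, [14, 7, 4, 0, 3, 7, 3, 15], 17, 0, [[], [10, 6, 9, 6, 2]]⟩, ⟨3, [14, 3, 0, 4, 3, 15], 17, 0, [[], [14,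 7, 11, 4, 0]]⟩, ⟨2, [14, 11, 15], 2, 1, [[], [9, 4, 13, 9, 2], [11, 4, 10, 4, 2]]⟩, ⟨2, [20, 26, 14, 12, 9, 11, 3, 5, 7, 1, 3, 15], 6, 1, [[], [13, 9, 7, 8, 0], [15, 9, 6, 2, 14]]⟩, ⟨0, [], 0, 0, []⟩, ⟨3, [32, 19, 21, 16, 23, 25, 23, 21, 33], 17, 0, [[], [9, 4, 13, 9, 7]]⟩, ⟨3, [32, 26, 27, 18, 18, 26, 27, 33], 17, 0, [[], [7, 2, 0]]⟩, ⟨3, [32, 21, 16, 27, 22, 27, 23, 21, 33], 17, 0, [[], [10, 6, 0, 9, 6]]⟩, ⟨3, [32, 20, 25, 27, 24, 19, 25, 27, 18, 21, 33], 17, 0, [[], [7, 11, 15, 11, 7, 2]]⟩, ⟨3, [32, 25, 17, 33], 17, 0, [[], [12, 12, 14, 7, 13]]⟩, ⟨2, [35, 32, 23, 21, 31, 18, 28], 0, 1, [[], [10, 6, 9, 14, 6], [4, 12, 15, 15, 2], [4, 14, 7, 15, 0]]⟩, ⟨3, [45, 23, 18, 21, 19], 17, 0, [[], [2, 0]]⟩, ⟨2, [35, 46, 19, 20, 18, 22, 44, 35, 32], 0, 0, [[], [9, 9, 15, 15], [8, 7, 4, 11, 4],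 [14, 9, 9, 6, 0]]⟩, ⟨3, [49, 18, 21, 18, 47], 17, 0, [[], [6, 12, 6, 10, 9]]⟩, ⟨2, [38, 32, 23, 21, 31, 27, 19, 21, 19, 31], 1, 0, [[], [8, 10, 6, 15, 11], [9, 13, 13, 9, 2], [15, 0, 9, 7]]⟩, ⟨3, [53, 23, 25, 27, 23, 25, 17], 17, 0, [[], [2, 0]]⟩, ⟨2, [34, 32, 18, 47], 2, 1, [[], [9, 7, 4, 13], [9, 9, 12, 8, 6]]⟩, ⟨0, [], 0, 0, []⟩, ⟨3, [58, 17, 21, 17, 59], 17, 0, [[], [4, 2, 0]]⟩, ⟨3, [58, 21, 20, 27, 19, 22, 18, 59], 17, 0, [[], []]⟩, ⟨3, [58, 18, 18, 18, 17, 59], 17, 0, [[], [14, 7, 11, 4, 0]]⟩, ⟨3, [58, 26, 22, 23, 25, 24, 59], 17, 0, [[], [11, 6, 10, 7, 4]]⟩, ⟨3, [58, 23, 18, 21, 19, 59], 17, 0, [[], [15, 13, 4, 15, 6, 2]]⟩, ⟨2, [58, 19, 17, 59], 2, 1, [[], [11, 12, 14, 14, 8], [6, 14, 8, 7, 11, 0]]⟩, ⟨2, [58, 55], 2, 1, [[], [15, 4, 14, 9], [7, 4, 13, 7, 2]]⟩, ⟨3, [73, 36], 17,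 0, [[], [2, 0]]⟩, ⟨2, [58, 25, 21, 25, 27, 25, 21, 25, 55, 41, 39, 36, 75], 3, 0, [[], [8, 11, 15, 8], [10, 8, 6, 4, 12], [6, 9, 15, 4, 14]]⟩, ⟨2, [58, 25, 19, 21, 25, 27, 25, 21, 25, 19, 59], 6, 1, [[], [10, 9, 10, 12, 6], [4, 13, 11, 8, 11]]⟩, ⟨2, [58, 25, 27, 31], 6, 1, [[], [15, 10, 15, 13, 7], [0, 8, 4, 12, 6]]⟩, ⟨3, [81, 23, 25, 27, 18, 21, 25, 19], 17, 0, [[], [2, 0]]⟩, ⟨2, [58, 25, 23, 25, 21, 25, 23, 25, 59], 6, 1, [[], [4, 12, 6, 8, 7], [4, 15, 8, 6, 13]]⟩, ⟨2, [58, 25, 23, 25, 27, 25, 23, 25, 55], 6, 2, [[], [9, 9, 15, 12, 0], [9, 6, 0]]⟩, ⟨3, [87, 41, 39, 34, 75], 17, 0, [[], [11, 6, 12, 10, 8]]⟩, ⟨2, [89, 58, 25, 23, 25, 18, 21, 25, 23, 25, 19, 83], 6, 2, [[], [9, 4, 11, 4, 2], [10, 9, 13, 10, 2]]⟩, ⟨3, [91, 88], 17, 0, [[], [2, 0]]⟩, ⟨2, [89, 58, 25, 27, 19, 21, 25, 27,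 21, 25, 83], 6, 2, [[], [11, 7, 11, 9], [9, 10, 10, 8]]⟩, ⟨2, [88, 58, 25, 27, 21, 25, 21, 19, 27, 25, 59], 6, 2, [[], [0, 8, 13, 7, 4], [10, 9, 4, 9]]⟩, ⟨3, [97, 88], 17, 0, [[], [2, 0]]⟩, ⟨2, [89, 58, 25, 23, 25, 21, 25, 23, 25, 83], 6, 2, [[], [14, 13, 14, 7, 0], [9, 12, 8, 8, 7]]⟩, ⟨3, [101, 88], 17, 0, [[], [2, 0]]⟩, ⟨2, [58, 25, 23, 25, 18, 21, 25, 23, 25, 18, 59], 6, 0, [[], [14, 6, 14, 4, 8, 0], [15, 13, 0, 9]]⟩, ⟨3, [105, 89], 17, 0, [[], [2, 0]]⟩, ⟨2, [88, 58, 25, 27, 33], 6, 0, [[], [6, 10, 6, 14, 2], [6, 14, 14, 9, 0]]⟩, ⟨3, [109, 41, 39, 35, 37], 17, 0, [[], [2, 0]]⟩, ⟨2, [89, 58, 25, 23, 25, 18, 21, 25, 23, 25, 18, 83], 6, 0, [[], [9, 11, 13, 4], [14, 12, 8, 12, 2]]⟩, ⟨2, [58, 25, 27, 21, 25, 21, 18, 27, 25, 59, 89, 105], 9, 1, [[], [9, 4, 8, 2], [11, 15, 8, 10], [10, 10,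 6, 10, 8]]⟩, ⟨2, [84, 89, 58, 25, 27, 19, 21, 33], 13, 2, [[], [13, 9, 6, 15, 0], [8, 14, 8, 4, 11, 4], [13, 14, 12, 15, 4]]⟩, ⟨3, [117, 39, 37, 50, 111], 17, 0, [[], [10, 12, 8, 8]]⟩, ⟨2, [70, 118, 88, 107, 118, 79], 1, 3, [[], [10, 0, 8, 6], [10, 13, 8, 12, 7], [6, 4, 14, 8, 2]]⟩, ⟨0, [], 0, 0, []⟩, ⟨3, [122, 26, 23, 123], 17, 0, [[], [10, 6, 9, 6, 2]]⟩, ⟨3, [122, 19, 19, 123], 17, 0, [[], [6, 2, 0]]⟩, ⟨2, [122, 23, 25, 21, 25, 23, 123], 6, 1, [[], [6, 14, 11, 12, 2], [13, 13, 11, 8, 0]]⟩, ⟨2, [127, 122, 25, 27, 25, 23, 25, 18, 59], 6, 1, [[], [13, 10, 15, 12, 7], [12, 8, 15, 12, 4]]⟩, ⟨3, [131, 69, 65, 61], 17, 0, [[], [2, 0]]⟩, ⟨3, [132, 88, 69, 65, 60, 62, 89, 69, 61, 133], 17, 0, [[], [8, 8, 2, 14, 6, 4]]⟩, ⟨2, [127, 134, 124, 122, 25, 27, 25, 23, 25, 17, 55, 35, 37, 75], 13, 3,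 [[], [12, 4, 15, 9, 2], [12, 12, 4, 14], [10, 7, 13, 0]]⟩, ⟨3, [137, 88, 88, 133], 17, 0, [[], [7, 10, 12, 4, 0]]⟩, ⟨0, [], 0, 0, []⟩, ⟨3, [140, 19, 23, 26, 19, 19, 17, 141], 17, 0, [[], [10, 6, 9, 6, 2]]⟩, ⟨3, [140, 25, 22, 18, 26, 17, 25, 23, 25, 19, 17, 141], 17, 0, [[], [8, 15, 7, 4]]⟩, ⟨2, [140, 19, 19, 141], 2, 1, [[], [15, 9, 7, 4, 0], [14, 7, 4, 8, 2]]⟩, ⟨2, [140, 123], 4, 1, [[], [8, 10, 14, 4, 0], [15, 8, 4, 13, 4]]⟩, ⟨2, [140, 21, 19, 27, 17, 141], 6, 1, [[], [14, 14, 13, 15, 6], [14, 12, 6]]⟩, ⟨2, [145, 140, 25, 19, 27, 25, 23, 25, 21, 123], 6, 1, [[], [11, 6, 10, 12], [10, 2, 15, 12]]⟩, ⟨3, [153, 138, 127, 125], 17, 0, [[], [2, 0]]⟩, ⟨2, [144, 140, 18, 27, 25, 23, 21, 25, 23, 123], 6, 1, [[], [8, 10, 15, 15, 2], [4, 12, 9, 12]]⟩, ⟨3, [157, 125, 135], 17, 0, [[], [2, 0]]⟩,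 ⟨2, [140, 18, 17, 83], 6, 1, [[], [9, 11, 11, 0, 8], [12, 12, 8, 8, 14]]⟩, ⟨3, [161, 118, 63], 17, 0, [[], [2, 0]]⟩, ⟨2, [144, 140, 27, 25, 18, 21, 25, 23, 19, 141], 6, 2, [[], [13, 11, 11, 15, 8], [13, 0, 10, 7, 12]]⟩, ⟨2, [140, 21, 123], 6, 2, [[], [10, 6, 8, 7, 2], [12, 11, 14, 4, 8]]⟩, ⟨3, [167, 127], 17, 0, [[], [2, 0]]⟩, ⟨2, [144, 140, 18, 27, 25, 21, 25, 23, 17, 141], 6, 2, [[], [12, 12, 11, 6, 4], [10, 15, 4, 11]]⟩, ⟨3, [171, 144], 17, 0, [[], [2, 0]]⟩, ⟨2, [144, 140, 23, 25, 27, 23, 25, 19, 83], 6, 2, [[], [10, 14, 4, 8], [4, 11, 11, 13, 0]]⟩, ⟨3, [175, 118, 63], 17, 0, [[], [2, 0]]⟩, ⟨2, [144, 140, 23, 25, 27, 23, 25, 18, 59], 6, 2, [[], [13, 8, 10, 9, 2], [11, 8, 7, 13, 14]]⟩, ⟨3, [179, 69, 67, 65], 17, 0, [[], [2, 0]]⟩, ⟨2, [145, 140, 25, 23, 25, 19, 17, 141], 6, 2, [[], [9,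 4, 10, 4, 2], [15, 11, 15, 12, 10]]⟩, ⟨3, [183, 144], 17, 0, [[], [2, 0]]⟩, ⟨3, [176, 68, 119, 102, 58, 16, 24, 22, 24, 26, 24, 141], 1, 2, [[6, 11, 15, 15, 2], [6, 14, 7, 0, 8], [9, 10, 14, 11, 4], [6, 14, 14, 7, 2]]⟩, ⟨2, [142, 187, 145, 170, 144, 146, 187, 145, 186, 150], 1, 0, [[], [10, 6, 9, 9], [9, 10, 10, 12, 14], [4, 15, 6, 9, 7]]⟩, ⟨2, [187, 158, 138, 138, 124, 166, 143, 187, 145, 161], 1, 3, [[], [8, 12, 7, 0], [10, 6, 11, 4, 11], [15, 11, 11, 13]]⟩, ⟨3, [191, 63, 118], 17, 0, [[], [2, 0]]⟩, ⟨2, [66, 89, 178, 187, 144, 162, 88, 68, 118, 178], 11, 2, [[], [12, 8, 10], [15, 8, 11], [9, 12, 11, 15, 4]]⟩, ⟨3, [195, 186, 144, 187], 17, 0, [[], [2, 0]]⟩, ⟨2, [142, 186, 144, 188, 142, 186, 144, 192, 119, 68, 178], 14, 1, [[], [9, 9, 4, 10, 4], [15, 13, 0], [7, 12, 10, 9, 2]]⟩, ⟨3,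 [199, 186, 144, 187], 17, 0, [[], [2, 0]]⟩, ⟨2, [64, 89, 119, 178, 144, 186, 199, 187, 145, 173], 14, 3, [[], [14, 9, 14, 11, 0], [7, 12, 8, 13, 9], [10, 4, 9, 7, 2]]⟩, ⟨3, [203, 186, 144, 187], 17, 0, [[], [2, 0]]⟩, ⟨2, [142, 187, 180, 67, 181, 144, 186, 199], 1, 1, [[], [14, 13, 10, 10, 2], [14, 9, 11, 7], [4, 13, 13, 14]]⟩, ⟨2, [142, 145, 187, 151, 145, 182, 144, 143, 205], 1, 0, [[], [12, 11, 7, 8, 14], [4, 15, 4, 12, 6], [14, 8, 6, 12, 4]]⟩, ⟨3, [209, 89, 119, 61], 17, 0, [[], [2, 0]]⟩, ⟨2, [124, 138, 156, 198, 187, 145, 198], 3, 2, [[], [4, 11, 13, 7, 4], [8, 14, 4, 12, 2], [9, 13, 11, 11]]⟩, ⟨3, [213, 187, 145, 157], 17, 0, [[], [12, 10, 4, 15, 4]]⟩, ⟨2, [119, 190, 145, 187, 145, 202], 6, 1, [[], [8, 15, 6, 11, 4], [6, 11, 12, 4, 2]]⟩, ⟨2, [150, 186, 144, 210, 89, 118, 69, 163],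 13, 3, [[], [10, 7, 4], [8, 7, 11, 11], [14, 12, 9, 11, 2]]⟩, ⟨2, [119, 88, 63, 195, 186, 143, 187, 144, 197], 6, 0, [[], [9, 6, 14, 8, 0], [11, 4, 13, 7, 8, 0]]⟩, ⟨0, [], 0, 0, []⟩, ⟨3, [222, 27, 18, 19, 24, 26, 27, 25, 23, 223], 17, 0, [[], [10, 6, 9, 6, 2]]⟩, ⟨2, [224, 222, 19, 21, 25, 27, 21, 25, 17, 59, 103], 1, 2, [[], [8, 13, 8, 12], [4, 13, 8, 13, 7], [11, 8, 12, 11]]⟩, ⟨3, [227, 69, 67], 17, 0, [[], [2, 0]]⟩, ⟨3, [228, 89, 88, 62, 64, 65, 229], 17, 0, [[], [10, 6, 9, 6, 2]]⟩, ⟨2, [222, 123], 2, 1, [[], [11, 4, 11, 11, 0], [14, 10, 9, 7]]⟩, ⟨2, [222, 18, 18, 223], 2, 1, [[], [10, 15, 6, 10, 6], [10, 9, 6, 4]]⟩, ⟨2, [222, 141], 2, 1, [[], [9, 14, 6, 10], [9, 6, 13, 9, 0]]⟩, ⟨2, [230, 224, 222, 27, 25, 19, 27, 23, 25, 21, 19, 141, 151], 3, 1, [[], [8, 11, 2], [7, 12, 10, 9, 6],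 [10, 10, 4, 12, 4]]⟩, ⟨2, [230, 222, 25, 123, 139, 139, 155], 3, 1, [[], [13, 11, 15, 8], [11, 4, 10, 6, 8], [4, 10, 13, 7, 12]]⟩, ⟨2, [222, 19, 27, 21, 17, 123, 127, 169], 3, 1, [[], [13, 6, 14, 6], [4, 9, 9, 12, 0], [10, 14, 4, 14, 8]]⟩, ⟨2, [222, 18, 27, 21, 17, 141, 183], 3, 1, [[], [15, 9, 7, 8, 4, 2], [9, 4, 0, 9], [15, 11, 15, 12, 11]]⟩, ⟨3, [245, 144], 17, 0, [[], [2, 0]]⟩, ⟨2, [222, 18, 21, 18, 141, 153], 3, 1, [[], [10, 9, 12, 14, 0], [6, 12, 7, 14, 0], [8, 10, 7, 10]]⟩, ⟨3, [249, 127], 17, 0, [[], [2, 0]]⟩, ⟨2, [230, 222, 27, 25, 21, 25, 18, 27, 17, 141, 145, 173], 3, 1, [[], [12, 2, 14], [13, 7, 14, 10, 2], [15, 6, 15, 9, 6]]⟩, ⟨2, [222, 19, 21, 18, 141, 171], 3, 1, [[], [12, 11, 12, 10, 0], [10, 14, 11, 11, 6], [7, 15, 12, 6]]⟩, ⟨3, [255, 144], 17, 0, [[], [2, 0]]⟩, ⟨2, [230,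 222, 25, 18, 18, 141, 145, 167], 3, 2, [[], [6, 11, 13, 10, 7], [15, 15, 7, 13, 8], [13, 11, 11, 13, 4]]⟩, ⟨3, [259, 127], 17, 0, [[], [2, 0]]⟩, ⟨2, [222, 19, 19, 141], 4, 1, [[], [15, 6, 4, 11, 2], [7, 4, 11, 9, 2]]⟩, ⟨2, [222, 18, 18, 141], 4, 1, [[], [6, 15, 11, 6, 8], [7, 14, 14, 11, 6]]⟩, ⟨2, [230, 222, 27, 25, 21, 25, 23, 223], 6, 1, [[], [15, 9, 13, 15, 8], [6, 8, 7]]⟩, ⟨2, [230, 222, 19, 27, 25, 21, 25, 23, 17, 123], 6, 1, [[], [15, 13, 4, 8, 10], [11, 8, 2, 11]]⟩, ⟨3, [269, 125, 135, 127], 17, 0, [[], [2, 0]]⟩, ⟨2, [222, 59], 6, 1, [[], [14, 12, 12, 10, 9], [11, 9, 15, 11, 7]]⟩, ⟨3, [273, 67], 17, 0, [[], [2, 0]]⟩, ⟨2, [230, 222, 25, 27, 25, 21, 25, 23, 223], 6, 1, [[], [11, 13, 9, 7, 4], [12, 15, 9, 13, 4]]⟩, ⟨2, [222, 23, 19, 21, 19, 141], 6, 1, [[], [15, 6, 13, 6], [10, 12,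 7, 10, 10]]⟩, ⟨3, [279, 145, 187, 144], 17, 0, [[], [2, 0]]⟩, ⟨2, [230, 224, 222, 27, 25, 18, 27, 23, 25, 21, 18, 141], 6, 1, [[], [9, 4, 13, 8, 0], [11, 8, 6, 0]]⟩, ⟨2, [230, 222, 23, 25, 27, 23, 25, 17, 55], 6, 1, [[], [14, 7, 10, 7, 4], [11, 14, 8, 10, 6]]⟩, ⟨3, [285, 42, 41, 39, 36, 34], 17, 0, [[], [2, 0]]⟩, ⟨2, [230, 224, 222, 25, 18, 27, 25, 23, 25, 21, 141], 6, 1, [[], [15, 13, 9, 9], [8, 13, 6, 14]]⟩, ⟨2, [230, 224, 222, 23, 25, 18, 21, 25, 23, 18, 223], 6, 1, [[], [7, 8, 14, 8, 12], [15, 10, 13, 15, 9]]⟩, ⟨3, [291, 225, 231], 17, 0, [[], [2, 0]]⟩, ⟨2, [222, 19, 17, 83], 6, 2, [[], [8, 15, 11, 2, 14], [12, 4, 9, 12, 8]]⟩, ⟨3, [295, 119, 69, 119], 17, 0, [[], [2, 0]]⟩, ⟨2, [230, 222, 25, 223], 6, 2, [[], [14, 11, 12, 14, 0], [13, 4, 11, 11, 4]]⟩, ⟨2, [230, 224, 222, 25, 19, 27,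 25, 23, 25, 21, 223], 6, 2, [[], [14, 13, 9, 11, 2], [7, 11, 13, 6]]⟩, ⟨2, [222, 21, 19, 27, 17, 223], 6, 0, [[], [9, 7, 8, 8, 11], [15, 12, 6, 2]]⟩, ⟨2, [230, 224, 222, 25, 21, 19, 21, 25, 23, 25, 83, 67, 65, 275], 13, 1, [[], [10, 8, 7, 11, 9], [15, 8, 4, 10, 2], [13, 9, 4, 14, 2]]⟩, ⟨2, [224, 230, 224, 304, 222, 18, 27, 25, 21, 25, 23, 17, 223], 13, 3, [[], [9, 4, 12, 10, 4], [12, 7, 0, 10], [9, 14, 12, 12, 6]]⟩, ⟨3, [307, 231], 17, 0, [[], [2, 0]]⟩, ⟨2, [222, 23, 25, 27, 23, 25, 17, 83, 89, 77], 13, 3, [[], [7, 4, 12, 0], [2, 14, 7], [14, 4, 12, 14, 7]]⟩, ⟨3, [311, 119, 61, 88], 17, 0, [[], [2, 0]]⟩, ⟨2, [224, 230, 222, 83, 88, 85], 13, 3, [[], [10, 12, 9, 2, 15], [4, 14, 12], [7, 4, 9, 2]]⟩, ⟨3, [315, 65, 119], 17, 0, [[], [2, 0]]⟩, ⟨2, [224, 230, 222, 23, 18, 21, 19, 223, 225, 231,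 305], 13, 3, [[], [14, 13, 8, 11, 0], [9, 12, 11, 11, 7], [9, 10, 8, 15, 0]]⟩, ⟨3, [319, 231, 225], 17, 0, [[], [2, 0]]⟩, ⟨2, [222, 25, 27, 21, 25, 21, 18, 27, 25, 83, 95], 13, 0, [[], [12, 6, 14, 8, 0], [14, 10, 14, 4, 0], [12, 12, 11, 12, 0]]⟩, ⟨3, [323, 89, 89, 61], 17, 0, [[], [2, 0]]⟩, ⟨2, [230, 222, 27, 25, 18, 21, 25, 17, 83, 119, 69, 88, 313], 13, 0, [[], [10, 14, 7, 9, 0], [7, 10, 12, 12, 0], [9, 13, 8, 6, 2]]⟩, ⟨3, [327, 225, 231, 225], 17, 0, [[], [2, 0]]⟩, ⟨2, [230, 224, 222, 25, 21, 25, 23, 25, 18, 59, 89, 101], 13, 0, [[], [4, 11, 9, 12, 2], [8, 12, 4, 8, 2], [10, 12, 9, 9]]⟩, ⟨3, [331, 88, 65, 61], 17, 0, [[], [2, 0]]⟩, ⟨2, [308, 224, 230, 224, 222, 27, 21, 25, 23, 21, 25, 27, 19, 223], 13, 1, [[], [8, 11, 11, 4], [9, 12, 8, 4, 8], [11, 13, 13, 14, 4]]⟩, ⟨3, [335, 231],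 17, 0, [[], [2, 0]]⟩, ⟨2, [224, 230, 304, 222, 27, 25, 21, 25, 19, 27, 17, 223], 14, 3, [[], [13, 14, 10, 6], [14, 12, 4, 8, 6], [14, 11, 13, 8, 14]]⟩, ⟨3, [339, 225, 231], 17, 0, [[], [2, 0]]⟩, ⟨2, [224, 230, 336, 230, 222, 23, 25, 19, 21, 25, 23, 19, 141], 14, 3, [[], [14, 9, 10], [11, 6, 12], [8, 12, 11, 4, 0]]⟩, ⟨3, [343, 186, 145, 187, 143], 17, 0, [[], [2, 0]]⟩, ⟨2, [224, 222, 25, 27, 19, 21, 25, 27, 21, 25, 83, 65, 63, 61, 216], 15, 1, [[], [6, 4, 11, 12, 11], [10, 7, 8, 8, 0], [14, 10, 14, 13, 0]]⟩, ⟨3, [347, 65, 119], 17, 0, [[], [2, 0]]⟩, ⟨2, [230, 326, 224, 230, 222, 21, 25, 23, 25, 23, 19, 21, 25, 19, 223], 15, 3, [[], [4, 8, 10, 8, 0], [8, 12, 4, 12], [14, 7, 4, 11, 0]]⟩, ⟨2, [230, 224, 222, 23, 21, 25, 55, 40, 287], 15, 0, [[], [12, 15, 4, 13, 0], [13, 10, 7, 14], [4, 12,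 6, 15, 2]]⟩, ⟨3, [353, 225, 231], 17, 0, [[], [2, 0]]⟩, ⟨2, [224, 340, 224, 222, 27, 18, 21, 25, 19, 21, 141], 15, 1, [[], [14, 10, 15, 15, 4], [12, 9, 4, 11, 0], [15, 4, 11, 6, 12]]⟩, ⟨3, [357, 187, 145, 143], 17, 0, [[], [2, 0]]⟩, ⟨2, [230, 224, 334, 222, 23, 25, 23, 18, 21, 25, 19, 141], 15, 1, [[], [8, 13, 10, 15, 6], [12, 6, 9, 9, 4, 0], [12, 15, 7, 13, 2]]⟩, ⟨3, [361, 145], 17, 0, [[], [2, 0]]⟩, ⟨2, [230, 222, 27, 25, 18, 21, 25, 23, 17, 223, 231, 309], 15, 0, [[], [14, 13, 10, 0], [8, 6, 4, 9, 0], [12, 8, 15, 8]]⟩, ⟨2, [230, 326, 230, 222, 21, 25, 18, 27, 25, 21, 25, 17, 223], 15, 1, [[], [4, 10, 10, 4, 12], [4, 10, 13, 8, 0], [8, 4, 2, 15]]⟩, ⟨3, [367, 231], 17, 0, [[], [2, 0]]⟩, ⟨2, [224, 308, 222, 27, 25, 21, 18, 21, 25, 21, 123], 15, 1, [[], [12, 14, 14, 8, 11], [6, 15, 15,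 6, 9], [15, 12, 15, 8, 8]]⟩, ⟨3, [371, 125, 214, 127], 17, 0, [[], [2, 0]]⟩, ⟨2, [142, 144, 186, 144, 140, 16, 20, 26, 18, 223, 225, 231, 305], 1, 1, [[], [13, 13, 13], [4, 9, 13, 8, 0], [6, 10, 0, 8, 6]]⟩, ⟨3, [375, 225], 17, 0, [[], [2, 0]]⟩, ⟨2, [230, 222, 19, 26, 24, 20, 22, 24, 22, 223, 225, 231, 305], 8, 3, [[], [10, 0, 9, 7], [9, 14, 13, 6, 2], [14, 12, 15, 8, 6]]⟩, ⟨2, [145, 140, 16, 18, 24, 22, 24, 223, 225, 231, 305], 8, 3, [[], [10, 13, 13, 10, 10], [12, 7, 4, 11, 4], [12, 8, 15, 12, 0]]⟩, ⟨2, [230, 224, 336, 222, 16, 20, 26, 18, 223], 8, 0, [[], [11, 7, 8, 10], [6, 15, 10, 8], [14, 11, 9, 9]]⟩, ⟨2, [144, 140, 16, 26, 19, 24, 20, 24, 22, 223, 225, 231, 305], 8, 3, [[], [12, 11, 6, 10, 2], [14, 14, 11, 8, 8], [15, 7, 10, 6]]⟩, ⟨2, [140, 20, 223, 379], 8, 3, [[], [4, 15, 9, 12,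 8], [9, 10, 14, 8, 0], [11, 11, 12, 2, 11]]⟩, ⟨2, [304, 230, 224, 222, 18, 22, 24, 20, 19, 24, 26, 223], 9, 3, [[], [14, 10, 13, 8, 8], [15, 10, 14, 8, 0], [9, 14, 8, 10]]⟩, ⟨3, [389, 231], 17, 0, [[], [2, 0]]⟩, ⟨2, [224, 230, 383, 222, 20, 19, 19, 223], 9, 3, [[], [13, 15, 10, 9], [7, 11, 13, 15, 9, 0], [7, 8, 11, 15, 7]]⟩, ⟨2, [230, 224, 336, 230, 224, 222, 16, 22, 24, 20, 24, 26, 19, 223], 9, 0, [[], [8, 15, 15], [7, 11, 13, 13, 6], [6, 14, 11, 12, 8]]⟩, ⟨3, [395, 231], 17, 0, [[], [2, 0]]⟩, ⟨2, [230, 222, 16, 26, 18, 24, 20, 24, 22, 223, 225, 231, 382], 9, 0, [[], [12, 6, 12, 2], [10, 6, 10, 7, 4], [7, 15, 10, 7]]⟩, ⟨2, [222, 18, 20, 24, 22, 26, 18, 24, 22, 223, 231, 379], 9, 1, [[], [15, 8, 11, 12, 0], [12, 12, 14, 0, 8], [11, 11, 12, 8, 4]]⟩, ⟨2, [222, 19, 20, 24, 22, 26, 19, 24,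 22, 223, 231, 382], 9, 1, [[], [10, 9, 6], [6, 10, 12, 4, 2], [13, 6, 13]]⟩, ⟨2, [230, 222, 18, 18, 24, 223, 231, 337], 9, 1, [[], [7, 12, 9, 15, 0], [11, 6, 13, 14, 4], [8, 14, 9, 14]]⟩, ⟨3, [405, 225, 231], 17, 0, [[], [2, 0]]⟩, ⟨2, [144, 140, 16, 26, 18, 24, 20, 24, 22, 223, 225, 231, 337], 9, 1, [[], [13, 13, 9, 15, 2], [7, 8, 10, 8, 0], [15, 15, 6, 4, 10, 0]]⟩, ⟨3, [409, 225, 231], 17, 0, [[], [2, 0]]⟩, ⟨2, [134, 122, 16, 26, 24, 20, 19, 24, 22, 223, 225, 231, 379], 9, 1, [[], [10, 4, 0, 9], [10, 9, 10, 10, 2], [12, 4, 10, 7, 2]]⟩, ⟨2, [144, 140, 19, 26, 24, 20, 22, 24, 22, 223, 225, 231, 337], 9, 1, [[], [10, 7, 13, 7, 10], [8, 4, 14, 12], [14, 0, 9]]⟩, ⟨3, [415, 225, 231], 17, 0, [[], [2, 0]]⟩, ⟨2, [140, 20, 22, 223, 382], 9, 1, [[], [10, 13, 11, 4, 12], [13, 11, 6, 4, 10], [10,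 7, 8]]⟩, ⟨3, [419, 231], 17, 0, [[], [2, 0]]⟩, ⟨2, [222, 19, 20, 18, 22, 223, 305], 9, 1, [[], [12, 7, 12, 7], [12, 9, 12, 11, 15], [15, 12, 7]]⟩, ⟨2, [60, 64, 58, 19, 24, 22, 24, 26, 24, 223, 225, 231, 379], 9, 1, [[], [11, 4, 15, 8, 15], [9, 11, 8, 14, 4], [9, 7, 15, 13, 0]]⟩, ⟨2, [230, 224, 336, 222, 18, 18, 223], 10, 0, [[], [15, 8, 8, 14, 0], [15, 9, 9, 14, 13], [11, 15, 12, 15, 8]]⟩, ⟨2, [145, 140, 18, 22, 24, 20, 19, 24, 22, 223, 225, 231, 337], 10, 1, [[], [15, 11, 7, 13, 0], [10, 10, 8, 7, 2], [14, 6, 9, 14, 0]]⟩, ⟨2, [127, 134, 122, 16, 26, 24, 20, 18, 24, 22, 223, 225, 231, 337], 10, 1, [[], [4, 8, 13, 14, 8], [8, 14, 9, 7, 0], [14, 9, 4, 12, 2]]⟩, ⟨2, [145, 140, 19, 22, 24, 20, 19, 24, 22, 223, 225, 231, 382], 10, 1, [[], [6, 10, 14, 10, 6], [4, 10, 12, 15, 4], [15, 10, 15]]⟩,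 ⟨2, [378, 230, 224, 222, 16, 26, 18, 24, 20, 24, 22, 223], 13, 3, [[], [10, 14, 7, 13, 7], [14, 14, 12, 8], [8, 6, 8, 4, 8]]⟩, ⟨3, [435, 225, 231, 225], 17, 0, [[], [2, 0]]⟩, ⟨2, [380, 140, 18, 22, 24, 20, 18, 24, 26, 223], 13, 3, [[], [7, 13, 14, 8, 4], [10, 15, 9, 9], [11, 9, 13, 11, 2]]⟩, ⟨3, [439, 231, 225], 17, 0, [[], [2, 0]]⟩, ⟨2, [386, 145, 140, 24, 22, 26, 223], 13, 3, [[], [15, 6, 9, 14, 2], [12, 15, 11, 11, 2], [12, 12, 11, 6, 14]]⟩, ⟨2, [383, 222, 16, 26, 18, 24, 20, 24, 22, 223], 13, 3, [[], [12, 10, 6, 10, 12], [11, 15, 10, 15], [7, 8, 7, 12, 4]]⟩, ⟨3, [445, 225], 17, 0, [[], [2, 0]]⟩, ⟨2, [134, 124, 214, 134, 122, 22, 24, 20, 26, 24, 22, 223, 382], 13, 3, [[], [13, 14, 6, 12, 0], [13, 9, 11, 15], [4, 15, 12, 2]]⟩, ⟨2, [124, 214, 124, 127, 122, 20, 22, 24, 26, 18, 20, 223,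 231, 379], 13, 0, [[], [8, 6, 10, 15, 12], [9, 13, 10, 6, 0], [4, 13, 10, 12, 6]]⟩, ⟨2, [230, 222, 16, 20, 18, 20, 24, 22, 24, 223, 225, 231, 382], 13, 0, [[], [4, 13, 11, 0, 8], [6, 15, 7, 12, 6], [9, 7, 13, 13]]⟩, ⟨3, [453, 225, 231, 225], 17, 0, [[], [2, 0]]⟩, ⟨2, [126, 214, 127, 122, 16, 26, 24, 20, 18, 24, 223, 382], 13, 0, [[], [9, 6, 10, 14, 14], [4, 12, 11, 7], [13, 10, 14, 7, 0]]⟩, ⟨3, [457, 225], 17, 0, [[], [2, 0]]⟩, ⟨2, [230, 224, 383, 230, 222, 24, 16, 20, 26, 18, 223], 13, 2, [[], [4, 11, 4, 10, 8], [15, 4, 15, 13, 8], [15, 9, 9, 7, 4]]⟩, ⟨3, [461, 225], 17, 0, [[], [2, 0]]⟩, ⟨2, [224, 230, 384, 144, 140, 22, 24, 20, 22, 24, 26, 18, 223], 14, 3, [[], [13, 6, 12, 8, 0], [4, 9, 14, 2], [10, 9, 0, 10, 4]]⟩, ⟨3, [465, 231, 225], 17, 0, [[], [2, 0]]⟩, ⟨2, [224, 230, 224, 380,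 145, 140, 24, 22, 26, 223], 14, 3, [[], [14, 8, 7, 15, 8], [14, 7, 10, 6, 4], [8, 4, 14, 2]]⟩, ⟨3, [469, 225, 231, 225], 17, 0, [[], [2, 0]]⟩, ⟨2, [224, 230, 383, 230, 224, 222, 18, 20, 24, 22, 26, 19, 24, 26, 223], 14, 3, [[], [4, 11, 14, 10], [14, 9, 2, 11], [15, 12, 12, 10, 7, 0]]⟩, ⟨3, [473, 231], 17, 0, [[], [2, 0]]⟩, ⟨2, [144, 140, 18, 20, 18, 24, 20, 22, 26, 24, 223, 475], 14, 1, [[], [4, 2], [7, 11, 11, 12, 6], [13, 13, 8, 13, 6]]⟩, ⟨3, [477, 225, 231], 17, 0, [[], [2, 0]]⟩, ⟨2, [224, 230, 224, 222, 19, 24, 20, 22, 24, 20, 26, 18, 223, 231, 225, 442], 15, 2, [[], [8, 4, 9, 14, 4], [9, 14, 6, 14, 4], [4, 14, 4, 2]]⟩, ⟨3, [481, 225], 17, 0, [[], [2, 0]]⟩, ⟨2, [124, 139, 139, 214, 122, 24, 20, 19, 24, 20, 24, 22, 223, 225, 442], 15, 2, [[], [8, 15, 7], [14, 11, 12, 9, 10, 2], [11,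 6, 4, 15, 4]]⟩, ⟨2, [230, 224, 372, 124, 127, 134, 138, 214, 122, 18, 20, 24, 20, 19, 26, 24, 20, 223], 15, 1, [[], [8, 0, 8, 7, 13], [12, 9, 9, 11], [15, 6, 9, 7, 0]]⟩, ⟨3, [487, 231], 17, 0, [[], [2, 0]]⟩, ⟨2, [230, 224, 228, 89, 226], 2, 2, [[], [9, 9, 10, 13, 0], [13, 13, 7, 10, 6]]⟩, ⟨3, [491, 225, 231], 17, 0, [[], [2, 0]]⟩, ⟨2, [316, 89, 60, 118, 226], 2, 2, [[], [12, 4, 11, 6, 0], [4, 9, 15, 8, 2]]⟩, ⟨3, [495, 225, 231], 17, 0, [[], [2, 0]]⟩, ⟨2, [316, 88, 60, 118, 226], 2, 2, [[], [4, 11, 13, 10, 7, 0], [8, 15, 10, 8, 4]]⟩, ⟨3, [499, 225, 231], 17, 0, [[], [2, 0]]⟩, ⟨2, [316, 118, 60, 68, 226], 4, 2, [[], [8, 6, 12, 8, 2], [15, 15, 6, 8, 6]]⟩, ⟨3, [503, 225, 231], 17, 0, [[], [2, 0]]⟩, ⟨2, [224, 230, 348, 88, 60, 118, 226], 6, 0, [[], [11, 12, 14, 12, 0], [14, 9, 11, 11, 4]]⟩,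 ⟨3, [507, 225, 231, 225], 17, 0, [[], [2, 0]]⟩, ⟨2, [230, 224, 316, 88, 118, 68, 226], 6, 0, [[], [14, 14, 12, 6], [11, 6, 11, 6, 2]]⟩, ⟨2, [230, 224, 316, 60, 68, 118, 226], 6, 0, [[], [13, 14, 6, 12, 4], [15, 10, 9, 10, 6]]⟩, ⟨3, [513, 225, 231], 17, 0, [[], [2, 0]]⟩, ⟨2, [64, 119, 68, 220, 60, 62, 66, 226], 6, 0, [[], [14, 6, 11, 9, 13], [9, 2, 11, 4]]⟩, ⟨2, [186, 142, 202, 88, 60, 118, 226], 6, 1, [[], [6, 13, 13, 9, 6], [8, 13, 8, 11, 4]]⟩, ⟨3, [519, 225, 231, 225], 17, 0, [[], [2, 0]]⟩, ⟨2, [230, 224, 316, 68, 89, 118, 226], 6, 1, [[], [15, 10, 13, 9, 6], [6, 12, 12, 10, 2]]⟩, ⟨3, [523, 225, 231], 17, 0, [[], [2, 0]]⟩, ⟨2, [230, 224, 316, 89, 68, 118, 226], 6, 1, [[], [4, 10, 8, 7], [14, 8, 13, 6, 0]]⟩, ⟨3, [527, 225, 231], 17, 0, [[], [2, 0]]⟩, ⟨2, [224, 230, 224, 516, 68, 88,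 226], 6, 1, [[], [15, 10, 7, 4, 0], [9, 9, 15, 6]]⟩, ⟨2, [224, 230, 492, 230, 224, 316, 64, 118, 226], 7, 0, [[], [7, 13, 10, 13, 9], [7, 9, 14, 11], [9, 15, 6, 13, 2]]⟩, ⟨2, [224, 533, 228, 60, 66, 226], 8, 0, [[], [11, 13, 11, 8, 0], [9, 0, 9], [8, 11, 7, 0]]⟩, ⟨3, [535, 225, 231], 17, 0, [[], [2, 0]]⟩, ⟨2, [230, 224, 364, 224, 316, 60, 68, 118, 226], 8, 0, [[], [8, 12, 15, 10, 7], [8, 10, 15, 12, 4], [14, 9, 7, 0]]⟩, ⟨3, [539, 225, 231], 17, 0, [[], [2, 0]]⟩, ⟨2, [496, 230, 224, 516, 62, 68, 88, 226], 8, 0, [[], [12, 12, 4, 11], [15, 13, 6, 2], [11, 15, 9, 4]]⟩, ⟨2, [332, 88, 88, 100, 89, 226], 9, 3, [[], [10, 6, 12, 8, 0], [13, 8, 14, 13, 15], [12, 14, 13, 6]]⟩, ⟨3, [545, 225], 17, 0, [[], [2, 0]]⟩, ⟨2, [304, 230, 224, 316, 64, 118, 226], 9, 0, [[], [12, 2, 14, 7, 4], [7, 8, 7, 4],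 [12, 11, 15, 7, 4]]⟩, ⟨3, [549, 225, 231], 17, 0, [[], [2, 0]]⟩, ⟨2, [230, 224, 228, 88, 226, 225, 535], 9, 1, [[], [15, 12, 12, 12, 6], [15, 15, 13, 2], [12, 4, 2, 0]]⟩, ⟨3, [553, 225, 231], 17, 0, [[], [2, 0]]⟩, ⟨2, [230, 224, 316, 89, 60, 118, 226, 225, 231, 539], 10, 3, [[], [8, 8, 13, 0], [12, 14, 12, 4], [7, 11, 11, 0]]⟩, ⟨2, [142, 145, 187, 144, 356, 224, 230, 224, 316, 88, 60, 118, 226], 10, 0, [[], [15, 12, 10, 14], [10, 10, 7, 0, 9], [15, 9, 14, 4, 2]]⟩, ⟨3, [559, 225, 231], 17, 0, [[], [2, 0]]⟩, ⟨2, [230, 224, 316, 89, 60, 118, 226, 225, 231, 403], 10, 3, [[], [12, 15, 12, 9, 7], [10, 8, 13, 4, 2], [15, 11, 15]]⟩, ⟨2, [304, 230, 224, 316, 88, 60, 118, 226], 10, 0, [[], [4, 12, 15, 15, 7], [9, 4, 13, 6, 2], [10, 8, 7, 9, 4]]⟩, ⟨3, [565, 225, 231], 17, 0, [[], [2, 0]]⟩, ⟨2, [142,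 144, 186, 144, 356, 224, 230, 224, 316, 89, 60, 118, 226], 10, 0, [[], [15, 11, 6, 4, 2], [12, 10, 14, 8, 2], [14, 9, 15, 8, 0]]⟩, ⟨3, [569, 225, 231, 225], 17, 0, [[], [2, 0]]⟩, ⟨2, [224, 316, 64, 118, 226, 225, 231, 493], 10, 0, [[], [15, 11, 8, 4], [14, 7, 15, 4, 12], [13, 8, 6]]⟩, ⟨2, [224, 228, 60, 64, 226, 542], 14, 3, [[], [11, 13, 15, 4, 8], [14, 10, 6, 10, 4], [4, 12, 11, 13]]⟩, ⟨3, [575, 231], 17, 0, [[], [2, 0]]⟩, ⟨2, [68, 118, 89, 226, 231, 511, 231, 543], 15, 2, [[], [11, 9, 9, 6, 11], [4, 12, 11, 2], [13, 14, 11, 9, 12]]⟩, ⟨3, [579, 231, 225], 17, 0, [[], [2, 0]]⟩, ⟨2, [516, 68, 119, 60, 118, 226, 231, 561], 15, 1, [[], [13, 10, 7, 9, 9], [8, 0, 10, 7, 4], [0, 8, 6, 12, 4]]⟩, ⟨3, [583, 143], 17, 0, [[], [2, 0]]⟩, ⟨2, [62, 66, 68, 517, 228, 65, 119, 61, 349], 3, 2, [[], [14,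 10, 10, 12, 4], [7, 9, 6, 14], [8, 15, 10, 12]]⟩, ⟨3, [587, 231, 225], 17, 0, [[], [2, 0]]⟩, ⟨2, [230, 562, 230, 224, 228, 69, 89, 229], 3, 1, [[], [9, 9, 12, 4, 0], [13, 14, 10, 9, 0], [7, 8, 8, 15, 0]]⟩, ⟨3, [591, 225, 231], 17, 0, [[], [2, 0]]⟩, ⟨2, [230, 224, 228, 69, 61, 221, 118, 65, 587], 3, 0, [[], [12, 6, 4, 12], [14, 11, 12, 10, 6], [13, 8, 4, 13]]⟩, ⟨3, [595, 225, 231, 225], 17, 0, [[], [2, 0]]⟩, ⟨2, [230, 224, 228, 69, 89, 229], 6, 2, [[], [9, 4, 12, 7, 11], [14, 12, 15, 6, 2]]⟩, ⟨3, [599, 225, 231], 17, 0, [[], [2, 0]]⟩, ⟨2, [224, 490, 230, 224, 228, 69, 119, 89, 61, 317], 10, 3, [[], [9, 10, 15, 6, 4], [6, 4, 10, 8, 6], [11, 9, 7, 13]]⟩, ⟨3, [603, 225, 231], 17, 0, [[], [2, 0]]⟩, ⟨2, [224, 230, 224, 534, 224, 228, 88, 67, 61, 587], 14, 2, [[], [9, 12, 15, 13], [8, 11, 13,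 6, 0], [6, 9, 14, 14, 8]]⟩, ⟨3, [607, 225, 231], 17, 0, [[], [2, 0]]⟩, ⟨2, [230, 228, 97, 89, 118, 67, 61, 349], 15, 3, [[], [10, 12, 14, 0], [13, 13, 15, 2], [15, 4, 11, 6, 12]]⟩, ⟨3, [611, 225, 231, 225], 17, 0, [[], [2, 0]]⟩, ⟨2, [127, 134, 124, 128, 232, 225, 231, 399], 0, 3, [[], [12, 6, 10, 9, 0], [9, 9, 13, 11, 6], [6, 15, 10, 8]]⟩, ⟨2, [230, 424, 60, 64, 66, 68, 130, 124, 127, 232], 0, 0, [[], [11, 7, 11, 6], [11, 8, 10, 14, 2], [11, 7, 9, 11, 9]]⟩, ⟨3, [617, 231], 17, 0, [[], [2, 0]]⟩, ⟨2, [230, 224, 450, 126, 139, 139, 134, 232, 225, 231, 405], 1, 2, [[], [14, 9, 7, 9, 4], [8, 14, 12, 12, 0], [12, 11, 9, 0]]⟩, ⟨2, [224, 484, 124, 139, 139, 215, 232, 231, 619], 1, 2, [[], [8, 13, 6, 8, 0], [10, 12, 8, 8, 6], [15, 12, 10, 15]]⟩, ⟨2, [60, 89, 68, 190, 187, 142, 158, 134, 232],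 1, 1, [[], [7, 13, 14, 9, 0], [15, 11, 12, 7, 4], [6, 12, 12, 11, 7]]⟩, ⟨3, [625, 225, 231, 225], 17, 0, [[], [2, 0]]⟩, ⟨2, [186, 144, 187, 168, 134, 124, 232, 405], 1, 1, [[], [12, 14, 6], [10, 14, 8, 7, 9], [14, 11, 11, 11]]⟩, ⟨3, [629, 225, 231, 225], 17, 0, [[], [2, 0]]⟩, ⟨2, [145, 187, 154, 124, 127, 139, 232, 225, 231, 405], 1, 1, [[], [7, 15, 13, 14, 14], [6, 4, 12, 2], [4, 8, 8, 4]]⟩, ⟨3, [633, 225, 231, 225], 17, 0, [[], [2, 0]]⟩, ⟨2, [142, 187, 145, 186, 168, 134, 124, 232, 231, 423], 1, 1, [[], [15, 9, 12, 8, 7, 4], [11, 4, 13, 2], [14, 12, 11, 14, 9]]⟩, ⟨3, [637, 225], 17, 0, [[], [2, 0]]⟩, ⟨2, [224, 260, 134, 124, 232, 619], 1, 1, [[], [13, 8, 13, 8, 12], [12, 10, 6, 14, 2], [13, 14, 4, 13]]⟩, ⟨3, [641, 231], 17, 0, [[], [2, 0]]⟩, ⟨2, [142, 186, 144, 158, 134, 232, 619],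 1, 1, [[], [12, 9, 11, 4], [9, 14, 7, 11, 7], [13, 4, 10, 9]]⟩, ⟨3, [645, 231], 17, 0, [[], [2, 0]]⟩, ⟨2, [230, 250, 127, 134, 124, 232, 231, 405], 1, 1, [[], [15, 4, 9, 9, 7], [7, 11, 12, 7, 2], [4, 10, 13, 8, 0]]⟩, ⟨3, [649, 225, 231, 225], 17, 0, [[], [2, 0]]⟩, ⟨2, [64, 119, 60, 130, 127, 232, 405], 1, 1, [[], [14, 13, 8, 11, 2], [6, 14, 10, 15, 9], [13, 13, 15, 0]]⟩, ⟨3, [653, 225, 231], 17, 0, [[], [2, 0]]⟩, ⟨2, [142, 145, 187, 145, 154, 127, 138, 138, 124, 232, 231, 399], 1, 1, [[], [8, 6, 8, 12, 4], [7, 12, 7, 11, 12], [13, 4, 12, 14, 2]]⟩, ⟨3, [657, 225, 231], 17, 0, [[], [2, 0]]⟩, ⟨2, [142, 145, 154, 127, 138, 138, 232, 619], 1, 1, [[], [8, 11, 15, 15], [6, 8, 14, 11, 0], [12, 15, 10, 8, 0]]⟩, ⟨3, [661, 231], 17, 0, [[], [2, 0]]⟩, ⟨2, [126, 134, 232, 231, 351], 6, 1, [[], [13,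 11, 4, 9, 0], [14, 13, 9, 4, 0]]⟩, ⟨2, [64, 68, 130, 124, 134, 232, 619], 8, 3, [[], [12, 14, 10, 0, 9], [7, 4, 15, 6], [15, 12, 12, 15, 0]]⟩, ⟨3, [667, 231], 17, 0, [[], [2, 0]]⟩, ⟨2, [230, 614, 127, 134, 124, 232, 225, 231, 619], 8, 3, [[], [14, 10, 8, 4], [15, 12, 11, 12, 7], [8, 7, 9, 12, 4]]⟩, ⟨3, [671, 231], 17, 0, [[], [2, 0]]⟩, ⟨2, [224, 230, 664, 126, 134, 124, 232, 225, 231, 619], 8, 3, [[], [10, 12, 8, 2], [12, 8, 15, 7, 4], [14, 6, 13, 2]]⟩, ⟨3, [675, 231], 17, 0, [[], [2, 0]]⟩, ⟨2, [412, 134, 232, 231, 399], 8, 3, [[], [8, 4, 11, 13, 0], [14, 11, 15, 0], [7, 13, 10, 9, 7]]⟩, ⟨2, [664, 134, 124, 232, 225, 231, 619], 9, 1, [[], [15, 13, 6, 2], [10, 15, 12, 7, 0], [7, 14, 6, 12, 6]]⟩, ⟨3, [681, 231], 17, 0, [[], [2, 0]]⟩, ⟨2, [64, 66, 130, 124, 127, 232, 225, 231, 619], 13,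 3, [[], [12, 8, 14, 11, 9], [11, 8, 11, 14, 2], [9, 6, 15, 15]]⟩, ⟨3, [685, 231], 17, 0, [[], [2, 0]]⟩, ⟨2, [224, 456, 134, 124, 232, 231, 405], 13, 0, [[], [12, 10, 14, 6, 15], [8, 13, 14, 10, 4], [7, 8, 14, 12, 10]]⟩, ⟨3, [689, 225, 231, 225], 17, 0, [[], [2, 0]]⟩, ⟨2, [224, 230, 614, 126, 134, 214, 232, 231, 619], 14, 0, [[], [15, 9, 12, 7, 0], [11, 12, 15, 8], [13, 4, 13, 2]]⟩, ⟨3, [693, 225, 231, 225], 17, 0, [[], [2, 0]]⟩, ⟨2, [224, 404, 230, 233, 135, 169], 0, 3, [[], [12, 4, 10, 8], [7, 8, 11, 9, 6], [11, 9, 14, 9]]⟩, ⟨3, [697, 145, 187, 144], 17, 0, [[], [2, 0]]⟩, ⟨2, [224, 398, 230, 233, 169], 1, 1, [[], [13, 13, 14, 7], [8, 8, 10, 12], [15, 8, 15, 10, 7]]⟩, ⟨3, [701, 145], 17, 0, [[], [2, 0]]⟩, ⟨2, [145, 186, 144, 264, 233, 126, 413], 10, 3, [[], [11, 15, 11], [14, 14, 6, 2],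 [4, 14, 0, 9, 6]]⟩, ⟨2, [224, 618, 230, 233, 169], 13, 3, [[], [8, 12, 14, 12, 10], [13, 13, 6, 10, 9], [9, 4, 12, 9, 9]]⟩, ⟨3, [707, 144, 143], 17, 0, [[], [2, 0]]⟩, ⟨2, [230, 224, 504, 230, 224, 233, 139, 214, 485], 15, 3, [[], [4, 12, 7], [8, 11, 8, 14], [9, 12, 15, 13, 8]]⟩, ⟨3, [711, 225, 231, 225], 17, 0, [[], [2, 0]]⟩, ⟨2, [230, 301, 230, 224, 234, 231, 391], 1, 1, [[], [6, 12, 6], [15, 13, 7, 0, 10], [6, 15, 15]]⟩, ⟨3, [715, 231, 225], 17, 0, [[], [2, 0]]⟩, ⟨2, [142, 187, 144, 188, 186, 144, 238, 230, 234], 13, 3, [[], [6, 10, 13, 14, 0], [10, 7, 11, 6, 2], [7, 10, 13, 6, 4]]⟩, ⟨3, [719, 225], 17, 0, [[], [2, 0]]⟩, ⟨2, [230, 374, 142, 186, 144, 238, 230, 224, 234], 13, 3, [[], [8, 14, 2, 11], [4, 8, 11, 6, 4], [9, 9, 13, 14, 0]]⟩, ⟨3, [723, 231], 17, 0, [[], [2, 0]]⟩, ⟨2, [224,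 230, 224, 290, 230, 224, 234, 392], 13, 3, [[], [11, 4, 13, 10, 0], [13, 4, 15, 13, 0], [4, 12, 8, 0]]⟩, ⟨3, [727, 225], 17, 0, [[], [2, 0]]⟩, ⟨2, [88, 88, 119, 217, 66, 272, 234], 14, 3, [[], [7, 13, 8, 8, 0], [13, 4, 10, 6, 8, 0], [12, 7, 8]]⟩, ⟨3, [731, 231, 225], 17, 0, [[], [2, 0]]⟩, ⟨2, [224, 230, 393, 235, 231, 279], 1, 1, [[], [12, 7, 12], [9, 14, 14, 9, 6], [11, 13, 9, 10, 0]]⟩, ⟨3, [735, 187, 145, 186, 143], 17, 0, [[], [2, 0]]⟩, ⟨2, [224, 230, 684, 68, 88, 119, 732, 224, 230, 224, 235], 11, 3, [[], [12, 8, 12, 4, 2], [0], [13, 8, 14, 8, 2]]⟩, ⟨3, [739, 231, 225], 17, 0, [[], [2, 0]]⟩, ⟨2, [230, 393, 235, 225, 231, 273], 13, 3, [[], [9, 4, 13, 11, 0], [15, 6, 8, 13, 4], [9, 14, 12, 7, 0]]⟩, ⟨3, [743, 63, 119], 17, 0, [[], [2, 0]]⟩, ⟨2, [230, 235, 225, 231, 273, 67, 217], 14,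 3, [[], [7, 10, 12, 10, 10], [9, 12, 10, 15, 0], [8, 13, 0, 8]]⟩, ⟨3, [747, 63, 118, 63], 17, 0, [[], [2, 0]]⟩, ⟨2, [142, 187, 145, 186, 582, 224, 235, 673], 15, 2, [[], [13, 14, 9, 7], [12, 14, 6, 10, 7], [12, 12, 15, 13, 6]]⟩, ⟨3, [751, 231, 225], 17, 0, [[], [2, 0]]⟩, ⟨2, [145, 186, 142, 187, 184, 236, 231, 398], 1, 1, [[], [15, 10, 14, 9, 7], [10, 9, 9, 6, 8], [13, 13, 14, 6, 2]]⟩, ⟨2, [118, 68, 118, 160, 236, 305], 8, 0, [[], [4, 8, 8, 6, 4], [10, 13, 4, 11, 6], [6, 14, 14, 7]]⟩, ⟨2, [144, 172, 144, 236, 398], 13, 3, [[], [10, 14, 6, 12], [4, 10, 4, 15, 10], [10, 15, 9, 13, 0]]⟩, ⟨3, [759, 225, 231, 225], 17, 0, [[], [2, 0]]⟩, ⟨2, [230, 224, 246, 145, 236, 231, 351], 13, 3, [[], [10, 12, 15, 4], [10, 9, 15, 8, 7], [4, 14, 13, 10, 0]]⟩, ⟨2, [126, 134, 124, 215, 134, 156, 144, 236,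 225, 231, 398], 13, 3, [[], [7, 11, 13, 13, 8], [15, 10, 10, 9, 4], [8, 15, 7, 4, 0]]⟩, ⟨2, [142, 145, 187, 144, 236, 231, 351, 231, 225, 611], 13, 3, [[], [15, 11, 4, 8, 7], [7, 13, 7], [11, 15, 7, 10, 7]]⟩, ⟨3, [767, 231, 225], 17, 0, [[], [2, 0]]⟩, ⟨2, [224, 230, 224, 744, 62, 119, 62, 160, 145, 236], 14, 3, [[], [11, 12, 12, 2], [15, 12, 12, 6], [14, 13, 7, 12, 9]]⟩, ⟨2, [187, 142, 145, 186, 192, 119, 160, 236], 14, 3, [[], [11, 14, 9, 13, 4], [12, 4, 9, 9, 7], [13, 9, 4, 14, 0]]⟩, ⟨2, [144, 186, 142, 194, 60, 68, 89, 160, 236], 14, 3, [[], [7, 15, 4, 0], [4, 10, 0, 9, 4], [4, 15, 11, 12, 8]]⟩, ⟨3, [775, 225, 231, 225], 17, 0, [[], [2, 0]]⟩, ⟨2, [224, 230, 476, 186, 236, 225, 231, 607], 15, 1, [[], [8, 6, 14, 12, 2], [11, 12, 14, 7], [8, 14, 4, 15]]⟩, ⟨3, [779, 225, 231, 225], 17,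 0, [[], [2, 0]]⟩, ⟨2, [237, 161, 63, 118, 63, 195], 1, 1, [[], [6, 4, 8, 7, 2], [8, 7, 11, 14, 14], [15, 12, 4, 14, 6]]⟩, ⟨3, [783, 187, 143], 17, 0, [[], [2, 0]]⟩, ⟨2, [224, 230, 400, 230, 224, 237, 145, 161], 1, 1, [[], [14, 14, 6, 2], [4, 13, 11, 8, 8], [4, 8, 10, 9, 10]]⟩, ⟨3, [787, 61, 118, 69], 17, 0, [[], [2, 0]]⟩, ⟨2, [390, 237], 6, 2, [[], [11, 15, 8, 14, 7], [13, 4, 9, 9, 14]]⟩, ⟨2, [350, 230, 237, 187, 143, 187, 191], 13, 2, [[], [9, 12, 9, 15, 2], [14, 8, 12, 4, 12], [11, 15, 15, 8]]⟩, ⟨3, [793, 89, 119, 89, 65], 17, 0, [[], [2, 0]]⟩, ⟨2, [230, 224, 427, 237, 144, 185], 13, 3, [[], [12, 9, 11, 4, 0], [6, 8, 14, 14, 10], [11, 7, 14, 13, 2]]⟩, ⟨3, [797, 186, 145, 187], 17, 0, [[], [2, 0]]⟩, ⟨2, [230, 224, 350, 237, 144, 173], 13, 3, [[], [10, 7, 11, 7], [15, 7, 8, 12, 15], [10,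 6, 14, 14, 8]]⟩, ⟨3, [801, 186, 144, 187, 145], 17, 0, [[], [2, 0]]⟩, ⟨2, [224, 230, 224, 399, 230, 237, 144, 247], 13, 3, [[], [8, 12, 9, 13, 0], [7, 11, 6], [4, 9, 6, 11, 7]]⟩, ⟨3, [805, 225], 17, 0, [[], [2, 0]]⟩, ⟨2, [224, 237, 145, 157, 139, 215, 138, 413], 14, 3, [[], [8, 14, 8, 15, 0], [12, 10, 7, 14, 4], [8, 8, 4, 13, 2]]⟩, ⟨3, [809, 225, 231], 17, 0, [[], [2, 0]]⟩, ⟨2, [237, 144, 282, 225, 711], 14, 3, [[], [12, 8, 7, 14], [15, 13, 4, 9, 2], [8, 10, 15, 12]]⟩, ⟨3, [813, 231], 17, 0, [[], [2, 0]]⟩, ⟨2, [230, 812, 230, 237, 145, 143, 719], 14, 1, [[], [12, 14, 6, 4, 0], [12, 12, 4, 14], [6, 8, 4]]⟩, ⟨3, [817, 231, 225], 17, 0, [[], [2, 0]]⟩, ⟨2, [230, 224, 237, 144, 186, 143, 189, 145, 187, 143, 785], 14, 0, [[], [15, 9, 14, 14, 2], [6, 12, 11, 13, 4], [14, 6, 8, 7, 2]]⟩, ⟨2, [820,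 224, 237, 143, 186, 785], 15, 1, [[], [10, 15, 8, 7], [15, 13, 8, 6, 14, 0], [8, 4, 13, 2]]⟩, ⟨3, [823, 231], 17, 0, [[], [2, 0]]⟩, ⟨2, [538, 237, 145, 187, 145, 719], 15, 1, [[], [15, 10, 4, 9], [9, 9, 15, 8, 4], [8, 12, 7, 4, 0]]⟩, ⟨3, [827, 225], 17, 0, [[], [2, 0]]⟩, ⟨2, [224, 230, 224, 488, 224, 374, 142, 186, 144, 238], 0, 0, [[], [4, 12, 7, 8, 0], [11, 12, 9, 6, 4], [6, 10, 12, 14, 7]]⟩, ⟨3, [831, 225, 231, 225], 17, 0, [[], [2, 0]]⟩, ⟨2, [186, 142, 198, 142, 186, 144, 188, 142, 186, 144, 238], 1, 1, [[], [4, 12, 12, 11], [14, 10, 14, 10], [13, 11, 11, 15, 10]]⟩, ⟨3, [835, 231, 225], 17, 0, [[], [2, 0]]⟩, ⟨2, [718, 145, 187, 144, 170, 238], 1, 2, [[], [14, 4, 14, 12, 2], [7, 15, 10, 7, 9], [9, 14, 4, 15, 9]]⟩, ⟨2, [186, 142, 187, 170, 238, 225, 231, 609], 1, 1, [[], [9, 7, 11,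 12, 0], [15, 15, 8, 8], [4, 13, 15, 7, 4]]⟩, ⟨3, [841, 225, 231], 17, 0, [[], [2, 0]]⟩, ⟨2, [144, 186, 144, 238, 289, 186, 145, 569], 1, 0, [[], [8, 15, 15, 7], [13, 10, 15, 15, 9], [11, 9, 6, 4, 0]]⟩, ⟨3, [845, 225], 17, 0, [[], [2, 0]]⟩, ⟨2, [230, 374, 186, 144, 238, 277], 1, 1, [[], [9, 7, 8, 13, 4], [14, 6, 12, 12, 9], [10, 7, 10, 6]]⟩, ⟨3, [849, 225, 231, 225], 17, 0, [[], [2, 0]]⟩, ⟨2, [230, 224, 844, 144, 186, 144, 238, 277], 1, 1, [[], [4, 14, 7, 15, 2], [6, 15, 7, 11], [4, 14, 4, 15]]⟩, ⟨3, [853, 231], 17, 0, [[], [2, 0]]⟩, ⟨2, [230, 318, 224, 230, 224, 374, 186, 144, 238], 1, 2, [[], [6, 0, 9, 7], [9, 6, 12, 15], [4, 2, 14]]⟩, ⟨3, [857, 231, 225], 17, 0, [[], [2, 0]]⟩, ⟨2, [144, 186, 142, 238, 225, 231, 715], 6, 1, [[], [6, 11, 15, 12, 8], [6, 11, 4, 13, 4]]⟩, ⟨2, [230, 844,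 142, 145, 186, 144, 238, 231, 609], 7, 1, [[], [4, 9, 11, 9, 9], [13, 6, 8, 14, 0], [6, 9, 14, 7, 10]]⟩, ⟨3, [863, 225], 17, 0, [[], [2, 0]]⟩, ⟨2, [224, 374, 186, 144, 238, 467], 8, 2, [[], [6, 11, 13, 14, 7, 4], [13, 8, 13, 6], [7, 4, 11, 4]]⟩, ⟨3, [867, 225, 231], 17, 0, [[], [2, 0]]⟩, ⟨2, [145, 186, 188, 142, 186, 144, 238, 231, 225, 859], 9, 0, [[], [9, 6, 13, 9], [14, 12, 4, 11, 0], [12, 11, 9, 7, 9]]⟩, ⟨2, [224, 374, 142, 186, 144, 238, 231, 225, 833], 9, 0, [[], [7, 11, 11, 11], [13, 4, 9, 13, 2], [10, 9, 6, 11]]⟩, ⟨3, [873, 231, 225], 17, 0, [[], [2, 0]]⟩, ⟨2, [844, 142, 145, 186, 144, 238, 225, 231, 609], 9, 0, [[], [15, 12, 15, 4, 13], [14, 13, 10, 10], [13, 9, 7, 8]]⟩, ⟨3, [877, 225, 231, 225], 17, 0, [[], [2, 0]]⟩, ⟨2, [584, 187, 144, 238, 225, 231, 225, 833], 9, 1, [[], [8,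 11, 7, 0], [8, 6, 8, 7, 8], [8, 4, 2, 11, 7]]⟩, ⟨3, [881, 231, 225], 17, 0, [[], [2, 0]]⟩, ⟨2, [144, 238, 838, 531], 10, 0, [[], [13, 11, 15, 13, 6], [11, 15, 11, 7], [13, 14, 10, 8, 11]]⟩, ⟨3, [885, 225, 231], 17, 0, [[], [2, 0]]⟩, ⟨2, [186, 142, 186, 238, 225, 231, 225, 833, 225, 231, 225, 857], 13, 2, [[], [10, 6, 4, 15, 0], [6, 12, 14, 2], [7, 0, 9, 6]]⟩, ⟨2, [224, 230, 888, 186, 142, 186, 238, 391], 13, 3, [[], [13, 14, 7, 4], [12, 4, 13, 13, 4], [10, 10, 4, 9, 2]]⟩, ⟨2, [224, 230, 224, 374, 142, 186, 144, 238, 231, 225, 859], 13, 3, [[], [11, 15, 7, 11], [11, 11, 4, 14, 9], [12, 12, 6, 10]]⟩, ⟨2, [230, 224, 772, 142, 144, 186, 144, 188, 142, 186, 144, 238], 13, 0, [[], [10, 12, 11, 14, 10], [7, 13, 10, 9, 7], [9, 6, 15, 7, 8]]⟩, ⟨3, [895, 225, 231], 17, 0, [[], [2, 0]]⟩, ⟨2, [145,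 186, 164, 186, 144, 238, 225, 231, 897], 13, 3, [[], [10, 14, 10, 6], [15, 12, 6, 0, 9], [12, 11, 12, 14, 8]]⟩, ⟨3, [899, 225, 231], 17, 0, [[], [2, 0]]⟩, ⟨2, [844, 142, 145, 186, 144, 238, 391], 13, 3, [[], [14, 8, 13, 11, 0], [14, 8, 11, 2], [15, 7, 10, 13, 13, 0]]⟩, ⟨3, [903, 231], 17, 0, [[], [2, 0]]⟩, ⟨2, [224, 230, 844, 144, 186, 144, 238, 231, 225, 833], 13, 3, [[], [7, 8, 11], [9, 9, 4, 9, 4], [10, 10, 8, 11, 12]]⟩, ⟨2, [224, 230, 224, 374, 186, 144, 238, 225, 838], 13, 3, [[], [6, 12, 15, 6], [7, 9, 4, 15, 2], [13, 11, 11, 0, 8]]⟩, ⟨3, [909, 231, 225], 17, 0, [[], [2, 0]]⟩, ⟨2, [142, 187, 145, 186, 188, 186, 144, 238, 391], 14, 3, [[], [13, 7, 9, 9], [14, 14, 7, 13], [12, 11, 14, 9, 10]]⟩, ⟨3, [913, 231, 225], 17, 0, [[], [2, 0]]⟩, ⟨2, [142, 187, 145, 182, 238, 225, 231, 897],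 14, 3, [[], [9, 4, 8, 6], [12, 10, 13, 4], [14, 14, 4, 11, 6]]⟩, ⟨3, [917, 231], 17, 0, [[], [2, 0]]⟩, ⟨2, [142, 144, 186, 144, 188, 142, 186, 144, 238, 277], 14, 3, [[], [12, 8, 7, 11, 4], [11, 9, 9, 10, 2], [9, 14, 14, 11, 0]]⟩, ⟨2, [224, 230, 766, 142, 145, 186, 144, 238, 231, 225, 833], 14, 0, [[], [7, 10, 13, 15, 7], [14, 6, 15, 12, 2], [4, 0, 9, 6]]⟩, ⟨3, [923, 231, 225], 17, 0, [[], [2, 0]]⟩, ⟨2, [230, 924, 224, 230, 840, 144, 186, 145, 238], 15, 0, [[], [11, 9, 9, 13, 4], [7, 10, 6, 8, 12], [8, 8, 15, 10, 6]]⟩, ⟨3, [927, 231, 225], 17, 0, [[], [2, 0]]⟩, ⟨2, [858, 224, 230, 239, 144, 186, 889], 0, 2, [[], [12, 6, 15, 12, 8], [13, 11, 4, 13, 6], [12, 14, 0]]⟩, ⟨3, [931, 231, 225], 17, 0, [[], [2, 0]]⟩, ⟨2, [224, 230, 239, 144, 186, 889, 225, 231, 833], 0, 2, [[], [15, 6, 12, 9,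 4, 0], [11, 4, 10, 4, 8], [4, 8, 12, 14, 8]]⟩, ⟨3, [935, 225, 231], 17, 0, [[], [2, 0]]⟩, ⟨2, [230, 224, 856, 224, 230, 224, 858, 224, 230, 224, 239], 1, 1, [[], [11, 11, 7, 14, 2], [14, 7, 4, 11, 2], [8, 2, 15, 7]]⟩, ⟨3, [939, 186, 143], 17, 0, [[], [2, 0]]⟩, ⟨2, [839, 239, 149], 1, 1, [[], [13, 7, 11, 7], [9, 14, 7, 9, 6, 0], [15, 9, 9, 4]]⟩, ⟨3, [943, 138, 125, 214, 127], 17, 0, [[], [2, 0]]⟩, ⟨2, [230, 224, 934, 224, 230, 224, 239, 145, 187, 375], 1, 1, [[], [4, 15, 11, 0], [9, 2, 15], [6, 4, 2]]⟩, ⟨3, [947, 231], 17, 0, [[], [2, 0]]⟩, ⟨2, [142, 187, 288, 239, 144, 186, 889], 1, 1, [[], [9, 11, 0, 9], [14, 4, 14, 13, 2], [12, 11, 11, 13, 8, 0]]⟩, ⟨3, [951, 225, 231], 17, 0, [[], [2, 0]]⟩, ⟨2, [230, 224, 934, 224, 230, 224, 239, 171], 1, 1, [[], [10, 14, 10, 13], [6, 8, 4, 14, 8],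 [13, 6, 10, 8, 0]]⟩, ⟨3, [955, 143, 187, 145], 17, 0, [[], [2, 0]]⟩, ⟨2, [224, 230, 224, 239, 143, 187, 145, 871], 6, 2, [[], [4, 15, 4], [13, 7, 13, 2, 11]]⟩, ⟨2, [239, 145, 885], 6, 0, [[], [8, 6, 9, 6, 2], [6, 11, 11, 6, 10]]⟩, ⟨3, [961, 225, 231], 17, 0, [[], [2, 0]]⟩, ⟨2, [230, 608, 230, 239, 145, 885], 8, 2, [[], [11, 15, 8, 4, 0], [10, 15, 11, 14, 8], [15, 13, 6, 4]]⟩, ⟨3, [965, 225, 231], 17, 0, [[], [2, 0]]⟩, ⟨2, [839, 239, 145, 187, 785], 9, 3, [[], [13, 6, 13, 8, 0], [13, 10, 13, 10, 4], [14, 4, 8, 8, 7]]⟩, ⟨3, [969, 225], 17, 0, [[], [2, 0]]⟩, ⟨2, [230, 224, 934, 224, 230, 224, 239, 145, 187, 145, 845], 9, 0, [[], [13, 14, 6, 15, 0], [10, 7, 10, 4, 0], [7, 15, 9, 12, 8, 0]]⟩, ⟨3, [973, 225, 231, 225], 17, 0, [[], [2, 0]]⟩, ⟨2, [230, 239, 145, 187, 145, 845, 838], 9, 0, [[],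 [8, 13, 6, 12, 0], [12, 12, 6, 14], [9, 10, 12, 4, 0]]⟩, ⟨2, [224, 230, 239, 145, 187, 189, 145, 187, 143, 845], 9, 0, [[], [8, 13, 7, 9, 2], [11, 12, 4, 9, 0], [9, 4, 13, 14, 0]]⟩, ⟨3, [979, 231], 17, 0, [[], [2, 0]]⟩, ⟨2, [230, 808, 224, 230, 239, 145, 187, 145, 845], 9, 1, [[], [6, 10, 14, 10, 2], [14, 10, 15, 8], [13, 8, 7, 4, 0]]⟩, ⟨3, [983, 225], 17, 0, [[], [2, 0]]⟩, ⟨2, [224, 230, 832, 224, 230, 224, 239, 790], 10, 0, [[], [8, 14, 11, 13, 4], [8, 11, 9, 0], [7, 14, 13, 0]]⟩, ⟨2, [832, 224, 230, 224, 239, 282], 10, 0, [[], [14, 10, 6, 12, 2], [10, 8, 10], [6, 14, 14, 7]]⟩, ⟨3, [989, 225, 231, 225], 17, 0, [[], [2, 0]]⟩, ⟨2, [230, 224, 858, 224, 230, 224, 239, 381], 10, 0, [[], [6, 0, 8, 4], [8, 13, 4, 14, 4], [14, 14, 8, 7, 11]]⟩, ⟨2, [832, 224, 230, 224, 239, 381], 10, 0, [[],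 [12, 8, 15], [11, 7, 9, 11, 2], [13, 14, 6, 12, 6]]⟩, ⟨3, [995, 231, 225], 17, 0, [[], [2, 0]]⟩, ⟨2, [224, 230, 608, 230, 239, 790], 10, 0, [[], [9, 9, 9, 14, 8], [6, 13, 11, 7, 8], [14, 9, 14, 10, 7, 0]]⟩, ⟨2, [839, 239, 381], 10, 0, [[], [8, 13, 7, 4], [6, 11, 13, 13, 0], [9, 13, 7, 0, 9]]⟩, ⟨2, [839, 224, 239, 282], 10, 0, [[], [11], [11, 12, 6, 13], [9, 13, 9, 2]]⟩, ⟨3, [1003, 225, 231, 225], 17, 0, [[], [2, 0]]⟩, ⟨2, [230, 224, 934, 224, 230, 239, 790], 10, 0, [[], [12, 9, 13, 8, 11], [7, 9, 14], [8, 7, 9, 4, 0]]⟩, ⟨3, [1007, 225], 17, 0, [[], [2, 0]]⟩, ⟨2, [224, 230, 224, 239, 381, 869], 10, 3, [[], [4, 9, 13, 8, 0], [10, 6, 15, 9, 4], [13, 14, 7, 10, 2]]⟩, ⟨2, [230, 224, 896, 230, 224, 239, 282], 10, 0, [[], [10, 8, 10, 13, 0], [10, 10, 15, 12, 0], [10, 9, 15, 15, 2]]⟩, ⟨3, [1013,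 231, 225], 17, 0, [[], [2, 0]]⟩, ⟨2, [896, 230, 239, 790], 10, 0, [[], [4, 12, 7, 4, 8], [4, 12, 8, 7, 0], [9, 11, 13, 4]]⟩, ⟨2, [230, 608, 230, 239, 381], 10, 0, [[], [13, 14, 10, 6, 0], [7, 4, 11, 0], [14, 4, 2, 15, 6]]⟩, ⟨2, [230, 224, 934, 224, 230, 224, 239, 381], 10, 0, [[], [13, 15, 12, 10], [7, 11, 7, 12, 2], [8, 11, 6, 4, 0]]⟩, ⟨3, [1021, 231, 225], 17, 0, [[], [2, 0]]⟩, ⟨2, [230, 239, 145, 186, 173, 186, 145, 585], 11, 1, [[], [6, 15, 11], [11, 8, 14, 14, 2], [9, 4, 11, 9, 0]]⟩, ⟨3, [1025, 231, 225], 17, 0, [[], [2, 0]]⟩, ⟨2, [224, 230, 884, 187, 921, 224, 230, 224, 239], 11, 3, [[], [9, 9, 10, 14, 9], [9, 12, 15, 10, 6], [7, 4, 8, 14]]⟩, ⟨3, [1029, 186, 143], 17, 0, [[], [2, 0]]⟩, ⟨2, [224, 982, 239, 145, 187, 145, 767], 11, 0, [[], [4, 8, 4, 13, 6], [4, 8, 0, 10], [6, 4, 11,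 7]]⟩, ⟨3, [1033, 231, 225], 17, 0, [[], [2, 0]]⟩, ⟨2, [230, 596, 230, 224, 832, 224, 230, 224, 239], 13, 3, [[], [6, 14, 10, 12, 6], [8, 4, 2, 11, 6], [14, 8, 12, 12]]⟩, ⟨3, [1037, 145, 186], 17, 0, [[], [2, 0]]⟩, ⟨2, [224, 608, 230, 239, 145, 187, 143, 375], 13, 3, [[], [4, 15, 8, 14], [4, 8, 10, 6, 11], [13, 9, 15, 6, 0]]⟩, ⟨3, [1041, 231], 17, 0, [[], [2, 0]]⟩, ⟨2, [230, 224, 934, 224, 230, 239, 149], 13, 3, [[], [10, 7, 15, 9, 9], [14, 7, 15, 12, 4], [6, 8, 13, 7, 2]]⟩, ⟨3, [1045, 214, 139, 139, 127, 125], 17, 0, [[], [2, 0]]⟩, ⟨2, [224, 839, 239, 183], 13, 3, [[], [8, 6, 9, 12, 2], [11, 6, 10, 13], [6, 4, 8, 14, 4]]⟩, ⟨3, [1049, 144, 186, 145], 17, 0, [[], [2, 0]]⟩, ⟨2, [224, 230, 1010, 224, 230, 224, 239, 145, 187, 165], 13, 3, [[], [12, 12, 9], [10, 13, 7, 12, 9], [4, 14, 10, 6,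 2]]⟩, ⟨3, [1053, 187, 145, 143], 17, 0, [[], [2, 0]]⟩, ⟨2, [224, 230, 239, 171, 144, 186, 145, 201], 13, 3, [[], [9, 15, 15, 9, 6], [10, 14, 4, 14], [13, 4, 8, 6, 4]]⟩, ⟨3, [1057, 186, 143], 17, 0, [[], [2, 0]]⟩, ⟨2, [144, 187, 145, 186, 836, 230, 239, 145, 187, 144, 143, 845], 13, 0, [[], [14, 8, 13, 7], [15, 12, 15, 4, 10], [8, 15, 4, 9]]⟩, ⟨2, [936, 230, 224, 832, 224, 230, 239], 14, 3, [[], [15, 10, 6, 8, 10], [11, 9, 14, 9, 4, 0], [7, 12, 12, 9, 15]]⟩, ⟨3, [1063, 145, 187], 17, 0, [[], [2, 0]]⟩, ⟨2, [224, 230, 904, 224, 230, 832, 224, 230, 239], 14, 3, [[], [8, 14, 11, 12], [13, 10, 9, 12, 12], [13, 15, 12, 8, 4]]⟩, ⟨3, [1067, 145, 187, 144, 143], 17, 0, [[], [2, 0]]⟩, ⟨2, [839, 224, 239, 145, 187, 144, 143, 899], 14, 2, [[], [13, 14, 7, 15], [12, 10, 10], [15, 4, 9, 9, 7]]⟩, ⟨3,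 [1071, 225], 17, 0, [[], [2, 0]]⟩, ⟨2, [896, 230, 239, 145, 187, 145, 845], 14, 3, [[], [15, 13, 10, 14, 10, 2], [11, 12], [12, 8, 14, 14, 7]]⟩, ⟨3, [1075, 231, 225], 17, 0, [[], [2, 0]]⟩, ⟨2, [230, 224, 1010, 224, 230, 239, 145, 187, 143, 189], 14, 3, [[], [7, 10, 0, 10, 4], [6, 9, 13, 15, 0], [4, 10, 12, 14, 8]]⟩, ⟨3, [1079, 145, 143], 17, 0, [[], [2, 0]]⟩, ⟨2, [230, 239, 143, 187, 145, 179, 119, 89, 77], 15, 3, [[], [10, 15, 12, 8, 11, 0], [14, 7, 8, 14, 6], [4, 8, 13, 6, 0]]⟩, ⟨3, [1083, 88, 61, 119], 17, 0, [[], [2, 0]]⟩, ⟨2, [224, 754, 144, 240, 391], 1, 2, [[], [6, 13], [11, 11, 11, 7, 4], [6, 12, 10]]⟩, ⟨3, [1087, 231, 225], 17, 0, [[], [2, 0]]⟩, ⟨2, [224, 578, 62, 68, 89, 118, 160, 240], 1, 2, [[], [6, 12, 14, 12], [12, 6, 14, 14, 2], [7, 14, 7, 2]]⟩, ⟨3, [1091, 225, 231, 225],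 17, 0, [[], [2, 0]]⟩, ⟨2, [230, 224, 243, 240, 225, 231, 225, 1093], 1, 1, [[], [4, 14, 9, 11, 7], [6, 14, 4, 0], [12, 7, 15, 6, 2]]⟩, ⟨3, [1095, 231, 225], 17, 0, [[], [2, 0]]⟩, ⟨2, [230, 224, 774, 142, 145, 187, 145, 240, 263], 1, 1, [[], [10, 9, 4, 11], [14, 4, 9, 6], [13, 4, 13, 8, 11]]⟩, ⟨3, [1099, 144, 143], 17, 0, [[], [2, 0]]⟩, ⟨2, [1038, 145, 186, 164, 240], 1, 2, [[], [4, 11, 6, 4, 10], [13, 14, 7, 14, 13], [15, 6, 8, 8, 11]]⟩, ⟨2, [60, 119, 66, 68, 160, 240, 225, 231, 1091], 1, 1, [[], [11, 15, 8, 6, 2], [13, 7, 8, 11, 2], [13, 2, 14]]⟩, ⟨3, [1105, 225], 17, 0, [[], [2, 0]]⟩, ⟨2, [230, 1050, 142, 145, 187, 240, 391], 1, 1, [[], [11, 13, 9, 10, 6], [11, 12, 11, 15, 0], [8, 10, 14, 11]]⟩, ⟨3, [1109, 231], 17, 0, [[], [2, 0]]⟩, ⟨2, [1050, 142, 145, 187, 240, 231, 1091], 7, 2,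 [[], [14, 8, 7, 8, 14], [10, 6, 12, 10, 0], [2, 15, 7, 13]]⟩, ⟨3, [1113, 225, 231], 17, 0, [[], [2, 0]]⟩, ⟨2, [224, 230, 224, 774, 145, 187, 144, 240, 231, 225, 1093], 7, 3, [[], [9, 10, 15, 11, 4], [11, 8, 8, 6, 0], [8, 14, 12, 11, 8]]⟩, ⟨3, [1117, 231], 17, 0, [[], [2, 0]]⟩, ⟨2, [187, 240, 225, 231, 225, 1087, 225, 1018], 7, 2, [[], [12, 6, 10, 8, 0], [13, 9, 4, 8, 4], [6, 14, 8, 6, 0]]⟩, ⟨3, [1121, 225, 231, 225], 17, 0, [[], [2, 0]]⟩, ⟨2, [224, 774, 142, 145, 187, 145, 240, 225, 231, 649], 8, 2, [[], [8, 11, 12, 4], [13, 11, 14], [12, 15, 10, 8, 7]]⟩, ⟨3, [1125, 225, 231], 17, 0, [[], [2, 0]]⟩, ⟨2, [224, 230, 224, 904, 230, 224, 1050, 142, 145, 187, 240], 8, 3, [[], [13, 15, 10, 15, 4], [10, 15, 9, 10, 4], [9, 10, 8, 0]]⟩, ⟨3, [1129, 225, 231, 225], 17, 0, [[], [2, 0]]⟩, ⟨2, [142,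 145, 187, 240, 231, 225, 1087, 231, 225, 1023], 8, 0, [[], [7, 12, 10, 6, 9], [14, 9, 15, 10], [7, 11, 4, 8, 0]]⟩, ⟨3, [1133, 231, 225], 17, 0, [[], [2, 0]]⟩, ⟨2, [224, 230, 224, 774, 142, 145, 187, 145, 240, 225, 231, 1115], 9, 3, [[], [12, 9, 12, 7, 9], [8, 15, 2, 11, 4], [14, 13, 9, 11, 0]]⟩, ⟨3, [1137, 225], 17, 0, [[], [2, 0]]⟩, ⟨2, [224, 230, 224, 774, 145, 187, 144, 240, 231, 1091], 9, 0, [[], [11, 15, 11, 6, 4], [7, 10, 15, 2], [14, 4, 14, 13]]⟩, ⟨3, [1141, 231, 225], 17, 0, [[], [2, 0]]⟩, ⟨2, [144, 240, 225, 231, 225, 1087, 225, 231, 225, 1089], 9, 0, [[], [4, 10, 4, 15, 10], [12, 4, 14, 14, 7], [13, 10, 9, 10]]⟩, ⟨3, [1145, 231, 225], 17, 0, [[], [2, 0]]⟩, ⟨2, [888, 144, 186, 142, 240, 231, 225, 733], 10, 2, [[], [11, 9, 2, 15, 7], [12, 14, 11, 9, 0], [15, 9, 6, 15, 4]]⟩, ⟨3,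 [1149, 88, 88, 65], 17, 0, [[], [2, 0]]⟩, ⟨2, [142, 145, 187, 240, 225, 231, 649, 225, 890], 10, 1, [[], [7, 11, 13, 6], [8, 8, 7, 15, 6], [12, 15, 8, 12, 4]]⟩, ⟨2, [224, 788, 60, 62, 66, 68, 178, 240], 10, 0, [[], [13, 10, 7, 2], [15, 7, 11, 0], [13, 11, 14]]⟩, ⟨3, [1155, 225, 231], 17, 0, [[], [2, 0]]⟩, ⟨2, [224, 230, 568, 142, 145, 187, 240, 231, 225, 1087], 10, 1, [[], [9, 10, 12, 4, 10], [4, 12, 11, 13], [14, 6, 15, 2, 11]]⟩, ⟨3, [1159, 225], 17, 0, [[], [2, 0]]⟩, ⟨2, [224, 230, 632, 145, 187, 240, 231, 1091], 10, 1, [[], [12, 12, 9, 11, 0], [10, 7, 9, 11, 0], [11, 14, 12, 4, 11]]⟩, ⟨3, [1163, 225, 231, 225], 17, 0, [[], [2, 0]]⟩, ⟨2, [89, 68, 118, 174, 145, 240, 225, 807], 11, 2, [[], [8, 10, 13, 4, 0], [4, 8, 10, 9, 2], [13, 15, 15, 9, 6]]⟩, ⟨3, [1167, 225], 17, 0, [[], [2, 0]]⟩,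 ⟨2, [224, 230, 584, 144, 186, 142, 240, 225, 231, 225, 813], 11, 3, [[], [14, 8, 4, 11, 4], [13, 6, 8, 13, 0], [4, 15, 8, 4, 0]]⟩, ⟨3, [1171, 225, 231], 17, 0, [[], [2, 0]]⟩, ⟨2, [224, 230, 224, 418, 240, 231, 1091], 13, 3, [[], [13, 11, 12, 10, 2], [14, 13, 8, 14, 0], [10, 14, 9, 7, 4]]⟩, ⟨3, [1175, 225, 231], 17, 0, [[], [2, 0]]⟩, ⟨2, [224, 230, 224, 428, 240, 231, 225, 1093], 13, 3, [[], [14, 13, 8, 12, 8], [6, 4, 11, 9], [4, 8, 7, 4, 2]]⟩, ⟨3, [1179, 225], 17, 0, [[], [2, 0]]⟩, ⟨2, [1050, 142, 145, 187, 240, 293], 13, 3, [[], [11, 12, 15, 13, 11], [11, 12, 14, 0, 8], [6, 12, 7, 8, 7]]⟩, ⟨3, [1183, 225, 231, 225], 17, 0, [[], [2, 0]]⟩, ⟨2, [224, 230, 1050, 142, 145, 187, 240, 263], 13, 3, [[], [8, 13, 10, 7], [6, 15, 15, 2], [4, 15, 15, 6, 9]]⟩, ⟨3, [1187, 144, 143, 186], 17, 0, [[],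 [2, 0]]⟩, ⟨2, [142, 144, 240, 231, 225, 1087, 231, 225, 467], 13, 3, [[], [14, 8, 10, 6, 9], [15, 6, 13, 6, 8], [12, 15, 13]]⟩, ⟨3, [1191, 231], 17, 0, [[], [2, 0]]⟩, ⟨2, [224, 230, 628, 142, 187, 145, 186, 240, 279], 13, 0, [[], [4, 11, 11, 14, 7], [8, 15, 8, 8, 4], [10, 14, 9, 13]]⟩, ⟨3, [1195, 145, 187, 145, 143], 17, 0, [[], [2, 0]]⟩, ⟨2, [744, 62, 119, 62, 160, 240], 14, 3, [[], [10, 9, 12, 2], [7, 15, 6, 0], [8, 12, 10, 14, 0]]⟩, ⟨3, [1199, 225, 231], 17, 0, [[], [2, 0]]⟩, ⟨2, [144, 187, 144, 1062, 230, 1050, 145, 187, 240], 14, 3, [[], [13, 9, 0], [13, 10, 9], [12, 6, 15, 4]]⟩, ⟨3, [1203, 231], 17, 0, [[], [2, 0]]⟩, ⟨2, [230, 224, 1050, 142, 145, 187, 240, 231, 225, 1183], 14, 2, [[], [11, 15, 8, 0], [11, 8, 13, 13, 6, 0], [8, 13, 4, 8, 7, 0]]⟩, ⟨3, [1207, 231, 225], 17, 0, [[],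 [2, 0]]⟩, ⟨2, [748, 64, 119, 89, 160, 240], 14, 0, [[], [4, 14, 7, 8, 2], [9, 15, 6, 13, 2], [12, 6, 10, 12, 6]]⟩, ⟨3, [1211, 225], 17, 0, [[], [2, 0]]⟩, ⟨2, [224, 230, 1050, 145, 187, 240, 231, 225, 1087], 14, 3, [[], [14, 6, 14, 4, 2], [10, 13, 15, 9, 6], [9, 13, 15, 7, 0]]⟩, ⟨3, [1215, 225], 17, 0, [[], [2, 0]]⟩, ⟨2, [230, 224, 774, 142, 145, 187, 145, 240, 302], 14, 3, [[], [8, 7, 2, 11, 4], [4, 8, 7, 11, 2], [7, 14, 12, 10, 2]]⟩, ⟨3, [1219, 225, 231, 225], 17, 0, [[], [2, 0]]⟩, ⟨2, [142, 144, 186, 164, 240, 231, 225, 1093], 14, 3, [[], [6, 9, 13, 9, 7], [11, 7, 9, 12], [10, 4, 13, 10, 12]]⟩, ⟨3, [1223, 225], 17, 0, [[], [2, 0]]⟩, ⟨2, [145, 186, 164, 240, 225, 1213], 14, 3, [[], [12, 9, 11, 4, 0], [12, 8, 8, 10, 4, 0], [7, 9, 14, 12, 2]]⟩, ⟨2, [224, 230, 243, 240, 1102], 14, 3, [[],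 [14, 8, 13, 8, 2], [13, 7, 8, 14, 8], [8, 6, 15, 4]]⟩, ⟨3, [1229, 231], 17, 0, [[], [2, 0]]⟩, ⟨2, [230, 428, 240, 225, 231, 225, 1087], 14, 3, [[], [14, 11, 11, 13, 11, 0], [8, 6, 14, 11, 4], [14, 9, 0, 10, 4]]⟩, ⟨3, [1233, 231, 225], 17, 0, [[], [2, 0]]⟩, ⟨2, [224, 230, 224, 834, 145, 187, 240, 225, 1213], 14, 0, [[], [13, 15, 12, 8, 4], [8, 15, 11, 14, 0], [9, 12, 4, 8, 11]]⟩, ⟨3, [1237, 231], 17, 0, [[], [2, 0]]⟩, ⟨2, [414, 144, 187, 145, 186, 240, 279], 14, 0, [[], [14, 11, 13, 7, 2], [11, 12, 4, 0], [14, 4, 11, 4, 0]]⟩, ⟨3, [1241, 145, 187, 144], 17, 0, [[], [2, 0]]⟩, ⟨2, [230, 940, 144, 240, 279], 14, 0, [[], [10, 6, 12, 7], [7, 11, 6, 15, 4], [10, 7, 4, 8, 4]]⟩, ⟨3, [1245, 145, 187, 144], 17, 0, [[], [2, 0]]⟩, ⟨2, [584, 187, 144, 240, 302], 14, 0, [[], [4, 10, 13, 13, 0], [6, 9,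 12, 9, 9], [13, 13, 6, 11, 2]]⟩, ⟨3, [1249, 225, 231, 225], 17, 0, [[], [2, 0]]⟩, ⟨2, [1164, 224, 230, 224, 636, 186, 145, 240], 15, 3, [[], [4, 12, 4, 10, 9], [13, 9, 12, 6, 0], [4, 12, 11, 6]]⟩, ⟨3, [1253, 231, 225], 17, 0, [[], [2, 0]]⟩, ⟨2, [224, 230, 1164, 230, 916, 142, 186, 144, 240], 15, 0, [[], [8, 12, 11, 13, 0], [11, 15, 8, 10, 12], [7, 11, 15, 9]]⟩, ⟨2, [230, 224, 1017, 224, 230, 1202, 144, 240], 15, 0, [[], [14, 9, 13, 11], [14, 4, 14, 12, 0], [10, 15, 13, 8, 6]]⟩, ⟨3, [1259, 225, 231, 225], 17, 0, [[], [2, 0]]⟩, ⟨2, [142, 186, 144, 198, 144, 186, 142, 188, 186, 142, 186, 240], 15, 0, [[], [11, 13, 6, 0, 8], [8, 11, 7, 9, 2], [7, 12, 10, 9, 2]]⟩, ⟨3, [1263, 225, 231], 17, 0, [[], [2, 0]]⟩, ⟨2, [224, 230, 1130, 224, 230, 1090, 230, 224, 241], 0, 0, [[], [8, 11, 4, 9], [12,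 10, 14, 10, 2], [14, 6, 15, 15, 12]]⟩, ⟨3, [1267, 186, 144, 187], 17, 0, [[], [2, 0]]⟩, ⟨2, [230, 1212, 241, 186, 144, 143, 1051], 0, 3, [[], [8, 14, 14, 9, 0], [11, 7, 9, 13, 6], [8, 7, 4, 11, 4]]⟩, ⟨2, [224, 230, 224, 241, 186, 144, 1051, 225, 231, 225, 357], 1, 1, [[], [15, 12, 14, 11, 12], [4, 13, 8, 13, 9], [11, 6, 9, 15, 2]]⟩, ⟨3, [1273, 186, 145, 187, 143], 17, 0, [[], [2, 0]]⟩, ⟨2, [230, 224, 241, 186, 144, 187, 1269, 225, 231, 509], 1, 1, [[], [11, 7, 14, 6, 2], [10, 4, 14, 10, 7], [12, 6, 12, 0, 8]]⟩, ⟨2, [142, 145, 187, 278, 241, 145, 186, 144, 775], 1, 1, [[], [13, 13, 4, 2], [12, 7, 8, 8], [10, 6, 9, 13, 7]]⟩, ⟨3, [1279, 225], 17, 0, [[], [2, 0]]⟩, ⟨2, [224, 230, 292, 241, 186, 145, 187, 143, 1269], 1, 1, [[], [4, 8, 8, 13], [8, 15, 0, 10], [4, 14, 6, 4, 0]]⟩, ⟨2, [224, 230,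 224, 1092, 224, 230, 224, 241, 149], 1, 1, [[], [9, 13, 15, 13, 6], [12, 15, 7, 8, 4], [4, 10, 8, 13, 0]]⟩, ⟨3, [1285, 214, 138, 138, 127], 17, 0, [[], [2, 0]]⟩, ⟨2, [230, 224, 390, 241, 145, 186, 144, 775], 1, 1, [[], [4, 8, 10, 10], [9, 9, 6, 13, 0], [12, 10, 9, 14, 6]]⟩, ⟨3, [1289, 225], 17, 0, [[], [2, 0]]⟩, ⟨2, [145, 186, 142, 187, 262, 241, 143, 186, 1121], 1, 1, [[], [7, 4], [14, 9, 4, 8, 14], [12, 11, 13, 4, 2]]⟩, ⟨3, [1293, 225, 231, 225], 17, 0, [[], [2, 0]]⟩, ⟨2, [596, 1118, 224, 241], 3, 0, [[], [0, 10, 6, 13, 4], [13, 4, 14, 12], [8, 12, 14, 14, 4]]⟩, ⟨3, [1297, 145, 186, 144], 17, 0, [[], [2, 0]]⟩, ⟨2, [230, 241, 186, 144, 1133, 597], 3, 2, [[], [4, 13, 11, 6, 8], [7, 14, 6, 14, 0], [8, 13, 6]]⟩, ⟨3, [1301, 231], 17, 0, [[], [2, 0]]⟩, ⟨2, [224, 230, 241, 186, 144, 767],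 6, 1, [[], [6, 15, 4, 9], [14, 7, 4, 2, 11]]⟩, ⟨3, [1305, 225, 231, 225], 17, 0, [[], [2, 0]]⟩, ⟨2, [1300, 230, 224, 241], 6, 0, [[], [7, 8, 10, 0, 8], [8, 7, 8, 6]]⟩, ⟨3, [1309, 187, 143, 187], 17, 0, [[], [2, 0]]⟩, ⟨2, [1212, 224, 241, 186, 144, 187, 1269], 7, 2, [[], [14, 13], [4, 9, 7, 13, 4, 0], [8, 2, 11, 6]]⟩, ⟨3, [1313, 231, 225], 17, 0, [[], [2, 0]]⟩, ⟨2, [224, 230, 1103, 224, 241, 186, 144, 569], 8, 2, [[], [14, 4, 11, 7, 0], [9, 9, 15, 10, 0], [6, 12, 2, 14]]⟩, ⟨3, [1317, 225], 17, 0, [[], [2, 0]]⟩, ⟨2, [230, 1103, 241, 186, 144, 767], 8, 2, [[], [7, 10, 14, 9, 15], [6, 14, 8, 15], [9, 4, 8, 2]]⟩, ⟨2, [224, 230, 241, 143, 186, 191, 118, 425], 8, 1, [[], [15, 9, 14, 11, 7], [11, 13, 6, 9, 0], [6, 14, 7, 10, 0]]⟩, ⟨3, [1323, 225, 231], 17, 0, [[], [2, 0]]⟩, ⟨2, [224, 230, 224,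 1236, 224, 1300, 230, 241], 8, 0, [[], [15, 10, 10, 14, 6], [4, 12, 15, 12, 4], [13, 6, 13, 11, 6]]⟩, ⟨3, [1327, 145], 17, 0, [[], [2, 0]]⟩, ⟨2, [230, 1130, 224, 230, 241, 186, 144, 187, 1269], 8, 3, [[], [6, 11, 15, 9], [7, 14, 11, 14, 0], [6, 15, 6, 8, 8]]⟩, ⟨3, [1331, 231], 17, 0, [[], [2, 0]]⟩, ⟨2, [1212, 241, 144, 186, 144, 143, 657], 8, 0, [[], [10, 14, 13, 10], [6, 12, 14, 8, 10], [10, 10, 13, 14, 8]]⟩, ⟨3, [1335, 225], 17, 0, [[], [2, 0]]⟩, ⟨2, [224, 1156, 230, 241, 144, 143, 1145], 9, 2, [[], [12, 7, 14, 14, 7], [12, 11, 9, 7], [15, 10, 10, 10, 2]]⟩, ⟨3, [1339, 225, 231], 17, 0, [[], [2, 0]]⟩, ⟨2, [224, 230, 224, 1086, 224, 230, 241, 186, 145, 187, 143, 1269], 9, 0, [[], [7, 12, 6, 13, 2], [12, 15, 11, 4], [13, 9, 15, 7, 10]]⟩, ⟨3, [1343, 225], 17, 0, [[], [2, 0]]⟩, ⟨2, [230,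 1322, 224, 230, 241, 186, 1121], 9, 0, [[], [15, 6, 9, 9, 6], [14, 9, 7, 4, 13], [11, 15, 7, 0, 9]]⟩, ⟨3, [1347, 231, 225], 17, 0, [[], [2, 0]]⟩, ⟨2, [224, 230, 241, 186, 144, 1051, 231, 225, 919], 9, 0, [[], [8, 10, 10, 4, 2], [10, 7, 12, 12, 11], [10, 6, 12, 4, 0]]⟩, ⟨3, [1351, 144, 143], 17, 0, [[], [2, 0]]⟩, ⟨2, [224, 241, 145, 1329, 231, 1331], 9, 0, [[], [13, 13, 15, 13, 0], [14, 13, 7], [10, 7, 9, 13, 10]]⟩, ⟨2, [224, 230, 224, 241, 145, 186, 144, 657, 1000], 10, 1, [[], [15, 12, 15, 0], [7, 13, 14, 7, 4], [9, 13, 7, 0]]⟩, ⟨2, [1164, 224, 230, 241, 186, 144, 767], 10, 2, [[], [8, 6, 8, 10], [9, 6, 15, 4, 9], [13, 13, 7, 13]]⟩, ⟨3, [1359, 231], 17, 0, [[], [2, 0]]⟩, ⟨2, [224, 1162, 230, 224, 427, 241], 10, 0, [[], [7, 14, 14, 6, 11], [7, 11, 13, 15], [13, 4, 13, 7, 2]]⟩, ⟨3, [1363,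 186, 144], 17, 0, [[], [2, 0]]⟩, ⟨2, [427, 241, 145, 186, 144, 885], 10, 3, [[], [14, 4, 13, 9, 0], [6, 13, 11, 2], [13, 14, 6, 10, 2]]⟩, ⟨3, [1367, 225, 231], 17, 0, [[], [2, 0]]⟩, ⟨2, [224, 230, 241, 157, 126, 214, 126, 765], 10, 3, [[], [7, 14, 8, 4, 8], [14, 14, 9, 14], [4, 14, 14, 8, 6]]⟩, ⟨3, [1371, 225, 231, 225], 17, 0, [[], [2, 0]]⟩, ⟨2, [224, 230, 1103, 224, 241, 387], 10, 0, [[], [12, 15, 12, 9, 4, 0], [7, 10, 13, 4, 0], [12, 9, 12, 11, 15]]⟩, ⟨2, [224, 230, 1103, 224, 241, 157], 10, 0, [[], [12, 11, 2], [12, 12, 9, 6, 2], [10, 13, 6, 8, 2]]⟩, ⟨3, [1377, 139, 215, 135, 126], 17, 0, [[], [2, 0]]⟩, ⟨2, [1086, 224, 230, 241, 157], 10, 0, [[], [9, 7, 12, 2], [6, 11, 4, 2], [10, 8, 13, 15, 0]]⟩, ⟨3, [1381, 135, 127], 17, 0, [[], [2, 0]]⟩, ⟨2, [230, 224, 1370, 224, 230, 241, 387],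 10, 0, [[], [6, 15, 10, 12], [15, 4, 13, 7, 10], [15, 11, 8, 8, 10, 0]]⟩, ⟨3, [1385, 225], 17, 0, [[], [2, 0]]⟩, ⟨2, [224, 230, 224, 241, 157, 125, 139, 135, 126, 945], 10, 3, [[], [15, 8, 8, 10], [14, 13, 14, 8, 7], [12, 11, 12, 12, 6, 0]]⟩, ⟨3, [1389, 231, 225], 17, 0, [[], [2, 0]]⟩, ⟨2, [224, 1322, 224, 230, 241, 387], 10, 0, [[], [7, 15, 15, 9, 0], [14, 6, 13, 10, 6], [12, 11, 6, 10, 0]]⟩, ⟨2, [1118, 241, 186, 145, 187, 143, 1269], 10, 1, [[], [12, 9, 11, 4], [12, 8, 14, 12], [15, 13, 10, 4, 9]]⟩, ⟨2, [224, 230, 241, 145, 186, 207, 143, 1329], 11, 3, [[], [6, 13, 6, 2], [11, 13, 10, 7, 4], [15, 12, 15, 12, 7]]⟩, ⟨3, [1397, 225, 231], 17, 0, [[], [2, 0]]⟩, ⟨2, [224, 230, 224, 241, 145, 186, 143, 885, 1327], 11, 3, [[], [15, 12, 8, 4, 2], [11, 4, 13, 6], [4, 12, 14, 13, 6]]⟩, ⟨3, [1401,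 144], 17, 0, [[], [2, 0]]⟩, ⟨2, [230, 1370, 224, 230, 241, 419], 13, 3, [[], [11, 14, 13, 9, 2], [15, 7, 11, 14, 8], [7, 9]]⟩, ⟨3, [1405, 231, 225], 17, 0, [[], [2, 0]]⟩, ⟨2, [1212, 224, 241, 186, 144, 143, 1051], 13, 3, [[], [12, 12, 7, 13, 6], [9, 2, 15, 13], [14, 10, 14, 14]]⟩, ⟨3, [1409, 225, 231], 17, 0, [[], [2, 0]]⟩, ⟨2, [398, 241, 186, 1121], 13, 3, [[], [12, 10, 10, 10, 4], [12, 15, 15, 10, 6], [13, 4, 11, 7]]⟩, ⟨3, [1413, 225, 231, 225], 17, 0, [[], [2, 0]]⟩, ⟨2, [224, 1322, 224, 230, 224, 241, 242], 13, 3, [[], [14, 13, 13, 13], [15, 6, 4, 15], [14, 10, 8, 11]]⟩, ⟨3, [1417, 225], 17, 0, [[], [2, 0]]⟩, ⟨2, [230, 224, 1212, 224, 241, 186, 145, 187, 143, 1269], 13, 3, [[], [12, 14, 11, 15, 11], [12, 10, 15, 9, 7], [11, 14, 14, 6, 2]]⟩, ⟨3, [1421, 231, 225], 17, 0, [[], [2, 0]]⟩,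 ⟨2, [230, 1370, 224, 230, 224, 241, 242], 13, 3, [[], [4, 13, 9, 11, 7], [6, 12, 7, 8, 8], [9, 9, 4, 8]]⟩, ⟨3, [1425, 231, 225], 17, 0, [[], [2, 0]]⟩, ⟨2, [224, 230, 224, 1322, 224, 230, 241, 161], 13, 3, [[], [7, 15, 12, 7, 0], [9, 13, 11, 12, 7], [11, 12, 14, 6, 0]]⟩, ⟨3, [1429, 118, 88, 119], 17, 0, [[], [2, 0]]⟩, ⟨2, [144, 187, 145, 186, 262, 241, 144, 143, 1329], 13, 3, [[], [7, 14, 14], [9, 14, 8, 4, 0], [13, 6, 12, 14]]⟩, ⟨3, [1433, 225, 231], 17, 0, [[], [2, 0]]⟩, ⟨2, [224, 1388, 224, 230, 241, 429], 13, 3, [[], [6, 13, 10, 12, 8], [6, 10, 8, 4], [13, 9, 15, 4]]⟩, ⟨3, [1437, 225, 231, 225], 17, 0, [[], [2, 0]]⟩, ⟨2, [230, 390, 241, 186, 144, 187, 1269], 13, 3, [[], [4, 8, 11, 7, 4], [14, 11, 7, 15], [7, 4, 9, 14]]⟩, ⟨3, [1441, 231, 225], 17, 0, [[], [2, 0]]⟩, ⟨2, [1086, 224, 230,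 241, 149], 13, 3, [[], [10, 12, 14, 2], [6, 9, 9], [6, 11, 15, 4]]⟩, ⟨3, [1445, 125, 214, 127, 125], 17, 0, [[], [2, 0]]⟩, ⟨2, [224, 230, 1388, 224, 230, 224, 241, 149], 13, 3, [[], [15, 11, 9, 13, 9], [12, 11, 14, 9, 4], [15, 13, 0, 10, 4]]⟩, ⟨3, [1449, 215, 138, 138, 125], 17, 0, [[], [2, 0]]⟩, ⟨2, [224, 230, 224, 1090, 230, 241, 429], 13, 3, [[], [7, 14, 12, 6], [7, 11, 14, 9, 13], [8, 12, 14, 2]]⟩, ⟨3, [1453, 225, 231, 225], 17, 0, [[], [2, 0]]⟩, ⟨2, [230, 224, 398, 241, 144, 143, 1329], 13, 3, [[], [10, 8, 13, 4, 2], [14, 10, 7, 10, 4], [7, 9, 13, 14, 4]]⟩, ⟨3, [1457, 225, 231], 17, 0, [[], [2, 0]]⟩, ⟨2, [224, 1086, 224, 230, 224, 241, 419], 13, 3, [[], [9, 11, 8, 11], [9, 15, 11, 8, 4], [12, 9, 6, 13, 0]]⟩, ⟨3, [1461, 231, 225], 17, 0, [[], [2, 0]]⟩, ⟨2, [224, 1388, 224, 230, 241,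 143, 186, 1121], 13, 3, [[], [10, 6, 11, 4], [10, 14, 8, 6], [9, 15, 12, 12, 0]]⟩, ⟨3, [1465, 225, 231, 225], 17, 0, [[], [2, 0]]⟩, ⟨2, [1103, 224, 241, 186, 145, 187, 143, 1269], 13, 3, [[], [8, 7, 14, 0, 10], [14, 10, 10, 8, 0], [4, 9, 6, 15, 15]]⟩, ⟨2, [224, 230, 224, 1086, 224, 230, 224, 241, 242], 13, 3, [[], [7, 13, 13, 2, 0], [10, 10, 8, 10], [8, 4, 14, 8, 8]]⟩, ⟨3, [1471, 225, 231, 225], 17, 0, [[], [2, 0]]⟩, ⟨2, [230, 224, 1090, 230, 241, 242], 13, 3, [[], [14, 12, 15, 7], [15, 6, 4, 14, 2], [15, 12, 9, 10, 4]]⟩, ⟨3, [1475, 231, 225], 17, 0, [[], [2, 0]]⟩, ⟨2, [224, 230, 303, 241, 186, 144, 187, 1269], 13, 3, [[], [10, 6, 14, 10, 6], [15, 12, 7, 8], [15, 8, 4, 10, 4]]⟩, ⟨2, [230, 224, 1090, 230, 241, 144, 186, 144, 143, 775], 13, 3, [[], [6, 15, 8, 8, 7], [4, 11, 7, 15, 12],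 [4, 13, 11, 15, 13]]⟩, ⟨3, [1481, 225], 17, 0, [[], [2, 0]]⟩, ⟨2, [224, 1388, 224, 230, 241, 419], 13, 3, [[], [10, 4, 12, 9, 6], [11, 8, 14, 9, 7], [13, 8, 14, 13, 15]]⟩, ⟨3, [1485, 231, 225], 17, 0, [[], [2, 0]]⟩, ⟨2, [224, 1388, 224, 230, 241, 165], 13, 3, [[], [7, 9, 11, 4, 0], [13, 14, 12, 0], [13, 14, 7, 15, 8]]⟩, ⟨3, [1489, 187, 145, 143], 17, 0, [[], [2, 0]]⟩, ⟨2, [224, 230, 1103, 224, 241, 143, 186, 1121], 13, 3, [[], [7, 15, 10, 13, 9], [13, 11, 9, 13, 9], [9, 11, 11, 8, 4]]⟩, ⟨3, [1493, 225, 231], 17, 0, [[], [2, 0]]⟩, ⟨2, [230, 224, 1212, 241, 419], 13, 3, [[], [8, 13, 9, 12, 0], [9, 4, 9, 7, 0], [8, 10, 8, 7, 0]]⟩, ⟨3, [1497, 225], 17, 0, [[], [2, 0]]⟩, ⟨2, [230, 224, 1090, 230, 224, 241, 186, 145, 187, 143, 1269], 13, 3, [[], [9, 4, 13, 9, 2], [10, 8, 8, 10, 6], [15, 8,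 14, 2, 11]]⟩, ⟨3, [1501, 225], 17, 0, [[], [2, 0]]⟩, ⟨2, [224, 230, 1322, 224, 230, 224, 241, 186, 1121], 13, 3, [[], [15, 10, 13, 11, 7], [15, 15, 11, 14, 0], [10, 15, 11, 12, 0]]⟩, ⟨3, [1505, 231, 225], 17, 0, [[], [2, 0]]⟩, ⟨2, [224, 230, 1288, 1212, 241], 13, 0, [[], [11, 13, 10, 9, 12], [7, 2, 11, 6], [8, 11, 13, 11, 2]]⟩, ⟨3, [1509, 144, 143], 17, 0, [[], [2, 0]]⟩, ⟨2, [224, 230, 224, 1092, 224, 230, 224, 241, 186, 145, 187, 143, 1269], 13, 3, [[], [7, 9, 13, 11, 2], [9, 15, 13, 13, 0], [6, 4, 9, 0]]⟩, ⟨3, [1513, 231], 17, 0, [[], [2, 0]]⟩, ⟨2, [230, 1322, 224, 230, 241, 186, 144, 143, 1051], 13, 3, [[], [7, 12, 7], [6, 9, 15, 4, 0], [4, 8, 4, 15, 6]]⟩, ⟨3, [1517, 225, 231], 17, 0, [[], [2, 0]]⟩, ⟨2, [230, 1370, 224, 230, 241, 144, 143, 1329], 13, 3, [[], [4, 8, 6, 9, 4, 0], [14,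 11, 7, 8], [8, 6, 8, 8]]⟩, ⟨2, [224, 230, 224, 1322, 224, 230, 224, 241, 149], 13, 3, [[], [10, 7, 15, 9, 7], [12, 11, 15, 8, 0], [10, 13, 14, 8, 2]]⟩, ⟨3, [1523, 125, 135, 125], 17, 0, [[], [2, 0]]⟩, ⟨2, [230, 1086, 224, 230, 224, 241, 144, 143, 1329], 13, 3, [[], [7, 14, 13, 7], [11, 11, 12, 4, 10], [12, 8, 4, 14, 2]]⟩, ⟨3, [1527, 225, 231, 225], 17, 0, [[], [2, 0]]⟩, ⟨2, [230, 224, 1388, 224, 230, 224, 241, 144, 143, 1511], 13, 3, [[], [7, 14, 12, 12, 7], [9, 12, 12, 6], [15, 9, 9, 10, 2]]⟩, ⟨3, [1531, 225, 231, 225], 17, 0, [[], [2, 0]]⟩, ⟨2, [1103, 241, 429], 13, 3, [[], [4, 10, 4, 8, 0], [10, 9, 6, 15], [7, 8, 4, 14, 2]]⟩, ⟨3, [1535, 225, 231, 225], 17, 0, [[], [2, 0]]⟩, ⟨2, [230, 224, 1388, 224, 230, 224, 241, 186, 144, 1051], 13, 3, [[], [4, 13, 8, 0, 8], [13, 11, 14, 4, 12],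 [15, 13, 10, 4, 0]]⟩, ⟨3, [1539, 231], 17, 0, [[], [2, 0]]⟩, ⟨2, [1370, 224, 230, 224, 241, 186, 1121], 13, 3, [[], [12, 8, 12, 11], [8, 14, 14], [9, 14, 13, 0]]⟩, ⟨3, [1543, 225, 231, 225], 17, 0, [[], [2, 0]]⟩, ⟨2, [230, 224, 1090, 230, 241, 149], 13, 3, [[], [14, 9, 14, 12, 12], [14, 12, 15, 4, 2], [8, 11, 15, 9, 6]]⟩, ⟨3, [1547, 215, 135, 215, 139], 17, 0, [[], [2, 0]]⟩, ⟨2, [230, 224, 241, 186, 144, 187, 1269, 293], 13, 3, [[], [6, 9, 9, 14, 8], [14, 10, 14, 0, 8], [11, 11, 13, 4, 15]]⟩, ⟨3, [1551, 225, 231], 17, 0, [[], [2, 0]]⟩, ⟨2, [224, 230, 241, 186, 1121, 225, 231, 225, 1409], 13, 3, [[], [9, 9, 14, 10], [9, 12, 10, 15], [7, 8, 12, 9]]⟩, ⟨3, [1555, 231, 225], 17, 0, [[], [2, 0]]⟩, ⟨2, [224, 1394, 224, 230, 241, 161], 13, 0, [[], [15, 12, 11], [11, 11, 9, 15, 8], [7, 11, 14,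 10, 6]]⟩, ⟨3, [1559, 88, 119, 65], 17, 0, [[], [2, 0]]⟩, ⟨2, [224, 230, 1458, 230, 224, 241, 419], 13, 0, [[], [11, 9, 15, 13, 6], [7, 13, 9, 0], [10, 4, 14, 10]]⟩, ⟨3, [1563, 225, 231], 17, 0, [[], [2, 0]]⟩, ⟨2, [230, 241, 144, 143, 1329, 225, 1453], 13, 3, [[], [8, 7, 11, 11], [11, 14, 13, 10, 0], [7, 2, 15, 12]]⟩, ⟨2, [224, 230, 224, 1358, 241, 144, 186, 144, 143, 957], 13, 1, [[], [12, 14, 11, 6, 0], [14, 12, 12, 2], [10, 15, 15, 10, 8]]⟩, ⟨3, [1569, 225, 231, 225], 17, 0, [[], [2, 0]]⟩, ⟨2, [145, 186, 144, 1204, 230, 224, 241, 144, 1065], 13, 1, [[], [8, 11, 7, 12, 4], [7, 10, 8, 8, 7], [12, 4, 9, 0]]⟩, ⟨3, [1573, 231], 17, 0, [[], [2, 0]]⟩, ⟨2, [224, 230, 224, 1090, 230, 241, 145, 143, 845], 14, 2, [[], [10, 14, 13, 15, 9], [10, 10, 13, 0], [11, 12, 10, 7]]⟩, ⟨3, [1577, 231, 225],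 17, 0, [[], [2, 0]]⟩, ⟨2, [224, 1090, 230, 241, 144, 143, 1511], 14, 3, [[], [10, 4, 9, 7, 2], [14, 7, 10, 12, 2], [7, 13, 7, 11, 2]]⟩, ⟨3, [1581, 225, 231, 225], 17, 0, [[], [2, 0]]⟩, ⟨2, [224, 230, 224, 1322, 224, 230, 241, 145, 1511], 14, 3, [[], [12, 8, 13, 8, 2], [11, 13, 7, 12, 0], [13, 8, 7, 14]]⟩, ⟨3, [1585, 225, 231], 17, 0, [[], [2, 0]]⟩, ⟨2, [224, 230, 224, 1322, 224, 230, 224, 241, 186, 144, 187, 1269], 14, 3, [[], [10, 15, 13, 4, 10], [13, 7, 14, 10, 6], [13, 6, 8]]⟩, ⟨3, [1589, 225, 231], 17, 0, [[], [2, 0]]⟩, ⟨2, [224, 230, 224, 303, 241, 145, 1511], 14, 3, [[], [13, 13, 15, 2], [15, 6, 13, 10, 10], [11, 8, 11, 4]]⟩, ⟨3, [1593, 225, 231, 225], 17, 0, [[], [2, 0]]⟩, ⟨2, [230, 224, 1370, 224, 230, 224, 241, 186, 144, 187, 1269], 14, 3, [[], [9, 13, 11, 12, 14], [12, 8, 12,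 12], [10, 12, 14, 4, 8, 0]]⟩, ⟨3, [1597, 231], 17, 0, [[], [2, 0]]⟩, ⟨2, [224, 230, 224, 303, 241, 145, 1329], 14, 3, [[], [13, 13, 13, 6], [9, 14, 11, 13, 7], [4, 12, 11, 13, 7]]⟩, ⟨3, [1601, 225, 231], 17, 0, [[], [2, 0]]⟩, ⟨2, [186, 278, 241, 143, 186, 1121], 14, 3, [[], [12, 9, 9, 0], [11, 12, 11, 15], [11, 14, 6, 2]]⟩, ⟨2, [224, 241, 186, 144, 1051, 532], 14, 3, [[], [4, 14, 8, 15, 6], [6, 11, 4, 9, 0], [11, 6, 0, 9, 4]]⟩, ⟨3, [1607, 225], 17, 0, [[], [2, 0]]⟩, ⟨2, [230, 224, 241, 144, 187, 751, 231, 1401], 15, 1, [[], [7, 10, 12, 0], [14, 13, 11, 8], [15, 15, 8, 11, 2]]⟩, ⟨3, [1611, 186], 17, 0, [[], [2, 0]]⟩, ⟨2, [224, 230, 241, 145, 165, 145, 187, 143, 629], 15, 1, [[], [7, 13, 4, 14, 4], [12, 12, 7, 10, 0], [9, 9, 9, 13]]⟩, ⟨3, [1615, 225], 17, 0, [[], [2, 0]]⟩, ⟨2, [224, 348,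 119, 68, 580, 224, 241], 15, 3, [[], [13, 14, 13, 6, 2], [10, 7, 11, 6, 4], [13, 13, 6, 12]]⟩, ⟨3, [1619, 186], 17, 0, [[], [2, 0]]⟩, ⟨2, [230, 224, 999, 224, 230, 224, 241, 143, 187, 189], 15, 3, [[], [8, 13, 9, 6], [0, 10, 7, 12], [8, 12, 11, 6, 0]]⟩, ⟨3, [1623, 144, 186, 144], 17, 0, [[], [2, 0]]⟩, ⟨2, [224, 241, 186, 143, 209, 67, 63, 61, 163], 15, 2, [[], [9, 14, 4, 10, 4], [15, 9, 10, 4], [12, 12, 14, 13, 6]]⟩, ⟨3, [1627, 144, 143], 17, 0, [[], [2, 0]]⟩, ⟨2, [224, 230, 241, 186, 775, 231, 321], 15, 2, [[], [6, 9, 0, 9, 4], [13, 14, 6, 14], [8, 15, 9, 4]]⟩, ⟨3, [1631, 225, 231], 17, 0, [[], [2, 0]]⟩, ⟨2, [230, 1298, 144, 187, 145, 186, 240, 230, 241], 15, 0, [[], [15, 7, 13, 14, 0], [11, 7, 11, 15, 6], [13, 10, 0, 10, 4]]⟩, ⟨3, [1635, 186], 17, 0, [[], [2, 0]]⟩, ⟨2, [1576, 230, 224,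 241, 144, 187, 144, 1573], 15, 3, [[], [7, 15, 9, 9, 4], [13, 9, 13, 15, 4], [8, 15, 8, 11]]⟩, ⟨3, [1639, 225, 231], 17, 0, [[], [2, 0]]⟩, ⟨2, [230, 224, 303, 230, 224, 241, 187, 144, 186, 143, 1491], 15, 3, [[], [8, 8, 8, 4, 0], [13, 14, 7, 14], [8, 8, 10, 13, 2]]⟩, ⟨3, [1643, 225, 231, 225], 17, 0, [[], [2, 0]]⟩, ⟨2, [224, 230, 1550, 224, 230, 224, 241, 144, 186, 144, 1279], 15, 1, [[], [13, 11, 14, 11], [14, 13, 15, 9, 0], [11, 13, 4, 15]]⟩, ⟨3, [1647, 225, 231, 225], 17, 0, [[], [2, 0]]⟩, ⟨2, [224, 230, 1162, 224, 230, 628, 187, 144, 186, 242], 0, 3, [[], [12, 12, 8, 6], [15, 6, 4, 13, 4], [4, 13, 7, 2, 0]]⟩, ⟨3, [1651, 231], 17, 0, [[], [2, 0]]⟩, ⟨2, [230, 744, 62, 119, 62, 160, 242], 1, 1, [[], [12, 12, 4, 13], [15, 6, 4, 13, 9], [10, 6, 4, 10, 4]]⟩, ⟨3, [1655, 225, 231, 225], 17,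 0, [[], [2, 0]]⟩, ⟨2, [62, 64, 68, 89, 160, 242, 961], 1, 1, [[], [7, 13, 9, 11, 6], [4, 14, 12, 6, 0], [9, 7, 8, 13, 4]]⟩, ⟨3, [1659, 231], 17, 0, [[], [2, 0]]⟩, ⟨2, [594, 1274, 144, 242], 3, 3, [[], [11, 12, 15, 11, 11], [4, 8, 6, 15, 0], [13, 4, 13, 6]]⟩, ⟨3, [1663, 225, 231, 225], 17, 0, [[], [2, 0]]⟩, ⟨2, [224, 596, 224, 230, 224, 1262, 187, 144, 242], 3, 0, [[], [9, 7, 13, 15, 6], [14, 13, 14, 8, 7], [4, 11, 13, 10, 7, 0]]⟩, ⟨3, [1667, 231, 225], 17, 0, [[], [2, 0]]⟩, ⟨2, [64, 68, 118, 88, 220, 89, 118, 196, 144, 242], 3, 0, [[], [6, 9, 15, 7, 0], [15, 9, 2, 14, 7], [9, 14, 8, 7, 2]]⟩, ⟨3, [1671, 225, 231, 225], 17, 0, [[], [2, 0]]⟩, ⟨2, [230, 408, 144, 186, 145, 187, 242], 6, 2, [[], [6, 11, 14, 0], [6, 12, 14, 11]]⟩, ⟨3, [1675, 231], 17, 0, [[], [2, 0]]⟩, ⟨2, [224, 230, 243, 144,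 186, 145, 187, 242], 6, 2, [[], [14, 11, 15, 7, 2], [4, 9, 4, 13, 7]]⟩, ⟨2, [187, 144, 186, 242, 231, 225, 979], 6, 1, [[], [8, 6, 13, 11, 4], [11, 4, 13, 14, 0]]⟩, ⟨2, [230, 636, 186, 144, 187, 242], 6, 0, [[], [13, 15, 15, 9], [13, 13, 15, 15, 12]]⟩, ⟨3, [1683, 231, 225], 17, 0, [[], [2, 0]]⟩, ⟨2, [142, 187, 145, 186, 242, 225, 231, 225, 809], 6, 0, [[], [7, 8, 8, 8, 0], [4, 11, 7, 14, 0]]⟩, ⟨2, [224, 230, 224, 1154, 224, 230, 1686, 142, 145, 242], 7, 3, [[], [11, 8, 11, 12, 4], [11, 9, 10, 15, 4], [7, 12, 12, 6, 2]]⟩, ⟨3, [1689, 231, 225], 17, 0, [[], [2, 0]]⟩, ⟨2, [230, 224, 628, 142, 187, 145, 186, 242, 231, 225, 1691], 7, 3, [[], [12, 14, 8, 7, 11, 0], [11, 7, 11, 7, 12], [6, 15, 10, 9, 4]]⟩] 0 847 = true := by decide +kernel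
theorem dd_c1 : dd.checks [⟨3, [1693, 231], 17, 0, [[], [2, 0]]⟩, ⟨2, [224, 230, 224, 408, 144, 187, 145, 186, 242, 961], 8, 3, [[], [13, 15, 9, 11], [8, 15, 6, 15, 2], [7, 10, 15, 7]]⟩, ⟨3, [1697, 225, 231], 17, 0, [[], [2, 0]]⟩, ⟨2, [224, 1686, 187, 144, 186, 242, 231, 225, 1691], 8, 1, [[], [7, 11, 15, 11, 7, 2], [12, 4, 10, 4, 0], [15, 7, 10, 8]]⟩, ⟨3, [1701, 225, 231], 17, 0, [[], [2, 0]]⟩, ⟨2, [230, 224, 940, 144, 242, 225, 231, 225, 887], 9, 3, [[], [6, 11, 7, 12, 0], [4, 10, 13, 10, 4], [9, 15, 13, 8, 2]]⟩, ⟨3, [1705, 143, 186], 17, 0, [[], [2, 0]]⟩, ⟨2, [230, 224, 1686, 142, 145, 242, 225, 231, 225, 859], 9, 3, [[], [7, 15, 13, 2], [6, 13, 0, 8, 6], [15, 7, 12, 7]]⟩, ⟨2, [224, 230, 1686, 142, 145, 242, 961], 9, 0, [[], [7, 15, 15, 12, 4], [15, 6, 15, 15, 8], [13, 13, 6, 13, 2]]⟩,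 ⟨3, [1711, 225, 231], 17, 0, [[], [2, 0]]⟩, ⟨2, [230, 224, 408, 242, 231, 225, 859], 10, 3, [[], [12, 4, 14, 4, 2], [14, 13, 13, 10, 13], [13, 10, 4, 0, 10]]⟩, ⟨2, [230, 224, 408, 242, 231, 225, 1011], 10, 3, [[], [8, 7, 9], [7, 10, 10, 13, 4], [12, 15, 10, 4, 0]]⟩, ⟨2, [224, 230, 224, 414, 144, 187, 145, 186, 242, 351], 10, 0, [[], [7, 9, 4, 11, 2], [14, 10, 4, 13], [4, 12, 6, 8, 0]]⟩, ⟨3, [1719, 225], 17, 0, [[], [2, 0]]⟩, ⟨2, [144, 186, 142, 1194, 230, 224, 1054, 142, 187, 242], 11, 2, [[], [13, 11, 15, 4, 2], [15, 12, 15, 4, 13], [9, 11, 9, 2]]⟩, ⟨3, [1723, 225, 231, 225], 17, 0, [[], [2, 0]]⟩, ⟨2, [1290, 224, 230, 224, 1510, 142, 145, 242], 11, 2, [[], [10, 10, 13, 6, 12], [11, 7, 0], [11, 7, 9, 13, 2]]⟩, ⟨3, [1727, 225, 231, 225], 17, 0, [[], [2, 0]]⟩, ⟨2, [224, 384, 242, 225, 231,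 225, 1709], 13, 3, [[], [9, 15, 11, 4], [11, 14, 13, 10], [6, 12, 7, 8, 2]]⟩, ⟨3, [1731, 225, 231, 225], 17, 0, [[], [2, 0]]⟩, ⟨2, [144, 186, 145, 187, 147, 242, 225, 231, 225, 1691], 13, 3, [[], [4, 15, 9, 9, 0], [13, 14, 8, 7, 2], [8, 11, 6, 9]]⟩, ⟨3, [1735, 231], 17, 0, [[], [2, 0]]⟩, ⟨2, [230, 224, 414, 144, 186, 145, 187, 242, 265], 13, 3, [[], [14, 13, 7, 8], [14, 13, 14, 14, 6], [8, 13, 8, 4, 2]]⟩, ⟨3, [1739, 145, 187, 144], 17, 0, [[], [2, 0]]⟩, ⟨2, [224, 230, 940, 144, 242, 300], 13, 3, [[], [8, 13, 6, 9, 7], [13, 8, 6, 4, 9], [2, 15, 12]]⟩, ⟨3, [1743, 231], 17, 0, [[], [2, 0]]⟩, ⟨2, [224, 230, 940, 144, 242, 265], 13, 3, [[], [4, 12, 9, 0], [13, 6, 13, 0], [12, 12, 10, 8, 0]]⟩, ⟨3, [1747, 145, 187, 145, 143], 17, 0, [[], [2, 0]]⟩, ⟨2, [246, 144, 187, 145, 186, 242, 225, 961],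 13, 0, [[], [11, 15, 10, 12, 7], [13, 14, 6, 15, 6], [13, 11, 12, 2]]⟩, ⟨3, [1751, 225, 231, 225], 17, 0, [[], [2, 0]]⟩, ⟨2, [144, 187, 1724, 940, 142, 145, 242], 14, 3, [[], [8, 4, 2, 14], [4, 15, 8, 10, 2], [9, 6, 15, 7, 8]]⟩, ⟨3, [1755, 225, 231], 17, 0, [[], [2, 0]]⟩, ⟨2, [224, 230, 224, 676, 230, 224, 414, 144, 187, 145, 186, 242], 14, 3, [[], [9, 15, 11, 7], [4, 14, 6, 8, 4], [10, 14, 9, 2]]⟩, ⟨3, [1759, 225, 231], 17, 0, [[], [2, 0]]⟩, ⟨2, [230, 972, 230, 414, 144, 187, 145, 186, 242], 14, 0, [[], [13, 11, 12, 12, 6], [11, 13, 9, 7, 0], [12, 12, 11, 11, 6]]⟩, ⟨2, [1628, 144, 242, 231, 1653], 14, 0, [[], [8, 15, 11, 4, 0], [11, 13, 15, 9, 2], [11, 14, 4, 9]]⟩, ⟨3, [1765, 225, 231], 17, 0, [[], [2, 0]]⟩, ⟨2, [230, 224, 584, 144, 242, 231, 1716], 14, 1, [[], [10, 15, 15, 4, 2], [4,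 8, 10, 7], [6, 12, 10, 7, 13]]⟩, ⟨3, [1769, 231, 225], 17, 0, [[], [2, 0]]⟩, ⟨2, [224, 230, 302, 246, 144, 186, 145, 187, 242], 14, 2, [[], [10, 8, 4, 11], [15, 6, 8, 8, 6], [7, 8, 8, 4]]⟩, ⟨3, [1773, 225], 17, 0, [[], [2, 0]]⟩, ⟨2, [62, 64, 89, 190, 142, 144, 186, 144, 242, 225, 231, 225, 623], 15, 2, [[], [11, 14, 9, 13, 4], [10, 10, 9, 13, 0], [12, 12, 10, 15, 2]]⟩, ⟨3, [1777, 225, 231], 17, 0, [[], [2, 0]]⟩, ⟨2, [187, 145, 242, 225, 1680, 186, 145, 187, 143, 1145], 15, 1, [[], [11, 15, 10, 12, 7], [14, 0, 9, 4], [11, 12, 14, 14, 9]]⟩, ⟨2, [230, 224, 920, 144, 187, 145, 186, 242, 225, 231, 225, 771], 15, 2, [[], [12, 11, 4, 12, 0], [6, 8, 14, 13, 0], [14, 10, 4, 9, 2]]⟩, ⟨3, [1783, 225, 231, 225], 17, 0, [[], [2, 0]]⟩, ⟨2, [224, 758, 142, 144, 186, 144, 242, 225, 231, 225, 1037], 15,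 2, [[], [11, 12, 8, 8, 8], [8, 6, 14, 14, 7], [11, 11, 7, 14, 0]]⟩, ⟨3, [1787, 186, 144, 143], 17, 0, [[], [2, 0]]⟩, ⟨2, [224, 884, 187, 142, 242, 432], 15, 2, [[], [9, 15, 8], [8, 8, 13, 9, 6], [11, 11, 11, 6, 4]]⟩, ⟨3, [1791, 145, 186, 145], 17, 0, [[], [2, 0]]⟩, ⟨2, [142, 187, 145, 242, 231, 225, 1725, 187, 1031], 15, 1, [[], [15, 7, 10, 6, 0], [9, 10, 13, 10, 2], [9, 13, 2, 15]]⟩, ⟨2, [224, 1104, 62, 89, 89, 178, 144, 242], 15, 0, [[], [6, 15, 12, 15, 4], [11, 9, 6, 12, 4, 0], [7, 4, 13, 15, 6]]⟩, ⟨3, [1797, 231, 225], 17, 0, [[], [2, 0]]⟩, ⟨2, [142, 187, 145, 186, 1272, 224, 253, 145, 187, 242], 15, 0, [[], [7, 14, 8, 2, 11], [14, 4, 8, 15, 2], [11, 8, 11, 4, 0]]⟩, ⟨3, [1801, 225], 17, 0, [[], [2, 0]]⟩, ⟨2, [230, 992, 224, 230, 1620, 142, 186, 144, 187, 242], 15, 0, [[], [4, 13,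 11, 11, 7], [14, 10, 12, 4, 0], [14, 8, 14, 8, 4]]⟩, ⟨3, [1805, 225, 231, 225], 17, 0, [[], [2, 0]]⟩, ⟨2, [230, 224, 584, 145, 186, 242, 225, 231, 225, 870], 15, 0, [[], [11, 13, 10, 7, 0], [6, 12, 4, 8], [8, 4, 8, 2]]⟩, ⟨3, [1809, 186, 143, 187, 144], 17, 0, [[], [2, 0]]⟩, ⟨2, [187, 144, 871, 1226, 142, 186, 144, 242], 15, 1, [[], [6, 4, 11, 0, 9], [6, 11, 7, 9, 6], [12, 9, 15, 0, 9]]⟩, ⟨3, [1813, 231, 225], 17, 0, [[], [2, 0]]⟩, ⟨2, [144, 187, 145, 242, 231, 225, 442, 225, 1009], 15, 3, [[], [7, 8, 13, 4, 2], [14, 11, 11], [6, 15, 12, 11, 12]]⟩, ⟨3, [1817, 231, 225], 17, 0, [[], [2, 0]]⟩, ⟨2, [145, 1605, 224, 230, 224, 1328, 142, 144, 186, 242], 15, 1, [[], [12, 11, 9, 9, 0], [4, 11, 11, 6], [9, 14, 8, 6]]⟩, ⟨3, [1821, 231], 17, 0, [[], [2, 0]]⟩, ⟨2, [230, 224, 960, 243, 186, 144, 187,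 145, 415], 0, 3, [[], [12, 15, 12, 8, 12], [7, 12, 11, 14, 4], [9, 4, 8, 12, 0]]⟩, ⟨3, [1825, 225], 17, 0, [[], [2, 0]]⟩, ⟨2, [224, 1652, 230, 243, 186, 144, 1059], 1, 0, [[], [9, 4, 12, 7, 11], [13, 10, 13, 7], [6, 10, 12, 7]]⟩, ⟨2, [224, 243, 145, 1223, 225, 231, 225, 739], 1, 3, [[], [8, 4, 13, 15, 4], [14, 6, 9, 11], [8, 11, 11, 9]]⟩, ⟨3, [1831, 231], 17, 0, [[], [2, 0]]⟩, ⟨2, [224, 1763, 243, 144, 187, 144, 709], 1, 0, [[], [6, 10, 4, 13], [9, 7, 15], [9, 10, 4, 14, 6]]⟩, ⟨3, [1835, 225, 231, 225], 17, 0, [[], [2, 0]]⟩, ⟨2, [224, 230, 977, 230, 224, 960, 224, 243], 1, 1, [[], [4, 0, 8, 7, 4], [6, 12, 6, 10, 2], [8, 4, 0, 9, 6]]⟩, ⟨3, [1839, 186, 145, 187], 17, 0, [[], [2, 0]]⟩, ⟨2, [224, 230, 224, 243, 146, 187, 1145], 1, 0, [[], [4, 12, 10, 4], [9, 10, 8, 8], [7, 14, 13, 8, 4]]⟩,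 ⟨3, [1843, 231, 225], 17, 0, [[], [2, 0]]⟩, ⟨2, [230, 224, 1676, 230, 224, 243, 144, 143, 637], 3, 3, [[], [11, 12, 12, 10, 0], [6, 8, 14, 14], [10, 6, 14, 10, 2]]⟩, ⟨3, [1847, 225], 17, 0, [[], [2, 0]]⟩, ⟨2, [1842, 224, 230, 224, 243, 187, 144, 186, 145, 415], 7, 2, [[], [14, 10, 6, 12, 2], [11, 2, 15, 6], [6, 14, 13]]⟩, ⟨3, [1851, 225, 231, 225], 17, 0, [[], [2, 0]]⟩, ⟨2, [224, 230, 224, 724, 224, 230, 224, 1763, 224, 243], 7, 0, [[], [10, 15, 4, 13, 0], [6, 9, 14, 7, 10], [4, 11, 12, 7, 0]]⟩, ⟨3, [1855, 187, 145, 143], 17, 0, [[], [2, 0]]⟩, ⟨2, [1708, 224, 230, 224, 243, 145, 941], 7, 3, [[], [13, 9, 10, 12], [8, 4, 2, 15], [15, 15, 10, 4, 0]]⟩, ⟨3, [1859, 225, 231], 17, 0, [[], [2, 0]]⟩, ⟨2, [224, 230, 808, 224, 230, 224, 243, 145, 1687], 8, 1, [[], [4, 15, 8, 8, 2], [6, 15, 6, 9],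 [7, 8, 14, 14]]⟩, ⟨2, [224, 230, 1708, 224, 230, 224, 243, 144, 143, 1857], 9, 3, [[], [15, 15, 8, 7, 0], [10, 12, 8, 8, 14], [11, 7, 9, 11]]⟩, ⟨3, [1865, 225, 231], 17, 0, [[], [2, 0]]⟩, ⟨2, [1270, 224, 243, 187, 145, 186, 637], 10, 2, [[], [8, 12, 2, 11, 7], [8, 8, 14, 8], [14, 9, 4, 10]]⟩, ⟨2, [224, 374, 186, 144, 238, 243], 10, 0, [[], [7, 11, 14, 10, 6], [6, 4, 13, 10, 2], [12, 11, 9, 4, 0]]⟩, ⟨3, [1871, 144, 143], 17, 0, [[], [2, 0]]⟩, ⟨2, [224, 230, 224, 396, 243, 144, 143, 1857], 10, 3, [[], [4, 13, 15, 7, 9], [6, 15, 15, 11], [14, 10, 4, 12, 4]]⟩, ⟨2, [224, 230, 1708, 224, 230, 243, 415], 10, 0, [[], [7, 13, 14, 11, 9], [12, 10, 4, 13, 10], [9, 12, 12, 7]]⟩, ⟨3, [1877, 225, 231], 17, 0, [[], [2, 0]]⟩, ⟨2, [230, 224, 1664, 224, 230, 243, 145, 941], 10, 1, [[], [13, 8, 7, 14, 2],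 [9, 0, 10, 12, 6], [10, 13, 9, 12, 7]]⟩, ⟨3, [1881, 231], 17, 0, [[], [2, 0]]⟩, ⟨2, [230, 243, 144, 187, 145, 257, 225, 231, 225, 1468], 11, 1, [[], [9, 15, 12, 8], [11, 15, 12, 15, 8], [15, 8, 4, 13, 0]]⟩, ⟨3, [1885, 225], 17, 0, [[], [2, 0]]⟩, ⟨2, [224, 1446, 124, 127, 214, 126, 1284, 224, 230, 224, 243], 11, 2, [[], [13, 14, 13, 7], [12, 10, 9, 7, 9], [8, 13, 14, 12]]⟩, ⟨3, [1889, 186, 145], 17, 0, [[], [2, 0]]⟩, ⟨2, [1708, 224, 230, 224, 243, 145, 186, 143, 345], 13, 2, [[], [15, 4, 13, 6, 0], [4, 10, 14, 12], [15, 9, 9, 7, 8]]⟩, ⟨3, [1893, 225], 17, 0, [[], [2, 0]]⟩, ⟨2, [224, 230, 224, 414, 144, 264, 243], 13, 3, [[], [8, 4, 12, 8, 2], [7, 4, 11, 12, 14], [15, 10, 13, 13, 7]]⟩, ⟨3, [1897, 144, 143], 17, 0, [[], [2, 0]]⟩, ⟨2, [230, 224, 1830, 224, 243, 186, 144, 143, 1813], 13, 2,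 [[], [15, 9, 14, 14, 2], [10, 6, 10, 8, 0], [9, 6, 13, 14]]⟩, ⟨3, [1901, 225], 17, 0, [[], [2, 0]]⟩, ⟨2, [1708, 224, 230, 224, 243, 161], 13, 3, [[], [15, 12, 7, 4, 0], [9, 9, 6, 13, 7], [4, 9, 15, 9]]⟩, ⟨3, [1905, 89, 61, 89], 17, 0, [[], [2, 0]]⟩, ⟨2, [230, 383, 243, 187, 145, 186, 629], 13, 3, [[], [14, 12, 8, 11], [12, 11, 7, 11, 4], [15, 13, 10, 4, 14]]⟩, ⟨2, [224, 230, 1763, 243, 145, 1687], 13, 3, [[], [6, 14, 6, 12], [7, 14, 4, 10, 7, 2], [15, 8, 4, 0, 10]]⟩, ⟨3, [1911, 231, 225], 17, 0, [[], [2, 0]]⟩, ⟨2, [142, 144, 186, 144, 264, 243, 187, 145, 186, 629], 13, 3, [[], [6, 14, 12, 15, 0], [6, 12, 7, 10, 2], [12, 8, 10, 4]]⟩, ⟨3, [1915, 225, 231], 17, 0, [[], [2, 0]]⟩, ⟨2, [243, 161, 88, 119, 65, 653], 13, 3, [[], [6, 9, 12, 4], [9, 12, 14, 9, 2], [0, 9, 4, 13]]⟩, ⟨3, [1919, 225,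 231], 17, 0, [[], [2, 0]]⟩, ⟨2, [230, 224, 724, 224, 230, 224, 243, 171], 13, 0, [[], [11, 6, 13, 13, 8], [7, 15, 10, 15, 0], [11, 4, 12, 9, 6]]⟩, ⟨3, [1923, 144, 186, 145], 17, 0, [[], [2, 0]]⟩, ⟨2, [224, 230, 243, 171, 144, 186, 143, 569], 13, 3, [[], [6, 11, 7, 15, 6], [15, 11, 9, 9, 2], [6, 13, 8, 13]]⟩, ⟨3, [1927, 231, 225], 17, 0, [[], [2, 0]]⟩, ⟨2, [224, 243, 186, 144, 187, 145, 415, 225, 231, 1913], 13, 3, [[], [8, 10, 7, 4, 2], [7, 15, 10, 14, 4], [4, 13, 13, 0]]⟩, ⟨3, [1931, 225], 17, 0, [[], [2, 0]]⟩, ⟨2, [224, 230, 243, 186, 144, 187, 145, 415, 225, 231, 267], 13, 3, [[], [11, 12, 12, 4, 9], [12, 14, 12], [10, 15, 9, 10, 4]]⟩, ⟨3, [1935, 225, 231], 17, 0, [[], [2, 0]]⟩, ⟨2, [1928, 230, 224, 243, 187, 1821], 13, 1, [[], [8, 4, 13, 4, 2], [14, 7, 8, 0, 8], [10, 7, 15, 15, 6]]⟩,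 ⟨3, [1939, 225], 17, 0, [[], [2, 0]]⟩, ⟨2, [1228, 224, 230, 224, 243, 145, 1329], 13, 1, [[], [9, 7], [4, 10, 10, 7, 2], [12, 15, 7, 10, 4]]⟩, ⟨3, [1943, 225, 231], 17, 0, [[], [2, 0]]⟩, ⟨2, [224, 230, 224, 1842, 224, 230, 243, 161], 14, 3, [[], [10, 6, 10, 15, 8], [12, 9, 11, 13], [13, 4, 12, 9]]⟩, ⟨3, [1947, 119, 88, 67], 17, 0, [[], [2, 0]]⟩, ⟨2, [230, 1652, 230, 224, 243, 240], 14, 3, [[], [9, 9, 14, 13, 2], [14, 8, 7, 9, 0], [13, 7, 8, 12]]⟩, ⟨3, [1951, 225, 231, 225], 17, 0, [[], [2, 0]]⟩, ⟨2, [224, 230, 1830, 243, 186, 144, 187, 145, 415], 14, 3, [[], [4, 8, 6, 2], [12, 8, 6, 2], [10, 6, 9, 4, 2]]⟩, ⟨2, [224, 301, 243, 187, 144, 186, 145, 415], 14, 3, [[], [8, 14, 11, 6, 12], [7, 4, 10, 4], [13, 7, 4, 9, 2]]⟩, ⟨3, [1957, 225, 231, 225], 17, 0, [[], [2, 0]]⟩, ⟨2, [230, 224, 1708,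 224, 230, 243, 790], 14, 3, [[], [4, 12, 7, 15, 2], [8, 0, 8, 13], [6, 9, 12, 9, 0]]⟩, ⟨3, [1961, 225], 17, 0, [[], [2, 0]]⟩, ⟨2, [960, 243, 385], 14, 3, [[], [15, 10, 9, 12, 0], [14, 11, 11, 11], [10, 15, 8, 7]]⟩, ⟨2, [224, 230, 224, 1652, 230, 243, 385], 14, 3, [[], [15, 8, 11, 15, 0], [12, 10, 7, 9, 13], [14, 10, 8, 11, 6]]⟩, ⟨3, [1967, 231, 225], 17, 0, [[], [2, 0]]⟩, ⟨2, [230, 224, 1580, 230, 224, 243, 187, 145, 186, 629], 14, 0, [[], [15, 8, 2, 14, 4], [12, 6, 12, 6, 2], [13, 14, 7]]⟩, ⟨3, [1971, 225, 231, 225], 17, 0, [[], [2, 0]]⟩, ⟨2, [142, 144, 1687, 230, 243, 145, 186, 143, 345], 14, 1, [[], [7, 15, 9, 12, 7], [10, 15, 7, 10, 7], [4, 8, 8, 13, 7]]⟩, ⟨3, [1975, 225, 231, 225], 17, 0, [[], [2, 0]]⟩, ⟨2, [224, 230, 224, 243, 144, 187, 1741, 225, 1165], 14, 0, [[], [7, 8, 10, 14],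 [10, 4, 10, 12], [12, 9, 15, 12, 6]]⟩, ⟨3, [1979, 225, 231], 17, 0, [[], [2, 0]]⟩, ⟨2, [224, 230, 243, 187, 145, 186, 1841, 961], 14, 0, [[], [14, 14, 12, 6, 4], [7, 15, 8, 4, 10, 0], [9, 6, 12, 9, 12]]⟩, ⟨3, [1983, 225, 231], 17, 0, [[], [2, 0]]⟩, ⟨2, [224, 230, 243, 143, 187, 1813, 225, 231, 1413], 14, 0, [[], [15, 12, 15, 6, 4], [15, 10, 13, 8, 0], [13, 6, 10, 12, 8]]⟩, ⟨3, [1987, 231, 225], 17, 0, [[], [2, 0]]⟩, ⟨2, [224, 1094, 230, 224, 243, 144, 143, 1511], 14, 1, [[], [15, 12, 12, 10], [14, 6, 11, 11], [15, 12, 12, 7]]⟩, ⟨3, [1991, 225, 231, 225], 17, 0, [[], [2, 0]]⟩, ⟨2, [230, 243, 186, 145, 187, 1749, 231, 1505], 15, 1, [[], [14, 9, 14, 7, 2], [13, 15, 6, 15, 2], [12, 15, 12, 11, 0]]⟩, ⟨3, [1995, 225], 17, 0, [[], [2, 0]]⟩, ⟨2, [224, 1460, 1476, 224, 230, 243], 15, 0, [[], [15,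 9, 13, 4, 11], [9, 9, 15, 4, 2], [8, 11, 15, 15, 2]]⟩, ⟨3, [1999, 186, 143, 187], 17, 0, [[], [2, 0]]⟩, ⟨2, [243, 145, 186, 144, 143, 921, 1543], 15, 2, [[], [7, 14, 8, 11, 6], [8, 8, 10, 6, 4], [10, 8, 8, 10, 2]]⟩, ⟨2, [230, 224, 1740, 142, 145, 186, 144, 1814, 224, 230, 243], 15, 0, [[], [14, 13, 8, 0, 8], [15, 11, 7, 15, 6], [4, 12, 7, 13, 2]]⟩, ⟨3, [2005, 144, 187, 145], 17, 0, [[], [2, 0]]⟩, ⟨2, [230, 243, 144, 191, 88, 65, 119, 1151], 15, 2, [[], [14, 12, 10, 4, 2], [10, 7, 9, 9, 0], [9, 9, 11, 14, 0]]⟩, ⟨3, [2009, 225, 231], 17, 0, [[], [2, 0]]⟩, ⟨2, [1796, 224, 230, 1698, 224, 230, 224, 243], 15, 0, [[], [8, 12, 7, 10, 4], [6, 4, 14, 8], [9, 4, 9, 12, 10]]⟩, ⟨3, [2013, 187, 143], 17, 0, [[], [2, 0]]⟩, ⟨2, [230, 224, 443, 224, 230, 243, 145, 143, 1687], 15, 3, [[], [4, 9, 13, 14],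 [9, 7, 11, 14], [12, 8, 15, 12, 12]]⟩, ⟨2, [230, 1017, 224, 230, 770, 224, 230, 224, 243], 15, 0, [[], [7, 4, 2, 14], [15, 11, 12, 7, 9], [13, 15, 9, 13, 0]]⟩, ⟨3, [2019, 144, 187], 17, 0, [[], [2, 0]]⟩, ⟨2, [187, 142, 145, 186, 782, 224, 243, 145, 1189], 15, 3, [[], [13, 8, 7, 13], [12, 15, 12, 4, 2], [10, 8, 10, 14, 9]]⟩, ⟨3, [2023, 225, 231], 17, 0, [[], [2, 0]]⟩, ⟨2, [224, 230, 224, 1914, 142, 186, 144, 187, 1822, 230, 224, 243], 15, 0, [[], [7, 8, 13, 6, 4], [14, 11, 14, 13, 0], [12, 9, 15, 0]]⟩, ⟨3, [2027, 144, 143], 17, 0, [[], [2, 0]]⟩, ⟨2, [230, 224, 243, 144, 252, 225, 231, 611], 15, 3, [[], [11, 14, 4, 9, 0], [9, 11, 13, 13, 7], [7, 10, 7, 4, 2]]⟩, ⟨3, [2031, 231], 17, 0, [[], [2, 0]]⟩, ⟨2, [230, 224, 243, 145, 187, 419, 225, 1177], 15, 3, [[], [9, 14, 12, 11, 2], [8, 10, 13,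 0, 10], [8, 8, 14, 11]]⟩, ⟨3, [2035, 225, 231, 225], 17, 0, [[], [2, 0]]⟩, ⟨2, [224, 243, 144, 186, 144, 143, 1793, 225, 231, 225, 907], 15, 3, [[], [14, 4, 2], [13, 6, 8, 6, 0], [13, 10, 15, 9, 4]]⟩, ⟨2, [224, 230, 224, 1150, 88, 88, 119, 294, 230, 224, 243], 15, 2, [[], [10, 14, 12, 8, 8], [14, 13, 15, 9, 6], [14, 10, 9, 13, 0]]⟩, ⟨3, [2041, 186, 143, 187], 17, 0, [[], [2, 0]]⟩, ⟨2, [127, 214, 124, 134, 258, 230, 243, 187, 145, 186, 1133], 15, 1, [[], [7, 14, 8, 4, 8], [8, 15, 11, 7, 2], [8, 13, 7, 4]]⟩, ⟨3, [2045, 225, 231], 17, 0, [[], [2, 0]]⟩, ⟨2, [224, 230, 224, 243, 186, 144, 187, 145, 1051, 225, 939], 15, 0, [[], [4, 15, 15, 4, 2], [11, 11, 15, 8, 0], [9, 14, 7, 10, 0]]⟩, ⟨3, [2049, 144, 187, 144], 17, 0, [[], [2, 0]]⟩, ⟨2, [224, 230, 766, 187, 144, 186, 1488, 224, 243], 15,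 2, [[], [15, 13, 9, 4, 2], [11, 9, 15], [4, 8, 12, 7]]⟩, ⟨3, [2053, 144, 187], 17, 0, [[], [2, 0]]⟩, ⟨2, [230, 1760, 230, 243, 145, 186, 144, 143, 2029], 15, 1, [[], [12, 4, 15, 15], [11, 8, 13, 10], [14, 12, 9, 11, 4]]⟩, ⟨3, [2057, 231], 17, 0, [[], [2, 0]]⟩, ⟨2, [230, 1784, 2006, 142, 144, 244], 0, 3, [[], [13, 8, 6], [10, 13, 10, 6, 4], [8, 13, 14, 12, 0]]⟩, ⟨3, [2061, 231, 225], 17, 0, [[], [2, 0]]⟩, ⟨2, [230, 224, 1416, 2006, 142, 144, 244], 0, 0, [[], [4, 12, 4, 8, 0], [11, 15, 13, 14], [7, 9, 4, 9, 7]]⟩, ⟨3, [2065, 231, 225], 17, 0, [[], [2, 0]]⟩, ⟨2, [224, 230, 224, 1598, 224, 1080, 142, 145, 187, 244], 1, 3, [[], [9, 11, 15, 10, 0], [15, 9, 6, 15, 6], [9, 12, 9, 13, 9]]⟩, ⟨3, [2069, 231, 225], 17, 0, [[], [2, 0]]⟩, ⟨2, [187, 142, 244, 231, 225, 2071, 577], 1, 1, [[], [9, 11,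 7, 12], [12, 15, 6], [7, 9, 4, 12, 12]]⟩, ⟨3, [2073, 225, 231, 225], 17, 0, [[], [2, 0]]⟩, ⟨2, [224, 230, 834, 186, 144, 244, 273], 1, 2, [[], [11, 13, 10, 0], [6, 4, 9, 7, 9], [6, 11, 4, 9, 0]]⟩, ⟨3, [2077, 118, 89, 119], 17, 0, [[], [2, 0]]⟩, ⟨2, [144, 186, 145, 244, 273, 67, 63, 349], 1, 1, [[], [11, 8, 4, 8, 10], [8, 7, 8, 6, 2], [10, 10, 6, 10, 15]]⟩, ⟨2, [230, 224, 1788, 142, 187, 145, 186, 244, 225, 231, 225, 2067], 1, 2, [[], [8, 10, 10, 13, 7, 0], [13, 13, 7, 9], [9, 13, 8, 6]]⟩, ⟨3, [2083, 231, 225], 17, 0, [[], [2, 0]]⟩, ⟨2, [230, 224, 912, 142, 145, 187, 144, 244, 231, 225, 1939], 1, 2, [[], [13, 9, 9, 7], [13, 6, 12, 11, 0], [14, 10, 15, 9, 2]]⟩, ⟨3, [2087, 231, 225], 17, 0, [[], [2, 0]]⟩, ⟨2, [230, 476, 145, 244, 225, 231, 295], 1, 0, [[], [8, 8, 7, 13], [4, 8, 7, 9, 4],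 [12, 14, 8, 6]]⟩, ⟨3, [2091, 88, 69, 119], 17, 0, [[], [2, 0]]⟩, ⟨2, [224, 1912, 224, 230, 224, 414, 145, 244], 1, 1, [[], [14, 9, 4, 11, 6], [10, 15, 13, 4], [8, 14, 6, 0]]⟩, ⟨2, [1852, 230, 224, 414, 145, 244], 1, 1, [[], [13, 10, 12, 2, 11], [12, 0, 10, 13], [7, 8, 6, 14, 10]]⟩, ⟨3, [2097, 231], 17, 0, [[], [2, 0]]⟩, ⟨2, [224, 230, 2006, 244, 397], 1, 1, [[], [6, 13, 14, 4, 0], [15, 7, 9, 2], [14, 11, 0]]⟩, ⟨3, [2101, 225], 17, 0, [[], [2, 0]]⟩, ⟨2, [1780, 145, 187, 145, 244, 231, 225, 2071], 1, 1, [[], [10, 7, 4, 9, 0], [11, 7, 13], [9, 12, 8, 8, 8]]⟩, ⟨3, [2105, 225, 231, 225], 17, 0, [[], [2, 0]]⟩, ⟨2, [224, 230, 224, 614, 127, 214, 127, 152, 145, 244], 1, 2, [[], [14, 14, 7, 8, 8], [9, 15, 9, 13, 10], [10, 6, 15, 12, 7]]⟩, ⟨3, [2109, 225, 231, 225], 17, 0, [[], [2, 0]]⟩, ⟨2, [186,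 144, 187, 150, 145, 244, 231, 225, 2063], 1, 1, [[], [10, 6, 14, 10, 6, 2], [14, 6, 12, 7, 0], [13, 4, 15, 13, 4]]⟩, ⟨2, [224, 230, 1450, 126, 138, 138, 214, 126, 152, 145, 244], 1, 2, [[], [9, 9, 7], [10, 14, 4, 14, 11], [4, 10, 9, 15, 11]]⟩, ⟨3, [2115, 225, 231, 225], 17, 0, [[], [2, 0]]⟩, ⟨2, [224, 230, 2006, 244, 231, 225, 1939], 1, 1, [[], [11, 7, 14, 7, 8], [11, 9, 11, 2], [4, 11, 7, 12]]⟩, ⟨3, [2119, 225], 17, 0, [[], [2, 0]]⟩, ⟨2, [64, 88, 118, 88, 160, 145, 244, 231, 225, 2067], 1, 1, [[], [13, 7, 2, 15, 12], [7, 13, 2, 15, 13], [6, 9, 4, 8, 4]]⟩, ⟨3, [2123, 225, 231], 17, 0, [[], [2, 0]]⟩, ⟨2, [144, 186, 142, 244, 231, 225, 2117, 225, 231, 1003], 1, 0, [[], [9, 11, 6, 14, 2], [7, 14, 13], [9, 9, 9, 7]]⟩, ⟨3, [2127, 225, 231], 17, 0, [[], [2, 0]]⟩, ⟨2, [230, 1100, 244, 225, 231,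 225, 1027], 3, 2, [[], [13, 8, 11, 12, 0], [4, 8, 15, 11], [13, 4, 12, 4, 2, 0]]⟩, ⟨3, [2131, 225], 17, 0, [[], [2, 0]]⟩, ⟨2, [224, 230, 224, 2132, 224, 230, 1292, 186, 142, 187, 244], 3, 3, [[], [13, 10, 13, 13, 4, 0], [11, 9, 10, 12, 4], [12, 11, 15, 4, 8]]⟩, ⟨3, [2135, 231, 225], 17, 0, [[], [2, 0]]⟩, ⟨2, [230, 224, 2014, 142, 144, 244, 231, 225, 1877], 3, 3, [[], [14, 14, 6, 13, 8], [14, 9, 4, 15, 0], [14, 14, 8, 14, 14]]⟩, ⟨3, [2139, 225, 231], 17, 0, [[], [2, 0]]⟩, ⟨2, [144, 186, 144, 244, 231, 225, 813], 6, 1, [[], [15, 13, 10, 6], [15, 8, 15, 10, 9]]⟩, ⟨3, [2143, 231], 17, 0, [[], [2, 0]]⟩, ⟨2, [187, 145, 186, 244, 225, 231, 225, 1283], 6, 1, [[], [7, 9, 11, 14, 4], [15, 4, 13, 8]]⟩, ⟨3, [2147, 225, 231], 17, 0, [[], [2, 0]]⟩, ⟨2, [230, 224, 1432, 186, 142, 187, 244], 6, 0, [[],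 [7, 11, 6, 15, 0], [7, 14, 10, 9, 9]]⟩, ⟨3, [2151, 225, 231, 225], 17, 0, [[], [2, 0]]⟩, ⟨2, [230, 754, 187, 145, 186, 244], 6, 1, [[], [13, 7, 4, 8, 4], [7, 9, 13, 7, 8]]⟩, ⟨3, [2155, 225, 231, 225], 17, 0, [[], [2, 0]]⟩, ⟨2, [145, 187, 144, 244, 225, 231, 225, 1877], 6, 0, [[], [15, 6, 9, 4, 0], [4, 11, 13, 8]]⟩, ⟨2, [224, 230, 224, 2126, 144, 186, 144, 244, 231, 225, 2067], 7, 2, [[], [14, 13, 10, 9, 2], [14, 10, 12, 4], [8, 7, 9]]⟩, ⟨3, [2161, 225], 17, 0, [[], [2, 0]]⟩, ⟨2, [224, 230, 224, 2126, 144, 186, 142, 244, 225, 231, 225, 2063], 7, 3, [[], [15, 9, 14, 4, 10, 0], [8, 12, 9, 4, 10], [8, 8, 13, 2]]⟩, ⟨3, [2165, 231], 17, 0, [[], [2, 0]]⟩, ⟨2, [224, 230, 1780, 145, 187, 145, 244, 225, 231, 225, 1939], 7, 3, [[], [15, 10, 7, 8, 0], [6, 9, 7, 14, 2], [4, 2, 14, 13]]⟩, ⟨3, [2169,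 231, 225], 17, 0, [[], [2, 0]]⟩, ⟨2, [186, 142, 187, 244, 225, 231, 225, 2067, 439], 8, 2, [[], [11, 7, 11, 11, 0], [7, 12, 10, 8, 4, 0], [4, 9, 6, 13]]⟩, ⟨2, [1292, 186, 142, 187, 244, 231, 225, 2063], 8, 3, [[], [8, 4, 11, 7, 2], [15, 15, 8, 8, 8], [12, 15, 12]]⟩, ⟨3, [2175, 231], 17, 0, [[], [2, 0]]⟩, ⟨2, [362, 142, 144, 244, 225, 231, 225, 2067], 8, 3, [[], [13, 6, 8, 13, 8], [11, 9, 6, 15], [10, 7, 13, 9, 4]]⟩, ⟨3, [2179, 225], 17, 0, [[], [2, 0]]⟩, ⟨2, [244, 231, 225, 475, 225, 231, 225, 1455], 8, 3, [[], [10, 13, 15, 10, 9], [4, 9, 12, 6, 0], [11, 14, 6, 14, 0]]⟩, ⟨3, [2183, 225], 17, 0, [[], [2, 0]]⟩, ⟨2, [2006, 142, 144, 244, 225, 231, 225, 725], 9, 3, [[], [11, 9, 4, 14, 2], [6, 12, 14, 8, 0], [8, 10, 13, 8]]⟩, ⟨2, [1780, 142, 145, 187, 145, 244, 225, 231, 225, 2117], 9, 0,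 [[], [8, 13, 2, 11, 4], [11, 15, 15, 7, 2], [11, 7, 10, 13, 6]]⟩, ⟨2, [224, 230, 224, 2182, 244, 231, 225, 1939], 9, 0, [[], [11, 12, 15, 13, 8], [6, 14, 8, 15, 6], [13, 6, 13, 2, 0]]⟩, ⟨3, [2191, 225, 231, 225], 17, 0, [[], [2, 0]]⟩, ⟨2, [224, 840, 187, 145, 186, 244, 231, 225, 2071], 9, 1, [[], [11, 13, 15, 8], [10, 10, 15, 12, 7], [9, 7, 8, 13, 2]]⟩, ⟨3, [2195, 225, 231], 17, 0, [[], [2, 0]]⟩, ⟨2, [187, 145, 186, 244, 231, 225, 2063, 225, 231, 225, 1455], 9, 0, [[], [14, 6, 9, 13, 9], [10, 9, 14, 14], [14, 10, 4, 12]]⟩, ⟨3, [2199, 231], 17, 0, [[], [2, 0]]⟩, ⟨2, [224, 230, 1734, 142, 144, 244, 225, 231, 225, 1939], 9, 1, [[], [8, 4, 8, 6, 2], [9, 7, 2, 14], [14, 9, 15, 10, 7]]⟩, ⟨3, [2203, 225, 231], 17, 0, [[], [2, 0]]⟩, ⟨2, [224, 230, 1032, 230, 1202, 244], 9, 2, [[], [15, 10, 12,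 15, 9], [9, 14, 6, 13, 4], [8, 8, 8, 4]]⟩, ⟨3, [2207, 231, 225], 17, 0, [[], [2, 0]]⟩, ⟨2, [224, 2182, 244, 337], 10, 0, [[], [9, 13, 4, 8, 12], [14, 13, 10, 0, 10], [14, 8, 11, 12, 7]]⟩, ⟨2, [224, 230, 802, 244, 231, 225, 2117], 10, 1, [[], [12, 7, 12, 2, 0], [14, 11, 9, 9, 4], [6, 12, 11, 8, 13]]⟩, ⟨2, [224, 230, 2142, 144, 186, 142, 244, 231, 225, 2063], 10, 1, [[], [4, 8, 7, 9, 4, 0], [6, 11, 13, 11, 2], [15, 6, 9, 11]]⟩, ⟨2, [142, 144, 186, 150, 144, 187, 144, 244, 225, 231, 225, 2145], 11, 2, [[], [4, 13, 13, 6], [12, 4, 2, 15], [8, 15, 15, 6, 11]]⟩, ⟨3, [2217, 144, 186, 144], 17, 0, [[], [2, 0]]⟩, ⟨2, [224, 532, 224, 230, 1680, 144, 186, 145, 244], 11, 3, [[], [6, 4, 15, 12, 6], [13, 15, 9, 12, 0], [12, 6, 10, 7]]⟩, ⟨3, [2221, 225, 231, 225], 17, 0, [[], [2, 0]]⟩, ⟨2, [186, 145,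 2216, 144, 186, 142, 244, 225, 231, 225, 881], 11, 0, [[], [9, 14, 14, 11], [11, 13, 7, 8, 6], [7, 10, 13, 4, 0]]⟩, ⟨3, [2225, 225, 231, 225], 17, 0, [[], [2, 0]]⟩, ⟨2, [224, 230, 774, 186, 145, 187, 244, 925], 11, 0, [[], [4, 11, 4, 14, 6], [11, 11, 13], [4, 14, 7, 4, 2]]⟩, ⟨3, [2229, 225], 17, 0, [[], [2, 0]]⟩, ⟨2, [124, 126, 138, 138, 152, 144, 186, 144, 244, 225, 231, 225, 1617], 11, 1, [[], [13, 11, 14, 12, 0], [9, 4, 9, 4, 0], [13, 15, 2, 11]]⟩, ⟨3, [2233, 225], 17, 0, [[], [2, 0]]⟩, ⟨2, [224, 230, 224, 1446, 124, 126, 139, 152, 145, 244], 13, 3, [[], [4, 10, 9, 15, 2], [14, 4, 8, 8, 4, 2], [15, 13, 4, 0]]⟩, ⟨3, [2237, 225, 231], 17, 0, [[], [2, 0]]⟩, ⟨2, [237, 244, 225, 231, 225, 2117], 13, 3, [[], [6, 11, 15, 11], [12, 7, 11, 9, 4], [7, 9, 14, 11, 7]]⟩, ⟨3, [2241, 231], 17, 0,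 [[], [2, 0]]⟩, ⟨2, [2006, 244, 398], 13, 3, [[], [4, 11, 4, 13, 2], [11, 11, 6, 8, 2], [11, 7, 10, 0, 10]]⟩, ⟨2, [224, 230, 476, 145, 244, 225, 231, 225, 1939], 13, 3, [[], [14, 7, 4, 14, 2], [13, 7, 11, 9, 6], [12, 9, 15, 4, 0]]⟩, ⟨2, [224, 2182, 142, 144, 244, 398], 13, 3, [[], [6, 14, 11, 9, 6], [15, 8, 11, 4, 2], [13, 8, 7, 15, 6]]⟩, ⟨3, [2249, 225], 17, 0, [[], [2, 0]]⟩, ⟨2, [145, 187, 144, 244, 253, 145, 187, 145, 143, 2081], 13, 2, [[], [11, 13, 0, 8], [6, 14, 6, 15, 0], [10, 13, 4, 11, 6]]⟩, ⟨3, [2253, 231, 225], 17, 0, [[], [2, 0]]⟩, ⟨2, [144, 150, 145, 244, 231, 225, 2071], 13, 3, [[], [12, 4, 13, 7, 4], [11, 13, 6, 11, 6], [11, 13, 10, 9, 6]]⟩, ⟨3, [2257, 225], 17, 0, [[], [2, 0]]⟩, ⟨2, [2006, 244, 231, 225, 2117], 13, 3, [[], [14, 8, 4, 13, 8], [14, 13, 11, 9], [13, 8, 14,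 13, 11]]⟩, ⟨3, [2261, 225], 17, 0, [[], [2, 0]]⟩, ⟨2, [224, 230, 224, 2252, 145, 187, 144, 244, 397], 13, 3, [[], [6, 11, 14, 13, 11], [14, 8, 10, 10, 2], [4, 14, 10, 10, 0]]⟩, ⟨3, [2265, 231], 17, 0, [[], [2, 0]]⟩, ⟨2, [224, 730, 66, 118, 89, 160, 145, 244], 13, 0, [[], [11, 9, 4, 14, 0], [8, 2, 14], [9, 9, 11, 15]]⟩, ⟨3, [2269, 231, 225], 17, 0, [[], [2, 0]]⟩, ⟨2, [224, 2006, 142, 144, 244, 225, 231, 225, 2209], 13, 3, [[], [12, 15, 8, 14, 10], [11, 14, 14, 6, 13], [9, 7, 8, 4, 10]]⟩, ⟨3, [2273, 231, 225], 17, 0, [[], [2, 0]]⟩, ⟨2, [224, 230, 2252, 145, 187, 144, 244, 225, 231, 225, 2271], 13, 3, [[], [10, 4, 9, 7, 0], [15, 11, 11, 12, 2], [12, 4, 8, 8, 0]]⟩, ⟨2, [187, 145, 186, 244, 273, 69, 118, 65, 795], 13, 2, [[], [8, 12, 12, 14, 0], [7, 8, 6, 8, 6], [14, 0]]⟩, ⟨3, [2279, 231,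 225], 17, 0, [[], [2, 0]]⟩, ⟨2, [230, 224, 237, 244, 225, 231, 225, 2209], 13, 3, [[], [12, 15, 2], [12, 10, 6, 10, 8], [7, 11, 15, 11, 7, 2]]⟩, ⟨3, [2283, 231], 17, 0, [[], [2, 0]]⟩, ⟨2, [230, 224, 2252, 145, 187, 144, 244, 303], 13, 3, [[], [13, 14, 8, 11, 7], [6, 13, 7, 8, 8], [14, 9, 9, 11, 0]]⟩, ⟨3, [2287, 225, 231, 225], 17, 0, [[], [2, 0]]⟩, ⟨2, [1780, 142, 145, 187, 145, 244, 225, 231, 225, 2271], 13, 3, [[], [13, 13, 15, 2], [4, 15, 10], [4, 12, 8, 6, 0]]⟩, ⟨3, [2291, 225, 231], 17, 0, [[], [2, 0]]⟩, ⟨2, [224, 230, 224, 2126, 144, 186, 142, 244, 225, 231, 225, 2117], 13, 3, [[], [15, 15, 8, 7, 11], [7, 9, 14, 6, 4], [13, 10, 15, 8, 6]]⟩, ⟨3, [2295, 225], 17, 0, [[], [2, 0]]⟩, ⟨2, [144, 187, 145, 186, 244, 231, 225, 2067, 2061], 13, 3, [[], [6, 13, 11, 14], [15, 8, 6, 13, 2],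 [8, 13, 9, 7]]⟩, ⟨2, [224, 230, 224, 2112, 142, 145, 244, 225, 231, 225, 2117], 13, 0, [[], [4, 14, 11, 6, 2], [14, 7, 12, 12, 0], [9, 9, 7, 8]]⟩, ⟨2, [230, 224, 1780, 187, 142, 145, 186, 244, 273], 13, 0, [[], [4, 11, 11, 4, 2], [6, 14, 14, 6, 9], [14, 13, 13, 10, 9]]⟩, ⟨3, [2303, 67, 65, 61], 17, 0, [[], [2, 0]]⟩, ⟨2, [142, 186, 244, 273, 89, 118, 67, 1659], 13, 3, [[], [15, 8, 8, 10, 4, 0], [6, 11, 11, 13, 2], [8, 13, 6, 14, 4]]⟩, ⟨3, [2307, 225], 17, 0, [[], [2, 0]]⟩, ⟨2, [1890, 186, 142, 187, 244, 231, 225, 2117], 13, 0, [[], [7, 13, 4, 10, 4], [15, 10, 9, 10], [13, 13, 10, 9]]⟩, ⟨2, [224, 230, 1120, 145, 187, 244, 225, 231, 225, 2111], 13, 0, [[], [13, 8, 14, 8, 2], [12, 8, 11, 2], [11, 8, 13, 10, 0]]⟩, ⟨3, [2313, 225, 231, 225], 17, 0, [[], [2, 0]]⟩, ⟨2, [186, 145, 244, 231, 225,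 2271, 225, 231, 225, 815], 13, 3, [[], [15, 7, 11, 6], [7, 14, 0, 8, 13], [10, 4, 9, 15]]⟩, ⟨2, [224, 230, 224, 1812, 142, 145, 244, 225, 231, 225, 2117], 13, 0, [[], [12, 11, 9, 14], [6, 15, 9, 13], [14, 7, 15, 7, 0]]⟩, ⟨2, [230, 224, 2158, 145, 186, 145, 244, 225, 231, 225, 2111], 13, 0, [[], [10, 14, 7, 13, 4], [15, 7, 12, 12, 2], [12, 12, 15, 15]]⟩, ⟨3, [2321, 225, 231], 17, 0, [[], [2, 0]]⟩, ⟨2, [224, 230, 224, 344, 187, 145, 244, 225, 231, 225, 2063], 13, 0, [[], [6, 9, 15, 13, 8, 0], [14, 7, 15, 7, 0], [15, 13, 10, 14, 10, 2]]⟩, ⟨3, [2325, 231, 225], 17, 0, [[], [2, 0]]⟩, ⟨2, [224, 230, 2252, 145, 187, 144, 244, 231, 1787], 14, 2, [[], [8, 14, 11, 13, 7, 2], [9, 13, 6, 10, 6], [4, 15, 4, 13, 10]]⟩, ⟨3, [2329, 186, 144], 17, 0, [[], [2, 0]]⟩, ⟨2, [2252, 142, 145, 187, 244, 225,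 231, 225, 1827], 14, 2, [[], [4, 14, 8, 15, 10], [11, 9, 9, 12, 7], [7, 8, 6, 4, 2]]⟩, ⟨3, [2333, 231, 225], 17, 0, [[], [2, 0]]⟩, ⟨2, [224, 2252, 145, 187, 144, 244, 231, 225, 2067], 14, 3, [[], [9, 12, 12, 11, 4], [14, 13, 13, 10, 0], [15, 9, 7, 11, 12, 0]]⟩, ⟨3, [2337, 231, 225], 17, 0, [[], [2, 0]]⟩, ⟨2, [230, 224, 1222, 145, 187, 144, 244, 225, 231, 225, 2209], 14, 0, [[], [15, 9, 12, 0], [8, 11, 13, 13, 9, 4], [7, 11, 13, 10, 4]]⟩, ⟨3, [2341, 231], 17, 0, [[], [2, 0]]⟩, ⟨2, [230, 1924, 145, 186, 145, 244, 231, 225, 2117], 14, 0, [[], [6, 13, 10, 4], [13, 7, 0, 10, 6], [13, 10, 6, 2]]⟩, ⟨2, [1680, 142, 145, 186, 144, 244, 231, 225, 1939], 14, 0, [[], [7, 11, 8, 15, 2], [4, 13, 14, 8, 2], [6, 10, 9, 0]]⟩, ⟨3, [2347, 225], 17, 0, [[], [2, 0]]⟩, ⟨2, [224, 1572, 144, 186, 145, 244, 231,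 225, 2271], 14, 0, [[], [7, 13, 10, 4], [11, 6, 10, 7, 2], [11, 6, 13, 6, 2]]⟩, ⟨3, [2351, 231, 225], 17, 0, [[], [2, 0]]⟩, ⟨2, [230, 1190, 144, 187, 244, 231, 225, 2111], 14, 0, [[], [10, 6, 15, 7], [14, 13, 11, 14, 7], [13, 4, 0]]⟩, ⟨3, [2355, 231], 17, 0, [[], [2, 0]]⟩, ⟨2, [230, 1788, 187, 142, 145, 186, 244, 225, 231, 225, 2111], 14, 0, [[], [15, 11, 7, 15, 7], [4, 8, 10, 15, 9], [7, 10, 6, 8, 2]]⟩, ⟨3, [2359, 231, 225], 17, 0, [[], [2, 0]]⟩, ⟨2, [224, 230, 224, 253, 186, 144, 187, 244, 225, 231, 225, 2271], 14, 0, [[], [15, 9, 6, 15], [12, 9, 4, 9, 6, 0], [11, 15, 6, 10, 2]]⟩, ⟨3, [2363, 225, 231, 225], 17, 0, [[], [2, 0]]⟩, ⟨2, [230, 224, 2006, 186, 145, 244, 225, 231, 225, 2209], 14, 0, [[], [14, 11, 6, 0], [6, 14, 8, 6], [8, 6, 15, 12, 0]]⟩, ⟨3, [2367, 225], 17, 0, [[], [2, 0]]⟩,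 ⟨2, [224, 253, 144, 187, 244, 231, 225, 2063], 14, 0, [[], [6, 9, 14, 4, 8], [8, 6, 13, 4, 9], [7, 4, 10, 15, 10]]⟩, ⟨2, [224, 1222, 142, 145, 187, 244, 225, 2310], 14, 1, [[], [10, 9, 2, 14], [15, 13, 6, 4, 0], [9, 4, 12, 2]]⟩, ⟨2, [230, 224, 1648, 224, 230, 224, 1068, 187, 144, 244], 15, 3, [[], [7, 4, 14, 8], [14, 6, 9, 15, 0], [13, 11, 12, 14]]⟩, ⟨3, [2375, 225, 231, 225], 17, 0, [[], [2, 0]]⟩, ⟨2, [230, 224, 1856, 142, 186, 144, 244, 231, 225, 1251], 15, 2, [[], [7, 4, 15, 9, 12], [8, 14, 12, 15], [6, 10, 4, 15, 11]]⟩, ⟨2, [142, 187, 151, 198, 144, 186, 145, 244], 15, 3, [[], [14, 4, 10, 12, 0], [13, 11, 8, 12, 0], [11, 9, 9, 11]]⟩, ⟨2, [224, 1402, 145, 187, 145, 244, 231, 225, 1680], 15, 2, [[], [4, 8, 12, 4], [14, 11, 7, 12], [15, 10, 4, 15, 2]]⟩, ⟨3, [2383, 145], 17, 0, [[], [2,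 0]]⟩, ⟨2, [145, 187, 144, 244, 225, 231, 225, 1347, 365], 15, 1, [[], [9, 11, 13, 15, 7], [15, 4, 2], [12, 14, 11, 6, 2]]⟩, ⟨3, [2387, 231, 225], 17, 0, [[], [2, 0]]⟩, ⟨2, [224, 230, 224, 1872, 186, 145, 244, 225, 1787], 15, 2, [[], [13, 15, 7], [11, 8, 12, 6], [13, 14, 9, 4, 0]]⟩, ⟨3, [2391, 187, 145], 17, 0, [[], [2, 0]]⟩, ⟨2, [224, 1019, 224, 230, 224, 2022, 144, 187, 145, 244], 15, 0, [[], [8, 10, 10, 4], [10, 10, 15], [9, 10, 8, 13, 9]]⟩, ⟨3, [2395, 231, 225], 17, 0, [[], [2, 0]]⟩, ⟨2, [224, 230, 1668, 224, 230, 224, 1924, 145, 186, 145, 244], 15, 0, [[], [10, 4, 15, 4, 0], [7, 14, 10, 4, 0], [9, 9, 12, 7, 4]]⟩, ⟨3, [2399, 225], 17, 0, [[], [2, 0]]⟩, ⟨2, [224, 230, 224, 754, 186, 145, 187, 244, 1691], 15, 3, [[], [15, 4, 11, 7, 15, 0], [7, 9, 12, 14, 8], [11, 11, 15, 9, 6]]⟩, ⟨3,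 [2403, 225, 231, 225], 17, 0, [[], [2, 0]]⟩, ⟨2, [1840, 244, 225, 231, 225, 2187], 15, 3, [[], [12, 11, 12, 14], [12, 4, 13, 6], [7, 12, 11, 6, 8]]⟩, ⟨3, [2407, 225, 231], 17, 0, [[], [2, 0]]⟩, ⟨2, [224, 230, 224, 2072, 187, 144, 244, 231, 1313], 15, 3, [[], [8, 15, 2, 11, 4], [10, 13, 8, 8], [7, 14, 11, 0]]⟩, ⟨3, [2411, 225, 231], 17, 0, [[], [2, 0]]⟩, ⟨2, [230, 224, 1722, 142, 187, 145, 244, 2371], 15, 1, [[], [15, 8, 12, 4, 2], [15, 12, 8, 6], [7, 13, 11, 12, 7]]⟩, ⟨2, [62, 89, 68, 226, 2028, 142, 186, 144, 187, 244], 15, 2, [[], [13, 8, 11, 6], [11, 8, 15, 0], [15, 9, 10, 6]]⟩, ⟨3, [2417, 231, 225], 17, 0, [[], [2, 0]]⟩, ⟨2, [224, 230, 2060, 224, 2142, 142, 145, 187, 145, 244], 15, 2, [[], [7, 15, 11, 8], [12, 14, 7, 9, 4], [15, 11, 14, 4, 2]]⟩, ⟨3, [2421, 225], 17, 0, [[], [2, 0]]⟩,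 ⟨2, [224, 230, 1938, 224, 230, 224, 246, 145, 2183], 0, 2, [[], [13, 6, 14, 6, 2], [14, 13, 11], [10, 8, 6, 12, 0]]⟩, ⟨3, [2425, 225], 17, 0, [[], [2, 0]]⟩, ⟨2, [224, 230, 2116, 224, 230, 246, 144, 143, 2183], 0, 3, [[], [7, 9, 13, 11, 2], [12, 4, 8, 12, 15, 0], [13, 13, 14, 7, 4]]⟩, ⟨3, [2429, 225], 17, 0, [[], [2, 0]]⟩, ⟨2, [446, 2208, 224, 230, 224, 246], 0, 0, [[], [11, 7, 13, 6, 8], [4, 12, 2, 14, 7], [15, 10, 14, 0, 9]]⟩, ⟨3, [2433, 144, 143, 186], 17, 0, [[], [2, 0]]⟩, ⟨2, [230, 1604, 142, 144, 186, 144, 1822, 246], 1, 3, [[], [15, 13, 7, 10], [6, 10, 0], [9, 4, 13, 13, 0]]⟩, ⟨3, [2437, 186, 143, 187, 144], 17, 0, [[], [2, 0]]⟩, ⟨2, [1042, 224, 230, 246, 187, 144, 186, 145, 2279], 1, 2, [[], [14, 12, 12, 8, 2], [12, 14, 4, 10, 4], [13, 8, 11, 9, 0]]⟩, ⟨3, [2441, 225], 17, 0, [[],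 [2, 0]]⟩, ⟨2, [142, 145, 186, 2432, 224, 246, 144, 143, 2183], 1, 2, [[], [8, 11, 6], [10, 4, 15, 7], [6, 13, 10, 4]]⟩, ⟨2, [224, 1986, 224, 246, 145, 2183], 1, 2, [[], [11, 8, 11, 9, 4], [13, 10, 13, 0, 10], [13, 13, 9, 10, 2]]⟩, ⟨2, [224, 230, 1717, 224, 230, 224, 246, 186, 144, 1781], 1, 2, [[], [12, 12, 12, 7], [13, 9, 14, 8], [9, 4, 8, 15]]⟩, ⟨3, [2449, 225, 231], 17, 0, [[], [2, 0]]⟩, ⟨2, [230, 224, 246, 144, 143, 2183, 225, 1245], 1, 1, [[], [9, 4, 9, 6, 4], [11, 15, 13, 6, 8], [11, 15, 15, 6, 2]]⟩, ⟨3, [2453, 143, 186], 17, 0, [[], [2, 0]]⟩, ⟨2, [144, 186, 145, 187, 1610, 224, 230, 224, 246, 186, 145, 785], 1, 3, [[], [7, 15, 10, 7, 9], [13, 9, 14, 10], [15, 13, 10, 7, 4]]⟩, ⟨3, [2457, 231, 225], 17, 0, [[], [2, 0]]⟩, ⟨2, [224, 230, 224, 1340, 224, 246, 144, 187, 205], 1, 3, [[],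 [11, 12, 12, 10, 14], [7, 12, 12, 0], [13, 8, 11, 15, 2]]⟩, ⟨3, [2461, 89, 67], 17, 0, [[], [2, 0]]⟩, ⟨2, [224, 230, 224, 1346, 224, 230, 246, 186, 144, 2143], 1, 3, [[], [7, 10, 15], [10, 9, 10, 7], [15, 6, 9, 6]]⟩, ⟨3, [2465, 231, 225], 17, 0, [[], [2, 0]]⟩, ⟨2, [2066, 224, 230, 224, 246, 143, 187, 144, 1899], 1, 0, [[], [10, 10, 12, 9, 7], [11, 14, 6, 13], [12, 6, 14, 8]]⟩, ⟨3, [2469, 225, 231], 17, 0, [[], [2, 0]]⟩, ⟨2, [224, 399, 246, 187, 144, 186, 145, 2279], 1, 1, [[], [6, 15, 15, 8, 6], [15, 15, 4, 15, 2], [7, 14, 8, 10, 0]]⟩, ⟨3, [2473, 231], 17, 0, [[], [2, 0]]⟩, ⟨2, [2062, 224, 230, 246, 186, 144, 1781], 1, 1, [[], [6, 9, 13, 9], [4, 14, 12, 10], [11, 15, 7, 0, 9]]⟩, ⟨2, [302, 246, 144, 187, 145, 2127], 1, 1, [[], [12, 4, 14, 4, 0], [15, 13, 6, 4, 2], [6, 12, 15, 15, 2]]⟩,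 ⟨3, [2479, 225, 231, 225], 17, 0, [[], [2, 0]]⟩, ⟨2, [224, 230, 224, 246, 145, 186, 144, 143, 2159, 225, 231, 2141], 3, 1, [[], [10, 8, 13, 14, 6], [14, 6, 2, 15, 4], [4, 14, 2, 11]]⟩, ⟨3, [2483, 231, 225], 17, 0, [[], [2, 0]]⟩, ⟨2, [230, 812, 224, 230, 246, 187, 144, 143, 2143], 3, 2, [[], [15, 9, 7, 11, 4], [11, 14, 10, 15, 7, 0], [7, 11, 7, 11, 0]]⟩, ⟨2, [224, 230, 224, 246, 187, 144, 186, 145, 2173], 6, 1, [[], [7, 12, 6, 0], [0, 8, 7, 4]]⟩, ⟨2, [224, 2208, 224, 230, 224, 246, 144, 186, 144, 2253], 7, 2, [[], [7, 8, 6, 4], [9, 4, 14, 6, 4], [13, 14, 7, 14]]⟩, ⟨3, [2491, 231, 225], 17, 0, [[], [2, 0]]⟩, ⟨2, [224, 2110, 224, 230, 246, 145, 186, 2435], 7, 2, [[], [15, 4, 14, 4, 2], [11, 11, 14, 2], [8, 4, 0, 9]]⟩, ⟨2, [224, 2270, 224, 230, 246, 186, 143, 187, 144, 2439], 7, 3, [[], [8,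 8, 4, 13], [7, 13, 13, 15, 10], [6, 14, 13, 4]]⟩, ⟨3, [2497, 225], 17, 0, [[], [2, 0]]⟩, ⟨2, [224, 230, 224, 318, 224, 230, 246, 187, 144, 143, 2127], 8, 3, [[], [10, 7, 14, 10], [7, 13, 10, 6, 2], [6, 13, 15, 8]]⟩, ⟨3, [2501, 225, 231], 17, 0, [[], [2, 0]]⟩, ⟨2, [224, 230, 224, 2062, 224, 230, 246, 145, 2007], 9, 0, [[], [9, 13, 7, 13, 10], [8, 12, 7, 2], [8, 14, 10, 10, 9]]⟩, ⟨3, [2505, 225, 231, 225], 17, 0, [[], [2, 0]]⟩, ⟨2, [230, 2110, 224, 230, 224, 246, 145, 2183], 9, 0, [[], [15, 8, 15, 10], [7, 9, 9, 11, 6], [11, 15, 7, 9, 6]]⟩, ⟨3, [2509, 225, 231, 225], 17, 0, [[], [2, 0]]⟩, ⟨2, [224, 2270, 224, 230, 246, 144, 143, 2007], 9, 0, [[], [12, 4, 10, 15, 0], [7, 11, 15, 7, 4], [7, 13, 6, 13, 0]]⟩, ⟨2, [224, 230, 224, 1938, 224, 230, 246, 145, 186, 2435], 9, 0, [[], [9, 7, 8, 12,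 0], [9, 6, 15, 9, 4], [12, 6, 12, 4]]⟩, ⟨2, [230, 224, 2270, 224, 230, 246, 186, 143, 187, 144, 2279], 9, 0, [[], [14, 4, 10, 12, 0], [7, 9, 13, 6], [9, 15, 9, 15, 11]]⟩, ⟨3, [2517, 231, 225], 17, 0, [[], [2, 0]]⟩, ⟨2, [230, 224, 1938, 224, 230, 246, 144, 186, 144, 2253], 9, 0, [[], [11, 8, 11, 12, 0], [10, 12, 6, 10], [14, 8, 8, 2]]⟩, ⟨3, [2521, 225], 17, 0, [[], [2, 0]]⟩, ⟨2, [224, 230, 2208, 224, 230, 246, 145, 2183], 9, 0, [[], [13, 6, 13, 14], [14, 6, 8, 14, 8], [10, 4, 9, 0]]⟩, ⟨3, [2525, 225], 17, 0, [[], [2, 0]]⟩, ⟨2, [2266, 230, 224, 404, 246], 10, 0, [[], [15, 7, 15, 11, 6], [12, 15, 7, 10, 4], [10, 10, 15, 11]]⟩, ⟨3, [2529, 144, 143, 186], 17, 0, [[], [2, 0]]⟩, ⟨2, [2208, 224, 230, 224, 246, 167], 10, 0, [[], [9, 12, 14, 0, 9], [10, 6, 14, 7], [10, 12, 8, 6, 2]]⟩, ⟨3, [2533,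 126, 214, 135, 125], 17, 0, [[], [2, 0]]⟩, ⟨2, [224, 1938, 224, 230, 246, 385], 10, 0, [[], [14, 7, 12, 8, 2], [15, 9, 6, 4, 15], [13, 9, 4, 11]]⟩, ⟨3, [2537, 225, 231], 17, 0, [[], [2, 0]]⟩, ⟨2, [224, 230, 224, 1184, 224, 230, 246, 144, 143, 186, 2435], 10, 1, [[], [14, 12, 6, 15, 2], [11, 6, 12, 7, 4], [7, 4, 14, 8]]⟩, ⟨2, [230, 224, 1876, 224, 230, 224, 246, 145, 186, 144, 143, 2253], 10, 1, [[], [11, 13, 14, 12], [11, 6], [4, 9, 7, 13, 7]]⟩, ⟨2, [2488, 224, 230, 246, 186, 143, 187, 144, 2439], 10, 1, [[], [10, 13, 6, 8], [11, 8, 10, 9], [14, 9, 15, 10, 2]]⟩, ⟨2, [1882, 224, 230, 246, 144, 143, 2183], 10, 1, [[], [12, 6, 8, 8, 4], [9, 14, 13, 7, 0], [9, 6, 11, 11]]⟩, ⟨2, [230, 224, 474, 224, 230, 246, 144, 143, 2183], 10, 1, [[], [15, 13, 10, 14, 10, 2], [13, 14, 10, 14, 2], [14, 6,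 9, 4, 2]]⟩, ⟨2, [230, 2156, 224, 230, 224, 246, 187, 144, 186, 145, 2439], 10, 1, [[], [12, 9, 0, 9, 4], [4, 12, 8, 7], [11, 15, 11, 2]]⟩, ⟨2, [230, 224, 246, 186, 144, 187, 145, 1789, 225, 231, 1335], 11, 1, [[], [9, 13, 11, 11], [11, 12, 6, 13, 4], [7, 9, 15, 8, 0]]⟩, ⟨2, [230, 224, 246, 186, 145, 187, 1899, 225, 231, 225, 2335], 11, 1, [[], [11, 14, 7, 13, 8], [12, 10, 14, 8, 2], [4, 8, 13, 4, 8]]⟩, ⟨3, [2555, 225, 231], 17, 0, [[], [2, 0]]⟩, ⟨2, [224, 246, 187, 145, 2435, 225, 231, 225, 1883], 11, 1, [[], [8, 11, 9, 6, 0], [6, 10, 15, 4, 2], [14, 7, 15, 4, 0]]⟩, ⟨3, [2559, 225, 231, 225], 17, 0, [[], [2, 0]]⟩, ⟨2, [224, 246, 186, 145, 187, 252, 231, 992], 11, 1, [[], [12, 12, 4, 14, 2], [12, 6, 4, 14], [6, 15, 6, 8]]⟩, ⟨2, [224, 230, 1826, 224, 230, 224, 246, 143, 187, 144, 2159],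 11, 0, [[], [15, 7, 15, 0], [13, 4, 12, 14, 6], [7, 10, 8, 12]]⟩, ⟨3, [2565, 225, 231], 17, 0, [[], [2, 0]]⟩, ⟨2, [224, 230, 246, 143, 186, 2393, 231, 1703], 11, 3, [[], [8, 13, 11, 15], [9, 4, 12, 6, 2], [10, 4, 13]]⟩, ⟨3, [2569, 231, 225], 17, 0, [[], [2, 0]]⟩, ⟨2, [1250, 224, 230, 246, 186, 143, 187, 637], 11, 0, [[], [15, 12, 11, 11, 2], [4, 11, 7, 4, 2], [8, 13, 7, 4]]⟩, ⟨3, [2573, 225, 231, 225], 17, 0, [[], [2, 0]]⟩, ⟨2, [230, 246, 145, 186, 145, 1061, 447], 11, 0, [[], [6, 4, 8, 8, 4], [13, 8, 8, 8, 7], [15, 15, 13]]⟩, ⟨3, [2577, 225, 231], 17, 0, [[], [2, 0]]⟩, ⟨2, [224, 230, 224, 2116, 224, 230, 246, 186, 144, 187, 145, 755], 13, 2, [[], [8, 4, 9, 12, 12], [15, 8, 7, 14, 7], [15, 7, 12, 6]]⟩, ⟨3, [2581, 225], 17, 0, [[], [2, 0]]⟩, ⟨2, [224, 2208, 224, 230, 224, 246, 145, 2007],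 13, 3, [[], [9, 4, 9, 11, 7], [9, 14, 14, 6, 2], [8, 13, 4, 10, 9]]⟩, ⟨2, [2270, 224, 230, 224, 246, 145, 186, 2435], 13, 3, [[], [13, 9, 7, 4, 8], [11, 12, 12, 4, 0], [6, 12, 4, 0, 8]]⟩, ⟨3, [2587, 225], 17, 0, [[], [2, 0]]⟩, ⟨2, [2062, 224, 230, 246, 477], 13, 3, [[], [12, 8, 12, 4, 8], [10, 7, 4, 9], [12, 8, 2]]⟩, ⟨3, [2591, 225], 17, 0, [[], [2, 0]]⟩, ⟨2, [142, 187, 144, 186, 264, 246, 186, 143, 187, 144, 2439], 13, 3, [[], [15, 12, 6, 15, 7], [4, 14, 9, 0], [6, 13, 7, 4]]⟩, ⟨3, [2595, 231, 225], 17, 0, [[], [2, 0]]⟩, ⟨2, [224, 230, 224, 2066, 224, 230, 246, 415], 13, 3, [[], [10, 13, 15, 10], [12, 2, 14, 4], [8, 15, 7, 4, 0]]⟩, ⟨2, [230, 2270, 224, 230, 224, 246, 145, 186, 144, 143, 2253], 13, 3, [[], [10, 9, 10, 0], [8, 10, 9, 6, 4], [7, 8, 13, 6, 4]]⟩, ⟨3, [2601, 225, 231, 225],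 17, 0, [[], [2, 0]]⟩, ⟨2, [145, 186, 144, 252, 246, 187, 144, 143, 2127], 13, 3, [[], [8, 11, 6], [10, 6, 13, 13, 0], [10, 13, 4, 10, 0]]⟩, ⟨3, [2605, 225, 231, 225], 17, 0, [[], [2, 0]]⟩, ⟨2, [230, 2208, 224, 230, 246, 415], 13, 3, [[], [15, 7, 4, 14], [12, 9, 4, 9], [9, 15, 15]]⟩, ⟨2, [224, 230, 2070, 224, 230, 224, 246, 144, 143, 186, 2435], 13, 3, [[], [13, 9, 7, 8], [10, 7, 4, 10], [14, 12, 4, 10, 12]]⟩, ⟨3, [2611, 225, 231], 17, 0, [[], [2, 0]]⟩, ⟨2, [224, 230, 224, 2070, 224, 230, 224, 246, 145, 186, 2435], 13, 3, [[], [8, 8, 4, 14], [4, 14, 14, 11, 6], [9, 14, 14]]⟩, ⟨3, [2615, 231], 17, 0, [[], [2, 0]]⟩, ⟨2, [224, 230, 224, 2208, 224, 230, 224, 246, 144, 187, 145, 2127], 13, 3, [[], [12, 4, 14, 6, 4], [11, 13, 2, 15, 7], [8, 8, 13, 8, 4]]⟩, ⟨3, [2619, 225, 231], 17, 0, [[], [2,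 0]]⟩, ⟨2, [224, 230, 224, 2066, 224, 230, 246, 186, 144, 1781], 13, 3, [[], [14, 12, 12, 0], [6, 9, 14, 7, 4], [12, 0, 8]]⟩, ⟨3, [2623, 225, 231], 17, 0, [[], [2, 0]]⟩, ⟨2, [230, 2208, 224, 230, 224, 246, 477], 13, 3, [[], [13, 9, 12, 9, 13], [8, 6, 12, 8, 0], [8, 10, 13, 11, 0]]⟩, ⟨3, [2627, 231, 225], 17, 0, [[], [2, 0]]⟩, ⟨2, [224, 230, 2066, 224, 230, 224, 246, 144, 143, 2183], 13, 3, [[], [12, 10, 8, 4], [7, 13, 13, 7, 11], [8, 6, 8, 4, 8]]⟩, ⟨3, [2631, 225, 231, 225], 17, 0, [[], [2, 0]]⟩, ⟨2, [224, 230, 2110, 224, 230, 246, 186, 143, 187, 144, 2439], 13, 3, [[], [6, 8, 12, 8, 7], [4, 12, 0, 9], [9, 12, 14, 7, 2]]⟩, ⟨3, [2635, 225], 17, 0, [[], [2, 0]]⟩, ⟨2, [145, 186, 144, 252, 246, 186, 144, 1781], 13, 3, [[], [6, 10, 12, 8, 0], [11, 14, 7, 10], [14, 9, 14, 7, 8]]⟩, ⟨2, [186,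 145, 264, 246, 187, 144, 143, 2127], 13, 3, [[], [6, 14, 14, 7, 2], [8, 15, 11, 7], [15, 11, 4, 13, 2]]⟩, ⟨2, [2558, 246, 145, 2007], 13, 0, [[], [6, 8, 13, 7, 0], [15, 12, 2, 15, 4], [6, 2, 0]]⟩, ⟨3, [2643, 231], 17, 0, [[], [2, 0]]⟩, ⟨2, [224, 246, 161, 119, 88, 65, 789], 13, 3, [[], [6, 13, 15, 10, 10], [14, 11, 12, 14], [13, 9, 7, 15, 4, 0]]⟩, ⟨3, [2647, 225, 231], 17, 0, [[], [2, 0]]⟩, ⟨2, [230, 224, 1938, 224, 230, 224, 246, 186, 144, 1081], 14, 2, [[], [8, 15, 12], [8, 10, 6, 2], [7, 14, 6, 12, 4]]⟩, ⟨3, [2651, 225, 231], 17, 0, [[], [2, 0]]⟩, ⟨2, [2208, 224, 230, 224, 246, 145, 186, 1821], 14, 2, [[], [4, 9, 14, 8, 7], [14, 8, 13, 10, 8], [12, 8, 12, 11, 4]]⟩, ⟨3, [2655, 225, 231, 225], 17, 0, [[], [2, 0]]⟩, ⟨2, [224, 230, 2064, 2062, 224, 230, 224, 246], 14, 3, [[], [12, 14,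 12, 10, 2], [10, 12, 8], [7, 14, 8, 11, 2]]⟩, ⟨3, [2659, 145, 186, 144], 17, 0, [[], [2, 0]]⟩, ⟨2, [2070, 224, 230, 246, 145, 186, 144, 143, 1681], 14, 2, [[], [6, 13, 7, 13, 10], [14, 4, 15, 10, 6], [10, 6, 4, 11, 2]]⟩, ⟨3, [2663, 231], 17, 0, [[], [2, 0]]⟩, ⟨2, [2070, 224, 230, 224, 246, 187, 145, 186, 1573], 14, 2, [[], [8, 12, 7, 11], [13, 13, 11, 14, 6], [4, 11, 14, 7, 8]]⟩, ⟨3, [2667, 231, 225], 17, 0, [[], [2, 0]]⟩, ⟨2, [230, 2062, 224, 230, 246, 186, 145, 187, 143, 2029], 14, 2, [[], [15, 4, 15, 13, 2], [11, 6, 4, 11, 0], [12, 14, 8, 7, 11]]⟩, ⟨3, [2671, 231, 225], 17, 0, [[], [2, 0]]⟩, ⟨2, [2062, 224, 230, 246, 187, 1795], 14, 2, [[], [7, 10, 13, 11, 4], [9, 14, 10, 10, 6], [10, 4, 14, 10]]⟩, ⟨3, [2675, 225], 17, 0, [[], [2, 0]]⟩, ⟨2, [224, 1874, 224, 230, 396, 246], 14, 3, [[],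 [9, 9, 4, 13, 0], [10, 12, 4, 9], [10, 15, 11, 12, 0]]⟩, ⟨3, [2679, 145, 187, 144], 17, 0, [[], [2, 0]]⟩, ⟨2, [246, 144, 143, 2183, 231, 225, 2095], 14, 3, [[], [14, 7, 15, 10], [13, 15, 8, 15, 7], [10, 7, 12, 12, 7]]⟩, ⟨2, [1996, 224, 230, 246, 151], 14, 0, [[], [12, 0, 10, 13, 4], [15, 7, 13, 14, 8], [9, 14, 13, 13]]⟩, ⟨3, [2685, 186, 145, 187], 17, 0, [[], [2, 0]]⟩, ⟨2, [224, 246, 144, 187, 145, 2127, 231, 225, 879], 14, 3, [[], [12, 10, 14, 9, 4, 0], [13, 10, 12, 9, 11], [15, 9, 10, 8, 0]]⟩, ⟨3, [2689, 225], 17, 0, [[], [2, 0]]⟩, ⟨2, [246, 145, 186, 144, 1789, 225, 231, 2111], 14, 0, [[], [13, 10, 10, 4, 0], [4, 15, 12, 6], [12, 15, 12, 12]]⟩, ⟨3, [2693, 225], 17, 0, [[], [2, 0]]⟩, ⟨2, [1300, 230, 224, 246, 144, 187, 835], 14, 1, [[], [8, 12, 11, 0], [14, 10, 15, 7], [12, 6, 4, 8,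 8]]⟩, ⟨3, [2697, 231], 17, 0, [[], [2, 0]]⟩, ⟨2, [224, 246, 187, 145, 1573, 225, 1245], 14, 0, [[], [10, 14, 9], [11, 6, 15, 12, 0], [15, 8, 4, 15, 0]]⟩, ⟨3, [2701, 143, 187], 17, 0, [[], [2, 0]]⟩, ⟨2, [230, 224, 1992, 224, 230, 224, 1692, 230, 246], 15, 3, [[], [4, 15, 8, 7], [6, 14, 14, 8, 7], [7, 9, 14, 2]]⟩, ⟨3, [2705, 144, 186, 144, 143], 17, 0, [[], [2, 0]]⟩, ⟨2, [230, 224, 246, 186, 145, 187, 252, 231, 527], 15, 1, [[], [12, 7, 9, 14, 2], [13, 6, 13, 6, 2], [13, 13, 14, 12]]⟩, ⟨3, [2709, 225], 17, 0, [[], [2, 0]]⟩, ⟨2, [230, 224, 1956, 230, 224, 246, 144, 186, 144, 1081], 15, 2, [[], [13, 8, 8, 2], [7, 10, 6, 14, 2], [14, 12, 12, 12]]⟩, ⟨3, [2713, 225, 231, 225], 17, 0, [[], [2, 0]]⟩, ⟨2, [230, 2516, 224, 246, 186, 143, 187, 1899], 15, 2, [[], [8, 6, 14, 11, 0], [15, 15, 13, 4,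 2], [13, 11, 15, 7]]⟩, ⟨3, [2717, 225, 231], 17, 0, [[], [2, 0]]⟩, ⟨2, [224, 874, 224, 230, 246, 144, 247], 15, 2, [[], [11, 11, 14, 7], [10, 10, 6, 4, 0], [12, 10, 6, 0]]⟩, ⟨3, [2721, 231, 225], 17, 0, [[], [2, 0]]⟩, ⟨2, [224, 230, 224, 246, 186, 145, 2457, 225, 231, 2584], 15, 1, [[], [7, 9, 4, 14, 0], [13, 6, 12, 10, 7], [11, 4, 13, 0]]⟩, ⟨2, [230, 224, 246, 186, 144, 187, 145, 755, 225, 1125], 15, 1, [[], [7, 15, 4, 10], [13, 11, 6, 8, 10], [9, 11, 4, 9, 6]]⟩, ⟨3, [2727, 231, 225], 17, 0, [[], [2, 0]]⟩, ⟨2, [224, 880, 224, 230, 246, 186, 144, 143, 2183], 15, 3, [[], [13, 7, 12, 6], [12, 11, 9, 14, 6], [9, 13, 4, 13, 4]]⟩, ⟨2, [224, 230, 224, 2552, 230, 224, 246, 145, 187, 921], 15, 3, [[], [9, 13, 11, 9, 13], [11, 8, 11, 13, 2], [9, 9, 2, 15, 7]]⟩, ⟨3, [2733, 225, 231], 17, 0, [[],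 [2, 0]]⟩, ⟨2, [1346, 224, 230, 246, 186, 144, 1801], 15, 3, [[], [8, 12, 9, 10, 2], [6, 10, 0], [6, 8, 6, 15, 2]]⟩, ⟨3, [2737, 225], 17, 0, [[], [2, 0]]⟩, ⟨2, [230, 224, 2324, 230, 246, 186, 143, 187, 633], 15, 3, [[], [4, 10, 9, 7], [15, 12, 8, 12], [12, 11, 6, 14, 7]]⟩, ⟨3, [2741, 231, 225], 17, 0, [[], [2, 0]]⟩, ⟨2, [246, 145, 187, 144, 1081, 225, 231, 2549], 15, 2, [[], [12, 8, 7, 12, 11], [11, 13, 11, 7, 9], [7, 11, 6, 11]]⟩, ⟨3, [2745, 231], 17, 0, [[], [2, 0]]⟩, ⟨2, [230, 452, 230, 2692, 246], 15, 0, [[], [9, 6, 15, 8, 4], [6, 12, 12, 10, 2], [10, 4, 15, 10, 0]]⟩, ⟨3, [2749, 145, 186, 144], 17, 0, [[], [2, 0]]⟩, ⟨2, [230, 224, 1740, 142, 1822, 224, 246], 15, 0, [[], [12, 7, 9, 14, 11], [9, 10, 9], [8, 4, 13, 15, 0]]⟩, ⟨3, [2753, 145], 17, 0, [[], [2, 0]]⟩, ⟨2, [230, 224, 2554,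 230, 246, 144, 186, 143, 189], 15, 3, [[], [11, 15, 11, 0], [4, 13, 8, 4], [9, 6, 10, 14, 9]]⟩, ⟨3, [2757, 187, 145, 143], 17, 0, [[], [2, 0]]⟩, ⟨2, [230, 224, 806, 246, 187, 144, 186, 2113], 15, 1, [[], [4, 14, 8, 13, 0], [7, 11, 9, 7, 2], [8, 15, 9, 10, 15]]⟩, ⟨3, [2761, 231], 17, 0, [[], [2, 0]]⟩, ⟨2, [224, 230, 224, 292, 230, 224, 246, 186, 144, 187, 145, 1189], 15, 1, [[], [6, 12, 12, 4], [13, 10, 10, 4, 9], [11, 7, 10, 8, 0]]⟩, ⟨3, [2765, 225, 231, 225], 17, 0, [[], [2, 0]]⟩, ⟨2, [230, 224, 1516, 224, 230, 246, 187, 145, 186, 767], 15, 1, [[], [8, 12, 15, 15], [14, 13, 6, 8], [4, 9, 14, 8, 8, 0]]⟩, ⟨3, [2769, 225, 231, 225], 17, 0, [[], [2, 0]]⟩, ⟨2, [142, 145, 186, 242, 230, 246, 186, 144, 2007], 15, 1, [[], [15, 6, 9, 7, 2], [6, 10, 4, 12, 7], [8, 13, 4]]⟩, ⟨3, [2773, 231], 17,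 0, [[], [2, 0]]⟩, ⟨2, [230, 224, 2415, 230, 246, 187, 143, 187, 1755], 15, 1, [[], [10, 0, 10, 4], [12, 14, 8, 7, 11, 0], [4, 14, 8, 4, 0]]⟩, ⟨3, [2777, 225], 17, 0, [[], [2, 0]]⟩, ⟨2, [1524, 134, 138, 248, 351], 1, 2, [[], [8, 13, 10, 9, 4], [11, 14, 9], [4, 10, 12, 9, 2]]⟩, ⟨3, [2781, 231, 225], 17, 0, [[], [2, 0]]⟩, ⟨2, [230, 224, 2534, 127, 134, 124, 138, 248, 225, 231, 225, 827], 1, 2, [[], [6, 12, 9, 9, 4], [10, 12, 12, 6], [4, 2, 14, 12]]⟩, ⟨3, [2785, 231], 17, 0, [[], [2, 0]]⟩, ⟨2, [224, 970, 224, 230, 270, 134, 215, 124, 248], 1, 3, [[], [9, 15, 11, 13], [9, 10, 9], [6, 15, 9, 7, 2]]⟩, ⟨2, [224, 2524, 230, 224, 1524, 126, 138, 138, 124, 248], 1, 3, [[], [9, 13, 4, 13, 2], [15, 10, 14, 9, 11], [7, 11, 6, 12]]⟩, ⟨3, [2791, 225, 231], 17, 0, [[], [2, 0]]⟩, ⟨2, [142, 187, 144, 186,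 168, 127, 138, 215, 124, 248, 225, 2788], 1, 2, [[], [8, 10, 10, 13, 7, 0], [8, 11, 14, 8, 7, 0], [8, 15, 4, 14, 7]]⟩, ⟨3, [2795, 225], 17, 0, [[], [2, 0]]⟩, ⟨2, [224, 230, 224, 1436, 224, 230, 2534, 124, 126, 134, 124, 248], 1, 3, [[], [15, 15, 10, 10], [8, 7, 10, 14, 0], [14, 10, 14, 13, 8]]⟩, ⟨3, [2799, 225, 231, 225], 17, 0, [[], [2, 0]]⟩, ⟨2, [224, 230, 450, 134, 124, 138, 215, 248, 225, 2788], 1, 2, [[], [8, 11, 6, 2], [6, 9, 7, 13, 6], [10, 9, 15, 11, 4]]⟩, ⟨3, [2803, 225, 231, 225], 17, 0, [[], [2, 0]]⟩, ⟨2, [2152, 1378, 124, 214, 138, 248], 1, 0, [[], [13, 7, 11, 2, 11], [12, 10, 7, 13, 0], [2, 14, 13, 7, 4]]⟩, ⟨3, [2807, 225, 231, 225], 17, 0, [[], [2, 0]]⟩, ⟨2, [944, 126, 139, 139, 248, 231, 225, 1027], 1, 3, [[], [14, 12, 15, 15, 7], [7, 12, 4, 13], [14, 14, 6, 9]]⟩, ⟨3, [2811,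 225], 17, 0, [[], [2, 0]]⟩, ⟨2, [224, 230, 224, 2462, 60, 62, 64, 68, 130, 127, 214, 124, 134, 248], 1, 0, [[], [12, 4, 8, 11, 4], [4, 15, 10, 7], [7, 9, 7, 9, 6]]⟩, ⟨2, [224, 764, 134, 124, 215, 134, 248, 231, 225, 2137], 1, 3, [[], [4, 14, 14, 4, 2], [10, 8, 15, 0], [8, 12, 9, 12]]⟩, ⟨3, [2817, 231], 17, 0, [[], [2, 0]]⟩, ⟨2, [230, 224, 766, 145, 187, 158, 134, 215, 124, 134, 248], 1, 0, [[], [7, 15, 12, 11, 6], [6, 14, 8, 13, 2], [14]]⟩, ⟨3, [2821, 225], 17, 0, [[], [2, 0]]⟩, ⟨2, [614, 127, 248, 225, 231, 225, 1669], 1, 0, [[], [14, 12, 12, 6, 2], [13, 15, 13, 6], [4, 11, 11, 12]]⟩, ⟨3, [2825, 225], 17, 0, [[], [2, 0]]⟩, ⟨2, [1354, 224, 260, 127, 248], 1, 1, [[], [14, 8, 11, 14, 0], [8, 6, 14, 8, 12], [6, 14, 7, 13]]⟩, ⟨2, [224, 2130, 230, 224, 450, 127, 134, 138, 248], 3, 3, [[],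 [7, 14, 6, 8], [13, 11, 4, 13, 4], [13, 10, 8, 15]]⟩, ⟨3, [2831, 225, 231, 225], 17, 0, [[], [2, 0]]⟩, ⟨2, [2044, 134, 138, 124, 248, 231, 225, 1427], 3, 3, [[], [13, 9, 6, 12, 2], [12, 15, 6, 10, 6, 0], [9, 6, 9, 6]]⟩, ⟨2, [124, 126, 134, 124, 248, 225, 1727, 231, 2487], 3, 3, [[], [15, 12, 2, 15], [12, 4, 10, 15, 9], [12, 9, 6, 15, 15]]⟩, ⟨3, [2837, 225, 231], 17, 0, [[], [2, 0]]⟩, ⟨2, [124, 214, 124, 215, 248, 225, 1529], 6, 2, [[], [9, 6, 9, 12, 0], [14, 14, 11, 8, 6]]⟩, ⟨3, [2841, 231, 225], 17, 0, [[], [2, 0]]⟩, ⟨2, [124, 127, 248, 231, 225, 1229], 6, 2, [[], [9, 4, 8, 8], [4, 14, 14, 8]]⟩, ⟨3, [2845, 231], 17, 0, [[], [2, 0]]⟩, ⟨2, [224, 230, 1286, 127, 214, 134, 124, 248, 225, 231, 225, 2805], 7, 2, [[], [13, 6, 13, 14], [11, 4, 10, 9, 2], [10, 10, 8, 11, 4]]⟩, ⟨3, [2849, 231,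 225], 17, 0, [[], [2, 0]]⟩, ⟨2, [1382, 124, 126, 215, 127, 248, 225, 231, 225, 2801], 7, 2, [[], [11, 12, 14, 8, 13], [9, 7, 14, 13, 4], [9, 14, 4, 2]]⟩, ⟨3, [2853, 225, 231, 225], 17, 0, [[], [2, 0]]⟩, ⟨2, [224, 230, 484, 127, 134, 139, 215, 248, 225, 231, 225, 2805], 7, 3, [[], [12, 6, 15, 15, 7], [9, 9, 11, 15, 0], [12, 7, 0, 10]]⟩, ⟨3, [2857, 231, 225], 17, 0, [[], [2, 0]]⟩, ⟨2, [224, 230, 224, 2840, 127, 134, 124, 138, 248, 231, 1231], 7, 3, [[], [15, 10, 9, 6], [9, 10, 13, 7], [10, 15, 7, 9, 6]]⟩, ⟨2, [230, 224, 1450, 139, 215, 127, 248, 231, 225, 2801], 7, 1, [[], [10, 14, 10, 2], [12, 4, 14, 11, 12], [12, 10, 7, 4, 8]]⟩, ⟨3, [2863, 225], 17, 0, [[], [2, 0]]⟩, ⟨2, [224, 230, 224, 2840, 127, 139, 139, 248, 231, 1095], 8, 2, [[], [12, 4, 14, 6, 12], [12, 10, 15, 7], [10, 13, 10,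 7, 4, 0]]⟩, ⟨3, [2867, 225], 17, 0, [[], [2, 0]]⟩, ⟨2, [230, 224, 1450, 139, 215, 127, 248, 231, 763], 8, 2, [[], [8, 11, 6, 9], [8, 10, 9, 12], [13, 9, 11, 4]]⟩, ⟨3, [2871, 225, 231], 17, 0, [[], [2, 0]]⟩, ⟨2, [230, 224, 1450, 139, 215, 127, 248, 225, 231, 225, 1473], 8, 2, [[], [6, 8, 13, 4, 2], [9, 7, 12, 15, 2], [11, 6, 11, 9, 6]]⟩, ⟨3, [2875, 225, 231], 17, 0, [[], [2, 0]]⟩, ⟨2, [224, 230, 224, 1286, 127, 214, 134, 124, 248, 231, 225, 1427], 8, 2, [[], [15, 15, 9, 4, 0], [15, 4, 14, 9, 0], [15, 4, 10, 6]]⟩, ⟨2, [224, 230, 224, 1286, 127, 214, 134, 248, 225, 807], 8, 2, [[], [10, 15, 8, 14], [8, 8, 10, 13], [8, 14, 14, 12]]⟩, ⟨3, [2881, 225], 17, 0, [[], [2, 0]]⟩, ⟨2, [484, 127, 134, 139, 215, 248, 225, 1727], 8, 2, [[], [11, 8, 12, 12], [10, 7, 8, 10], [13, 10, 9, 4, 8]]⟩, ⟨3, [2885,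 231], 17, 0, [[], [2, 0]]⟩, ⟨2, [2187, 224, 1286, 127, 214, 134, 124, 248], 8, 3, [[], [14, 13, 15, 10], [14, 6, 10, 12, 4], [9, 13, 14, 12, 0]]⟩, ⟨3, [2889, 225], 17, 0, [[], [2, 0]]⟩, ⟨2, [230, 224, 1450, 139, 215, 127, 248, 225, 231, 1467], 8, 2, [[], [13, 14, 8, 13, 15], [7, 4, 11, 12, 2], [7, 13, 4, 14, 4]]⟩, ⟨3, [2893, 225, 231], 17, 0, [[], [2, 0]]⟩, ⟨2, [2836, 127, 139, 139, 248, 225, 231, 225, 2801], 8, 3, [[], [8, 10, 6, 15, 11], [6, 11, 12, 9], [12, 8, 4, 13, 6]]⟩, ⟨3, [2897, 231], 17, 0, [[], [2, 0]]⟩, ⟨2, [230, 224, 1286, 215, 138, 248, 231, 1231], 8, 1, [[], [6, 14, 10, 9, 6], [6, 11, 9, 9, 6], [7, 14, 7, 14, 0]]⟩, ⟨3, [2901, 225, 231], 17, 0, [[], [2, 0]]⟩, ⟨2, [372, 124, 134, 215, 127, 248, 225, 231, 1231], 8, 1, [[], [11, 6, 10, 10, 9], [9, 13, 0, 10, 7], [15, 9, 4, 8,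 7]]⟩, ⟨2, [224, 230, 224, 372, 124, 126, 139, 215, 134, 248, 225, 2788], 8, 1, [[], [9, 14, 12, 10, 6], [15, 8, 15, 15, 6], [15, 4, 11, 13, 9]]⟩, ⟨3, [2907, 225, 231], 17, 0, [[], [2, 0]]⟩, ⟨2, [450, 214, 124, 139, 248, 231, 1231], 8, 1, [[], [13, 14, 12, 6], [9, 6, 15, 4], [14, 12, 6, 8, 4]]⟩, ⟨3, [2911, 231], 17, 0, [[], [2, 0]]⟩, ⟨2, [224, 1524, 124, 127, 134, 124, 248, 225, 2861], 8, 1, [[], [8, 6, 12, 8, 10], [8, 15, 6, 13], [9, 10, 12, 11, 0]]⟩, ⟨3, [2915, 225, 231, 225], 17, 0, [[], [2, 0]]⟩, ⟨2, [224, 230, 1012, 230, 2840, 124, 214, 124, 215, 124, 248], 8, 2, [[], [15, 12, 4, 11, 6], [13, 9, 9, 6], [13, 14, 7, 8, 4]]⟩, ⟨3, [2919, 231, 225], 17, 0, [[], [2, 0]]⟩, ⟨2, [224, 230, 2534, 124, 215, 124, 214, 248, 2797], 9, 2, [[], [9, 7, 11, 12, 2], [13, 9, 14, 11, 4], [7, 15, 9, 6,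 2]]⟩, ⟨3, [2923, 145, 186, 145], 17, 0, [[], [2, 0]]⟩, ⟨2, [2746, 230, 2844, 134, 215, 124, 248], 9, 3, [[], [15, 6, 15, 10, 0], [14, 7, 10, 10, 12], [4, 14, 12, 4, 0]]⟩, ⟨3, [2927, 225, 231, 225], 17, 0, [[], [2, 0]]⟩, ⟨2, [224, 230, 2840, 127, 134, 124, 138, 248, 225, 231, 225, 2801], 9, 0, [[], [9, 6, 14, 12, 10], [6, 15, 10, 14, 7], [9, 11, 9, 14]]⟩, ⟨3, [2931, 231], 17, 0, [[], [2, 0]]⟩, ⟨2, [230, 224, 1450, 139, 215, 127, 248, 225, 231, 1231], 9, 0, [[], [11, 15, 11, 12, 0], [14, 10, 8, 11, 12], [14, 11, 14, 9, 2]]⟩, ⟨3, [2935, 225, 231], 17, 0, [[], [2, 0]]⟩, ⟨2, [230, 224, 1286, 127, 214, 134, 248, 225, 2788], 9, 0, [[], [10, 7, 13, 9, 4], [9, 6, 8, 12, 10], [13, 4, 11, 11, 0]]⟩, ⟨3, [2939, 231, 225], 17, 0, [[], [2, 0]]⟩, ⟨2, [224, 764, 126, 139, 139, 248, 225, 231, 1231], 9,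 1, [[], [13, 8, 8, 4], [13, 6, 8, 10, 0], [7, 10, 15, 12, 0]]⟩, ⟨3, [2943, 225, 231], 17, 0, [[], [2, 0]]⟩, ⟨2, [224, 1316, 1378, 134, 139, 214, 126, 248], 10, 3, [[], [4, 10, 15, 7, 4], [15, 4, 11, 13, 2], [14, 4, 11, 13, 4]]⟩, ⟨3, [2947, 225, 231, 225], 17, 0, [[], [2, 0]]⟩, ⟨2, [944, 124, 138, 214, 126, 248, 231, 225, 2399], 10, 2, [[], [14, 4, 10, 15, 2], [7, 15, 10], [12, 14, 11, 9, 6]]⟩, ⟨3, [2951, 225, 231, 225], 17, 0, [[], [2, 0]]⟩, ⟨2, [230, 2844, 124, 138, 215, 248, 225, 231, 225, 1229], 10, 2, [[], [13, 14, 8, 12, 4], [11, 4, 8, 10, 8], [12, 12, 7, 10, 2]]⟩, ⟨3, [2955, 231], 17, 0, [[], [2, 0]]⟩, ⟨2, [1382, 134, 215, 134, 248, 300], 10, 0, [[], [12, 15, 2, 11, 7], [7, 13, 9, 10], [9, 15, 6, 8, 7]]⟩, ⟨3, [2959, 231, 225], 17, 0, [[], [2, 0]]⟩, ⟨2, [2836, 124, 126, 134, 124,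 248, 2788], 10, 1, [[], [9, 4, 0, 8], [14, 12, 9, 12, 6], [13, 15, 12, 4, 0]]⟩, ⟨2, [230, 224, 1286, 215, 138, 248, 225, 231, 1231], 10, 1, [[], [8, 11, 15, 7], [4, 10, 12, 14, 0], [4, 14, 12, 0]]⟩, ⟨3, [2965, 231, 225], 17, 0, [[], [2, 0]]⟩, ⟨2, [124, 139, 215, 134, 248, 225, 231, 2793, 849], 10, 0, [[], [10, 14, 7, 9, 2], [7, 8, 11], [8, 6, 12, 7, 0]]⟩, ⟨3, [2969, 225, 231], 17, 0, [[], [2, 0]]⟩, ⟨2, [224, 230, 450, 124, 134, 124, 138, 248, 225, 231, 225, 2904], 11, 2, [[], [13, 11, 12, 12, 6], [10, 12, 15, 6, 2], [14, 9, 14, 7, 2]]⟩, ⟨3, [2973, 225, 231, 225], 17, 0, [[], [2, 0]]⟩, ⟨2, [224, 230, 1552, 224, 230, 1378, 215, 124, 134, 248], 11, 3, [[], [12, 15, 12, 14, 4, 0], [15, 15, 11, 14, 6], [4, 10, 10, 9, 6]]⟩, ⟨3, [2977, 225, 231, 225], 17, 0, [[], [2, 0]]⟩, ⟨2, [230, 224, 764,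 126, 139, 134, 124, 248, 225, 231, 1369], 11, 2, [[], [15, 7, 9, 4, 8], [9, 7, 8, 10, 4], [14, 11, 9]]⟩, ⟨3, [2981, 225, 231, 225], 17, 0, [[], [2, 0]]⟩, ⟨2, [224, 230, 224, 450, 134, 124, 139, 248, 231, 1545], 11, 2, [[], [10, 9, 4, 13, 11], [4, 13, 13, 10, 2], [8, 15, 13, 6, 10]]⟩, ⟨3, [2985, 225, 231], 17, 0, [[], [2, 0]]⟩, ⟨2, [230, 2585, 1524, 124, 214, 124, 215, 248], 11, 0, [[], [9, 12, 14, 8, 0], [10, 6, 4, 15, 2], [15, 12, 6, 15, 4]]⟩, ⟨3, [2989, 231, 225], 17, 0, [[], [2, 0]]⟩, ⟨2, [230, 1390, 224, 1378, 127, 139, 248], 11, 0, [[], [8, 14, 11, 6], [6, 9, 14, 10, 2], [15, 12, 7]]⟩, ⟨3, [2993, 231], 17, 0, [[], [2, 0]]⟩, ⟨2, [224, 230, 1357, 224, 2968, 127, 139, 214, 248], 11, 0, [[], [11, 4, 13, 11, 4], [12, 14, 7], [7, 12, 10, 0]]⟩, ⟨3, [2997, 225, 231, 225], 17, 0, [[], [2,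 0]]⟩, ⟨2, [230, 224, 1220, 224, 1046, 127, 134, 139, 215, 248], 11, 0, [[], [7, 15, 12, 11, 7, 0], [14, 8, 12, 12], [15, 7, 0, 8]]⟩, ⟨3, [3001, 225], 17, 0, [[], [2, 0]]⟩, ⟨2, [230, 224, 2968, 124, 127, 248, 231, 225, 1009], 11, 3, [[], [12, 8, 8, 14, 6], [7, 11, 12, 8, 2], [6, 9, 4, 10, 0]]⟩, ⟨3, [3005, 225], 17, 0, [[], [2, 0]]⟩, ⟨2, [944, 124, 134, 124, 138, 248, 231, 2679], 11, 3, [[], [11, 14, 8, 10, 6, 0], [11, 8, 4, 14, 0], [11, 12, 15, 13, 4]]⟩, ⟨3, [3009, 186, 145], 17, 0, [[], [2, 0]]⟩, ⟨2, [230, 348, 60, 89, 118, 89, 130, 139, 215, 138, 248], 11, 0, [[], [13, 6, 8, 13], [6, 14, 7, 8, 0], [12, 11, 14, 9]]⟩, ⟨2, [230, 224, 2044, 124, 127, 134, 215, 248, 2717], 11, 3, [[], [11, 6, 11, 11, 0], [7, 8, 11, 13, 2], [9, 10, 9, 12, 0]]⟩, ⟨3, [3015, 225, 231, 225], 17, 0, [[], [2, 0]]⟩,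 ⟨2, [230, 224, 372, 124, 127, 215, 139, 248, 225, 2361], 11, 3, [[], [15, 15, 8], [11, 14, 13, 11, 7], [15, 11, 2, 15, 4]]⟩, ⟨3, [3019, 225, 231, 225], 17, 0, [[], [2, 0]]⟩, ⟨2, [224, 230, 712, 2534, 124, 138, 214, 134, 248], 11, 0, [[], [4, 15, 11, 13], [10, 13, 9, 12, 7], [8, 6, 12, 4, 0]]⟩, ⟨3, [3023, 231], 17, 0, [[], [2, 0]]⟩, ⟨2, [230, 224, 2864, 230, 456, 124, 134, 248], 11, 0, [[], [14, 10, 9, 11, 0], [10, 14, 7, 13], [14, 11, 4, 8]]⟩, ⟨2, [138, 214, 248, 231, 2737, 231, 225, 2517], 11, 0, [[], [4, 13, 14, 11, 8], [14, 10, 15, 8], [10, 15, 10, 9, 2]]⟩, ⟨3, [3029, 225], 17, 0, [[], [2, 0]]⟩, ⟨2, [224, 230, 224, 2840, 126, 134, 124, 214, 248, 231, 2323], 11, 1, [[], [6, 14, 14, 6, 4], [12, 6, 13, 13, 0], [15, 7, 10, 12]]⟩, ⟨3, [3033, 225], 17, 0, [[], [2, 0]]⟩, ⟨2, [224, 230, 224,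 726, 270, 126, 134, 124, 248], 11, 2, [[], [9, 4, 13, 7, 0], [4, 8, 7, 13, 0], [11, 7, 9, 13, 6]]⟩, ⟨3, [3037, 231, 225], 17, 0, [[], [2, 0]]⟩, ⟨2, [260, 214, 127, 248, 225, 231, 225, 2153], 11, 1, [[], [7, 11, 15, 15], [12, 10, 15, 9, 2], [7, 15]]⟩, ⟨3, [3041, 225, 231], 17, 0, [[], [2, 0]]⟩, ⟨2, [224, 230, 224, 2162, 230, 224, 484, 127, 134, 139, 215, 248], 13, 3, [[], [10, 6, 12, 4, 0], [9, 7], [12, 10, 13, 14, 0]]⟩, ⟨2, [230, 2622, 484, 134, 124, 138, 214, 248], 13, 3, [[], [8, 10, 13, 11, 7], [13, 7, 8, 12, 4], [7, 15, 4, 14]]⟩, ⟨3, [3047, 231, 225], 17, 0, [[], [2, 0]]⟩, ⟨2, [230, 2548, 2840, 127, 139, 139, 248], 13, 3, [[], [11, 12, 6, 12], [10, 7, 15, 13, 4], [8, 8, 15, 7, 9]]⟩, ⟨3, [3051, 231, 225], 17, 0, [[], [2, 0]]⟩, ⟨2, [224, 230, 1357, 1450, 124, 127, 215, 139, 248], 13,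 3, [[], [13, 8, 6, 14, 2], [7, 13, 13, 6, 2], [9, 6, 15, 4, 0]]⟩, ⟨2, [230, 224, 1286, 127, 214, 134, 124, 248, 225, 231, 225, 1239], 13, 2, [[], [8, 10, 7, 2], [6, 15, 10, 4], [13, 11, 7, 11, 13]]⟩, ⟨2, [224, 664, 248, 225, 231, 225, 2921], 13, 3, [[], [13, 13, 2, 14, 7], [4, 12, 10, 15, 2], [12, 8, 12, 7, 4]]⟩, ⟨3, [3059, 231, 225], 17, 0, [[], [2, 0]]⟩, ⟨2, [224, 230, 224, 664, 248, 225, 231, 225, 827], 13, 3, [[], [7, 11, 15, 11, 0], [15, 11, 14, 0], [8, 6, 13, 15]]⟩, ⟨3, [3063, 225, 231], 17, 0, [[], [2, 0]]⟩, ⟨2, [224, 230, 1286, 127, 214, 134, 124, 248, 225, 2861], 13, 3, [[], [4, 14, 9, 7, 2], [15, 10, 14, 12], [6, 13, 7, 4]]⟩, ⟨3, [3067, 231], 17, 0, [[], [2, 0]]⟩, ⟨2, [2840, 127, 139, 139, 248, 225, 231, 2793], 13, 3, [[], [13, 15, 9, 6, 8], [11, 15, 13, 0], [6, 9, 11, 2]]⟩,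 ⟨3, [3071, 225, 231], 17, 0, [[], [2, 0]]⟩, ⟨2, [2968, 138, 215, 248, 231, 225, 2921], 13, 3, [[], [12, 4, 13, 4], [9, 6, 14, 0], [12, 10, 9, 15, 6]]⟩, ⟨3, [3075, 225, 231], 17, 0, [[], [2, 0]]⟩, ⟨2, [144, 186, 144, 168, 248, 2788], 13, 3, [[], [10, 8, 15, 7, 4], [15, 12, 8, 6], [15, 7, 10, 4]]⟩, ⟨2, [230, 224, 2840, 126, 134, 124, 214, 248, 231, 2793], 13, 0, [[], [8, 7, 11, 11], [10, 9, 14], [12, 8, 10, 9, 6]]⟩, ⟨2, [230, 224, 456, 134, 214, 126, 138, 248, 3026], 13, 1, [[], [11, 6, 8], [10, 15, 8, 7], [12, 15, 13, 11, 2]]⟩, ⟨3, [3083, 231, 225], 17, 0, [[], [2, 0]]⟩, ⟨2, [224, 1286, 127, 214, 134, 124, 248, 225, 231, 225, 2085], 14, 2, [[], [12, 12, 7, 10], [15, 10, 4, 2], [14, 14, 9, 6]]⟩, ⟨3, [3087, 231], 17, 0, [[], [2, 0]]⟩, ⟨2, [187, 142, 145, 861, 224, 484, 127, 134, 139, 215,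 248], 14, 3, [[], [13, 11, 15, 13, 7], [8, 12, 7, 4, 2], [11, 7, 4, 0]]⟩, ⟨3, [3091, 231, 225], 17, 0, [[], [2, 0]]⟩, ⟨2, [224, 230, 224, 802, 144, 168, 248], 14, 3, [[], [15, 10, 12, 9, 0], [14, 6, 4, 12, 15], [15, 6, 12, 6, 0]]⟩, ⟨3, [3095, 225], 17, 0, [[], [2, 0]]⟩, ⟨2, [1450, 124, 127, 215, 139, 248, 2717], 14, 2, [[], [4, 10, 15, 6, 4], [11, 12, 0, 9], [8, 14, 6, 10, 0]]⟩, ⟨3, [3099, 225, 231, 225], 17, 0, [[], [2, 0]]⟩, ⟨2, [224, 230, 224, 664, 248, 225, 1965], 14, 2, [[], [15, 13, 10, 2], [10, 13, 9, 7], [15, 8, 8, 6, 0]]⟩, ⟨3, [3103, 225, 231, 225], 17, 0, [[], [2, 0]]⟩, ⟨2, [224, 230, 2840, 127, 134, 124, 138, 248, 1943], 14, 2, [[], [9, 15, 13, 2], [15, 12, 12, 10, 14, 0], [13, 6, 13, 11, 2]]⟩, ⟨3, [3107, 225, 231, 225], 17, 0, [[], [2, 0]]⟩, ⟨2, [145, 187, 144, 2684, 2968,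 138, 215, 248], 14, 3, [[], [12, 10, 10, 14, 4], [4, 9, 7, 4], [6, 15, 2, 11, 6]]⟩, ⟨3, [3111, 231, 225], 17, 0, [[], [2, 0]]⟩, ⟨2, [230, 224, 1382, 134, 215, 134, 248, 231, 2793], 14, 3, [[], [14, 13], [8, 14, 9, 11], [10, 9, 6, 9, 0]]⟩, ⟨3, [3115, 231, 225], 17, 0, [[], [2, 0]]⟩, ⟨2, [224, 230, 224, 1450, 124, 127, 215, 139, 248, 231, 225, 827], 14, 3, [[], [13, 6, 12, 12, 2], [15, 11, 11, 6, 0], [9, 12, 6, 12]]⟩, ⟨3, [3119, 231, 225], 17, 0, [[], [2, 0]]⟩, ⟨2, [224, 230, 2840, 127, 134, 124, 138, 248, 2788], 14, 3, [[], [14, 7, 13, 15], [8, 11, 6, 14, 8], [12, 4, 10, 4, 2]]⟩, ⟨3, [3123, 231, 225], 17, 0, [[], [2, 0]]⟩, ⟨2, [2968, 127, 214, 138, 248, 225, 2861], 14, 0, [[], [2, 14, 6], [6, 10, 7, 12, 2], [11, 7, 8, 13, 2]]⟩, ⟨2, [224, 1286, 124, 138, 138, 138, 248, 231, 225, 2921],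 14, 0, [[], [13, 14, 8, 13, 15], [9, 15, 11, 8, 0], [6, 11, 11, 9, 0]]⟩, ⟨3, [3129, 231], 17, 0, [[], [2, 0]]⟩, ⟨2, [230, 224, 3057, 224, 260, 215, 124, 139, 248], 15, 3, [[], [7, 11, 7, 9, 2], [6, 15, 15, 12], [6, 15, 4, 13]]⟩, ⟨3, [3133, 225], 17, 0, [[], [2, 0]]⟩, ⟨2, [1446, 215, 139, 248, 231, 225, 1185], 15, 2, [[], [9, 12, 10, 9, 4], [10, 15, 12, 12, 8], [15, 7, 15, 10, 2]]⟩, ⟨3, [3137, 231, 225], 17, 0, [[], [2, 0]]⟩, ⟨2, [230, 250, 134, 214, 124, 248, 225, 231, 225, 1493], 15, 2, [[], [4, 10, 13, 9, 0], [15, 8, 8, 7, 0], [8, 10, 12, 14, 4]]⟩, ⟨3, [3141, 225, 231, 225], 17, 0, [[], [2, 0]]⟩, ⟨2, [230, 224, 1720, 230, 448, 124, 126, 139, 139, 215, 248], 15, 0, [[], [7, 9, 12, 14, 2], [12, 8, 4, 8, 2], [7, 13, 8, 14, 0]]⟩, ⟨3, [3145, 225], 17, 0, [[], [2, 0]]⟩, ⟨2, [230, 224, 2622,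 224, 230, 3028, 214, 126, 248], 15, 0, [[], [13, 10, 10, 9, 0], [4, 11, 14, 8, 0], [4, 10, 6, 0, 10]]⟩, ⟨3, [3149, 225], 17, 0, [[], [2, 0]]⟩, ⟨2, [230, 224, 1676, 224, 1524, 134, 214, 126, 138, 248], 15, 1, [[], [9, 9, 4, 9, 0], [13, 9, 4, 11, 2], [9, 9, 15, 11, 6, 2]]⟩, ⟨2, [230, 400, 230, 224, 2534, 215, 134, 215, 139, 248], 15, 1, [[], [14, 13, 6], [15, 8, 8, 7, 4], [8, 6, 4, 14, 10]]⟩, ⟨3, [3155, 231], 17, 0, [[], [2, 0]]⟩, ⟨2, [224, 230, 2534, 124, 127, 215, 134, 248, 225, 231, 225, 809], 15, 0, [[], [11, 8, 10, 9, 0], [15, 12, 0, 8], [6, 14, 10, 6, 11]]⟩, ⟨2, [230, 250, 134, 214, 138, 248, 1965], 15, 0, [[], [4, 9, 13, 11], [15, 13, 4, 9], [4, 10, 12, 10]]⟩, ⟨3, [3161, 225, 231], 17, 0, [[], [2, 0]]⟩, ⟨2, [230, 1446, 126, 139, 215, 248, 225, 231, 2995], 15, 0, [[], [12, 4, 9],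 [15, 13, 7, 10, 0], [14, 7, 10, 6]]⟩, ⟨2, [230, 224, 2044, 126, 215, 138, 248, 225, 231, 225, 442], 15, 0, [[], [11, 9, 9, 11, 4], [15, 6, 8, 13], [12, 12, 15, 0]]⟩, ⟨3, [3167, 225, 231], 17, 0, [[], [2, 0]]⟩, ⟨2, [224, 230, 484, 124, 127, 214, 248, 225, 231, 3025], 15, 0, [[], [12, 15, 6, 10, 7], [2, 14, 6, 13], [13, 9, 10, 10, 0]]⟩, ⟨3, [3171, 225], 17, 0, [[], [2, 0]]⟩, ⟨2, [1644, 224, 3028, 214, 126, 248], 15, 2, [[], [9, 13, 11, 14, 6], [10, 4, 9, 0], [6, 12, 12, 2, 14]]⟩, ⟨3, [3175, 231], 17, 0, [[], [2, 0]]⟩, ⟨2, [230, 224, 1548, 127, 214, 138, 124, 248, 881], 15, 1, [[], [12, 2, 14, 13, 4], [4, 9, 13, 6], [8, 11, 14, 12]]⟩, ⟨3, [3179, 231], 17, 0, [[], [2, 0]]⟩, ⟨2, [230, 224, 1074, 230, 1382, 126, 214, 127, 248], 15, 2, [[], [9, 14, 2], [9, 12, 6, 12], [14, 8, 4, 11, 6, 0]]⟩,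 ⟨3, [3183, 231], 17, 0, [[], [2, 0]]⟩, ⟨2, [224, 230, 224, 270, 127, 139, 214, 138, 248, 231, 225, 1539], 15, 1, [[], [6, 4, 15, 9], [9, 7, 14, 6, 10, 0], [7, 10, 4, 14, 2]]⟩, ⟨3, [3187, 231], 17, 0, [[], [2, 0]]⟩, ⟨2, [1274, 187, 158, 127, 138, 124, 134, 248], 15, 2, [[], [8, 4, 8, 14, 11], [7, 4, 10, 10], [9, 9, 14, 11]]⟩, ⟨3, [3191, 225, 231], 17, 0, [[], [2, 0]]⟩, ⟨2, [224, 586, 88, 118, 88, 130, 139, 215, 138, 248], 15, 2, [[], [6, 4, 11, 9, 2], [8, 14, 10, 15], [9, 10, 15, 7, 10]]⟩, ⟨3, [3195, 231, 225], 17, 0, [[], [2, 0]]⟩, ⟨2, [224, 230, 1450, 124, 139, 139, 214, 248, 225, 231, 225, 2631], 15, 1, [[], [7, 15, 10, 9, 15], [12, 8, 11, 11], [13, 15, 6, 10, 9]]⟩, ⟨2, [230, 2860, 250, 138, 138, 127, 2841], 0, 2, [[], [6, 10, 13, 14, 2], [14, 8, 10, 2], [15, 8, 14, 11, 2]]⟩, ⟨2, [224,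 2789, 250, 215, 125, 135, 2969], 0, 3, [[], [14, 6, 10, 6, 0], [8, 8, 6, 9, 2], [15, 4, 13, 0]]⟩, ⟨3, [3203, 225, 231], 17, 0, [[], [2, 0]]⟩, ⟨2, [230, 2956, 230, 250, 135, 215, 126, 125, 1379], 1, 3, [[], [6, 8, 12, 14, 4, 0], [7, 10, 8, 11, 2], [7, 13, 6, 13, 0]]⟩, ⟨2, [230, 224, 250, 215, 125, 135, 126, 169, 187, 144, 186, 143, 951], 1, 2, [[], [4, 9, 15, 4, 2], [12, 11, 12, 11, 2], [13, 15, 8, 4]]⟩, ⟨3, [3209, 225], 17, 0, [[], [2, 0]]⟩, ⟨2, [230, 250, 215, 135, 126, 485, 2611], 1, 2, [[], [13, 6, 4, 15, 9], [8, 8, 13, 11, 4], [11, 4, 12, 8]]⟩, ⟨3, [3213, 231], 17, 0, [[], [2, 0]]⟩, ⟨2, [230, 1230, 230, 224, 250, 125, 135, 215, 126, 125, 1379], 1, 0, [[], [8, 13, 10, 4, 0], [13, 6, 11, 6, 13], [14, 8, 4]]⟩, ⟨3, [3217, 231, 225], 17, 0, [[], [2, 0]]⟩, ⟨2, [2920, 224, 230, 250, 125,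 215, 138, 215, 125, 1047], 1, 0, [[], [14, 11, 15, 8, 10], [7, 11, 4, 12, 0], [15, 7, 11, 13, 0]]⟩, ⟨3, [3221, 225, 231, 225], 17, 0, [[], [2, 0]]⟩, ⟨2, [350, 250, 138, 214, 135, 765], 1, 0, [[], [15, 6, 10, 8, 2], [14, 14, 7, 14, 2], [10, 4, 15, 4, 11]]⟩, ⟨3, [3225, 225], 17, 0, [[], [2, 0]]⟩, ⟨2, [230, 224, 2804, 224, 230, 224, 250, 139, 126, 125, 449], 1, 0, [[], [13, 9, 6, 11, 7], [6, 4, 15, 12, 8, 2], [4, 10, 4, 13, 7]]⟩] 847 1615 = true := by decide +kernel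
theorem dd_c2 : dd.checks [⟨3, [3229, 231], 17, 0, [[], [2, 0]]⟩, ⟨2, [2804, 224, 230, 250, 125, 214, 127, 125, 1451], 1, 0, [[], [13, 9, 12, 10, 0], [10, 4, 8, 4, 9], [12, 9, 6, 10, 12]]⟩, ⟨3, [3233, 225], 17, 0, [[], [2, 0]]⟩, ⟨2, [230, 1528, 250, 138, 138, 127, 2837], 3, 3, [[], [6, 11, 12, 14, 4], [14, 6, 10, 7, 14], [6, 13, 10, 6, 8]]⟩, ⟨3, [3237, 225, 231, 225], 17, 0, [[], [2, 0]]⟩, ⟨2, [224, 230, 224, 250, 127, 125, 214, 125, 451], 6, 2, [[], [12, 6, 10, 0], [11, 13, 8, 12, 9]]⟩, ⟨2, [224, 230, 224, 2920, 224, 230, 250, 135, 126, 214, 135, 1383], 7, 1, [[], [10, 9, 9, 14, 0], [11, 6, 4, 13], [11, 11, 8]]⟩, ⟨2, [224, 230, 224, 2860, 250, 139, 215, 138, 1287], 8, 2, [[], [13, 7, 4, 2, 0], [12, 12, 9, 10, 12], [7, 8, 14, 10, 10]]⟩, ⟨3, [3245, 225, 231], 17, 0, [[], [2, 0]]⟩, ⟨2,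 [1528, 250, 139, 215, 126, 1451], 8, 3, [[], [9, 4, 8, 14, 6], [14, 8, 15, 13], [9, 4, 9, 13]]⟩, ⟨3, [3249, 225, 231], 17, 0, [[], [2, 0]]⟩, ⟨2, [230, 224, 1728, 224, 230, 250, 126, 214, 139, 2969], 8, 3, [[], [8, 12, 8, 15, 8], [11, 14, 10, 15, 7], [7, 12, 11, 14, 2]]⟩, ⟨3, [3253, 225, 231], 17, 0, [[], [2, 0]]⟩, ⟨2, [762, 230, 250, 135, 126, 214, 135, 1383], 8, 3, [[], [9, 11, 11, 7, 0], [10, 10, 12, 8, 6], [7, 4, 9, 6, 4]]⟩, ⟨3, [3257, 225, 231], 17, 0, [[], [2, 0]]⟩, ⟨2, [1472, 224, 230, 224, 250, 135, 126, 214, 135, 1383], 8, 3, [[], [4, 11, 6, 2], [6, 8, 10, 8, 4], [6, 10, 9, 14, 8]]⟩, ⟨3, [3261, 225], 17, 0, [[], [2, 0]]⟩, ⟨2, [230, 2792, 230, 224, 250, 139, 127, 215, 135, 457], 8, 0, [[], [8, 10, 4, 9, 6], [6, 8, 8, 8, 0], [14, 9, 11, 7, 4]]⟩, ⟨3, [3265, 225], 17, 0, [[], [2,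 0]]⟩, ⟨2, [224, 230, 224, 2860, 250, 127, 214, 125, 451], 8, 0, [[], [9, 7, 4], [10, 15, 12, 8], [12, 14, 7, 0, 8]]⟩, ⟨3, [3269, 231], 17, 0, [[], [2, 0]]⟩, ⟨2, [230, 1476, 224, 230, 250, 125, 139, 215, 126, 1451], 8, 1, [[], [14, 8, 14, 10, 6], [9, 9, 10, 15], [12, 10, 14, 11, 4]]⟩, ⟨3, [3273, 225, 231], 17, 0, [[], [2, 0]]⟩, ⟨2, [230, 224, 250, 215, 139, 127, 1549, 225, 231, 225, 2227], 9, 1, [[], [8, 15, 8, 11, 6], [4, 10, 8, 4], [12, 8, 15, 8]]⟩, ⟨3, [3277, 145, 187, 145, 143], 17, 0, [[], [2, 0]]⟩, ⟨2, [224, 230, 224, 250, 138, 214, 125, 135, 127, 1525, 225, 231, 225, 2861], 9, 1, [[], [15, 9, 10, 12, 8], [4, 11, 4, 13, 7], [0, 10, 13, 7, 4]]⟩, ⟨3, [3281, 225, 231], 17, 0, [[], [2, 0]]⟩, ⟨2, [230, 2789, 250, 139, 135, 126, 1383], 9, 3, [[], [14, 12, 15, 9, 12], [0, 8, 13, 7, 13],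 [12, 10, 9, 7]]⟩, ⟨2, [230, 224, 2800, 224, 230, 250, 135, 126, 214, 135, 1549], 9, 3, [[], [11, 11, 4, 14], [10, 12, 9, 11], [6, 15, 15, 13]]⟩, ⟨3, [3287, 231], 17, 0, [[], [2, 0]]⟩, ⟨2, [230, 224, 2804, 224, 230, 250, 138, 214, 135, 127, 1047], 9, 3, [[], [4, 13, 13, 9, 2], [10, 7, 13, 2], [15, 9, 13, 7, 11]]⟩, ⟨2, [230, 826, 224, 230, 224, 250, 126, 214, 139, 125, 2845], 9, 3, [[], [14, 14, 13, 14, 8], [11, 8, 13, 10, 8], [6, 9, 11, 4, 0]]⟩, ⟨3, [3293, 231, 225], 17, 0, [[], [2, 0]]⟩, ⟨2, [230, 224, 2800, 224, 230, 250, 125, 139, 215, 126, 1451], 9, 0, [[], [14, 7, 13], [11, 13, 6, 13, 8], [14, 8, 13, 8]]⟩, ⟨3, [3297, 225, 231], 17, 0, [[], [2, 0]]⟩, ⟨2, [224, 826, 224, 230, 224, 250, 215, 125, 135, 2969], 9, 0, [[], [15, 15, 6, 13, 8, 0], [4, 8, 12, 6, 4, 0], [9, 13, 6, 9, 2]]⟩, ⟨3,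 [3301, 225, 231], 17, 0, [[], [2, 0]]⟩, ⟨2, [230, 224, 2920, 224, 230, 250, 127, 214, 127, 125, 1383], 9, 0, [[], [8, 12, 4, 10, 2], [11, 8, 6, 12, 0], [14, 8, 11, 12, 7, 0]]⟩, ⟨3, [3305, 225], 17, 0, [[], [2, 0]]⟩, ⟨2, [187, 144, 186, 2796, 250, 138, 214, 125, 135, 127, 485], 9, 1, [[], [14, 7, 4, 10], [15, 9, 6, 0], [4, 8, 0, 8, 4]]⟩, ⟨3, [3309, 225, 231, 225], 17, 0, [[], [2, 0]]⟩, ⟨2, [224, 230, 224, 2966, 230, 250, 138, 214, 125, 135, 127, 485], 9, 1, [[], [7, 11, 11, 12], [8, 8, 15, 10, 6], [6, 15, 12, 8]]⟩, ⟨3, [3313, 231, 225], 17, 0, [[], [2, 0]]⟩, ⟨2, [230, 224, 2928, 224, 230, 250, 125, 214, 139, 1287], 9, 1, [[], [11, 7, 15, 13], [10, 15, 15], [14, 4, 15, 8, 8]]⟩, ⟨2, [224, 230, 224, 3114, 230, 250, 139, 215, 126, 1451], 9, 1, [[], [8, 15, 15, 11], [9, 6, 15, 9, 4], [12, 8,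 8, 11]]⟩, ⟨3, [3319, 225, 231], 17, 0, [[], [2, 0]]⟩, ⟨2, [224, 230, 250, 138, 138, 127, 2841, 225, 231, 225, 2887], 9, 0, [[], [9, 15, 11, 14, 6], [10, 15, 13, 4, 8], [12, 11, 13, 7]]⟩, ⟨2, [230, 224, 3216, 224, 230, 224, 250, 126, 214, 139, 2969], 9, 1, [[], [7, 13, 6, 8, 0], [10, 9, 13, 6, 10, 0], [12, 10, 8, 12, 7]]⟩, ⟨3, [3325, 225, 231, 225], 17, 0, [[], [2, 0]]⟩, ⟨2, [1514, 250, 127, 214, 127, 125, 1383], 9, 1, [[], [12, 10, 13, 14, 6], [6, 15, 8, 15, 7], [11, 7, 9, 7, 0]]⟩, ⟨3, [3329, 225, 231], 17, 0, [[], [2, 0]]⟩, ⟨2, [186, 3310, 250, 214, 139, 1287], 9, 1, [[], [13, 11, 14, 12], [14, 13, 8], [4, 15, 12, 8, 6]]⟩, ⟨3, [3333, 225, 231], 17, 0, [[], [2, 0]]⟩, ⟨2, [224, 2963, 250, 125, 135, 125, 2837], 10, 2, [[], [4, 12, 12, 7], [14, 6, 12, 10, 6], [10, 12, 14, 11, 4]]⟩, ⟨3, [3337,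 231], 17, 0, [[], [2, 0]]⟩, ⟨2, [224, 2228, 224, 250, 215, 139, 135, 127, 2841], 10, 2, [[], [12, 10, 15, 6, 10], [12, 11, 13, 9, 7], [12, 7, 12, 0]]⟩, ⟨2, [2928, 224, 230, 250, 139, 127, 215, 135, 457], 10, 2, [[], [7, 8, 10, 6], [15, 4, 0, 9], [11, 7, 10, 6, 0]]⟩, ⟨3, [3343, 225, 231], 17, 0, [[], [2, 0]]⟩, ⟨2, [2318, 230, 250, 138, 138, 127, 2837], 10, 2, [[], [13, 14, 14, 10, 0], [15, 12, 11, 6, 9], [12, 6, 10, 13, 0]]⟩, ⟨3, [3347, 225, 231, 225], 17, 0, [[], [2, 0]]⟩, ⟨2, [144, 288, 250, 126, 214, 135, 2845], 10, 3, [[], [7, 2, 11, 7], [12, 11, 7, 11, 6], [11, 11, 6, 0]]⟩, ⟨3, [3351, 231], 17, 0, [[], [2, 0]]⟩, ⟨2, [142, 145, 187, 144, 288, 250, 135, 125, 139, 1379], 10, 3, [[], [10, 7, 9, 15, 8], [4, 14, 13, 8, 0], [14, 13, 7, 8, 6]]⟩, ⟨2, [230, 2832, 224, 230, 224, 250, 138, 214,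 125, 135, 127, 485], 10, 1, [[], [0, 8, 12, 7, 4], [11, 12, 2, 14, 6], [12, 7, 15, 4]]⟩, ⟨2, [2948, 224, 230, 224, 250, 139, 215, 126, 1451], 10, 1, [[], [15, 10, 4, 9], [14, 8, 11, 9, 10], [6, 14, 14, 2]]⟩, ⟨3, [3359, 225, 231], 17, 0, [[], [2, 0]]⟩, ⟨2, [224, 230, 224, 3160, 230, 250, 135, 138, 125, 1525], 11, 2, [[], [13, 6, 11, 15, 2], [12, 14, 13, 14, 4], [6, 8, 14, 12, 9]]⟩, ⟨2, [230, 250, 139, 139, 139, 126, 125, 1047, 225, 231, 2275], 11, 1, [[], [11, 13, 13, 7, 4], [6, 9, 12, 14, 7], [6, 11, 4, 11, 7]]⟩, ⟨3, [3365, 231], 17, 0, [[], [2, 0]]⟩, ⟨2, [230, 3140, 230, 224, 250, 138, 214, 135, 3029], 11, 2, [[], [9, 14, 12, 15], [4, 8, 8], [7, 9, 9, 14, 13]]⟩, ⟨2, [224, 230, 224, 250, 125, 214, 139, 159, 186, 144, 187, 145, 1573], 11, 1, [[], [9, 12, 9, 7, 0], [13, 4, 12, 10, 2], [15,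 10, 13, 10, 6]]⟩, ⟨2, [250, 139, 215, 126, 125, 457, 1699], 11, 2, [[], [14, 6, 10, 13, 10], [6, 9, 9, 11, 0], [14, 6, 15, 2, 11]]⟩, ⟨3, [3373, 231], 17, 0, [[], [2, 0]]⟩, ⟨2, [224, 230, 1964, 224, 250, 215, 139, 135, 1447], 11, 0, [[], [13, 10, 14, 11], [6, 9, 4, 12, 2], [4, 9, 15, 15, 4]]⟩, ⟨3, [3377, 231], 17, 0, [[], [2, 0]]⟩, ⟨2, [2920, 224, 230, 224, 250, 135, 214, 126, 125, 765], 13, 2, [[], [12, 8, 13, 8, 0], [13, 10, 15, 12, 4], [10, 12, 8]]⟩, ⟨2, [144, 186, 144, 282, 250, 125, 139, 135, 451], 13, 2, [[], [14, 6, 12, 8], [11, 9, 10, 0], [8, 13, 6, 9, 4]]⟩, ⟨2, [2804, 224, 230, 250, 138, 135, 127, 1451], 13, 2, [[], [9, 10, 10, 9], [11, 9, 6, 14, 0], [8, 14, 14, 11, 15, 0]]⟩, ⟨3, [3385, 231], 17, 0, [[], [2, 0]]⟩, ⟨2, [224, 230, 2920, 224, 230, 224, 250, 215, 127, 214, 125, 457],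 13, 2, [[], [10, 6, 8, 4], [6, 8, 4, 14, 0], [12, 14, 8, 11, 6]]⟩, ⟨3, [3389, 225], 17, 0, [[], [2, 0]]⟩, ⟨2, [2804, 224, 230, 250, 138, 138, 126, 125, 451], 13, 2, [[], [7, 8, 13, 11, 15], [7, 11, 12, 14, 4, 2], [12, 8, 15, 10, 6]]⟩, ⟨3, [3393, 225], 17, 0, [[], [2, 0]]⟩, ⟨2, [2804, 224, 230, 224, 250, 127, 214, 125, 2841], 13, 2, [[], [14, 2], [11, 7, 9, 11, 6], [4, 12, 12, 4, 2]]⟩, ⟨3, [3397, 225, 231], 17, 0, [[], [2, 0]]⟩, ⟨2, [224, 230, 826, 224, 230, 250, 138, 138, 127, 2841], 13, 3, [[], [9, 12, 10, 6, 4], [15, 15, 9, 14], [8, 11, 14, 8, 7]]⟩, ⟨3, [3401, 225, 231], 17, 0, [[], [2, 0]]⟩, ⟨2, [266, 250, 126, 214, 139, 2969], 13, 3, [[], [11, 12, 12, 15, 7], [11, 9, 9, 6, 11], [13, 4, 8, 13, 4]]⟩, ⟨2, [224, 230, 250, 135, 126, 214, 135, 1383, 225, 231, 2425], 13, 3, [[], [4, 11,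 4, 10, 8], [6, 13, 6, 4, 2], [12, 8, 6, 13, 11]]⟩, ⟨3, [3407, 225, 231, 225], 17, 0, [[], [2, 0]]⟩, ⟨2, [230, 224, 250, 139, 215, 126, 1451, 225, 231, 225, 1721], 13, 3, [[], [9, 10, 12, 6, 9], [13, 7, 15, 9, 6], [11, 14, 11, 8]]⟩, ⟨3, [3411, 231], 17, 0, [[], [2, 0]]⟩, ⟨2, [224, 230, 1230, 230, 250, 214, 139, 139, 2841], 14, 2, [[], [15, 9, 9, 6, 2], [6, 12, 6, 9, 14], [11, 11, 4, 11, 2]]⟩, ⟨3, [3415, 225], 17, 0, [[], [2, 0]]⟩, ⟨2, [230, 224, 826, 224, 230, 224, 250, 126, 214, 135, 125, 765], 14, 2, [[], [12, 14, 0, 9], [6, 14, 6, 8, 6], [11, 11, 13, 9, 4]]⟩, ⟨3, [3419, 225, 231], 17, 0, [[], [2, 0]]⟩, ⟨2, [2800, 224, 230, 250, 214, 139, 135, 2969], 14, 2, [[], [12, 11, 14, 4, 8], [11, 4, 14, 14], [12, 4, 10, 4, 8]]⟩, ⟨2, [230, 224, 2789, 250, 139, 126, 125, 1451], 14, 2, [[], [7, 11,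 13, 8], [13, 14, 6, 10, 4], [4, 9, 11, 13, 0]]⟩, ⟨3, [3425, 225, 231], 17, 0, [[], [2, 0]]⟩, ⟨2, [224, 1230, 230, 224, 250, 139, 127, 215, 135, 127, 485], 14, 3, [[], [7, 12, 4, 8, 2], [14, 7, 15, 9, 7], [8, 15, 7, 8, 8]]⟩, ⟨3, [3429, 231], 17, 0, [[], [2, 0]]⟩, ⟨2, [224, 230, 224, 383, 250, 139, 215, 126, 1451], 14, 3, [[], [6, 12, 6, 12], [10, 9, 11, 12, 0], [4, 14, 14, 9]]⟩, ⟨3, [3433, 231, 225], 17, 0, [[], [2, 0]]⟩, ⟨2, [230, 250, 135, 126, 214, 135, 1383, 2019], 14, 3, [[], [6, 11, 11, 0], [8, 13, 7, 13], [4, 10, 9, 9, 0]]⟩, ⟨3, [3437, 187, 143, 187], 17, 0, [[], [2, 0]]⟩, ⟨2, [224, 230, 3208, 230, 224, 250, 126, 214, 139, 2969], 14, 0, [[], [10, 12, 12, 8, 4], [8, 8, 4, 13, 4, 0], [9, 2]]⟩, ⟨3, [3441, 225, 231, 225], 17, 0, [[], [2, 0]]⟩, ⟨2, [224, 250, 139, 215, 126, 1451, 225,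 231, 2811], 14, 3, [[], [13, 10, 13, 0, 9], [11, 7, 11, 6], [10, 7, 13, 7]]⟩, ⟨2, [230, 3364, 230, 224, 250, 138, 126, 2535], 14, 1, [[], [7, 0, 9, 13, 7], [10, 9, 9, 12, 2], [7, 0, 8, 6]]⟩, ⟨2, [142, 145, 187, 144, 1240, 224, 230, 250, 138, 138, 127, 2535], 14, 1, [[], [8, 14, 12, 15, 12], [12, 12, 14, 11], [9, 15, 6, 13]]⟩, ⟨3, [3449, 231, 225], 17, 0, [[], [2, 0]]⟩, ⟨2, [230, 250, 135, 214, 126, 125, 451, 225, 2229], 15, 1, [[], [12, 6, 4, 8], [4, 8, 7, 10, 6], [14, 10, 6, 13, 6]]⟩, ⟨2, [230, 250, 215, 125, 215, 1451, 2499], 15, 1, [[], [11, 7, 14, 10, 0], [10, 14, 6, 9, 4], [4, 8, 4, 0, 10]]⟩, ⟨3, [3455, 231, 225], 17, 0, [[], [2, 0]]⟩, ⟨2, [224, 230, 224, 3045, 224, 250, 215, 125, 135, 126, 1549], 15, 3, [[], [13, 15, 15, 9, 7, 0], [6, 15, 0, 9, 4], [14, 8, 13, 15, 9]]⟩, ⟨3, [3459,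 225, 231, 225], 17, 0, [[], [2, 0]]⟩, ⟨2, [224, 230, 224, 250, 214, 139, 214, 2845, 225, 231, 723], 15, 2, [[], [14, 7, 0, 8, 7], [4, 14, 9, 0], [6, 11, 12, 4, 11]]⟩, ⟨2, [224, 230, 224, 250, 135, 214, 127, 155, 144, 143, 2007], 15, 2, [[], [6, 13, 0, 8, 6], [8, 8, 11, 7, 0], [6, 14, 14, 6, 11]]⟩, ⟨3, [3465, 225], 17, 0, [[], [2, 0]]⟩, ⟨2, [230, 224, 1606, 230, 250, 215, 126, 214, 135, 2969], 15, 3, [[], [10, 10, 7, 8, 4], [6, 9, 13, 15, 0], [14, 7, 14, 2]]⟩, ⟨3, [3469, 225, 231, 225], 17, 0, [[], [2, 0]]⟩, ⟨2, [230, 224, 2810, 230, 250, 135, 138, 138, 1549], 15, 3, [[], [7, 10, 10, 9, 9], [12, 8, 15, 11, 0], [12, 7, 10, 7, 0]]⟩, ⟨2, [224, 230, 250, 135, 214, 127, 251, 231, 225, 2904], 15, 2, [[], [13, 9, 4, 12, 10], [14, 11, 8, 8], [11, 9, 14, 11, 6, 0]]⟩, ⟨3, [3475, 231], 17, 0, [[],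 [2, 0]]⟩, ⟨2, [230, 3027, 224, 250, 135, 138, 127, 2841], 15, 3, [[], [11, 14, 13, 9, 7], [11, 15, 7, 8, 7], [12, 6, 12, 11, 0]]⟩, ⟨3, [3479, 225, 231], 17, 0, [[], [2, 0]]⟩, ⟨2, [224, 230, 250, 139, 139, 135, 2045, 225, 3459], 15, 2, [[], [13, 14, 10, 9], [4, 10, 12, 6], [10, 9, 13, 6, 10]]⟩, ⟨3, [3483, 231, 225], 17, 0, [[], [2, 0]]⟩, ⟨2, [224, 230, 224, 250, 125, 131, 119, 61, 193], 15, 3, [[], [7, 11, 8, 10, 0], [13, 4, 12, 4], [10, 7, 4, 12, 0]]⟩, ⟨3, [3487, 187, 144, 186, 145], 17, 0, [[], [2, 0]]⟩, ⟨2, [230, 2822, 224, 250, 125, 215, 138, 215, 413], 15, 1, [[], [9, 9, 12, 4, 2], [9, 13, 4, 8, 2], [11, 8, 11, 7, 0]]⟩, ⟨2, [230, 224, 250, 139, 139, 1549, 225, 1309], 15, 0, [[], [10, 6, 4, 15, 4, 2], [9, 9, 15, 12, 6, 4], [13, 13, 6, 11, 2]]⟩, ⟨3, [3493, 187, 144, 186, 145], 17, 0,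 [[], [2, 0]]⟩, ⟨2, [3208, 230, 224, 250, 215, 126, 232], 15, 1, [[], [11, 6, 4, 10, 2], [9, 7, 2, 15], [9, 7, 12, 15]]⟩, ⟨2, [224, 230, 3364, 230, 224, 250, 138, 127, 1047], 15, 1, [[], [12, 12, 12], [13, 8, 8, 12, 0], [11, 9, 7, 12]]⟩, ⟨3, [3499, 225, 231], 17, 0, [[], [2, 0]]⟩, ⟨2, [3410, 230, 250, 126, 214, 2045], 15, 1, [[], [13, 14, 14, 13, 8], [14, 6, 4, 10, 6], [14, 13, 8, 7, 15]]⟩, ⟨3, [3503, 231], 17, 0, [[], [2, 0]]⟩, ⟨2, [224, 250, 215, 138, 126, 945, 225, 2083], 15, 0, [[], [4, 15, 2], [11, 9, 7, 13, 0], [10, 7, 10, 13, 11]]⟩, ⟨2, [186, 145, 3334, 230, 250, 214, 139, 139, 413], 15, 1, [[], [15, 12, 14, 9], [4, 9, 15, 8, 11], [7, 13, 8, 7, 0]]⟩, ⟨3, [3509, 231, 225], 17, 0, [[], [2, 0]]⟩, ⟨2, [142, 144, 186, 144, 914, 224, 250, 139, 139, 139, 127, 271], 15, 1, [[], [9, 9, 4,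 0, 8], [11, 13, 7, 12, 0], [7, 10, 8, 8, 4]]⟩, ⟨3, [3513, 225, 231], 17, 0, [[], [2, 0]]⟩, ⟨2, [224, 250, 138, 138, 159, 144, 143, 2445], 15, 0, [[], [9, 4, 12, 7, 2], [6, 2, 14, 6], [15, 12, 6, 8, 14]]⟩, ⟨3, [3517, 225, 231, 225], 17, 0, [[], [2, 0]]⟩, ⟨2, [3153, 224, 250, 214, 127, 215, 135, 125, 1047], 15, 1, [[], [15, 8, 12, 6, 0], [6, 11, 15, 12, 8], [7, 9, 12, 15, 2]]⟩, ⟨3, [3521, 225], 17, 0, [[], [2, 0]]⟩, ⟨2, [224, 250, 139, 215, 135, 126, 125, 945, 1457], 15, 0, [[], [7, 10, 15, 10, 13], [12, 14, 4, 2], [15, 4, 13, 7]]⟩, ⟨3, [3525, 225, 231], 17, 0, [[], [2, 0]]⟩, ⟨2, [224, 3134, 224, 230, 224, 250, 135, 127, 215, 127, 765], 15, 1, [[], [13, 10, 13, 0, 9], [8, 4, 12, 11], [9, 10, 13, 9]]⟩, ⟨3, [3529, 231, 225], 17, 0, [[], [2, 0]]⟩, ⟨2, [142, 145, 252, 225, 231, 225, 1611, 186,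 144, 187, 145, 2457], 0, 1, [[], [8, 7, 4, 10, 8], [7, 11, 7, 11, 0], [12, 4, 9, 12, 2]]⟩, ⟨3, [3533, 231, 225], 17, 0, [[], [2, 0]]⟩, ⟨2, [230, 224, 2974, 224, 230, 3532, 144, 252], 0, 0, [[], [4, 15, 11, 9, 4], [12, 12, 15, 8, 8, 0], [15, 13, 13, 14, 9]]⟩, ⟨3, [3537, 225], 17, 0, [[], [2, 0]]⟩, ⟨2, [224, 230, 224, 3326, 224, 230, 1754, 186, 252], 1, 3, [[], [9, 6, 12, 12], [4, 8, 13, 9, 0], [13, 7, 13, 10, 0]]⟩, ⟨3, [3541, 231, 225], 17, 0, [[], [2, 0]]⟩, ⟨2, [224, 230, 718, 186, 142, 186, 252, 231, 2239], 1, 2, [[], [7, 12, 4, 9, 4], [9, 6, 9, 11, 2], [4, 10, 10, 12, 10]]⟩, ⟨3, [3545, 225], 17, 0, [[], [2, 0]]⟩, ⟨2, [230, 224, 246, 187, 145, 186, 252, 231, 225, 1611], 1, 2, [[], [9, 15, 10, 9, 6], [8, 12, 14, 12, 0], [9, 11, 9, 4]]⟩, ⟨3, [3549, 144, 187, 145], 17, 0, [[], [2, 0]]⟩,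 ⟨2, [224, 230, 256, 144, 187, 145, 186, 252, 392], 1, 2, [[], [9, 15, 8, 10, 0], [9, 15, 10, 7], [11, 13, 9, 7, 12]]⟩, ⟨3, [3553, 225, 231, 225], 17, 0, [[], [2, 0]]⟩, ⟨2, [142, 186, 144, 187, 700, 230, 224, 2158, 142, 187, 144, 252], 1, 0, [[], [4, 13, 15, 6, 10], [9, 4, 13, 11, 7], [9, 11, 4, 10, 2]]⟩, ⟨3, [3557, 225, 231], 17, 0, [[], [2, 0]]⟩, ⟨2, [3006, 1054, 186, 252], 1, 0, [[], [13, 6, 8, 14], [7, 13, 10, 6, 2], [11, 13, 10, 12, 15]]⟩, ⟨3, [3561, 225, 231], 17, 0, [[], [2, 0]]⟩, ⟨2, [186, 142, 252, 225, 231, 225, 2227, 143, 187, 145, 3513], 1, 2, [[], [9, 15, 8, 8], [8, 15, 11, 14, 4], [7, 10, 15, 9]]⟩, ⟨3, [3565, 225, 231, 225], 17, 0, [[], [2, 0]]⟩, ⟨2, [224, 2146, 186, 142, 252, 225, 231, 225, 3479], 1, 3, [[], [11, 14, 7, 9, 6, 0], [13, 15, 6, 8, 4], [6, 0, 10, 7, 4]]⟩, ⟨3,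 [3569, 225, 231, 225], 17, 0, [[], [2, 0]]⟩, ⟨2, [230, 224, 3480, 798, 187, 144, 252], 1, 0, [[], [15, 7, 10, 13], [15, 12, 12, 10, 9], [4, 13, 7, 4, 0]]⟩, ⟨2, [224, 1324, 230, 1620, 186, 252], 1, 0, [[], [9, 6, 12, 12, 0], [15, 12, 12, 15, 4], [7, 11, 14, 4, 0]]⟩, ⟨3, [3575, 231, 225], 17, 0, [[], [2, 0]]⟩, ⟨2, [230, 224, 2604, 186, 144, 187, 252, 225, 231, 3553], 1, 0, [[], [13, 15, 8, 0], [4, 11, 14, 4, 2], [13, 11, 8, 4]]⟩, ⟨2, [224, 230, 224, 1722, 142, 145, 186, 252, 3049], 1, 0, [[], [14, 11, 13, 11, 9], [10, 10, 4, 12, 2], [12, 12, 12, 6]]⟩, ⟨3, [3581, 231, 225], 17, 0, [[], [2, 0]]⟩, ⟨2, [2720, 230, 3532, 144, 252], 1, 1, [[], [7, 9, 6, 15], [7, 8, 4, 10], [10, 15, 6, 4, 0]]⟩, ⟨3, [3585, 225, 231, 225], 17, 0, [[], [2, 0]]⟩, ⟨2, [224, 230, 224, 2126, 187, 144, 252, 231, 225,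 3131], 1, 0, [[], [15, 10, 8, 8, 0], [15, 11, 12, 7, 0], [8, 8, 12, 6, 0]]⟩, ⟨3, [3589, 225, 231], 17, 0, [[], [2, 0]]⟩, ⟨2, [230, 224, 1722, 144, 186, 145, 252, 225, 231, 225, 3479], 1, 0, [[], [8, 4, 11, 13], [13, 8, 4], [15, 13, 14, 6, 0]]⟩, ⟨3, [3593, 231, 225], 17, 0, [[], [2, 0]]⟩, ⟨2, [230, 2182, 144, 186, 145, 187, 252, 379], 1, 1, [[], [6, 4, 10, 8, 2], [15, 8, 15, 13, 2], [14, 7, 0, 10, 4]]⟩, ⟨2, [230, 2438, 144, 252, 245], 1, 1, [[], [8, 13, 7, 0, 9], [13, 15, 8, 0], [11, 4, 12, 15]]⟩, ⟨3, [3599, 144, 186, 143], 17, 0, [[], [2, 0]]⟩, ⟨2, [224, 230, 1292, 142, 145, 252, 231, 225, 1479], 3, 2, [[], [8, 15, 9, 10, 9], [9, 12, 15, 12, 4], [6, 14, 14, 12, 11]]⟩, ⟨2, [1092, 1898, 144, 186, 145, 187, 252], 3, 3, [[], [13, 14, 8, 13, 15], [7, 11, 13, 15, 9], [14, 6, 13, 9, 0]]⟩, ⟨3,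 [3605, 231], 17, 0, [[], [2, 0]]⟩, ⟨2, [224, 3438, 186, 142, 252, 231, 2543], 3, 0, [[], [4, 8, 12, 4, 2], [4, 14, 9], [4, 12, 4, 12, 10]]⟩, ⟨2, [142, 187, 145, 186, 252, 231, 225, 3271, 225, 231, 225, 2141], 3, 3, [[], [10, 6, 14, 2], [8, 12, 14, 7, 13], [15, 6, 10, 10, 7]]⟩, ⟨3, [3611, 231, 225], 17, 0, [[], [2, 0]]⟩, ⟨2, [186, 144, 187, 252, 231, 2543], 6, 1, [[], [8, 8, 4, 8, 6], [11, 9, 2, 15]]⟩, ⟨3, [3615, 231], 17, 0, [[], [2, 0]]⟩, ⟨2, [224, 230, 1432, 186, 144, 252], 6, 0, [[], [12, 7, 9, 13], [10, 7, 14, 4, 8]]⟩, ⟨3, [3619, 225], 17, 0, [[], [2, 0]]⟩, ⟨2, [230, 3448, 142, 145, 252], 6, 0, [[], [11, 11, 7, 4, 0], [11, 7, 9, 6]]⟩, ⟨3, [3623, 225], 17, 0, [[], [2, 0]]⟩, ⟨2, [2126, 187, 142, 145, 252, 225, 231, 3503], 7, 1, [[], [15, 11, 12, 14, 11], [8, 14, 8, 11, 0], [7, 9, 12,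 14, 6]]⟩, ⟨2, [224, 2604, 186, 142, 187, 252, 231, 3607], 8, 2, [[], [7, 15, 12, 8, 8], [15, 13, 4, 8, 10], [4, 2, 0]]⟩, ⟨3, [3629, 231], 17, 0, [[], [2, 0]]⟩, ⟨2, [1642, 224, 230, 2126, 187, 144, 252], 8, 3, [[], [7, 11, 13, 0], [8, 12, 9, 10, 15], [6, 10, 10, 7, 4]]⟩, ⟨3, [3633, 225], 17, 0, [[], [2, 0]]⟩, ⟨2, [224, 1722, 142, 145, 186, 252, 231, 225, 1479], 8, 2, [[], [11, 6, 11, 11, 9], [10, 15, 4, 12, 6], [9, 15, 13, 8, 0]]⟩, ⟨2, [224, 3532, 144, 252, 225, 231, 225, 3529], 8, 2, [[], [15, 7, 10, 13, 0], [9, 13, 15, 8, 0], [7, 2]]⟩, ⟨3, [3639, 225, 231], 17, 0, [[], [2, 0]]⟩, ⟨2, [224, 754, 142, 145, 252, 225, 231, 225, 3543], 8, 3, [[], [10, 7, 4, 11, 0], [8, 11, 15, 11, 4], [15, 15, 8, 4]]⟩, ⟨3, [3643, 225, 231, 225], 17, 0, [[], [2, 0]]⟩, ⟨2, [186, 144, 252, 231, 3503, 231, 3012],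 8, 2, [[], [13, 11, 8, 6, 0], [13, 6, 4], [4, 9, 14, 8, 2]]⟩, ⟨3, [3647, 225], 17, 0, [[], [2, 0]]⟩, ⟨2, [1432, 186, 144, 252, 225, 2380], 8, 3, [[], [10, 2, 14, 12, 6], [13, 7, 15, 6, 8], [11, 14, 12, 9, 11]]⟩, ⟨3, [3651, 187, 143, 187], 17, 0, [[], [2, 0]]⟩, ⟨2, [2438, 142, 145, 252, 1965], 8, 0, [[], [7, 14, 12, 15, 0], [12, 14, 10, 14], [10, 15, 15]]⟩, ⟨3, [3655, 225, 231], 17, 0, [[], [2, 0]]⟩, ⟨2, [3610, 142, 187, 145, 186, 252, 225, 3539], 8, 1, [[], [11, 14, 10, 10, 12], [7, 13, 11, 8, 0], [13, 8, 6, 9, 0]]⟩, ⟨3, [3659, 225], 17, 0, [[], [2, 0]]⟩, ⟨2, [224, 230, 2182, 187, 142, 145, 186, 252, 231, 225, 2933], 9, 3, [[], [6, 12, 4, 8], [13, 9, 10, 14, 2], [9, 9, 7, 9, 4]]⟩, ⟨3, [3663, 231, 225], 17, 0, [[], [2, 0]]⟩, ⟨2, [224, 230, 224, 2950, 230, 1060, 186, 144, 252], 9, 0, [[],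 [11, 4, 13, 7], [4, 2, 11, 13], [8, 4, 15, 15]]⟩, ⟨3, [3667, 231, 225], 17, 0, [[], [2, 0]]⟩, ⟨2, [1722, 142, 145, 186, 252, 225, 231, 1745], 9, 3, [[], [9, 15, 10, 9, 7], [14, 12, 15, 11, 0], [4, 11, 11, 14, 2]]⟩, ⟨3, [3671, 225, 231], 17, 0, [[], [2, 0]]⟩, ⟨2, [230, 2182, 187, 142, 145, 186, 252, 231, 225, 3543], 9, 0, [[], [6, 10, 13, 13, 9], [15, 15, 8, 8, 8], [15, 15, 13, 10]]⟩, ⟨3, [3675, 225, 231, 225], 17, 0, [[], [2, 0]]⟩, ⟨2, [224, 230, 3532, 142, 145, 252, 225, 231, 2239], 9, 0, [[], [14, 12, 10, 7, 2], [15, 12, 12, 9, 0], [8, 8, 4, 14, 6]]⟩, ⟨3, [3679, 225], 17, 0, [[], [2, 0]]⟩, ⟨2, [186, 142, 252, 225, 231, 225, 1611, 145, 186, 144, 143, 1821], 9, 3, [[], [12, 12, 11, 9], [6, 4, 13, 9, 2], [9, 10, 8, 11]]⟩, ⟨3, [3683, 231], 17, 0, [[], [2, 0]]⟩, ⟨2, [230, 2126, 187, 142,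 145, 252, 225, 231, 2239], 9, 0, [[], [12, 10, 14, 6, 14], [9, 6, 15, 15, 7], [11, 8, 6, 2]]⟩, ⟨2, [224, 230, 2112, 186, 142, 187, 252, 231, 2239], 9, 1, [[], [7, 9, 7, 9, 9], [12, 7, 4, 11, 0], [6, 9, 4, 12, 11]]⟩, ⟨3, [3689, 225], 17, 0, [[], [2, 0]]⟩, ⟨2, [187, 142, 145, 252, 225, 231, 2239, 231, 225, 2111], 9, 0, [[], [15, 11, 11, 13], [8, 11, 8, 7], [7, 14, 4, 8]]⟩, ⟨3, [3693, 225], 17, 0, [[], [2, 0]]⟩, ⟨2, [1328, 186, 252, 225, 2519], 10, 2, [[], [12, 15, 10, 14], [11, 14, 6, 10], [7, 12, 11, 11]]⟩, ⟨3, [3697, 231], 17, 0, [[], [2, 0]]⟩, ⟨2, [224, 230, 750, 142, 145, 187, 252, 225, 231, 225, 1221], 10, 2, [[], [9, 6, 0], [9, 13, 14, 4], [13, 13, 7, 12, 2]]⟩, ⟨3, [3701, 231], 17, 0, [[], [2, 0]]⟩, ⟨2, [2444, 186, 142, 252, 231, 225, 3529], 10, 2, [[], [12, 10, 6, 12], [8, 15, 11,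 0], [8, 14, 7, 11, 0]]⟩, ⟨3, [3705, 225, 231], 17, 0, [[], [2, 0]]⟩, ⟨2, [3610, 142, 187, 145, 186, 252, 225, 231, 225, 3543], 10, 1, [[], [14, 14, 11, 15, 9], [12, 10, 6, 10, 9], [10, 15, 15, 11, 4]]⟩, ⟨3, [3709, 225, 231], 17, 0, [[], [2, 0]]⟩, ⟨2, [224, 3178, 230, 1680, 187, 145, 252], 11, 3, [[], [15, 10, 10, 4, 15], [12, 10, 9, 15, 7], [13, 4, 13, 10, 9]]⟩, ⟨3, [3713, 225, 231], 17, 0, [[], [2, 0]]⟩, ⟨2, [224, 230, 2373, 230, 1038, 144, 187, 145, 186, 252], 11, 3, [[], [7, 11, 6, 4, 8], [4, 15, 2, 11], [11, 4, 13, 15, 2]]⟩, ⟨3, [3717, 225, 231], 17, 0, [[], [2, 0]]⟩, ⟨2, [224, 3494, 187, 142, 145, 186, 252, 231, 225, 2111], 11, 2, [[], [9, 12, 15, 2], [11, 6, 15, 2], [13, 9, 4, 12, 0]]⟩, ⟨3, [3721, 225, 231, 225], 17, 0, [[], [2, 0]]⟩, ⟨2, [118, 62, 204, 144, 252, 1341], 11, 2, [[],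 [11, 12, 14, 12], [6, 11, 14, 4], [12, 14, 11, 4, 2]]⟩, ⟨3, [3725, 225, 231], 17, 0, [[], [2, 0]]⟩, ⟨2, [2936, 230, 224, 3564, 186, 142, 252], 11, 3, [[], [7, 12, 12, 12, 10], [7, 8, 12, 12, 4], [13, 15, 12, 9, 6]]⟩, ⟨3, [3729, 225, 231, 225], 17, 0, [[], [2, 0]]⟩, ⟨2, [187, 145, 2216, 187, 142, 145, 252, 2371], 11, 2, [[], [11, 12, 15, 2], [15, 8, 15, 4, 2], [6, 13, 9, 11, 4]]⟩, ⟨2, [1794, 144, 187, 252, 231, 3044], 11, 2, [[], [12, 11, 6, 11], [14, 4, 13, 8], [8, 4, 9, 6, 4]]⟩, ⟨2, [230, 224, 2968, 124, 134, 156, 145, 186, 252], 11, 3, [[], [8, 10, 12, 10], [13, 13, 10, 12, 4], [12, 12, 15, 13, 0]]⟩, ⟨3, [3737, 225, 231], 17, 0, [[], [2, 0]]⟩, ⟨2, [224, 230, 718, 187, 145, 252, 225, 2651], 11, 2, [[], [10, 14, 4], [8, 7, 9, 12, 6], [13, 13, 14, 14, 9]]⟩, ⟨3, [3741, 231], 17, 0, [[],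 [2, 0]]⟩, ⟨2, [142, 145, 186, 144, 252, 231, 225, 3284, 225, 231, 1179], 11, 1, [[], [4, 14, 7, 8, 2], [13, 15, 0], [14, 14, 6, 13]]⟩, ⟨3, [3745, 231, 225], 17, 0, [[], [2, 0]]⟩, ⟨2, [144, 186, 142, 252, 3073, 225, 231, 225, 995], 11, 1, [[], [8, 8, 14, 13, 0], [12, 14, 13, 8, 6], [4, 13, 11, 8, 8]]⟩, ⟨3, [3749, 225, 231, 225], 17, 0, [[], [2, 0]]⟩, ⟨2, [145, 186, 144, 252, 231, 3407, 231, 3391], 11, 1, [[], [12, 11, 9, 10, 4], [9, 13, 11, 8, 10], [10, 6, 10, 10, 0]]⟩, ⟨3, [3753, 231, 225], 17, 0, [[], [2, 0]]⟩, ⟨2, [230, 1716, 224, 230, 224, 1050, 186, 142, 252], 11, 0, [[], [14, 10, 15, 8, 7], [4, 11, 11, 14, 4], [12, 7, 14, 12, 4]]⟩, ⟨3, [3757, 231], 17, 0, [[], [2, 0]]⟩, ⟨2, [224, 3072, 1680, 186, 142, 252], 11, 0, [[], [10, 7, 13, 9, 4, 0], [4, 9, 13, 8, 2], [12, 11, 14, 9, 4]]⟩,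 ⟨3, [3761, 225, 231, 225], 17, 0, [[], [2, 0]]⟩, ⟨2, [1100, 144, 187, 145, 186, 252, 225, 2057], 11, 3, [[], [13, 15, 8, 4, 8], [7, 15, 9, 9], [12, 14, 4, 8, 10]]⟩, ⟨3, [3765, 225, 231, 225], 17, 0, [[], [2, 0]]⟩, ⟨2, [145, 187, 144, 252, 231, 3441, 225, 231, 225, 2939], 11, 2, [[], [13, 15, 13, 11, 9, 0], [6, 11, 4, 8], [15, 13, 6, 4]]⟩, ⟨3, [3769, 225], 17, 0, [[], [2, 0]]⟩, ⟨2, [230, 3682, 186, 142, 252, 225, 1307], 13, 2, [[], [15, 9, 9, 10, 10], [11, 11, 12, 4, 12], [8, 11, 15, 13, 6]]⟩, ⟨2, [230, 224, 1680, 186, 142, 252, 225, 231, 225, 3543], 13, 0, [[], [11, 14, 8, 10, 6], [6, 4, 15, 9, 0], [4, 15, 11, 2]]⟩, ⟨3, [3775, 231, 225], 17, 0, [[], [2, 0]]⟩, ⟨2, [3201, 224, 230, 2172, 145, 186, 142, 187, 252], 13, 2, [[], [6, 13, 13, 9, 2], [8, 2, 11, 13, 7], [11, 12, 14, 13]]⟩, ⟨3,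 [3779, 225], 17, 0, [[], [2, 0]]⟩, ⟨2, [224, 3532, 144, 252, 231, 2411], 14, 2, [[], [15, 4, 12, 4, 8], [10, 14, 13, 8, 12], [15, 15, 6]]⟩, ⟨3, [3783, 231], 17, 0, [[], [2, 0]]⟩, ⟨2, [224, 230, 1722, 142, 145, 186, 252, 225, 231, 3759], 14, 2, [[], [9, 6, 8, 2], [10, 13, 10, 6, 4], [13, 8, 8, 11, 2]]⟩, ⟨3, [3787, 225, 231], 17, 0, [[], [2, 0]]⟩, ⟨2, [224, 230, 224, 2126, 187, 142, 145, 252, 2380], 14, 3, [[], [11, 14, 12, 9, 11], [10, 10, 9, 0, 9], [6, 13, 6, 0, 10]]⟩, ⟨3, [3791, 144, 143], 17, 0, [[], [2, 0]]⟩, ⟨2, [224, 3682, 186, 142, 252, 273], 14, 3, [[], [14, 12, 15, 15, 7], [12, 15, 13, 6, 4], [6, 11, 12, 14, 7]]⟩, ⟨3, [3795, 61, 118, 61], 17, 0, [[], [2, 0]]⟩, ⟨2, [224, 230, 1816, 144, 252, 225, 3539], 14, 0, [[], [6, 14, 6, 9], [8, 11, 8, 13], [10, 13, 15, 9]]⟩, ⟨3, [3799, 225],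 17, 0, [[], [2, 0]]⟩, ⟨2, [3494, 144, 186, 145, 187, 252, 231, 225, 2271], 14, 1, [[], [14, 10, 8, 11], [7, 4, 13, 9, 4], [9, 9, 13, 6, 4]]⟩, ⟨2, [230, 1110, 1924, 186, 142, 252], 14, 2, [[], [14, 6, 10, 14, 8], [9, 14, 10, 15, 0], [4, 10, 15, 12]]⟩, ⟨2, [3624, 224, 230, 1060, 187, 252], 14, 2, [[], [6, 11, 4, 9], [13, 14, 8, 13, 9], [4, 8, 12, 14, 2]]⟩, ⟨3, [3807, 225, 231, 225], 17, 0, [[], [2, 0]]⟩, ⟨2, [144, 186, 144, 252, 3804, 225, 231, 1945], 15, 1, [[], [12, 14, 8, 15, 0], [10, 12, 15, 9, 0], [13, 8, 10, 4, 0]]⟩, ⟨3, [3811, 231], 17, 0, [[], [2, 0]]⟩, ⟨2, [230, 3596, 224, 1628, 145, 187, 144, 252], 15, 3, [[], [6, 8, 12, 15, 7], [11, 14, 14, 9, 7], [14, 6, 11, 2]]⟩, ⟨3, [3815, 225, 231, 225], 17, 0, [[], [2, 0]]⟩, ⟨2, [230, 628, 144, 187, 252, 225, 231, 301], 15, 2, [[], [11,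 4, 10, 10, 6], [11, 12, 9, 11, 4], [9, 7, 14]]⟩, ⟨3, [3819, 225, 231], 17, 0, [[], [2, 0]]⟩, ⟨2, [60, 118, 64, 89, 190, 145, 186, 252, 225, 231, 2397], 15, 2, [[], [8, 15, 6, 10], [12, 12, 12, 7], [12, 8, 12, 11, 2]]⟩, ⟨3, [3823, 225, 231], 17, 0, [[], [2, 0]]⟩, ⟨2, [230, 224, 1780, 142, 187, 252, 225, 231, 879], 15, 3, [[], [11, 12, 9, 0], [13, 7, 0, 9, 4], [10, 4, 13, 15]]⟩, ⟨3, [3827, 225, 231, 225], 17, 0, [[], [2, 0]]⟩, ⟨2, [230, 2146, 186, 142, 252, 3441], 15, 3, [[], [14, 8, 4, 11, 4], [10, 13, 13, 6], [14, 8, 13, 15, 9]]⟩, ⟨3, [3831, 231, 225], 17, 0, [[], [2, 0]]⟩, ⟨2, [230, 224, 1890, 142, 144, 252, 225, 231, 225, 622], 15, 3, [[], [12, 6, 12, 6, 0], [14, 4, 11, 15, 2], [12, 14, 7, 14, 2]]⟩, ⟨3, [3835, 231], 17, 0, [[], [2, 0]]⟩, ⟨2, [802, 142, 145, 252, 225, 231, 225, 1985],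 15, 3, [[], [12, 6, 11, 4], [7, 14, 7, 14], [9, 15, 4, 14]]⟩, ⟨2, [230, 2438, 142, 187, 145, 252, 2344], 15, 3, [[], [14, 11, 15, 15, 2], [11, 7, 10, 8, 2], [9, 9, 11, 14, 7]]⟩, ⟨3, [3841, 231, 225], 17, 0, [[], [2, 0]]⟩, ⟨2, [230, 2692, 230, 224, 1226, 142, 145, 252], 15, 0, [[], [6, 11, 9, 15, 7], [8, 11, 12, 8], [11, 6, 14, 6, 0]]⟩, ⟨3, [3845, 231], 17, 0, [[], [2, 0]]⟩, ⟨2, [230, 224, 3078, 142, 186, 252, 231, 225, 2315], 15, 3, [[], [8, 8, 15, 13], [4, 13, 6, 10], [11, 9, 15, 13, 6]]⟩, ⟨2, [224, 230, 224, 1442, 224, 230, 224, 1680, 186, 144, 187, 252], 15, 0, [[], [15, 12, 8, 8, 0], [13, 13, 15, 9, 15], [12, 14, 9, 11, 4]]⟩, ⟨3, [3851, 225, 231, 225], 17, 0, [[], [2, 0]]⟩, ⟨2, [224, 230, 2364, 230, 3090, 187, 145, 186, 252], 15, 0, [[], [4, 10, 6, 8, 8], [7, 12, 9, 15, 6], [12, 12,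 14, 11, 6]]⟩, ⟨2, [224, 230, 2014, 142, 145, 187, 252, 231, 225, 3207], 15, 3, [[], [6, 10, 13, 15, 8], [11, 4, 13, 10, 10], [15, 15, 6, 9, 0]]⟩, ⟨2, [230, 224, 1038, 145, 186, 142, 187, 252, 231, 3543], 15, 3, [[], [8, 8, 11, 9, 2], [9, 11, 2, 11, 7], [12, 4, 14, 7, 0]]⟩, ⟨2, [224, 230, 224, 2322, 224, 1100, 145, 187, 252], 15, 0, [[], [4, 13, 14, 8, 0], [13, 8, 8, 13, 2], [11, 6, 14, 8, 0]]⟩, ⟨3, [3861, 231], 17, 0, [[], [2, 0]]⟩, ⟨2, [3158, 224, 230, 2142, 142, 187, 252], 15, 0, [[], [13, 7, 12, 11, 8], [12, 12, 9, 6, 10, 0], [6, 14, 14, 13]]⟩, ⟨2, [224, 230, 1810, 142, 187, 144, 186, 252, 1657], 15, 3, [[], [10, 13, 13, 7], [9, 9, 11, 8], [7, 10, 12, 12, 6]]⟩, ⟨2, [224, 230, 1260, 230, 224, 256, 145, 187, 252], 15, 0, [[], [11, 11, 8, 0], [15, 7, 15, 10, 0], [13, 7, 8, 12, 0]]⟩, ⟨2,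 [224, 230, 224, 1172, 243, 186, 144, 252], 15, 0, [[], [11, 9, 14, 11, 2], [6, 11, 9, 13, 0], [12, 4, 15, 13, 10]]⟩, ⟨3, [3871, 231], 17, 0, [[], [2, 0]]⟩, ⟨2, [230, 418, 145, 187, 252, 907], 15, 3, [[], [10, 8, 6, 4], [4, 12, 14, 7, 0], [12, 11, 2, 11]]⟩, ⟨3, [3875, 231, 225], 17, 0, [[], [2, 0]]⟩, ⟨2, [224, 3542, 224, 230, 253, 144, 187, 145, 1723], 0, 2, [[], [2, 11, 13, 13, 7], [7, 12, 4, 10], [2, 15, 13]]⟩, ⟨3, [3879, 225, 231], 17, 0, [[], [2, 0]]⟩, ⟨2, [3542, 224, 230, 224, 253, 186, 143, 187, 2605], 0, 3, [[], [11, 6, 12, 10], [6, 11, 12, 6, 8], [14, 13, 4, 2]]⟩, ⟨3, [3883, 231, 225], 17, 0, [[], [2, 0]]⟩, ⟨2, [230, 224, 253, 167, 135, 214, 138, 127, 125, 457], 1, 1, [[], [14, 13, 14, 11, 8], [9, 6, 8, 14, 7], [12, 7, 14, 13, 2]]⟩, ⟨2, [224, 230, 224, 3762, 224, 230, 224, 253,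 186, 143, 187, 2605], 1, 2, [[], [8, 7, 11, 4], [9, 14, 14, 13, 10], [4, 14, 9, 7, 2]]⟩, ⟨3, [3889, 225, 231, 225], 17, 0, [[], [2, 0]]⟩, ⟨2, [230, 253, 186, 144, 187, 145, 2183, 225, 2427], 1, 1, [[], [12, 9, 9, 6, 4], [10, 14, 7, 15, 0], [10, 10, 12, 8, 6]]⟩, ⟨2, [1566, 253, 145, 3533], 1, 2, [[], [12, 4, 9, 12, 8], [10, 15, 10, 10, 14], [10, 6, 14, 4, 0]]⟩, ⟨3, [3895, 225, 231, 225], 17, 0, [[], [2, 0]]⟩, ⟨2, [224, 230, 253, 167, 138, 125, 215, 451], 1, 1, [[], [8, 4, 15, 11, 0], [12, 12, 6, 2, 0], [11, 11, 9, 12]]⟩, ⟨3, [3899, 225], 17, 0, [[], [2, 0]]⟩, ⟨2, [187, 142, 145, 186, 1610, 224, 230, 224, 253, 187, 144, 143, 1723], 1, 1, [[], [12, 8, 7, 10, 7], [12, 7, 9, 13, 0], [7, 8, 6, 4]]⟩, ⟨3, [3903, 225, 231], 17, 0, [[], [2, 0]]⟩, ⟨2, [230, 224, 3528, 224, 230, 224, 253, 145, 187,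 143, 1433], 3, 3, [[], [6, 10, 6, 10], [9, 12, 15, 9, 9], [11, 8, 4, 15, 2]]⟩, ⟨3, [3907, 231, 225], 17, 0, [[], [2, 0]]⟩, ⟨2, [230, 3624, 224, 253, 145, 187, 143, 3647], 3, 3, [[], [9, 12, 11, 14, 12], [13, 6, 10, 7, 4], [11, 15, 6, 9, 2]]⟩, ⟨3, [3911, 225, 231], 17, 0, [[], [2, 0]]⟩, ⟨2, [224, 230, 253, 186, 145, 187, 3615, 231, 225, 3609], 3, 3, [[], [15, 9, 14, 8, 10], [6, 10, 9, 0], [9, 15, 10, 9, 12]]⟩, ⟨3, [3915, 231, 225], 17, 0, [[], [2, 0]]⟩, ⟨2, [3502, 230, 224, 253, 143, 187, 3683], 7, 0, [[], [15, 9, 14, 4, 10], [7, 15, 9, 0], [15, 8, 8, 14]]⟩, ⟨3, [3919, 231], 17, 0, [[], [2, 0]]⟩, ⟨2, [230, 224, 3542, 224, 230, 224, 253, 145, 186, 2143], 8, 2, [[], [8, 13, 15, 6, 4], [13, 14, 11, 7, 0], [13, 10, 9, 12, 12]]⟩, ⟨3, [3923, 231, 225], 17, 0, [[], [2, 0]]⟩, ⟨2, [224, 230, 224,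 3620, 253, 186, 144, 187, 145, 2183], 8, 3, [[], [15, 12, 8, 6], [8, 11, 13, 11], [9, 11, 12, 7, 4]]⟩, ⟨2, [224, 2518, 253, 144, 187, 145, 1723], 8, 1, [[], [10, 15], [7, 8, 14, 11, 4], [15, 15, 11, 13, 8]]⟩, ⟨2, [230, 3624, 224, 253, 186, 145, 187, 2605], 8, 1, [[], [13, 14, 8, 8], [6, 9, 4, 0], [14, 10, 9]]⟩, ⟨3, [3931, 231], 17, 0, [[], [2, 0]]⟩, ⟨2, [230, 224, 2288, 224, 230, 253, 187, 3903], 9, 2, [[], [9, 10, 13, 15, 7], [7, 15, 9, 10, 0], [9, 13, 4, 2]]⟩, ⟨3, [3935, 225, 231, 225], 17, 0, [[], [2, 0]]⟩, ⟨2, [3057, 253, 187, 3683], 9, 1, [[], [15, 4, 15, 4, 2], [6, 11, 6, 4], [9, 6, 14, 14, 4]]⟩, ⟨3, [3939, 231, 225], 17, 0, [[], [2, 0]]⟩, ⟨2, [224, 230, 224, 1956, 253, 145, 187, 3647], 10, 2, [[], [4, 14, 7, 14, 6], [10, 14, 11, 14, 6], [13, 4, 13, 0, 9]]⟩, ⟨3, [3943, 225, 231],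 17, 0, [[], [2, 0]]⟩, ⟨2, [224, 230, 253, 187, 144, 143, 186, 803, 231, 1291], 10, 1, [[], [14, 10, 4, 15, 2], [9, 9, 6, 10], [14, 11, 6, 15, 6]]⟩, ⟨2, [224, 230, 224, 253, 144, 143, 186, 2143, 231, 225, 2467], 10, 1, [[], [14, 9, 6, 11, 4], [13, 4, 11, 4, 0], [12, 14, 12, 10, 6]]⟩, ⟨2, [618, 253, 144, 143, 2257], 10, 3, [[], [4, 15, 0, 9], [6, 9, 11, 11, 0], [13, 6, 9, 10, 4]]⟩, ⟨3, [3951, 225], 17, 0, [[], [2, 0]]⟩, ⟨2, [230, 224, 3538, 253, 477], 10, 0, [[], [8, 13, 9, 12, 10], [11, 8, 6, 14], [7, 13, 13, 15]]⟩, ⟨3, [3955, 231, 225], 17, 0, [[], [2, 0]]⟩, ⟨2, [230, 1220, 224, 230, 253, 144, 143, 3533], 10, 1, [[], [11, 15, 8, 15, 4], [8, 14, 10, 9, 6], [6, 8, 6, 12, 0]]⟩, ⟨3, [3959, 231, 225], 17, 0, [[], [2, 0]]⟩, ⟨2, [230, 2542, 230, 224, 253, 186, 143, 187, 2605], 10, 1, [[], [13,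 13, 9, 9, 0], [12, 15, 9, 10, 4], [4, 12, 12, 10]]⟩, ⟨3, [3963, 225, 231, 225], 17, 0, [[], [2, 0]]⟩, ⟨2, [230, 2736, 224, 253, 186, 144, 143, 345], 11, 2, [[], [11, 9, 4, 14, 6], [14, 13, 9, 6, 2], [8, 7, 15, 9, 9]]⟩, ⟨3, [3967, 225], 17, 0, [[], [2, 0]]⟩, ⟨2, [224, 230, 224, 3896, 230, 253, 143, 187, 1055], 11, 3, [[], [13, 4, 8, 8, 6], [15, 10, 7, 8], [13, 9, 4, 12, 2]]⟩, ⟨2, [230, 2150, 224, 253, 144, 143, 186, 799], 11, 3, [[], [4, 0, 9, 7], [12, 7, 14, 13, 0], [11, 9, 6, 4]]⟩, ⟨3, [3973, 231], 17, 0, [[], [2, 0]]⟩, ⟨2, [224, 230, 3416, 253, 187, 144, 3383], 11, 0, [[], [9, 12, 4, 11, 0], [13, 11, 8, 14], [9, 12, 8, 4, 0]]⟩, ⟨3, [3977, 231], 17, 0, [[], [2, 0]]⟩, ⟨2, [224, 230, 1996, 224, 230, 253, 143, 186, 191], 11, 1, [[], [4, 15, 11, 13, 10], [10, 8, 11, 4, 9, 0], [13, 7, 12,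 9, 2]]⟩, ⟨3, [3981, 89, 65, 119], 17, 0, [[], [2, 0]]⟩, ⟨2, [230, 1008, 230, 224, 253, 187, 145, 186, 143, 3091], 11, 1, [[], [4, 14, 11], [4, 8, 11, 4, 8], [9, 14, 8, 4]]⟩, ⟨3, [3985, 231, 225], 17, 0, [[], [2, 0]]⟩, ⟨2, [224, 230, 224, 3491, 253, 187, 144, 143, 2199], 11, 1, [[], [7, 15, 10, 10, 0], [6, 4, 10, 9, 2], [14, 9, 6, 9, 7]]⟩, ⟨3, [3989, 225, 231], 17, 0, [[], [2, 0]]⟩, ⟨2, [230, 253, 186, 143, 187, 3903, 231, 3979], 11, 0, [[], [7, 12, 12, 6, 2], [6, 9, 14, 10, 15], [15, 9, 13, 11, 14]]⟩, ⟨3, [3993, 231], 17, 0, [[], [2, 0]]⟩, ⟨2, [230, 224, 1103, 224, 230, 2724, 224, 230, 224, 253], 11, 2, [[], [15, 7, 9, 9, 0], [11, 13, 13, 2, 14], [7, 10, 12, 15, 11]]⟩, ⟨3, [3997, 143, 187], 17, 0, [[], [2, 0]]⟩, ⟨2, [224, 3738, 230, 224, 253, 187, 3683], 13, 0, [[], [10, 13, 9, 7, 11],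 [7, 15, 4, 12, 4], [9, 6, 10, 6]]⟩, ⟨3, [4001, 231, 225], 17, 0, [[], [2, 0]]⟩, ⟨2, [224, 230, 224, 2396, 230, 253, 145, 186, 2127], 13, 0, [[], [12, 7, 11, 15], [13, 8, 10, 15, 6], [8, 4, 9, 14, 0]]⟩, ⟨3, [4005, 225, 231], 17, 0, [[], [2, 0]]⟩, ⟨2, [224, 2110, 224, 230, 224, 253, 183], 13, 0, [[], [9, 15, 8, 6, 0], [12, 6, 13, 0, 9], [6, 9, 6]]⟩, ⟨3, [4009, 145, 187, 145], 17, 0, [[], [2, 0]]⟩, ⟨2, [224, 230, 3454, 224, 230, 224, 253, 186, 143, 187, 2605], 13, 0, [[], [14, 7, 14, 10, 2], [9, 13, 11, 8, 4], [15, 13, 10, 10, 4]]⟩, ⟨3, [4013, 225], 17, 0, [[], [2, 0]]⟩, ⟨2, [230, 224, 2982, 224, 230, 253, 145, 187, 1061], 13, 0, [[], [9, 9, 7, 0], [15, 15, 10, 4], [9, 11, 14, 11]]⟩, ⟨3, [4017, 231, 225], 17, 0, [[], [2, 0]]⟩, ⟨2, [224, 230, 224, 253, 143, 187, 1681, 231, 976], 13, 0, [[],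 [15, 8, 10, 9, 11], [4, 11, 11, 14, 7], [6, 4, 9, 11, 0]]⟩, ⟨3, [4021, 231], 17, 0, [[], [2, 0]]⟩, ⟨2, [230, 224, 2396, 224, 230, 253, 187, 3999], 13, 1, [[], [9, 0, 10, 6], [7, 8, 11, 14], [7, 14, 13, 8]]⟩, ⟨3, [4025, 225], 17, 0, [[], [2, 0]]⟩, ⟨2, [230, 224, 253, 143, 187, 145, 2595, 231, 1571], 13, 0, [[], [6, 13, 15, 9, 7], [9, 7, 4, 12, 0], [14, 13, 13, 7, 4, 0]]⟩, ⟨2, [230, 224, 2670, 224, 253, 186, 144, 767], 13, 1, [[], [11, 15, 15, 8, 0], [11, 11, 9, 10], [4, 13, 6, 10, 10]]⟩, ⟨3, [4031, 231], 17, 0, [[], [2, 0]]⟩, ⟨2, [230, 224, 253, 144, 143, 186, 799, 2769], 15, 1, [[], [9, 2, 11], [10, 9, 9, 12], [7, 14, 12, 9, 2]]⟩, ⟨3, [4035, 225, 231, 225], 17, 0, [[], [2, 0]]⟩, ⟨2, [230, 224, 253, 143, 187, 145, 2595, 225, 231, 2263], 15, 1, [[], [15, 11, 14, 6], [13, 11, 8, 15], [10,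 4, 10, 7, 11]]⟩, ⟨3, [4039, 225, 231], 17, 0, [[], [2, 0]]⟩, ⟨2, [224, 230, 253, 144, 186, 145, 1789, 231, 225, 2467], 15, 1, [[], [9, 15, 13, 9, 4, 0], [11, 7, 15, 7, 0], [11, 14, 10, 10, 7]]⟩, ⟨3, [4043, 225, 231], 17, 0, [[], [2, 0]]⟩, ⟨2, [224, 253, 144, 171, 145, 2159], 15, 1, [[], [14, 12, 10, 4, 2], [7, 11, 11, 7, 0], [8, 12, 14, 2]]⟩, ⟨3, [4047, 225], 17, 0, [[], [2, 0]]⟩, ⟨2, [145, 186, 142, 1434, 230, 224, 253, 145, 187, 1821], 15, 0, [[], [11, 13, 6, 13, 0], [7, 13, 9, 11], [8, 4, 14, 8, 12]]⟩, ⟨3, [4051, 225, 231, 225], 17, 0, [[], [2, 0]]⟩, ⟨2, [224, 230, 224, 253, 187, 143, 187, 3513, 225, 959], 15, 3, [[], [12, 0, 10, 6, 4], [13, 10, 14, 4], [6, 14, 11, 9, 0]]⟩, ⟨3, [4055, 231], 17, 0, [[], [2, 0]]⟩, ⟨2, [230, 3172, 224, 230, 253, 187, 2113], 15, 0, [[], [4, 10, 8, 10,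 0], [6, 9, 11, 14, 6], [7, 14, 14, 13]]⟩, ⟨3, [4059, 225, 231, 225], 17, 0, [[], [2, 0]]⟩, ⟨2, [224, 230, 3922, 230, 224, 253, 143, 187, 145, 1299], 15, 0, [[], [12, 11, 13, 6, 0], [12, 8, 15, 12, 4], [6, 10, 4, 10]]⟩, ⟨3, [4063, 225, 231], 17, 0, [[], [2, 0]]⟩, ⟨2, [224, 230, 224, 253, 186, 145, 187, 1813, 225, 231, 225, 2231], 15, 3, [[], [8, 13, 10, 13], [11, 8, 7, 12, 11], [2, 11, 7, 12, 4]]⟩, ⟨3, [4067, 231, 225], 17, 0, [[], [2, 0]]⟩, ⟨2, [224, 253, 187, 1051, 225, 3821], 15, 3, [[], [15, 10, 8, 10, 0], [14, 6, 12, 10, 7], [4, 9, 12, 4, 9]]⟩, ⟨2, [224, 253, 186, 3355, 225, 2947], 15, 3, [[], [13, 13, 10, 13], [8, 6, 4, 13, 8], [7, 11, 15, 8, 0]]⟩, ⟨3, [4073, 225], 17, 0, [[], [2, 0]]⟩, ⟨2, [145, 187, 144, 3383, 224, 253, 144, 143, 1793], 15, 1, [[], [14, 6, 8, 7], [12, 7, 9, 11,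 4], [10, 12, 15, 11, 7]]⟩, ⟨3, [4077, 231], 17, 0, [[], [2, 0]]⟩, ⟨2, [224, 3646, 144, 186, 142, 1746, 224, 230, 224, 253], 15, 2, [[], [12, 8, 4, 14, 7], [9, 12, 6, 9, 4], [9, 15, 12, 4, 13]]⟩, ⟨3, [4081, 186, 144], 17, 0, [[], [2, 0]]⟩, ⟨2, [230, 224, 3201, 2686, 254], 0, 0, [[], [8, 10, 4, 9, 0], [12, 15, 13, 0], [14, 9, 10, 13]]⟩, ⟨3, [4085, 231], 17, 0, [[], [2, 0]]⟩, ⟨2, [224, 2042, 142, 145, 187, 144, 254, 231, 4087], 1, 2, [[], [6, 12, 7, 12, 2], [10, 13, 10, 8, 7], [8, 11, 9, 2]]⟩, ⟨3, [4089, 225, 231], 17, 0, [[], [2, 0]]⟩, ⟨2, [230, 224, 1754, 142, 144, 254, 225, 231, 3483], 1, 3, [[], [11, 9, 14, 11, 12, 0], [2, 11, 6, 13], [10, 7, 4, 11, 6]]⟩, ⟨3, [4093, 225, 231], 17, 0, [[], [2, 0]]⟩, ⟨2, [224, 230, 224, 2158, 187, 142, 145, 254, 1219], 1, 3, [[], [13, 7, 14, 8], [8, 14,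 9, 11, 0], [11, 7, 4, 15]]⟩, ⟨3, [4097, 231, 225], 17, 0, [[], [2, 0]]⟩, ⟨2, [2084, 224, 230, 2758, 142, 145, 187, 145, 254], 1, 0, [[], [6, 12, 11, 13, 14], [6, 11, 9, 0], [6, 15, 8, 7, 2]]⟩, ⟨3, [4101, 225, 231, 225], 17, 0, [[], [2, 0]]⟩, ⟨2, [142, 187, 145, 254, 3335, 144, 187, 145, 3653], 1, 2, [[], [13, 8, 14, 9, 4], [10, 10, 4, 0], [11, 15, 7, 4]]⟩, ⟨3, [4105, 225, 231], 17, 0, [[], [2, 0]]⟩, ⟨2, [1856, 142, 144, 254, 231, 225, 3417], 1, 0, [[], [14, 13, 0], [12, 11, 9, 14, 6], [8, 8, 6, 15]]⟩, ⟨3, [4109, 225], 17, 0, [[], [2, 0]]⟩, ⟨2, [1686, 254], 6, 0, [[], [6, 9, 2, 14], [9, 6, 15, 10]]⟩, ⟨2, [230, 224, 1856, 145, 186, 144, 254], 6, 0, [[], [10, 9, 14, 9, 0], [7, 12, 7, 13, 4]]⟩, ⟨3, [4115, 231, 225], 17, 0, [[], [2, 0]]⟩, ⟨2, [224, 230, 2750, 142, 144, 254, 231, 225, 1037],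 8, 1, [[], [13, 13, 15, 13, 2], [8, 14, 6, 11, 12], [14, 14, 13, 15, 9]]⟩, ⟨3, [4119, 144, 186], 17, 0, [[], [2, 0]]⟩, ⟨2, [224, 230, 224, 3286, 230, 1856, 145, 186, 144, 254], 8, 2, [[], [12, 6, 15, 7, 9], [15, 7, 2], [11, 12, 4, 13, 4]]⟩, ⟨2, [2686, 144, 186, 145, 187, 254, 231, 4087], 8, 1, [[], [8, 6, 12, 8, 2], [10, 7, 14, 0], [6, 12, 8, 11, 7]]⟩, ⟨3, [4125, 231, 225], 17, 0, [[], [2, 0]]⟩, ⟨2, [224, 2686, 254, 231, 225, 1005], 9, 3, [[], [9, 15, 10, 14, 4], [11, 11, 7, 15], [6, 10, 12, 11, 2]]⟩, ⟨2, [224, 230, 1974, 142, 186, 144, 187, 254, 231, 4087], 9, 0, [[], [15, 10, 13, 8, 6], [8, 15, 8, 6, 4], [10, 13, 0, 9, 6]]⟩, ⟨3, [4131, 231, 225], 17, 0, [[], [2, 0]]⟩, ⟨2, [224, 636, 142, 144, 254, 225, 4112], 10, 2, [[], [7, 15, 4, 15, 12], [11, 12, 15, 10, 2], [11, 14, 7, 9, 0]]⟩,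 ⟨2, [224, 230, 224, 3508, 142, 186, 144, 187, 151, 145, 254], 10, 0, [[], [9, 13, 15, 9, 14], [13, 14, 11, 6], [8, 7, 0, 9, 12]]⟩, ⟨3, [4137, 225], 17, 0, [[], [2, 0]]⟩, ⟨2, [230, 2306, 142, 186, 144, 151, 145, 254], 10, 0, [[], [6, 14, 10, 2], [9, 10, 9, 12], [9, 14, 11, 12, 2]]⟩, ⟨3, [4141, 231], 17, 0, [[], [2, 0]]⟩, ⟨2, [1780, 142, 186, 144, 187, 151, 145, 254], 10, 0, [[], [14, 9, 11, 6, 10], [12, 10, 4, 10, 9], [4, 15, 6, 10]]⟩, ⟨3, [4145, 231, 225], 17, 0, [[], [2, 0]]⟩, ⟨2, [224, 230, 224, 2750, 254, 1919], 10, 1, [[], [14, 14, 7, 10, 7], [14, 6, 4, 9, 0], [14, 9, 9, 6, 9]]⟩, ⟨2, [2686, 144, 186, 145, 187, 254, 2640], 10, 1, [[], [14, 13, 15, 9, 13], [12, 14, 11, 6, 2], [13, 4, 12, 14, 2]]⟩, ⟨3, [4151, 144, 187, 144], 17, 0, [[], [2, 0]]⟩, ⟨2, [230, 224, 1754, 142, 144, 186, 254,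 231, 225, 1691], 11, 2, [[], [6, 8, 7, 12, 4], [4, 9, 14, 2], [15, 11, 11, 11]]⟩, ⟨3, [4155, 225, 231, 225], 17, 0, [[], [2, 0]]⟩, ⟨2, [224, 230, 2742, 224, 230, 224, 2794, 144, 187, 144, 254], 11, 3, [[], [9, 7, 12, 11, 6], [7, 15, 6, 9, 12], [13, 8, 12, 8]]⟩, ⟨3, [4159, 231], 17, 0, [[], [2, 0]]⟩, ⟨2, [224, 230, 224, 3350, 142, 187, 254, 225, 231, 2517], 11, 2, [[], [13, 6, 14, 12, 4], [9, 7, 12, 6, 10], [6, 10, 0, 8, 4]]⟩, ⟨3, [4163, 225], 17, 0, [[], [2, 0]]⟩, ⟨2, [224, 230, 224, 2908, 2158, 187, 142, 145, 254], 11, 3, [[], [6, 8, 7, 8, 0], [4, 8, 8, 4, 2], [8, 10, 7, 8, 8]]⟩, ⟨2, [187, 144, 254, 225, 231, 225, 1000, 225, 1367], 11, 2, [[], [14, 6, 4, 10, 2], [8, 4, 11, 9, 6], [8, 13, 11, 0, 8]]⟩, ⟨3, [4169, 231], 17, 0, [[], [2, 0]]⟩, ⟨2, [230, 3338, 428, 186, 142, 187, 254], 11,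 0, [[], [11, 12, 7, 11], [7, 11, 12, 2], [12, 15, 4, 11, 7]]⟩, ⟨3, [4173, 231, 225], 17, 0, [[], [2, 0]]⟩, ⟨2, [144, 186, 2144, 1788, 144, 187, 145, 186, 254], 11, 0, [[], [15, 11, 15, 8, 6], [11, 11, 4, 14, 0], [6, 12, 4, 0, 8]]⟩, ⟨3, [4177, 225, 231], 17, 0, [[], [2, 0]]⟩, ⟨2, [224, 230, 1974, 142, 186, 144, 187, 254, 225, 231, 3695], 13, 2, [[], [4, 8, 15, 11], [15, 10, 4, 15, 7], [2, 14, 12, 7, 4]]⟩, ⟨3, [4181, 144, 187], 17, 0, [[], [2, 0]]⟩, ⟨2, [224, 1856, 142, 144, 254, 398], 13, 3, [[], [11, 15, 6, 4, 10], [13, 14, 6, 13, 7], [13, 6, 13, 7, 4]]⟩, ⟨3, [4185, 231], 17, 0, [[], [2, 0]]⟩, ⟨2, [230, 237, 254, 4122], 13, 3, [[], [6, 13, 14, 7, 15], [11, 13, 13, 9, 15], [10, 4, 12, 4]]⟩, ⟨2, [187, 254, 231, 225, 1037, 145, 186, 1223], 13, 3, [[], [13, 14, 8, 4, 13], [12, 15, 7, 11],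 [12, 8, 4, 8, 4]]⟩, ⟨3, [4191, 231, 225], 17, 0, [[], [2, 0]]⟩, ⟨2, [224, 2298, 186, 142, 254, 231, 4087], 13, 0, [[], [8, 15, 4, 9, 2], [14, 12, 6, 12, 7], [11, 11, 13, 13, 4]]⟩, ⟨3, [4195, 225, 231], 17, 0, [[], [2, 0]]⟩, ⟨2, [142, 145, 186, 144, 254, 225, 231, 225, 3137, 231, 3864], 14, 0, [[], [6, 4, 13, 9], [4, 10, 15, 13], [9, 7, 8, 12, 0]]⟩, ⟨3, [4199, 231, 225], 17, 0, [[], [2, 0]]⟩, ⟨2, [2706, 144, 254, 225, 231, 225, 1843], 15, 2, [[], [8, 8, 11, 11, 4], [14, 7, 15, 12, 8], [9, 10, 13, 14, 0]]⟩, ⟨2, [224, 2380, 186, 145, 254, 225, 231, 225, 1468], 15, 2, [[], [10, 0, 8, 12], [6, 9, 6, 15, 10], [15, 12, 0]]⟩, ⟨3, [4205, 225, 231, 225], 17, 0, [[], [2, 0]]⟩, ⟨2, [230, 224, 1826, 224, 644, 145, 187, 254], 15, 3, [[], [14, 14, 13, 4], [10, 13, 14, 14, 7], [4, 11, 13, 8, 4]]⟩, ⟨3,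 [4209, 231], 17, 0, [[], [2, 0]]⟩, ⟨2, [224, 230, 224, 1748, 142, 145, 187, 145, 254, 225, 231, 225, 2965], 15, 3, [[], [10, 6, 10, 10, 8], [7, 13, 4, 2], [15, 6, 9, 13, 2]]⟩, ⟨3, [4213, 225, 231, 225], 17, 0, [[], [2, 0]]⟩, ⟨2, [224, 230, 2754, 144, 186, 145, 187, 254, 231, 225, 2163], 15, 3, [[], [11, 7, 15, 12, 11], [6, 12, 4, 11, 0], [4, 11, 4, 10]]⟩, ⟨2, [3144, 230, 224, 2042, 142, 145, 187, 144, 254], 15, 0, [[], [9, 6, 15, 4, 0], [4, 14, 13, 13, 0], [9, 14, 11, 12, 6, 0]]⟩, ⟨2, [2428, 230, 224, 4168, 187, 142, 254], 15, 0, [[], [8, 8, 10, 14, 2], [7, 9, 9, 15, 6], [13, 15, 10, 10, 0]]⟩, ⟨3, [4221, 225, 231], 17, 0, [[], [2, 0]]⟩, ⟨2, [2864, 1242, 142, 144, 186, 254], 15, 0, [[], [11, 8, 12, 10], [6, 14, 11, 0], [13, 4, 13, 8, 11]]⟩, ⟨3, [4225, 225, 231, 225], 17, 0, [[], [2, 0]]⟩,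 ⟨2, [142, 145, 187, 145, 254, 231, 2659, 187, 143, 1811], 15, 0, [[], [10, 4, 8, 12, 6], [6, 12, 7, 10], [13, 8, 7, 15, 4]]⟩, ⟨3, [4229, 231, 225], 17, 0, [[], [2, 0]]⟩, ⟨2, [3762, 230, 2000, 187, 145, 254], 15, 2, [[], [13, 14, 9, 4, 0], [9, 10, 15, 9, 0], [8, 10, 13, 15]]⟩, ⟨3, [4233, 225, 231, 225], 17, 0, [[], [2, 0]]⟩, ⟨2, [224, 230, 224, 2794, 144, 187, 144, 254, 231, 225, 3199], 15, 1, [[], [6, 4, 11, 4, 8], [13, 7, 15, 15, 7], [13, 14, 6, 8, 2]]⟩, ⟨3, [4237, 231], 17, 0, [[], [2, 0]]⟩, ⟨2, [224, 230, 224, 854, 224, 3732, 142, 186, 144, 254], 15, 2, [[], [4, 9, 13, 14], [8, 13, 8, 6, 12], [11, 7, 14, 11, 4]]⟩, ⟨3, [4241, 225, 231], 17, 0, [[], [2, 0]]⟩, ⟨2, [224, 256, 187, 144, 3745, 225, 231, 4043], 1, 2, [[], [6, 14, 12, 10, 2], [4, 11, 4, 12], [7, 12, 12, 10, 4]]⟩, ⟨3, [4245,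 231, 225], 17, 0, [[], [2, 0]]⟩, ⟨2, [224, 230, 224, 256, 145, 187, 885, 231, 2647], 1, 2, [[], [7, 15, 9, 4, 0], [11, 6, 12, 2], [14, 6, 8, 7, 4]]⟩, ⟨3, [4249, 225, 231], 17, 0, [[], [2, 0]]⟩, ⟨2, [224, 230, 4123, 256, 144, 143, 1857], 7, 3, [[], [9, 13, 6, 4], [8, 13, 10, 14, 4], [6, 15, 4, 13, 0]]⟩, ⟨2, [230, 224, 1750, 224, 256, 145, 4077], 9, 2, [[], [12, 4, 14, 6, 4], [13, 11, 14, 12], [4, 8, 11, 4, 0]]⟩, ⟨3, [4255, 231], 17, 0, [[], [2, 0]]⟩, ⟨2, [990, 224, 230, 256, 145, 3733], 9, 1, [[], [6, 10, 12, 4], [9, 11, 6, 8], [14, 7, 14, 14, 7]]⟩, ⟨2, [4146, 224, 230, 256, 144, 143, 1857], 9, 1, [[], [0, 8, 4], [14, 8, 6, 12], [11, 8, 8, 10, 2]]⟩, ⟨2, [256, 144, 143, 2687, 231, 225, 3981], 9, 0, [[], [11, 11, 12, 7, 2], [11, 8, 10, 2], [6, 11, 12, 4, 0]]⟩, ⟨3, [4263, 89, 119, 89, 61],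 17, 0, [[], [2, 0]]⟩, ⟨2, [230, 256, 186, 144, 1145, 225, 1721], 11, 1, [[], [8, 7, 14, 6, 2], [8, 10, 15, 13, 8], [8, 8, 10, 6]]⟩, ⟨2, [224, 230, 224, 3341, 224, 256, 187, 144, 186, 4121], 11, 1, [[], [10, 8, 12, 4, 0], [15, 8, 15, 10, 6], [6, 10, 10, 8, 0]]⟩, ⟨3, [4269, 225, 231, 225], 17, 0, [[], [2, 0]]⟩, ⟨2, [230, 224, 256, 145, 187, 143, 885, 1595], 11, 0, [[], [4, 8, 4, 2], [6, 15, 8], [11, 15, 7, 0, 9]]⟩, ⟨3, [4273, 231, 225], 17, 0, [[], [2, 0]]⟩, ⟨2, [4086, 230, 256, 282], 14, 3, [[], [9, 12, 7, 8, 4], [14, 12, 15, 2], [8, 15, 7, 4, 0]]⟩, ⟨2, [230, 224, 256, 144, 143, 2687, 4159], 14, 3, [[], [11, 12, 2], [15, 8, 12, 6, 15], [9, 10, 15]]⟩, ⟨3, [4279, 225, 231], 17, 0, [[], [2, 0]]⟩, ⟨2, [224, 230, 256, 144, 186, 145, 3351, 225, 231, 225, 2991], 14, 0, [[], [11, 7, 8, 12, 11],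 [11, 6, 11, 9, 7], [14, 11, 13, 7, 4]]⟩, ⟨3, [4283, 225, 231], 17, 0, [[], [2, 0]]⟩, ⟨2, [224, 256, 145, 187, 145, 3079, 231, 2115], 15, 1, [[], [9, 15, 7, 11, 0], [13, 10, 8, 7], [4, 9, 7, 13, 7]]⟩, ⟨2, [224, 230, 2886, 224, 256, 186, 144, 187, 145, 2681], 15, 2, [[], [9, 14, 9, 14], [7, 12, 12, 8, 6], [6, 14, 14, 11]]⟩, ⟨3, [4289, 231, 225], 17, 0, [[], [2, 0]]⟩, ⟨2, [224, 3272, 256, 143, 187, 144, 759], 15, 2, [[], [13, 10, 13, 2], [7, 4, 12, 0], [7, 4, 11, 14, 4]]⟩, ⟨3, [4293, 231, 225], 17, 0, [[], [2, 0]]⟩, ⟨2, [224, 230, 4224, 224, 230, 224, 256, 186, 143, 187, 2751], 15, 2, [[], [8, 10, 4, 8, 2], [8, 13, 7, 13, 11], [10, 12, 10, 7, 9]]⟩, ⟨3, [4297, 225, 231], 17, 0, [[], [2, 0]]⟩, ⟨2, [224, 256, 145, 917, 225, 2787], 15, 3, [[], [13, 8, 12, 11, 12], [12, 15, 4, 11, 2], [12, 8,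 11, 14, 13]]⟩, ⟨3, [4301, 231, 225], 17, 0, [[], [2, 0]]⟩, ⟨2, [3839, 230, 224, 256, 186, 2159], 15, 0, [[], [7, 11, 8, 15], [10, 10, 6, 10, 15], [9, 13, 10, 4, 13]]⟩, ⟨3, [4305, 225, 231], 17, 0, [[], [2, 0]]⟩, ⟨2, [230, 256, 144, 186, 1311, 225, 1391], 15, 3, [[], [12, 4, 15, 15], [6, 14, 14, 7], [13, 6, 10, 7]]⟩, ⟨3, [4309, 231, 225], 17, 0, [[], [2, 0]]⟩, ⟨2, [230, 224, 1498, 230, 256, 186, 145, 4105], 15, 0, [[], [10, 6, 9, 0], [4, 13, 4, 14, 7], [8, 7, 9, 9, 0]]⟩, ⟨3, [4313, 225], 17, 0, [[], [2, 0]]⟩, ⟨2, [230, 224, 4160, 230, 256, 144, 187, 145, 2385], 15, 1, [[], [10, 9, 13, 8, 6], [15, 15, 8, 4, 0], [11, 14, 13, 8, 0]]⟩, ⟨3, [4317, 225], 17, 0, [[], [2, 0]]⟩, ⟨2, [224, 764, 124, 127, 139, 214, 138, 258, 231, 225, 1991], 1, 2, [[], [11, 9, 9, 6, 0], [7, 10, 8, 8, 0], [7, 10,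 10, 15, 8]]⟩, ⟨3, [4321, 225], 17, 0, [[], [2, 0]]⟩, ⟨2, [224, 230, 1524, 138, 215, 124, 258, 267], 1, 1, [[], [15, 6, 8, 8, 0], [9, 11, 12, 4, 8], [4, 12, 4, 2]]⟩, ⟨3, [4325, 231], 17, 0, [[], [2, 0]]⟩, ⟨2, [3236, 1286, 124, 215, 126, 258], 3, 3, [[], [11, 4, 9, 6], [10, 15], [15, 12, 8, 13, 4]]⟩, ⟨2, [224, 230, 224, 1286, 124, 215, 126, 258], 6, 0, [[], [12, 10, 15, 4], [15, 8, 10, 12, 0]]⟩, ⟨3, [4331, 231, 225], 17, 0, [[], [2, 0]]⟩, ⟨2, [944, 126, 134, 124, 138, 258, 4093], 8, 3, [[], [6, 4, 12, 9, 4, 0], [11, 15, 6, 15, 6], [8, 13, 14, 11, 4]]⟩, ⟨3, [4335, 231], 17, 0, [[], [2, 0]]⟩, ⟨2, [224, 614, 126, 215, 124, 126, 258, 231, 1115], 8, 3, [[], [15, 7, 13, 2], [10, 6, 10, 14], [8, 10, 6, 13, 6]]⟩, ⟨3, [4339, 225], 17, 0, [[], [2, 0]]⟩, ⟨2, [230, 224, 484, 127, 138, 214, 258, 4093],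 8, 3, [[], [14, 13, 0, 8], [13, 9, 12, 0, 10], [4, 10, 13, 14]]⟩, ⟨2, [224, 450, 124, 127, 134, 124, 258, 231, 225, 4333], 10, 2, [[], [7, 8, 7, 13, 9], [14, 14, 10, 15, 7], [9, 13, 15, 10, 2]]⟩, ⟨3, [4345, 225], 17, 0, [[], [2, 0]]⟩, ⟨2, [144, 187, 154, 126, 139, 134, 258, 2375], 11, 2, [[], [6, 4, 9, 11], [12, 9, 10, 9], [13, 4, 14, 12, 4]]⟩, ⟨3, [4349, 225], 17, 0, [[], [2, 0]]⟩, ⟨2, [224, 230, 2680, 187, 142, 145, 186, 149, 214, 127, 258], 11, 3, [[], [15, 13, 7, 9, 2], [11, 4, 8, 14, 9], [11, 2, 14]]⟩, ⟨3, [4353, 231], 17, 0, [[], [2, 0]]⟩, ⟨2, [230, 2242, 224, 430, 215, 124, 126, 258], 11, 3, [[], [6, 12, 14, 11, 0], [7, 10, 10, 7, 4], [15, 12, 15, 8]]⟩, ⟨3, [4357, 231, 225], 17, 0, [[], [2, 0]]⟩, ⟨2, [230, 224, 984, 224, 230, 2968, 126, 134, 124, 215, 139, 258], 11, 3, [[], [10,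 7, 12, 8], [6, 12, 10, 9, 7], [11, 9, 11, 7, 14]]⟩, ⟨2, [224, 230, 3146, 2840, 124, 127, 139, 139, 214, 258], 11, 3, [[], [6, 11, 9, 10, 0], [10, 15, 11, 4, 8], [4, 9, 12, 11, 6]]⟩, ⟨3, [4363, 231], 17, 0, [[], [2, 0]]⟩, ⟨2, [230, 224, 462, 224, 230, 224, 1548, 214, 124, 126, 258], 11, 0, [[], [9, 12, 6, 4, 10], [7, 8, 10, 7, 2], [4, 15, 6, 12, 7]]⟩, ⟨2, [224, 2442, 224, 230, 450, 214, 124, 134, 258], 11, 0, [[], [2, 15, 6, 12], [15, 15, 11, 11], [15, 12, 11, 7]]⟩, ⟨3, [4369, 225], 17, 0, [[], [2, 0]]⟩, ⟨2, [1842, 230, 2044, 214, 124, 127, 258], 11, 0, [[], [7, 11, 11, 4, 0], [14, 14, 7, 4, 9], [14, 4, 11, 14]]⟩, ⟨3, [4373, 231, 225], 17, 0, [[], [2, 0]]⟩, ⟨2, [270, 126, 138, 138, 138, 258, 225, 2017], 11, 1, [[], [12, 12, 14, 11, 0], [8, 8, 4, 10, 9], [13, 10, 12, 11, 6, 0]]⟩, ⟨3, [4377,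 225], 17, 0, [[], [2, 0]]⟩, ⟨2, [230, 224, 3201, 2968, 124, 127, 138, 138, 138, 258], 11, 2, [[], [6, 15, 15, 10, 7], [12, 4, 10, 6], [15, 11, 15, 7]]⟩, ⟨2, [224, 230, 224, 233, 126, 258, 231, 225, 1991], 13, 3, [[], [9, 14, 8, 7], [14, 6, 13, 13, 9], [6, 13, 13, 11]]⟩, ⟨3, [4383, 231, 225], 17, 0, [[], [2, 0]]⟩, ⟨2, [224, 2662, 230, 224, 2044, 134, 124, 215, 138, 258], 14, 3, [[], [4, 9, 12, 10, 0], [7, 9, 15, 11, 7], [15, 8, 15, 13, 4]]⟩, ⟨3, [4387, 225], 17, 0, [[], [2, 0]]⟩, ⟨2, [230, 224, 1286, 124, 134, 124, 215, 258, 231, 1853], 14, 1, [[], [12, 12, 6, 4], [9, 15, 10, 6], [7, 15, 4, 15]]⟩, ⟨3, [4391, 225, 231, 225], 17, 0, [[], [2, 0]]⟩, ⟨2, [224, 230, 1012, 230, 2840, 124, 138, 215, 124, 215, 258], 14, 2, [[], [12, 7, 4, 14], [12, 4, 13, 14], [11, 4, 15, 13, 2]]⟩, ⟨3, [4395, 231],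 17, 0, [[], [2, 0]]⟩, ⟨2, [230, 224, 2844, 134, 214, 124, 258, 225, 231, 1535], 14, 1, [[], [15, 8, 12, 12, 6], [11, 9, 11, 6, 10], [8, 12, 7, 2]]⟩, ⟨3, [4399, 225, 231, 225], 17, 0, [[], [2, 0]]⟩, ⟨2, [230, 224, 4388, 224, 260, 126, 134, 138, 214, 258], 15, 3, [[], [14, 9, 14, 11, 11], [9, 14, 13, 8, 13], [10, 6, 13, 0, 8]]⟩, ⟨3, [4403, 225, 231, 225], 17, 0, [[], [2, 0]]⟩, ⟨2, [224, 2836, 124, 127, 138, 215, 258, 225, 231, 2377], 15, 2, [[], [12, 10, 7, 10, 0], [15, 9, 12, 9, 4], [14, 13, 15, 10, 9]]⟩, ⟨3, [4407, 231], 17, 0, [[], [2, 0]]⟩, ⟨2, [224, 230, 2861, 224, 230, 224, 2968, 134, 215, 127, 214, 258], 15, 0, [[], [11, 8, 11, 13, 2], [11, 12, 7, 14, 2], [13, 15, 7, 12, 7]]⟩, ⟨3, [4411, 231], 17, 0, [[], [2, 0]]⟩, ⟨2, [224, 3468, 230, 224, 448, 126, 215, 138, 258], 15, 0, [[], [6,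 9, 4, 13, 4], [7, 8, 14, 10], [15, 13, 10, 12, 4]]⟩, ⟨3, [4415, 225, 231, 225], 17, 0, [[], [2, 0]]⟩, ⟨2, [230, 2964, 224, 2534, 127, 214, 124, 258], 15, 1, [[], [4, 13, 7, 9, 0], [15, 4, 0, 9, 4], [12, 10, 15, 4]]⟩, ⟨2, [1408, 224, 230, 224, 430, 126, 134, 124, 215, 258], 15, 2, [[], [12, 0, 9, 12, 4], [13, 4, 14, 6, 11, 2], [15, 13, 7, 9, 0]]⟩, ⟨3, [4421, 225], 17, 0, [[], [2, 0]]⟩, ⟨2, [224, 4418, 224, 260, 214, 138, 214, 945], 1, 3, [[], [4, 11, 9, 12, 2], [12, 11, 15, 13, 6], [4, 9, 4, 12, 9]]⟩, ⟨3, [4425, 225, 231], 17, 0, [[], [2, 0]]⟩, ⟨2, [1114, 230, 224, 260, 214, 125, 1287], 8, 0, [[], [9, 14, 8, 7, 2], [14, 11, 4, 2], [12, 10, 9, 15, 0]]⟩, ⟨2, [224, 1370, 224, 230, 224, 260, 215, 125, 135, 126, 1379], 8, 1, [[], [15, 9, 4, 12, 8], [13, 4, 0, 8], [14, 8, 4, 9, 7]]⟩, ⟨3, [4431,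 225], 17, 0, [[], [2, 0]]⟩, ⟨2, [230, 224, 1156, 230, 260, 214, 139, 126, 125, 1383], 10, 2, [[], [14, 8, 11, 12], [15, 12, 7, 10], [7, 14, 8, 11, 12]]⟩, ⟨3, [4435, 231], 17, 0, [[], [2, 0]]⟩, ⟨2, [230, 260, 125, 214, 126, 261, 225, 231, 225, 1991], 10, 1, [[], [15, 11, 4, 9, 0], [13, 11, 4], [11, 9, 15, 12]]⟩, ⟨3, [4439, 225, 231, 225], 17, 0, [[], [2, 0]]⟩, ⟨2, [68, 732, 224, 230, 260, 215, 125, 135, 126, 457], 10, 2, [[], [11, 4, 9, 4, 10], [7, 13, 10, 13, 6], [15, 4, 8, 12, 4]]⟩, ⟨3, [4443, 225, 231, 225], 17, 0, [[], [2, 0]]⟩, ⟨2, [224, 230, 224, 260, 138, 125, 135, 127, 1525, 225, 231, 931], 11, 1, [[], [13, 8, 6, 10, 8], [10, 12, 6, 9], [4, 11, 11, 11, 0]]⟩, ⟨3, [4447, 225, 231], 17, 0, [[], [2, 0]]⟩, ⟨2, [224, 230, 224, 1955, 260, 125, 215, 135, 665], 11, 0, [[], [9, 13, 6, 10,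 7], [11, 9, 10, 2], [12, 10, 10, 10, 4]]⟩, ⟨3, [4451, 231, 225], 17, 0, [[], [2, 0]]⟩, ⟨2, [224, 2600, 230, 260, 127, 215, 138, 127, 1047], 11, 1, [[], [10, 6, 9, 14, 6], [12, 11, 8, 14, 4], [15, 12, 4, 10, 8]]⟩, ⟨3, [4455, 225, 231], 17, 0, [[], [2, 0]]⟩, ⟨2, [260, 139, 215, 127, 125, 2845, 225, 315], 11, 0, [[], [10, 15, 15, 9, 4], [11, 7, 11, 9, 0], [6, 13, 7, 15]]⟩, ⟨3, [4459, 61, 89, 69, 63], 17, 0, [[], [2, 0]]⟩, ⟨2, [224, 230, 1114, 230, 224, 260, 139, 215, 135, 126, 261], 13, 2, [[], [12, 14, 13, 11, 7], [9, 9, 11, 6, 0], [10, 4, 9, 13]]⟩, ⟨3, [4463, 231], 17, 0, [[], [2, 0]]⟩, ⟨2, [224, 1114, 230, 260, 127, 261], 13, 3, [[], [13, 15, 9, 9, 4], [10, 10, 8, 10, 0], [7, 13, 11, 4]]⟩, ⟨3, [4467, 231, 225], 17, 0, [[], [2, 0]]⟩, ⟨2, [224, 230, 2058, 230, 224, 260, 214, 139, 126, 125,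 2045], 13, 0, [[], [9, 9, 15, 4], [14, 10, 15, 9, 6], [13, 9, 10, 15, 4]]⟩, ⟨3, [4471, 225, 231], 17, 0, [[], [2, 0]]⟩, ⟨2, [2003, 224, 230, 224, 260, 138, 125, 139, 271], 13, 1, [[], [14, 11, 13, 14, 7], [11, 14, 14, 9, 4], [6, 13, 14, 11, 14]]⟩, ⟨3, [4475, 225, 231, 225], 17, 0, [[], [2, 0]]⟩, ⟨2, [224, 1114, 230, 224, 260, 127, 215, 126, 271], 14, 2, [[], [7, 11, 14, 0], [14, 12, 11, 9], [6, 8, 6, 15, 10]]⟩, ⟨3, [4479, 225], 17, 0, [[], [2, 0]]⟩, ⟨2, [230, 224, 260, 126, 214, 139, 1525, 225, 231, 225, 2861], 14, 3, [[], [8, 7, 14, 12, 0], [9, 6, 10, 13, 4], [6, 10, 9, 0]]⟩, ⟨3, [4483, 231, 225], 17, 0, [[], [2, 0]]⟩, ⟨2, [230, 1408, 224, 230, 224, 260, 139, 127, 215, 2969], 14, 1, [[], [15, 6, 10, 6, 4], [12, 12, 11, 12, 10], [10, 15, 10, 8]]⟩, ⟨3, [4487, 231, 225], 17, 0, [[], [2,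 0]]⟩, ⟨2, [224, 230, 260, 214, 135, 1451, 231, 225, 3701], 15, 1, [[], [11, 14, 11, 6, 4], [8, 10, 9, 7, 9], [13, 10, 8, 13, 9]]⟩, ⟨3, [4491, 225, 231, 225], 17, 0, [[], [2, 0]]⟩, ⟨2, [230, 224, 260, 214, 139, 125, 2845, 225, 3959], 15, 1, [[], [15, 10, 14, 9, 7], [10, 6, 8, 13], [8, 15, 8, 4, 8]]⟩, ⟨3, [4495, 225], 17, 0, [[], [2, 0]]⟩, ⟨2, [230, 224, 260, 127, 215, 126, 159, 187, 345], 15, 3, [[], [9, 15, 11, 13, 7], [13, 10, 14, 11, 8], [12, 10, 6, 10, 14]]⟩, ⟨3, [4499, 231], 17, 0, [[], [2, 0]]⟩, ⟨2, [224, 260, 135, 214, 126, 125, 1451, 1075], 15, 3, [[], [9, 6, 10, 6, 13], [11, 9, 7, 14, 7], [12, 7, 10, 10, 2]]⟩, ⟨2, [230, 1782, 230, 224, 260, 127, 215, 126, 125, 485], 15, 0, [[], [12, 6, 2, 11, 6], [11, 15, 13, 14], [9, 2, 15]]⟩, ⟨3, [4505, 225], 17, 0, [[], [2, 0]]⟩, ⟨2, [224,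 230, 224, 3728, 260, 125, 139, 139, 127, 271], 15, 0, [[], [4, 11, 9, 6, 0], [9, 6, 8, 14, 7], [15, 13, 7, 0]]⟩, ⟨3, [4509, 231], 17, 0, [[], [2, 0]]⟩, ⟨2, [224, 3949, 260, 135, 126, 125, 485], 15, 0, [[], [15, 13, 14, 12, 2], [7, 9, 11, 6, 8], [11, 13, 9, 14, 8]]⟩, ⟨3, [4513, 231, 225], 17, 0, [[], [2, 0]]⟩, ⟨2, [260, 138, 135, 125, 139, 125, 765, 231, 225, 1785], 15, 3, [[], [8, 13, 4, 0], [13, 14, 4, 13, 2], [13, 8, 6, 14]]⟩, ⟨3, [4517, 231], 17, 0, [[], [2, 0]]⟩, ⟨2, [260, 139, 139, 127, 271, 1581], 15, 3, [[], [9, 12, 6, 15, 2], [12, 8, 14, 8, 4], [12, 8, 13, 2]]⟩, ⟨3, [4521, 225], 17, 0, [[], [2, 0]]⟩, ⟨2, [224, 230, 224, 3198, 224, 260, 215, 139, 125, 135, 1549], 15, 0, [[], [15, 11, 7, 10, 12], [11, 15, 15, 4], [13, 8, 12, 11, 6]]⟩, ⟨3, [4525, 225, 231, 225], 17, 0, [[], [2, 0]]⟩,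 ⟨2, [224, 230, 224, 4352, 224, 230, 260, 125, 135, 126, 125, 485], 15, 0, [[], [8, 11, 4, 13, 4], [10, 10, 12, 8, 0], [4, 14, 14, 8, 4]]⟩, ⟨2, [224, 230, 224, 260, 139, 139, 139, 127, 125, 2969, 225, 231, 301], 15, 3, [[], [10, 6, 13, 9, 4], [10, 4, 15, 12, 9], [8, 8, 8, 6]]⟩, ⟨3, [4531, 225], 17, 0, [[], [2, 0]]⟩, ⟨2, [230, 224, 1408, 224, 260, 138, 214, 135, 127, 2233], 15, 1, [[], [10, 7, 4, 8, 4], [12, 9, 12, 8, 4], [11, 4, 9, 15, 0]]⟩, ⟨3, [4535, 231, 225], 17, 0, [[], [2, 0]]⟩, ⟨2, [187, 144, 186, 262, 225, 231, 302, 225, 231, 2099], 1, 1, [[], [13, 11, 14, 11, 0], [11, 15, 7, 11, 2], [14, 10, 9, 12, 2]]⟩, ⟨3, [4539, 225, 231], 17, 0, [[], [2, 0]]⟩, ⟨2, [224, 870, 145, 186, 142, 262, 225, 231, 2115], 15, 3, [[], [8, 15, 9, 10, 4], [0, 8, 13, 7, 13], [9, 12, 6, 12, 2]]⟩, ⟨3, [4543,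 231, 225], 17, 0, [[], [2, 0]]⟩, ⟨2, [230, 2754, 144, 187, 145, 262, 231, 225, 3715], 15, 3, [[], [11, 0, 8], [10, 6, 13, 11], [6, 4, 10, 14, 6]]⟩, ⟨3, [4547, 231, 225], 17, 0, [[], [2, 0]]⟩, ⟨2, [224, 1068, 142, 262, 231, 225, 3543], 15, 0, [[], [7, 15, 15, 2], [12, 15, 13, 14, 6], [8, 0, 8, 4]]⟩, ⟨2, [230, 2136, 224, 230, 263, 145, 187, 144, 1793], 11, 1, [[], [12, 10, 14, 9, 4], [15, 6, 11, 7, 15], [11, 12, 12, 12]]⟩, ⟨2, [263, 186, 144, 187, 4539, 231, 225, 2931], 15, 1, [[], [15, 7, 2, 15, 4], [10, 6, 4, 15], [10, 9, 11, 8, 11]]⟩, ⟨3, [4555, 231, 225], 17, 0, [[], [2, 0]]⟩, ⟨2, [224, 230, 263, 186, 144, 2159, 231, 225, 4093], 15, 1, [[], [12, 6, 13, 8, 0], [6, 15, 11, 6, 2], [7, 13, 11, 0, 8]]⟩, ⟨3, [4559, 225, 231, 225], 17, 0, [[], [2, 0]]⟩, ⟨2, [230, 2798, 230, 224, 263, 143,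 187, 3903], 15, 2, [[], [9, 13, 11, 12], [14, 4, 12, 7, 4], [10, 4, 9, 11, 4]]⟩, ⟨3, [4563, 225, 231, 225], 17, 0, [[], [2, 0]]⟩, ⟨2, [224, 230, 263, 144, 1789, 225, 231, 225, 4343], 15, 1, [[], [14, 10, 10, 13, 0], [9, 7, 11, 13, 0], [8, 7, 14, 8]]⟩, ⟨3, [4567, 231, 225], 17, 0, [[], [2, 0]]⟩, ⟨2, [230, 224, 3204, 263, 145, 187, 144, 1039], 15, 2, [[], [14, 14, 7, 12, 2], [10, 8, 4, 9, 4], [8, 4, 10, 2]]⟩, ⟨3, [4571, 231], 17, 0, [[], [2, 0]]⟩, ⟨2, [263, 144, 186, 144, 143, 3333, 225, 231, 3421], 15, 3, [[], [6, 13, 14, 6, 0], [15, 15, 8, 10], [15, 7, 4, 12, 7]]⟩, ⟨3, [4575, 225], 17, 0, [[], [2, 0]]⟩, ⟨2, [230, 224, 263, 187, 145, 143, 871, 225, 231, 225, 971], 15, 3, [[], [9, 4, 2, 11, 4], [13, 11, 12, 6, 8], [4, 13, 7, 10, 14]]⟩, ⟨3, [4579, 225, 231, 225], 17, 0, [[], [2, 0]]⟩, ⟨2,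 [224, 1184, 224, 230, 224, 263, 187, 145, 1741], 15, 1, [[], [13, 9, 12, 10, 2], [8, 10, 9, 13, 10], [15, 8, 11, 13, 6]]⟩, ⟨3, [4583, 231], 17, 0, [[], [2, 0]]⟩, ⟨2, [224, 230, 1103, 263, 144, 187, 144, 1279], 15, 1, [[], [9, 14, 12, 8, 2], [7, 14, 7, 14, 0], [13, 0, 9, 4, 13]]⟩, ⟨3, [4587, 225, 231, 225], 17, 0, [[], [2, 0]]⟩, ⟨2, [224, 230, 224, 2920, 230, 263, 187, 145, 1781], 15, 1, [[], [4, 13, 7, 13, 2], [10, 13, 13], [4, 12, 4, 0, 8]]⟩, ⟨3, [4591, 231, 225], 17, 0, [[], [2, 0]]⟩, ⟨2, [230, 3542, 224, 230, 224, 263, 144, 187, 144, 785], 15, 1, [[], [12, 7, 12, 12, 2], [12, 14, 10, 9], [12, 14, 12, 10]]⟩, ⟨3, [4595, 231, 225], 17, 0, [[], [2, 0]]⟩, ⟨2, [224, 230, 224, 1092, 230, 224, 263, 145, 187, 143, 2051], 15, 1, [[], [14, 10, 10, 4], [4, 10, 8, 13, 0], [6, 11, 15, 15, 6]]⟩,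 ⟨3, [4599, 225, 231, 225], 17, 0, [[], [2, 0]]⟩, ⟨2, [224, 230, 224, 2482, 230, 224, 263, 143, 187, 144, 3079], 15, 1, [[], [14, 8, 13, 8, 6], [4, 10, 6, 10, 4], [15, 4, 8, 10, 0]]⟩, ⟨3, [4603, 231, 225], 17, 0, [[], [2, 0]]⟩, ⟨2, [224, 230, 224, 3090, 142, 145, 187, 145, 264, 225, 231, 293], 1, 2, [[], [7, 11, 13, 10, 6], [7, 15, 6, 4, 14, 0], [8, 14, 12, 9, 9]]⟩, ⟨3, [4607, 225], 17, 0, [[], [2, 0]]⟩, ⟨2, [230, 224, 3614, 187, 145, 186, 264, 1745], 11, 2, [[], [10, 10, 4, 9], [15, 9, 6, 13, 7], [4, 8, 13, 6, 4]]⟩, ⟨3, [4611, 231], 17, 0, [[], [2, 0]]⟩, ⟨2, [1144, 142, 145, 264, 225, 231, 225, 2271], 11, 0, [[], [15, 13, 10, 6, 4, 2], [15, 15, 11, 9, 7], [8, 15, 4, 14, 2]]⟩, ⟨3, [4615, 231], 17, 0, [[], [2, 0]]⟩, ⟨2, [230, 224, 704, 145, 186, 144, 264, 231, 225, 1843], 14, 2, [[], [6,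 11, 15, 15], [6, 8, 6, 4, 2], [12, 12, 12]]⟩, ⟨3, [4619, 231, 225], 17, 0, [[], [2, 0]]⟩, ⟨2, [224, 3040, 230, 418, 145, 264], 14, 3, [[], [4, 8, 8, 13, 0], [14, 13, 14, 14], [12, 12, 11, 14]]⟩, ⟨2, [186, 145, 187, 264, 231, 4260, 3085], 15, 2, [[], [4, 11, 14, 6, 2], [11, 9, 11, 14, 0], [14, 14, 4, 9]]⟩, ⟨3, [4625, 231, 225], 17, 0, [[], [2, 0]]⟩, ⟨2, [224, 230, 4624, 144, 186, 145, 187, 264, 231, 4550], 15, 3, [[], [6, 12, 8, 2], [14, 4, 14, 11, 6], [12, 14, 7, 14, 4]]⟩, ⟨3, [4629, 225], 17, 0, [[], [2, 0]]⟩, ⟨2, [224, 230, 1144, 142, 264, 225, 231, 225, 2715], 15, 3, [[], [10, 14, 4, 10, 14], [8, 14, 14, 10], [14, 6, 9, 14]]⟩, ⟨3, [4633, 231], 17, 0, [[], [2, 0]]⟩, ⟨2, [224, 230, 224, 265, 145, 143, 755, 1157], 1, 2, [[], [15, 12, 11, 7, 8], [11, 14, 4], [14, 6, 9, 12, 11]]⟩, ⟨3, [4637,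 225], 17, 0, [[], [2, 0]]⟩, ⟨2, [224, 230, 854, 265, 144, 186, 143, 1051], 14, 1, [[], [12, 12, 14, 11], [13, 8, 8, 11], [6, 13, 6, 14]]⟩, ⟨3, [4641, 225], 17, 0, [[], [2, 0]]⟩, ⟨2, [224, 265, 187, 144, 186, 2595, 4203], 15, 1, [[], [7, 8, 8, 8, 6], [10, 9, 10, 14, 0], [9, 9, 11, 6, 8]]⟩, ⟨2, [224, 230, 224, 265, 144, 186, 1891, 225, 231, 2345], 15, 1, [[], [9, 10, 10, 8, 0], [15, 6, 9, 4], [13, 15, 9, 10, 6]]⟩, ⟨2, [230, 224, 1972, 230, 224, 265, 187, 144, 4539], 15, 2, [[], [14, 13, 14, 4, 0], [10, 8, 14, 9], [4, 15, 10, 13]]⟩, ⟨2, [224, 265, 145, 187, 419, 231, 3985], 15, 3, [[], [12, 8, 15, 6, 0], [10, 12, 11, 2], [10, 14, 9, 2]]⟩, ⟨3, [4651, 231, 225], 17, 0, [[], [2, 0]]⟩, ⟨2, [230, 224, 265, 187, 145, 143, 4539, 225, 3357], 15, 3, [[], [14, 6, 10, 12, 7], [8, 6, 12, 15], [13, 10,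 8, 11, 6]]⟩, ⟨3, [4655, 225, 231], 17, 0, [[], [2, 0]]⟩, ⟨2, [224, 230, 224, 265, 145, 186, 144, 143, 3091, 225, 231, 225, 739], 15, 3, [[], [7, 8, 8, 13, 7], [6, 9, 14, 6, 4], [4, 0, 8, 6]]⟩, ⟨3, [4659, 225, 231], 17, 0, [[], [2, 0]]⟩, ⟨2, [230, 2062, 224, 265, 187, 145, 3653], 15, 1, [[], [6, 4, 8, 8, 11], [9, 9, 12, 7, 4, 0], [8, 12, 8, 7, 8]]⟩, ⟨3, [4663, 225, 231], 17, 0, [[], [2, 0]]⟩, ⟨2, [230, 224, 1744, 230, 265, 144, 143, 186, 3565], 15, 1, [[], [8, 12, 12, 12], [7, 9, 15, 12, 4, 0], [9, 15, 13, 8, 6]]⟩, ⟨3, [4667, 225, 231, 225], 17, 0, [[], [2, 0]]⟩, ⟨2, [230, 224, 916, 142, 1350, 266], 1, 0, [[], [7, 11, 12, 4, 10], [6, 10, 0, 8, 4], [10, 10, 8, 15, 7]]⟩, ⟨3, [4671, 231, 225], 17, 0, [[], [2, 0]]⟩, ⟨2, [230, 224, 1934, 224, 230, 224, 266, 595], 1, 3, [[], [14, 10, 14, 7,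 10, 2], [13, 7, 12, 9, 0], [8, 4, 13, 10, 6]]⟩, ⟨3, [4675, 231, 225], 17, 0, [[], [2, 0]]⟩, ⟨2, [230, 298, 368, 230, 224, 266], 3, 0, [[], [7, 13, 4, 8, 7], [10, 9, 0], [13, 11, 12, 4, 2]]⟩, ⟨2, [3292, 224, 3644, 230, 224, 266], 11, 3, [[], [6, 14, 8, 0, 10], [10, 13, 2, 14, 4], [12, 7, 9, 6, 0]]⟩, ⟨3, [4681, 225, 231, 225], 17, 0, [[], [2, 0]]⟩, ⟨2, [230, 224, 2414, 230, 224, 266, 4453], 11, 2, [[], [7, 11, 4, 15, 7], [14, 4, 14, 12, 0], [12, 8, 13, 6, 2]]⟩, ⟨3, [4685, 225, 231], 17, 0, [[], [2, 0]]⟩, ⟨2, [224, 266, 231, 3193, 493], 11, 1, [[], [15, 10, 7, 12, 0], [13, 4, 0, 10, 13], [10, 9, 9, 0]]⟩, ⟨2, [224, 4272, 224, 230, 4358, 230, 224, 266], 11, 3, [[], [6, 13, 13, 4, 0], [15, 10, 13, 11, 0], [7, 12, 4, 2, 0]]⟩, ⟨2, [230, 224, 999, 224, 230, 2848, 230, 224, 266], 11, 3, [[], [9,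 10, 7, 15, 9], [8, 12, 14, 8, 0], [13, 11, 12, 7]]⟩, ⟨2, [3516, 230, 224, 266, 225, 231, 225, 827], 11, 2, [[], [12, 10, 6, 12, 10], [15, 7, 15, 6, 8], [11, 0, 8, 7]]⟩, ⟨3, [4695, 225, 231], 17, 0, [[], [2, 0]]⟩, ⟨2, [224, 230, 4512, 230, 224, 266, 2599], 11, 0, [[], [14, 14, 4, 2], [4, 10, 9, 12, 2], [6, 9, 9, 4, 2]]⟩, ⟨3, [4699, 225], 17, 0, [[], [2, 0]]⟩, ⟨2, [230, 224, 2778, 230, 224, 266, 231, 1097], 11, 0, [[], [11, 11, 6, 11], [9, 4, 15, 9, 0], [13, 4, 13, 15, 0]]⟩, ⟨2, [4148, 224, 230, 3972, 266], 14, 2, [[], [9, 12, 12, 10], [4, 13, 13, 10, 6], [12, 14, 4, 13, 0]]⟩, ⟨3, [4705, 225], 17, 0, [[], [2, 0]]⟩, ⟨2, [224, 230, 224, 266, 225, 231, 225, 4671, 225, 1493], 15, 1, [[], [15, 9, 9, 14, 7], [15, 9, 7, 13, 6], [14, 13, 10, 10, 8]]⟩, ⟨3, [4709, 225, 231], 17, 0, [[], [2, 0]]⟩,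 ⟨2, [224, 1830, 266, 225, 231, 1909], 15, 2, [[], [9, 13, 14, 13, 2], [11, 9, 9, 6, 11], [8, 15, 6, 15, 2]]⟩, ⟨3, [4713, 231], 17, 0, [[], [2, 0]]⟩, ⟨2, [224, 230, 266, 225, 231, 2793, 231, 225, 3093], 15, 1, [[], [10, 8, 2, 15], [15, 9, 12, 4], [13, 4, 8, 4]]⟩, ⟨3, [4717, 143, 186], 17, 0, [[], [2, 0]]⟩, ⟨2, [224, 230, 224, 266, 225, 231, 225, 4163, 225, 3121], 15, 1, [[], [7, 4, 12, 7, 0], [6, 9, 14, 11], [13, 6, 12, 0]]⟩, ⟨3, [4721, 225], 17, 0, [[], [2, 0]]⟩, ⟨2, [230, 224, 266, 231, 225, 1991, 1367], 15, 1, [[], [15, 11, 13, 10, 7], [6, 14, 12, 15, 6], [7, 12, 11, 14, 2]]⟩, ⟨3, [4725, 231, 225], 17, 0, [[], [2, 0]]⟩, ⟨2, [224, 230, 266, 1347, 225, 231, 2663], 15, 1, [[], [12, 6, 10, 2], [15, 9, 13, 4, 11], [11, 9, 14, 7, 0]]⟩, ⟨3, [4729, 225], 17, 0, [[], [2, 0]]⟩, ⟨2, [224, 230,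 1955, 224, 230, 224, 266, 225, 231, 3041], 15, 0, [[], [10, 13, 7, 8, 7], [14, 4, 9, 11, 9], [6, 4, 8]]⟩, ⟨3, [4733, 231, 225], 17, 0, [[], [2, 0]]⟩, ⟨2, [224, 266, 4707, 4218], 15, 3, [[], [14, 4, 8, 10, 6], [4, 14, 9, 6, 0], [8, 11, 4, 12, 4]]⟩, ⟨3, [4737, 225, 231], 17, 0, [[], [2, 0]]⟩, ⟨2, [230, 224, 1368, 230, 1826, 230, 224, 266], 15, 2, [[], [14, 6, 12, 0], [10, 15, 8, 6, 10], [9, 10, 8, 7]]⟩, ⟨3, [4741, 231, 225], 17, 0, [[], [2, 0]]⟩, ⟨2, [230, 224, 2804, 230, 266, 3285], 15, 1, [[], [4, 10, 15, 6, 10], [11, 8, 7, 13, 0], [10, 13, 11, 8, 7]]⟩, ⟨3, [4745, 231, 225], 17, 0, [[], [2, 0]]⟩, ⟨2, [224, 4446, 224, 230, 1990, 266], 15, 2, [[], [12, 12, 12, 10], [14, 7, 4, 2], [14, 6, 8, 14, 6]]⟩, ⟨3, [4749, 225, 231], 17, 0, [[], [2, 0]]⟩, ⟨2, [230, 224, 3134, 4452, 230, 224, 266],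 15, 2, [[], [13, 14, 8, 10, 2], [10, 8, 10, 6], [14, 4, 10, 6, 2]]⟩, ⟨3, [4753, 225, 231, 225], 17, 0, [[], [2, 0]]⟩, ⟨2, [224, 2600, 224, 230, 224, 266, 225, 231, 225, 1225], 15, 1, [[], [8, 11, 9, 13, 2], [15, 12, 14, 11, 12], [9, 10, 10, 13]]⟩, ⟨3, [4757, 186, 143, 187], 17, 0, [[], [2, 0]]⟩, ⟨2, [224, 2808, 1378, 138, 138, 214, 134, 268], 0, 0, [[], [8, 6, 15, 2, 11], [12, 8, 15, 6, 4], [9, 13, 15]]⟩, ⟨3, [4761, 225, 231, 225], 17, 0, [[], [2, 0]]⟩, ⟨2, [224, 230, 1842, 224, 230, 224, 1446, 124, 126, 134, 124, 215, 268], 1, 0, [[], [7, 15, 7, 10, 2], [12, 10, 6, 9, 11], [13, 15, 12, 14, 9]]⟩, ⟨3, [4765, 231, 225], 17, 0, [[], [2, 0]]⟩, ⟨2, [4354, 230, 224, 2840, 127, 134, 214, 268], 1, 1, [[], [11, 12, 6, 15, 0], [9, 6, 9, 15, 0], [7, 8, 14, 7, 4]]⟩, ⟨3, [4769, 225, 231, 225], 17,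 0, [[], [2, 0]]⟩, ⟨2, [224, 230, 224, 2486, 230, 484, 126, 215, 139, 268], 3, 0, [[], [8, 7, 15, 12, 6], [8, 13, 10, 14, 2], [7, 15, 15, 10, 7, 0]]⟩, ⟨3, [4773, 225, 231, 225], 17, 0, [[], [2, 0]]⟩, ⟨2, [230, 448, 124, 215, 134, 215, 268, 225, 231, 225, 4477], 9, 1, [[], [6, 8, 14, 7, 8], [10, 9, 9, 15, 0], [10, 13, 15, 9, 6]]⟩] 1615 2389 = true := by decide +kernel
theorem dd_c3 : dd.checks [⟨2, [230, 224, 448, 126, 214, 127, 268, 231, 225, 1601], 11, 0, [[], [9, 6, 9, 13, 6], [9, 4, 14, 4, 0], [8, 7, 4, 15, 2]]⟩, ⟨3, [4779, 225, 231], 17, 0, [[], [2, 0]]⟩, ⟨2, [224, 866, 224, 230, 484, 124, 139, 134, 268], 13, 2, [[], [11, 6, 14, 11, 0], [11, 14, 14, 10, 4], [15, 6, 13, 6, 8]]⟩, ⟨3, [4783, 231, 225], 17, 0, [[], [2, 0]]⟩, ⟨2, [224, 448, 134, 214, 124, 134, 268, 225, 231, 225, 531],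 15, 3, [[], [11, 9, 9, 12, 7], [9, 14, 13, 9, 6], [12, 7, 14, 12]]⟩, ⟨3, [4787, 225, 231, 225], 17, 0, [[], [2, 0]]⟩, ⟨2, [224, 2504, 260, 139, 214, 138, 268], 15, 0, [[], [14, 14, 13, 6, 2], [12, 9, 15, 12], [11, 6, 9, 15, 0]]⟩, ⟨3, [4791, 231, 225], 17, 0, [[], [2, 0]]⟩, ⟨2, [2044, 126, 134, 215, 268, 225, 231, 225, 4047], 15, 3, [[], [14, 11, 13, 13, 6], [6, 13, 9, 12, 0], [10, 7, 13, 2]]⟩, ⟨3, [4795, 225, 231], 17, 0, [[], [2, 0]]⟩, ⟨2, [224, 230, 1638, 224, 230, 270, 127, 215, 138, 135, 1451], 1, 0, [[], [7, 13, 10, 15, 4], [13, 4, 8, 6], [7, 4, 9, 14, 0]]⟩, ⟨3, [4799, 225, 231, 225], 17, 0, [[], [2, 0]]⟩, ⟨2, [230, 4468, 224, 230, 270, 138, 214, 126, 1525], 1, 0, [[], [4, 15, 12, 8, 2], [9, 14, 6, 8, 4], [9, 14, 11, 9]]⟩, ⟨3, [4803, 225, 231], 17, 0, [[], [2, 0]]⟩, ⟨2, [724, 224,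 230, 270, 2845], 9, 2, [[], [10, 9, 6, 4, 0], [14, 14, 9, 14, 9, 0], [4, 11, 12, 14, 2]]⟩, ⟨3, [4807, 231], 17, 0, [[], [2, 0]]⟩, ⟨2, [230, 224, 1638, 224, 230, 224, 270, 215, 135, 215, 139, 1549], 9, 3, [[], [10, 13, 9, 9], [13, 13, 15, 8], [4, 0, 8, 12, 7]]⟩, ⟨3, [4811, 225], 17, 0, [[], [2, 0]]⟩, ⟨2, [230, 224, 1638, 224, 230, 224, 270, 139, 125, 135, 2837], 9, 3, [[], [11, 11, 8, 10], [11, 6, 15, 7, 2], [7, 14, 7, 8]]⟩, ⟨3, [4815, 225, 231], 17, 0, [[], [2, 0]]⟩, ⟨2, [230, 224, 4476, 224, 230, 224, 270, 125, 135, 126, 125, 2837], 9, 3, [[], [8, 8, 4, 14, 0], [14, 6, 11, 9, 4], [9, 15, 4, 9, 4]]⟩, ⟨3, [4819, 231], 17, 0, [[], [2, 0]]⟩, ⟨2, [2408, 224, 230, 224, 270, 139, 125, 2969], 10, 1, [[], [10, 7, 14, 13, 0], [8, 13, 7, 14, 4], [10, 8, 14, 7, 0]]⟩, ⟨3, [4823, 225, 231], 17, 0,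 [[], [2, 0]]⟩, ⟨2, [224, 230, 224, 270, 139, 139, 139, 127, 125, 2841, 231, 3213], 11, 1, [[], [7, 12, 8, 13, 9], [8, 0, 10, 13], [8, 6, 8, 4, 2]]⟩, ⟨3, [4827, 225], 17, 0, [[], [2, 0]]⟩, ⟨2, [230, 224, 4468, 224, 230, 270, 135, 214, 138, 125, 451], 13, 2, [[], [4, 8, 6, 14, 6], [6, 13, 4, 11, 0], [6, 11, 15, 4]]⟩, ⟨3, [4831, 231, 225], 17, 0, [[], [2, 0]]⟩, ⟨2, [224, 270, 139, 215, 135, 126, 125, 2841, 231, 225, 2995], 15, 2, [[], [9, 15, 13, 13], [4, 14, 8, 4, 2], [8, 13, 6, 10, 2]]⟩, ⟨3, [4835, 225, 231, 225], 17, 0, [[], [2, 0]]⟩, ⟨2, [230, 224, 290, 230, 224, 270, 138, 215, 485], 15, 3, [[], [14, 7, 15, 9], [8, 6, 4, 9, 6], [14, 9, 7, 0]]⟩, ⟨3, [4839, 225], 17, 0, [[], [2, 0]]⟩, ⟨2, [230, 270, 126, 214, 138, 765, 225, 4321], 15, 2, [[], [11, 15, 11, 13, 9], [4, 10, 14, 7, 8], [10,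 6, 0, 10]]⟩, ⟨3, [4843, 225, 231], 17, 0, [[], [2, 0]]⟩, ⟨2, [224, 230, 270, 138, 126, 125, 2233, 231, 225, 3299], 15, 3, [[], [14, 9, 11, 13, 6], [8, 4, 8, 11, 4], [4, 14, 9, 2]]⟩, ⟨3, [4847, 225], 17, 0, [[], [2, 0]]⟩, ⟨2, [224, 230, 270, 139, 214, 125, 215, 2841, 225, 231, 3496], 15, 0, [[], [10, 12, 14, 13, 0], [9, 13, 11, 7, 2], [8, 10, 7, 10, 6]]⟩, ⟨3, [4851, 225], 17, 0, [[], [2, 0]]⟩, ⟨2, [230, 348, 119, 66, 88, 272, 225, 231, 225, 3817], 0, 3, [[], [14, 6, 10, 13, 10], [7, 9, 14, 7], [6, 12, 10, 6, 2]]⟩, ⟨2, [788, 62, 66, 118, 272, 231, 4439], 1, 2, [[], [7, 11, 15, 4, 9], [12, 15, 10, 10, 12], [13, 11, 11, 9, 9]]⟩, ⟨3, [4857, 225, 231, 225], 17, 0, [[], [2, 0]]⟩, ⟨2, [224, 788, 60, 119, 66, 272, 225, 231, 4639], 1, 3, [[], [12, 8, 11, 11, 2], [12, 14, 6, 10, 7], [4, 13, 9, 13,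 2]]⟩, ⟨3, [4861, 225, 231], 17, 0, [[], [2, 0]]⟩, ⟨2, [230, 224, 4098, 230, 224, 1658, 66, 119, 88, 272], 1, 1, [[], [13, 15, 7, 9, 0], [15, 10, 12, 15, 2], [13, 8, 14, 13, 4]]⟩, ⟨2, [66, 272, 231, 225, 1143, 3849], 3, 0, [[], [13, 7, 4, 8, 6], [7, 13, 7, 12, 7], [11, 2, 14, 6]]⟩, ⟨2, [62, 66, 89, 272, 225, 3017, 231, 225, 4609], 3, 0, [[], [11, 12, 8, 13, 0], [12, 11, 6, 8], [6, 4, 8, 14, 4]]⟩, ⟨3, [4869, 231], 17, 0, [[], [2, 0]]⟩, ⟨2, [224, 230, 224, 2304, 60, 64, 66, 272, 3017], 8, 2, [[], [10, 13, 13, 14, 0], [6, 13, 9, 4, 0], [9, 11, 4, 13]]⟩, ⟨2, [1658, 60, 119, 66, 88, 272, 231, 225, 2291], 8, 0, [[], [13, 9, 12, 11, 8], [12, 11, 4, 13, 0], [10, 13, 6, 4]]⟩, ⟨3, [4875, 225, 231], 17, 0, [[], [2, 0]]⟩, ⟨2, [119, 88, 217, 62, 66, 272, 231, 225, 1991], 8, 0, [[], [9, 9, 11, 9, 4],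 [8, 7, 15, 12, 6], [9, 10, 14, 11, 4]]⟩, ⟨3, [4879, 231, 225], 17, 0, [[], [2, 0]]⟩, ⟨2, [3982, 66, 89, 272, 225, 231, 225, 3039], 10, 2, [[], [6, 10, 6, 12, 2], [6, 0, 8, 13, 4], [6, 15, 4, 10]]⟩, ⟨3, [4883, 231, 225], 17, 0, [[], [2, 0]]⟩, ⟨2, [230, 1684, 230, 1670, 68, 89, 119, 60, 272], 11, 1, [[], [11, 12, 9, 12, 6], [4, 14, 14, 2], [12, 14, 9, 14, 6]]⟩, ⟨3, [4887, 225, 231, 225], 17, 0, [[], [2, 0]]⟩, ⟨2, [230, 224, 1906, 60, 119, 89, 68, 272, 225, 2583], 11, 0, [[], [13, 13, 15, 15, 6], [15, 12, 2, 11], [11, 9, 11, 13, 8]]⟩, ⟨2, [224, 4852, 224, 230, 586, 68, 89, 119, 60, 272], 11, 1, [[], [14, 7, 13, 9], [12, 9, 10], [14, 11, 9, 6, 0]]⟩, ⟨3, [4893, 225, 231, 225], 17, 0, [[], [2, 0]]⟩, ⟨2, [224, 1670, 60, 62, 66, 68, 272, 225, 231, 4143], 11, 0, [[], [12, 10, 10, 4, 0], [12, 7,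 4, 11, 13], [14, 11, 8, 12, 9]]⟩, ⟨2, [1150, 89, 272, 225, 231, 225, 1887], 11, 1, [[], [4, 14, 8, 15, 6], [6, 10, 6, 14], [7, 2, 0]]⟩, ⟨2, [230, 224, 1150, 119, 68, 272, 231, 969], 11, 1, [[], [4, 10, 12, 6, 0], [14, 14, 10, 8], [11, 4, 10, 14]]⟩, ⟨3, [4901, 225], 17, 0, [[], [2, 0]]⟩, ⟨2, [4734, 224, 1658, 60, 119, 66, 88, 272], 14, 3, [[], [12, 4, 2, 11, 4], [6, 4, 12, 10], [15, 10, 15, 11, 0]]⟩, ⟨3, [4905, 225, 231, 225], 17, 0, [[], [2, 0]]⟩, ⟨2, [230, 3724, 66, 119, 88, 272, 225, 231, 1649], 14, 1, [[], [12, 15, 4, 10, 10], [8, 8, 6, 15, 11, 0], [10, 10, 14, 9, 0]]⟩, ⟨3, [4909, 231, 225], 17, 0, [[], [2, 0]]⟩, ⟨2, [1300, 230, 224, 274, 63, 349], 0, 3, [[], [10, 4, 8, 7, 0], [14, 12, 11], [7, 12, 10, 8]]⟩, ⟨3, [4913, 231, 225], 17, 0, [[], [2, 0]]⟩, ⟨2, [230, 224, 274, 119, 88, 61,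 1777, 231, 225, 3015], 1, 2, [[], [6, 10, 10, 7, 2], [6, 13, 11, 4], [11, 15, 15, 7]]⟩, ⟨3, [4917, 225, 231], 17, 0, [[], [2, 0]]⟩, ⟨2, [1996, 224, 230, 274, 89, 118, 1659], 7, 3, [[], [8, 15, 11, 13, 2], [6, 14, 10, 13, 4], [10, 13, 4, 11]]⟩, ⟨3, [4921, 231, 225], 17, 0, [[], [2, 0]]⟩, ⟨2, [224, 2208, 224, 230, 224, 274, 118, 69, 63, 795], 11, 3, [[], [6, 10, 4, 15, 9], [10, 6, 8, 10, 6], [10, 14, 10, 10, 0]]⟩, ⟨3, [4925, 225, 231, 225], 17, 0, [[], [2, 0]]⟩, ⟨2, [224, 230, 274, 118, 67, 63, 789, 225, 2907], 11, 2, [[], [14, 12, 8, 12, 2], [12, 2, 15, 13, 4], [15, 15, 12, 14, 7]]⟩, ⟨3, [4929, 225, 231, 225], 17, 0, [[], [2, 0]]⟩, ⟨2, [224, 230, 274, 89, 119, 89, 1777, 231, 225, 4577], 11, 2, [[], [6, 0, 8, 4], [6, 8, 10, 9, 0], [15, 9, 13, 15]]⟩, ⟨3, [4933, 231, 225], 17, 0, [[], [2,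 0]]⟩, ⟨2, [224, 230, 274, 61, 118, 65, 4869, 225, 4705], 11, 2, [[], [14, 11, 7, 15], [6, 8, 13, 13, 7], [15, 6, 10, 10]]⟩, ⟨3, [4937, 225, 231, 225], 17, 0, [[], [2, 0]]⟩, ⟨2, [274, 65, 61, 195, 145, 187, 145, 799], 11, 0, [[], [11, 12, 9, 7, 4], [8, 13, 10, 13, 4], [12, 7, 0, 10]]⟩, ⟨3, [4941, 225, 231], 17, 0, [[], [2, 0]]⟩, ⟨2, [230, 350, 274, 88, 118, 88, 1659], 14, 2, [[], [15, 8, 14, 4, 2], [15, 15, 7, 15, 2], [4, 8, 10, 8, 0]]⟩, ⟨3, [4945, 225], 17, 0, [[], [2, 0]]⟩, ⟨2, [274, 119, 88, 69, 63, 795, 231, 225, 3623], 15, 1, [[], [12, 11, 4], [10, 12, 10, 9, 7], [15, 8, 8, 14, 2]]⟩, ⟨3, [4949, 231], 17, 0, [[], [2, 0]]⟩, ⟨2, [230, 274, 89, 118, 89, 61, 1671, 225, 3868], 15, 1, [[], [6, 8, 10], [8, 6, 15, 4, 0], [9, 15, 10, 0]]⟩, ⟨2, [230, 274, 69, 65, 63, 2123, 2763], 15, 3, [[],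 [4, 14, 6, 9, 0], [9, 9, 4, 11, 6], [4, 15, 11, 15, 0]]⟩, ⟨2, [230, 224, 2880, 224, 230, 224, 274, 61, 118, 4879], 15, 0, [[], [14, 12, 0, 10], [9, 9, 15, 12, 6], [13, 6, 10, 12, 10]]⟩, ⟨2, [230, 274, 63, 297, 225, 231, 225, 2571], 15, 3, [[], [4, 13, 13, 7], [9, 9, 13, 15, 11], [13, 7, 14, 4, 2]]⟩, ⟨3, [4959, 231], 17, 0, [[], [2, 0]]⟩, ⟨2, [230, 274, 63, 118, 69, 579, 225, 4305], 15, 3, [[], [10, 8, 6, 14, 4], [4, 8, 0], [13, 7, 10, 13, 0]]⟩, ⟨2, [533, 276, 3967], 1, 0, [[], [6, 15, 0, 9], [12, 8, 14, 14], [13, 14, 14, 10, 4]]⟩, ⟨3, [4965, 231], 17, 0, [[], [2, 0]]⟩, ⟨2, [224, 564, 230, 224, 276], 6, 2, [[], [13, 11, 12, 15, 4], [4, 13, 14, 12, 2]]⟩, ⟨2, [224, 276, 225, 3165, 231, 4741], 11, 0, [[], [10, 10, 15, 12], [14, 4, 15, 0], [11, 13, 7, 9, 2]]⟩, ⟨3, [4971, 225, 231], 17, 0,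 [[], [2, 0]]⟩, ⟨2, [230, 224, 3116, 224, 230, 526, 230, 224, 276], 13, 3, [[], [13, 15, 9, 6, 2], [14, 9, 11, 2], [14, 11, 4, 11, 7]]⟩, ⟨2, [230, 224, 276, 599, 225, 231, 225, 2927], 13, 3, [[], [10, 14, 4, 15, 2], [8, 11, 13, 4, 8], [13, 11, 7, 12, 8]]⟩, ⟨3, [4977, 225], 17, 0, [[], [2, 0]]⟩, ⟨2, [224, 230, 906, 230, 224, 276, 225, 3577], 13, 1, [[], [7, 9, 11, 15, 10], [7, 10, 12, 15], [8, 14, 7, 8]]⟩, ⟨2, [224, 230, 224, 3872, 224, 276, 231, 225, 4223], 14, 1, [[], [8, 8, 14, 11], [14, 10, 10, 6, 0], [7, 10, 4]]⟩, ⟨3, [4983, 225, 231, 225], 17, 0, [[], [2, 0]]⟩, ⟨2, [230, 224, 276, 231, 4171, 186, 145, 1795], 15, 1, [[], [13, 7, 11, 2, 11], [12, 12, 4, 14, 7], [12, 15, 12, 14, 6, 0]]⟩, ⟨3, [4987, 231, 225], 17, 0, [[], [2, 0]]⟩, ⟨2, [230, 224, 4706, 230, 1716, 224, 230, 276], 15, 0,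 [[], [4, 13, 7, 13, 9], [9, 7, 4], [13, 6, 8, 13, 11]]⟩, ⟨3, [4991, 225, 231], 17, 0, [[], [2, 0]]⟩, ⟨2, [632, 144, 187, 144, 278, 231, 225, 4639], 11, 2, [[], [7, 15, 6, 9, 10, 0], [13, 13, 8, 4, 11], [9, 11, 7, 14, 0]]⟩, ⟨3, [4995, 225], 17, 0, [[], [2, 0]]⟩, ⟨2, [230, 1840, 187, 142, 145, 186, 278, 225, 231, 2344], 11, 2, [[], [13, 0, 8, 13], [15, 8, 15, 10, 6], [11, 15, 9, 4]]⟩, ⟨2, [224, 230, 2530, 142, 145, 187, 144, 278, 225, 231, 2881], 11, 3, [[], [10, 6, 9, 15, 7, 0], [10, 13, 7, 4, 0], [10, 6, 15, 12, 6]]⟩, ⟨2, [224, 230, 224, 1100, 142, 187, 144, 186, 278, 225, 231, 3857], 11, 3, [[], [14, 10, 13, 14, 12], [10, 8, 13, 15], [7, 15, 13, 9]]⟩, ⟨3, [5003, 225], 17, 0, [[], [2, 0]]⟩, ⟨2, [224, 230, 4340, 230, 1246, 145, 186, 144, 278], 14, 3, [[], [9, 9, 4, 12, 9], [10, 13, 9,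 4, 13], [10, 9, 15, 12]]⟩, ⟨3, [5007, 225, 231, 225], 17, 0, [[], [2, 0]]⟩, ⟨2, [224, 230, 2330, 142, 144, 186, 144, 278, 225, 4623], 14, 2, [[], [6, 10, 7, 14, 4], [6, 14, 14, 8, 6], [12, 4, 12, 6, 4]]⟩, ⟨3, [5011, 231], 17, 0, [[], [2, 0]]⟩, ⟨2, [224, 2112, 142, 144, 186, 144, 278, 231, 1411], 14, 2, [[], [14, 14, 11, 15, 9], [12, 10, 6], [7, 11, 7, 4, 0]]⟩, ⟨3, [5015, 225], 17, 0, [[], [2, 0]]⟩, ⟨2, [3682, 142, 144, 186, 144, 278, 225, 231, 4205], 15, 1, [[], [15, 9, 4, 12, 0], [11, 13, 10, 15, 0], [11, 9, 14, 7, 4]]⟩, ⟨3, [5019, 225, 231, 225], 17, 0, [[], [2, 0]]⟩, ⟨2, [224, 860, 142, 186, 278, 225, 231, 4795], 15, 1, [[], [8, 12, 10, 14], [11, 6, 15, 4, 0], [9, 7, 15, 2]]⟩, ⟨3, [5023, 225, 231], 17, 0, [[], [2, 0]]⟩, ⟨2, [230, 1914, 144, 186, 142, 2218, 142, 187, 145, 278], 15,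 2, [[], [8, 11, 4, 2], [8, 15, 11, 11], [8, 8, 10, 4, 9]]⟩, ⟨3, [5027, 225, 231], 17, 0, [[], [2, 0]]⟩, ⟨2, [230, 224, 1092, 224, 241, 187, 144, 278], 15, 2, [[], [8, 15, 6, 8, 10], [13, 8, 10, 15, 2], [9, 11, 7, 9, 0]]⟩, ⟨3, [5031, 231, 225], 17, 0, [[], [2, 0]]⟩, ⟨2, [230, 2122, 66, 89, 119, 204, 142, 144, 186, 144, 278], 15, 2, [[], [4, 13, 8, 7], [6, 12, 6, 11, 2], [14, 12, 6, 12, 7]]⟩, ⟨3, [5035, 225, 231], 17, 0, [[], [2, 0]]⟩, ⟨2, [230, 224, 2830, 230, 280, 187, 144, 143, 186, 1051], 11, 0, [[], [13, 10, 13, 9, 0], [10, 6, 9, 11, 7], [4, 15, 15, 13, 4]]⟩, ⟨3, [5039, 231], 17, 0, [[], [2, 0]]⟩, ⟨2, [224, 230, 4724, 718, 142, 145, 282], 9, 0, [[], [4, 15, 10, 7, 0], [11, 7, 8, 0], [11, 14, 13, 7, 2]]⟩, ⟨3, [5043, 225], 17, 0, [[], [2, 0]]⟩, ⟨2, [1246, 142, 187, 144, 186, 282, 379],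 10, 0, [[], [15, 6, 15, 10, 10], [9, 6, 9, 9, 0], [8, 14, 9, 9]]⟩, ⟨3, [5047, 225], 17, 0, [[], [2, 0]]⟩, ⟨2, [230, 224, 4808, 224, 230, 224, 4050, 187, 144, 282], 11, 1, [[], [15, 12, 6, 15, 6], [11, 13, 9, 13, 0], [15, 15, 8, 7, 9]]⟩, ⟨2, [724, 230, 224, 2298, 186, 144, 282], 11, 1, [[], [14, 10, 6, 13, 10], [13, 15, 10, 12, 0], [12, 11, 7, 14, 13]]⟩, ⟨2, [230, 3382, 142, 145, 186, 144, 282, 225, 231, 949], 13, 2, [[], [13, 13, 7, 12], [4, 13, 11, 8, 8], [11, 9, 4, 14, 6]]⟩, ⟨3, [5055, 225, 231], 17, 0, [[], [2, 0]]⟩, ⟨2, [224, 230, 224, 2072, 142, 145, 187, 144, 282, 225, 1391], 13, 1, [[], [6, 9, 14, 12, 11], [9, 7, 12, 7, 11], [8, 4, 14, 8, 4]]⟩, ⟨3, [5059, 231, 225], 17, 0, [[], [2, 0]]⟩, ⟨2, [224, 870, 144, 186, 142, 282, 231, 225, 3641], 14, 2, [[], [10, 13, 8, 13, 2], [15, 11,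 6], [15, 10, 10, 14, 9]]⟩, ⟨3, [5063, 225, 231], 17, 0, [[], [2, 0]]⟩, ⟨2, [186, 144, 187, 720, 3512, 142, 187, 144, 282], 15, 1, [[], [6, 12, 14, 12, 4], [14, 8, 15, 11, 6], [14, 6, 10, 7]]⟩, ⟨3, [5067, 231, 225], 17, 0, [[], [2, 0]]⟩, ⟨2, [224, 4120, 142, 144, 186, 282, 225, 231, 1865], 15, 1, [[], [15, 7, 9, 12, 7], [9, 14, 8, 8, 0], [6, 13, 0, 9, 4]]⟩, ⟨3, [5071, 231], 17, 0, [[], [2, 0]]⟩, ⟨2, [224, 1000, 224, 283, 186, 145, 187, 143, 1223], 11, 3, [[], [15, 10, 13, 8, 6], [9, 10, 15, 15], [10, 12, 6, 15, 4]]⟩, ⟨3, [5075, 225, 231], 17, 0, [[], [2, 0]]⟩, ⟨2, [224, 230, 3484, 230, 224, 283, 145, 2687], 15, 2, [[], [13, 15, 13, 9], [13, 7, 8, 6, 0], [11, 11, 6, 4]]⟩, ⟨3, [5079, 225, 231, 225], 17, 0, [[], [2, 0]]⟩, ⟨2, [224, 1230, 230, 224, 283, 145, 186, 143, 2219], 15, 3, [[], [13,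 7, 4, 8, 0], [6, 14, 6, 13, 0], [14, 12, 8, 14]]⟩, ⟨3, [5083, 145, 187, 143], 17, 0, [[], [2, 0]]⟩, ⟨2, [224, 230, 4042, 230, 224, 283, 186, 143, 187, 144, 1065], 15, 0, [[], [6, 15, 7, 11, 4], [13, 6, 0, 10, 6], [14, 8, 15, 11]]⟩, ⟨3, [5087, 225, 231, 225], 17, 0, [[], [2, 0]]⟩, ⟨2, [224, 230, 283, 145, 187, 143, 1269, 225, 231, 3929], 15, 3, [[], [11, 6, 13, 9, 0], [6, 12, 11], [12, 8, 4, 0, 8]]⟩, ⟨3, [5091, 225], 17, 0, [[], [2, 0]]⟩, ⟨2, [422, 286, 34, 40, 51, 34, 284], 13, 2, [[], [6, 10, 4, 13, 2], [8, 11, 13, 13, 0], [15, 12, 4, 13, 6]]⟩, ⟨3, [5095, 225], 17, 0, [[], [2, 0]]⟩, ⟨2, [230, 224, 878, 230, 758, 186, 142, 288], 11, 3, [[], [6, 15, 12, 8], [11, 7, 12, 6], [6, 4, 2, 14]]⟩, ⟨3, [5099, 231, 225], 17, 0, [[], [2, 0]]⟩, ⟨2, [230, 224, 1624, 187, 142, 145, 186, 288, 225, 231,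 225, 3185], 11, 0, [[], [13, 13, 13, 14], [15, 4, 9, 14, 0], [15, 4, 8, 8, 14]]⟩, ⟨3, [5103, 231], 17, 0, [[], [2, 0]]⟩, ⟨2, [224, 230, 2330, 142, 145, 187, 144, 288, 231, 225, 4380], 13, 2, [[], [6, 11, 7, 4], [12, 4, 2, 11], [4, 8, 6, 13]]⟩, ⟨3, [5107, 225, 231], 17, 0, [[], [2, 0]]⟩, ⟨2, [230, 224, 3354, 142, 145, 187, 144, 288, 225, 1515], 13, 3, [[], [4, 8, 12, 15, 0], [4, 8, 4, 15, 0], [6, 11, 15, 15]]⟩, ⟨3, [5111, 231], 17, 0, [[], [2, 0]]⟩, ⟨2, [224, 230, 224, 4210, 224, 230, 224, 1274, 144, 187, 288], 13, 2, [[], [11, 11, 12, 7, 0], [9, 4, 15, 11, 2], [12, 11, 8]]⟩, ⟨3, [5115, 231, 225], 17, 0, [[], [2, 0]]⟩, ⟨2, [224, 1360, 230, 224, 1734, 144, 288], 14, 3, [[], [14, 8, 15, 8], [4, 11, 11, 11, 7], [11, 12, 14, 8, 4, 0]]⟩, ⟨3, [5119, 225], 17, 0, [[], [2, 0]]⟩, ⟨2, [224, 230,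 224, 4842, 224, 230, 224, 2750, 142, 145, 186, 144, 288], 15, 1, [[], [12, 11, 6, 12], [15, 7, 10, 12, 0], [11, 15, 12, 9]]⟩, ⟨3, [5123, 225], 17, 0, [[], [2, 0]]⟩, ⟨2, [2318, 230, 224, 289, 145, 1735], 8, 3, [[], [9, 7, 0, 9], [14, 8, 6, 10, 6], [9, 14, 14, 6, 4]]⟩, ⟨3, [5127, 231], 17, 0, [[], [2, 0]]⟩, ⟨2, [1418, 224, 289, 143, 187, 1403], 10, 2, [[], [15, 8, 12, 10, 13], [14, 11, 6, 12, 4], [15, 11, 11, 4]]⟩, ⟨2, [230, 224, 1514, 289, 144, 186, 1573], 13, 2, [[], [10, 8, 4, 11, 6], [14, 6, 8, 14], [11, 13, 4, 12, 0]]⟩, ⟨3, [5133, 231], 17, 0, [[], [2, 0]]⟩, ⟨2, [230, 224, 2904, 224, 230, 289, 187, 144, 143, 2299], 14, 1, [[], [6, 10, 10, 12, 4], [9, 9, 13, 13], [6, 11, 13, 2, 11]]⟩, ⟨3, [5137, 225, 231, 225], 17, 0, [[], [2, 0]]⟩, ⟨2, [230, 290, 4531, 225, 2133], 1, 2, [[], [14, 7,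 12, 12, 0], [7, 13, 11, 8], [14, 8, 15, 6, 2]]⟩, ⟨2, [224, 230, 3138, 224, 230, 290, 231, 225, 1139], 13, 1, [[], [7, 14, 10, 9, 9], [11, 9, 0, 10], [9, 13, 9, 7]]⟩, ⟨2, [224, 230, 3704, 224, 290, 231, 4607], 14, 0, [[], [13, 14, 8, 13, 4], [14, 13, 8, 8, 2], [15, 12, 14, 10, 12]]⟩, ⟨3, [5145, 225], 17, 0, [[], [2, 0]]⟩, ⟨2, [224, 230, 224, 3964, 224, 230, 290, 4609], 14, 0, [[], [12, 12, 0, 10, 6], [8, 12, 15, 10, 7], [9, 13, 9, 7, 11]]⟩, ⟨2, [230, 224, 290, 225, 2860, 231, 2737], 14, 0, [[], [11, 6, 15, 11, 2], [9, 6, 9, 15, 2], [10, 13, 13, 7, 12]]⟩, ⟨3, [5151, 225, 231], 17, 0, [[], [2, 0]]⟩, ⟨2, [2545, 224, 230, 290, 225, 231, 291], 15, 2, [[], [9, 4, 9, 15, 9], [7, 4, 11], [10, 10, 7, 15, 2]]⟩, ⟨3, [5155, 225, 231, 225], 17, 0, [[], [2, 0]]⟩, ⟨2, [224, 3602, 224, 230, 1086, 230,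 290], 15, 0, [[], [13, 11, 6, 10, 14], [10, 12, 9, 11, 0], [13, 10, 9, 4, 9]]⟩, ⟨2, [224, 230, 224, 290, 225, 231, 225, 1415, 231, 2608], 15, 2, [[], [11, 6, 10, 6], [14, 13, 11, 9, 4], [10, 4, 14, 9]]⟩, ⟨3, [5161, 225, 231], 17, 0, [[], [2, 0]]⟩, ⟨2, [224, 230, 224, 4924, 230, 290, 231, 225, 4831], 15, 0, [[], [14, 14, 6, 11, 12], [7, 12, 4, 2], [12, 10, 14, 9, 0]]⟩, ⟨3, [5165, 231], 17, 0, [[], [2, 0]]⟩, ⟨2, [230, 224, 3207, 230, 224, 292, 231, 1935], 11, 3, [[], [6, 8, 4], [14, 8, 8, 13, 7], [12, 12, 10, 10, 2]]⟩, ⟨3, [5169, 225, 231, 225], 17, 0, [[], [2, 0]]⟩, ⟨2, [224, 292, 225, 231, 225, 2767, 3193], 15, 1, [[], [15, 9, 12, 10, 15], [4, 13, 15, 8], [9, 7, 14, 12, 4]]⟩, ⟨3, [5173, 225], 17, 0, [[], [2, 0]]⟩, ⟨2, [230, 224, 730, 119, 60, 88, 294, 225, 231, 2875], 1, 3, [[], [10,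 12, 14, 8, 4], [4, 11, 7, 14, 4], [9, 6, 8, 4]]⟩, ⟨2, [224, 230, 2416, 62, 88, 88, 118, 294, 225, 231, 3503], 3, 0, [[], [10, 8, 6, 14, 13], [9, 9, 9, 13, 6], [12, 8, 14, 12, 6]]⟩, ⟨2, [3822, 60, 66, 119, 294, 2905], 15, 2, [[], [13, 9, 7, 9, 6], [8, 0, 10, 13, 4], [9, 4, 10, 4, 2]]⟩, ⟨2, [224, 230, 4726, 224, 3822, 60, 89, 68, 119, 294], 15, 0, [[], [14, 14, 7, 9, 6], [7, 13, 7, 14, 0], [10, 15, 15, 9, 0]]⟩, ⟨2, [1978, 224, 230, 296, 61, 118, 4879], 1, 0, [[], [15, 8, 14, 10, 6], [4, 9, 7, 13, 0], [10, 8, 12, 7, 8]]⟩, ⟨3, [5185, 225, 231, 225], 17, 0, [[], [2, 0]]⟩, ⟨2, [224, 230, 3222, 224, 230, 224, 296, 118, 88, 61, 4443], 9, 2, [[], [15, 11, 12, 8, 6], [6, 11, 4, 8, 12], [7, 8, 13, 13, 2]]⟩, ⟨3, [5189, 225, 231, 225], 17, 0, [[], [2, 0]]⟩, ⟨2, [1964, 296, 118, 88, 61, 625], 9, 2,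 [[], [10, 4, 10, 6, 4], [14, 12, 10, 7, 14], [13, 15, 8, 8, 0]]⟩, ⟨2, [224, 296, 65, 63, 61, 4443, 225, 231, 225, 4155], 11, 2, [[], [4, 11, 7, 4, 2], [14, 7, 8, 7, 4], [13, 7, 13, 10, 2]]⟩, ⟨3, [5195, 225, 231, 225], 17, 0, [[], [2, 0]]⟩, ⟨2, [230, 224, 4623, 224, 230, 296, 69, 88, 61, 1659], 14, 2, [[], [13, 4, 13, 10, 2], [10, 14, 13, 8, 2], [8, 11, 8, 0]]⟩, ⟨3, [5199, 225, 231], 17, 0, [[], [2, 0]]⟩, ⟨2, [4404, 230, 296, 88, 119, 69, 587], 14, 1, [[], [15, 15, 13, 10, 0], [6, 9, 4, 9, 15], [4, 14, 4, 10]]⟩, ⟨2, [230, 2960, 224, 230, 406, 230, 298], 1, 1, [[], [6, 9, 4, 13, 7, 0], [6, 8, 8, 10], [12, 11, 6, 10, 2]]⟩, ⟨2, [1902, 5205, 298], 11, 0, [[], [6, 9, 6, 12, 8], [10, 15, 13, 4], [7, 8, 8, 15, 7, 0]]⟩, ⟨3, [5207, 225, 231], 17, 0, [[], [2, 0]]⟩, ⟨2, [224, 230, 4810, 230, 224,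 2592, 298], 15, 0, [[], [13, 7, 12, 10, 4], [8, 10, 15, 9, 2], [6, 11, 6, 12, 7]]⟩, ⟨3, [5211, 225, 231], 17, 0, [[], [2, 0]]⟩, ⟨2, [230, 224, 850, 300, 225, 231, 225, 725], 3, 0, [[], [4, 12, 9, 4, 0], [8, 7, 12, 12], [8, 2, 11]]⟩, ⟨2, [1630, 224, 2262, 300], 11, 3, [[], [10, 4, 13, 8, 4], [6, 12, 11, 11], [8, 13, 15, 12, 0]]⟩, ⟨3, [5217, 225], 17, 0, [[], [2, 0]]⟩, ⟨2, [1876, 224, 230, 301, 225, 231, 2319], 9, 3, [[], [8, 12, 0], [11, 9, 9, 12, 7], [12, 11, 11, 0]]⟩, ⟨3, [5221, 225, 231], 17, 0, [[], [2, 0]]⟩, ⟨2, [230, 3285, 301, 225, 231, 225, 2372], 11, 0, [[], [11, 11, 9, 6], [10, 6, 9, 15, 13, 0], [14, 11, 6, 4]]⟩, ⟨3, [5225, 231], 17, 0, [[], [2, 0]]⟩, ⟨2, [1022, 230, 224, 302, 231, 4421], 1, 3, [[], [6, 11, 14, 13, 7], [15, 7, 15, 11, 2], [4, 15, 13, 9]]⟩, ⟨2, [4222, 302, 225,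 231, 2099], 13, 0, [[], [10, 13, 4, 15, 0], [10, 4, 14, 13, 2], [6, 4, 9, 4, 2]]⟩, ⟨2, [224, 230, 224, 302, 225, 2747, 3948], 15, 1, [[], [9, 11, 9, 7], [6, 9, 7, 13, 7], [13, 13, 6, 13, 6]]⟩, ⟨3, [5233, 225, 231, 225], 17, 0, [[], [2, 0]]⟩, ⟨2, [230, 2600, 224, 230, 303, 225, 231, 225, 1685], 1, 2, [[], [12, 15, 12, 14, 6], [12, 10, 13, 6], [8, 8, 4, 14, 2]]⟩, ⟨3, [5237, 225], 17, 0, [[], [2, 0]]⟩, ⟨2, [230, 1500, 224, 230, 224, 303, 225, 4211], 14, 1, [[], [15, 8, 15, 13, 6], [6, 8, 0, 10, 6], [15, 11, 13, 9]]⟩, ⟨2, [224, 608, 230, 2008, 224, 230, 303], 15, 2, [[], [11, 9, 14, 11, 12], [15, 8, 7, 11, 2], [4, 13, 6, 10, 0]]⟩, ⟨3, [5243, 231, 225], 17, 0, [[], [2, 0]]⟩, ⟨2, [224, 230, 224, 304, 225, 3813, 1311], 14, 0, [[], [13, 9, 7, 12, 8], [7, 13, 7, 12, 7], [13, 7, 11, 7, 2]]⟩, ⟨2,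 [230, 304, 231, 225, 2157, 231, 225, 4985], 15, 3, [[], [6, 4, 15, 12, 8, 2], [9, 4, 9, 6, 0], [14, 8, 15, 7, 2]]⟩, ⟨3, [5249, 225], 17, 0, [[], [2, 0]]⟩, ⟨2, [224, 1730, 230, 304, 231, 225, 3926], 15, 1, [[], [15, 13, 8, 11, 2], [11, 12, 11, 12], [13, 0, 9, 4]]⟩, ⟨2, [224, 230, 224, 304, 225, 231, 225, 3335, 187, 144, 143, 709], 15, 0, [[], [9, 12, 10, 9, 6], [8, 8, 13, 8, 6], [6, 14, 7, 14, 11]]⟩, ⟨3, [5255, 225, 231, 225], 17, 0, [[], [2, 0]]⟩, ⟨2, [224, 4722, 224, 230, 224, 304, 225, 231, 225, 3493], 15, 1, [[], [9, 10, 6, 8, 8], [13, 4, 11, 13, 4], [10, 9, 7, 12, 7]]⟩, ⟨3, [5259, 187], 17, 0, [[], [2, 0]]⟩, ⟨2, [224, 230, 5010, 230, 306, 231, 2509], 1, 0, [[], [13, 4, 14, 6, 11, 2], [9, 10, 13, 8, 12], [4, 8, 12, 14]]⟩, ⟨3, [5263, 225, 231, 225], 17, 0, [[], [2, 0]]⟩, ⟨2, [230, 328,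 230, 306, 231, 2505], 1, 1, [[], [11, 13, 0, 8], [13, 14, 6, 14], [8, 13, 8, 11, 4]]⟩, ⟨2, [230, 4480, 224, 230, 224, 306, 225, 231, 4305], 7, 0, [[], [12, 6, 2, 11, 7], [13, 4, 12, 9, 0], [9, 11, 8, 7, 2]]⟩, ⟨3, [5269, 225, 231], 17, 0, [[], [2, 0]]⟩, ⟨2, [230, 1476, 224, 230, 4932, 224, 230, 224, 306], 8, 0, [[], [4, 11, 6, 13, 6], [14, 8, 14, 2], [11, 9, 10, 6]]⟩, ⟨3, [5273, 231, 225], 17, 0, [[], [2, 0]]⟩, ⟨2, [224, 230, 5184, 3218, 230, 306], 9, 3, [[], [10, 9, 14, 14, 4], [9, 11, 11, 6, 0], [15, 9, 7, 11, 9]]⟩, ⟨3, [5277, 231, 225], 17, 0, [[], [2, 0]]⟩, ⟨2, [4658, 230, 306, 231, 5185], 10, 1, [[], [11, 13, 8, 13, 6], [12, 4, 9, 14], [10, 7, 4, 13, 0]]⟩, ⟨3, [5281, 225, 231, 225], 17, 0, [[], [2, 0]]⟩, ⟨2, [224, 230, 5274, 224, 230, 308, 1505], 0, 2, [[], [15, 9, 6, 14, 7, 2], [4,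 8, 10, 8, 4], [11, 15, 11, 6, 2]]⟩, ⟨3, [5285, 231, 225], 17, 0, [[], [2, 0]]⟩, ⟨2, [224, 230, 3887, 230, 308], 6, 2, [[], [6, 10, 14, 4], [6, 4, 11, 12, 7]]⟩, ⟨2, [224, 230, 224, 4568, 224, 308, 1505], 8, 1, [[], [11, 8, 11, 14, 7], [13, 9, 12, 10], [4, 15, 8, 2]]⟩, ⟨3, [5291, 225], 17, 0, [[], [2, 0]]⟩, ⟨2, [230, 2718, 312, 119, 69, 67, 1151], 11, 3, [[], [12, 10, 9, 7, 0], [13, 9, 4, 11, 2], [7, 12, 8, 11, 2]]⟩, ⟨2, [4852, 224, 230, 224, 1670, 64, 68, 118, 88, 314], 3, 3, [[], [12, 6, 11, 6, 0], [4, 10, 6, 11, 0], [14, 14, 13, 14, 8]]⟩, ⟨3, [5297, 231], 17, 0, [[], [2, 0]]⟩, ⟨2, [230, 224, 354, 230, 224, 4866, 118, 64, 88, 314], 11, 3, [[], [11, 13, 13, 4, 2], [13, 11, 11, 9, 4], [8, 13, 9, 14]]⟩, ⟨3, [5301, 225], 17, 0, [[], [2, 0]]⟩, ⟨2, [224, 230, 224, 316, 88, 88, 203, 186, 145,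 187, 2755], 13, 3, [[], [6, 10, 4, 12, 2], [10, 8, 6, 14], [11, 13, 15, 7, 0]]⟩, ⟨3, [5305, 225, 231, 225], 17, 0, [[], [2, 0]]⟩, ⟨2, [224, 230, 318, 3767, 231, 2153], 1, 0, [[], [15, 8, 4, 9], [11, 13, 9, 7, 0], [12, 12, 15, 4, 8]]⟩, ⟨3, [5309, 231, 225], 17, 0, [[], [2, 0]]⟩, ⟨2, [230, 224, 3291, 224, 230, 318, 1317], 10, 3, [[], [11, 8, 4, 15, 12], [9, 6, 13, 6, 10], [10, 14, 7, 8, 10]]⟩, ⟨3, [5313, 225], 17, 0, [[], [2, 0]]⟩, ⟨2, [224, 2958, 224, 230, 5076, 320], 8, 3, [[], [14, 8, 14, 6, 10], [9, 4, 15, 9, 2], [11, 8, 15, 13]]⟩, ⟨3, [5317, 225], 17, 0, [[], [2, 0]]⟩, ⟨2, [224, 5231, 320, 225, 231, 225, 1685], 9, 2, [[], [7, 15, 7, 10], [10, 9, 12, 6], [11, 13, 10, 12, 10]]⟩, ⟨2, [230, 224, 3484, 230, 744, 60, 62, 88, 88, 322], 1, 1, [[], [15, 6, 9, 13, 2], [12, 14, 6, 12, 11], [7,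 9, 14, 11, 7]]⟩, ⟨2, [230, 332, 68, 88, 60, 322, 231, 4953], 14, 3, [[], [9, 11, 9, 6, 0], [10, 4, 12, 14], [11, 14, 7, 15, 0]]⟩, ⟨3, [5325, 225, 231], 17, 0, [[], [2, 0]]⟩, ⟨2, [224, 230, 2720, 224, 230, 224, 2462, 119, 322], 15, 2, [[], [6, 14, 7, 13, 4], [6, 14, 7, 8, 2], [15, 11, 13, 6]]⟩, ⟨2, [224, 230, 224, 326, 4525, 225, 231, 5189], 8, 0, [[], [9, 9, 9, 14, 6], [12, 6, 4, 2, 0], [8, 10, 12, 8]]⟩, ⟨2, [230, 2373, 224, 326, 225, 620], 11, 1, [[], [10, 9, 12, 8, 4], [7, 15, 10, 9, 9], [6, 4, 9, 14, 10]]⟩, ⟨2, [224, 652, 66, 88, 330, 225, 231, 2649], 9, 1, [[], [7, 10, 15, 7, 2], [11, 12, 11], [13, 9, 4, 14]]⟩, ⟨3, [5335, 225, 231, 225], 17, 0, [[], [2, 0]]⟩, ⟨2, [230, 224, 730, 68, 119, 60, 330, 527], 14, 3, [[], [9, 4, 11, 6], [8, 12, 12, 8], [10, 7, 12, 8, 7]]⟩, ⟨2, [4590, 224,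 230, 224, 338, 231, 3567], 8, 1, [[], [9, 9, 12, 4, 2], [11, 15, 10], [8, 10, 8]]⟩, ⟨2, [224, 230, 224, 338, 4955, 225, 231, 225, 2885], 13, 0, [[], [11, 14, 2, 11, 6], [13, 11, 14, 11, 7], [7, 10, 10, 8, 4]]⟩, ⟨2, [2462, 60, 88, 88, 118, 346, 958], 15, 2, [[], [15, 11, 15, 4, 2], [11, 12, 12, 10, 9], [8, 6, 10, 4, 8]]⟩, ⟨3, [5345, 225], 17, 0, [[], [2, 0]]⟩, ⟨2, [4700, 1636, 186, 145, 187, 356], 9, 3, [[], [10, 14, 10, 10, 2], [15, 10, 12, 8, 0], [6, 11, 9, 7]]⟩, ⟨2, [224, 3056, 230, 460, 225, 2603], 11, 0, [[], [10, 9, 13, 6, 0], [13, 11, 6, 13, 4], [9, 13, 7, 11, 7]]⟩, ⟨3, [5351, 225], 17, 0, [[], [2, 0]]⟩, ⟨0, [], 0, 0, []⟩, ⟨3, [5354, 139, 124, 139, 135, 5355], 17, 0, [[], [14, 0, 9, 7, 4]]⟩, ⟨3, [5354, 124, 5355], 17, 0, [[], [11, 14, 13, 7, 8, 2]]⟩, ⟨3, [5354, 126, 134, 214, 135,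 124, 126, 215, 5355], 17, 0, [[], [13, 13, 7, 13, 13]]⟩, ⟨2, [5356, 5360, 5354, 215, 135, 215, 131, 93], 0, 1, [[], [15, 15, 6, 10], [12, 8, 13, 11], [11, 9, 15, 10, 8]]⟩, ⟨3, [5363, 61, 118, 88], 17, 0, [[], [2, 0]]⟩, ⟨2, [5356, 5354, 135, 125, 139, 122, 55], 0, 1, [[], [6, 14, 12, 9], [15, 4, 9, 9, 2], [10, 8, 11, 8, 7]]⟩, ⟨3, [5367, 50, 42, 51, 41], 17, 0, [[], [2, 0]]⟩, ⟨2, [5360, 5354, 135, 125, 131, 65, 61, 133], 0, 2, [[], [13, 9, 9, 4, 0], [9, 14, 10, 7], [10, 15, 15, 9, 0]]⟩, ⟨3, [5371, 125, 135, 126], 17, 0, [[], [2, 0]]⟩, ⟨2, [5368, 34, 36, 51, 41, 50, 5366, 5356, 5354], 0, 0, [[], [8, 4, 2, 15], [10, 13, 13, 8, 7], [15, 9, 11, 7]]⟩, ⟨3, [5375, 135], 17, 0, [[], [2, 0]]⟩, ⟨2, [5358, 5360, 5354, 135, 138, 138, 125, 131, 69, 118, 63, 61, 795], 1, 1, [[], [6, 15, 15, 10, 8], [14,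 14, 12, 4, 2], [14, 4, 10, 14, 2]]⟩, ⟨3, [5379, 225, 231], 17, 0, [[], [2, 0]]⟩, ⟨2, [5357, 5358, 5361, 5354, 138, 122, 18, 27, 21, 17, 223], 1, 1, [[], [14, 13, 2, 14, 4], [9, 10, 4, 12, 2], [12, 12, 6, 9, 2]]⟩, ⟨3, [5383, 225, 231, 225], 17, 0, [[], [2, 0]]⟩, ⟨2, [5358, 5354, 214, 138, 214, 131, 89, 63, 61, 749], 1, 1, [[], [15, 11, 4, 15, 6], [10, 13, 0, 9], [12, 11, 6, 0, 8]]⟩, ⟨3, [5387, 231], 17, 0, [[], [2, 0]]⟩, ⟨2, [5357, 5358, 5360, 5354, 138, 125, 5377, 5361, 5383], 1, 1, [[], [12, 15, 6, 10, 9], [14, 6, 9, 12, 11], [14, 10, 8]]⟩, ⟨2, [5361, 5354, 5373, 5359, 5356, 5387], 1, 1, [[], [13, 13, 14, 8, 11], [15, 13, 6, 4], [10, 9, 12, 4, 0]]⟩, ⟨3, [5393, 231], 17, 0, [[], [2, 0]]⟩, ⟨2, [5356, 5358, 5354, 135, 125, 139, 122, 23, 25, 27, 23, 25, 17, 55], 1, 1, [[], [14, 6, 15, 8,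 4], [4, 10, 6, 9, 6, 4], [9, 6, 10, 2]]⟩, ⟨3, [5397, 50, 36, 51, 39, 35, 5369], 17, 0, [[], [13, 7, 10, 14, 7]]⟩, ⟨2, [5356, 5399, 5399, 5361, 5354, 135, 125, 131, 69, 65, 63, 61, 2463], 1, 1, [[], [15, 9, 10, 8, 13, 0], [10, 12, 9, 7], [6, 4, 13, 4, 2]]⟩, ⟨3, [5401, 231], 17, 0, [[], [2, 0]]⟩, ⟨2, [5398, 5358, 5354, 135, 125, 139, 5373, 5359, 5356, 5379], 1, 1, [[], [9, 7, 12, 11, 2], [10, 6, 11, 4, 2], [6, 8, 7, 10, 2]]⟩, ⟨3, [5405, 225], 17, 0, [[], [2, 0]]⟩, ⟨2, [124, 138, 138, 5374, 5398, 5356, 5354, 135, 5377], 1, 2, [[], [14, 13, 8, 7, 9], [12, 14, 11, 12, 4], [8, 15, 7, 2]]⟩, ⟨3, [5409, 5399, 5357], 17, 0, [[], [2, 0]]⟩, ⟨2, [5356, 5358, 5360, 5354, 135, 138, 138, 125, 131, 88, 67, 63, 61, 731], 1, 1, [[], [15, 9, 14, 11, 12, 0], [12, 12, 4, 14, 7], [9, 11, 6, 11, 2]]⟩, ⟨3, [5413,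 231, 225], 17, 0, [[], [2, 0]]⟩, ⟨2, [5356, 5361, 5354, 215, 135, 215, 131, 69, 4265], 1, 1, [[], [10, 8, 12, 6, 15], [6, 4, 13, 6], [11, 4, 0]]⟩, ⟨3, [5417, 231, 225], 17, 0, [[], [2, 0]]⟩, ⟨2, [5357, 5358, 5354, 135, 127, 125, 131, 69, 65, 61, 1777], 1, 1, [[], [11, 6, 4], [13, 14, 8, 11, 4], [9, 4, 15, 10, 4]]⟩, ⟨3, [5421, 225, 231, 225], 17, 0, [[], [2, 0]]⟩, ⟨2, [5357, 5358, 5360, 5354, 139, 214, 125, 139, 1525, 225, 2825], 1, 2, [[], [12, 4, 8, 6], [12, 12, 11, 4, 0], [12, 7, 12, 10, 8]]⟩, ⟨2, [5354, 135, 214, 125, 135, 1549, 225, 231, 2495], 1, 2, [[], [8, 11, 9, 13, 8, 0], [13, 4, 15, 15], [8, 15, 6, 4, 8]]⟩, ⟨3, [5427, 231], 17, 0, [[], [2, 0]]⟩, ⟨2, [5358, 5354, 214, 139, 125, 2845, 225, 2163], 1, 2, [[], [9, 13, 15, 10, 6], [12, 11, 6, 14, 7], [14, 7, 4, 0]]⟩, ⟨3, [5431, 225],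 17, 0, [[], [2, 0]]⟩, ⟨2, [5357, 5360, 5399, 5354, 214, 139, 125, 2535, 231, 225, 1783], 1, 2, [[], [6, 10, 2, 15], [11, 4, 10, 10, 6], [8, 14, 11]]⟩, ⟨3, [5435, 231, 225], 17, 0, [[], [2, 0]]⟩, ⟨2, [5357, 5360, 5354, 138, 125, 135, 127, 261, 403], 3, 1, [[], [8, 11, 4, 12, 2], [10, 6, 11, 4, 2], [4, 13, 8, 7, 0]]⟩, ⟨3, [5439, 231, 225], 17, 0, [[], [2, 0]]⟩, ⟨2, [5354, 413, 399], 3, 1, [[], [4, 10, 10, 4, 12], [14, 13, 15, 12, 0], [14, 4, 8, 8, 7]]⟩, ⟨2, [5356, 5360, 5354, 135, 125, 139, 127, 271, 398], 3, 1, [[], [8, 6, 13, 15, 0], [13, 8, 8, 13, 0], [4, 10, 15, 8]]⟩, ⟨2, [5360, 5354, 665, 403], 3, 1, [[], [13, 11, 0, 9], [13, 10, 6, 13, 9], [14, 4, 14, 12]]⟩, ⟨2, [5354, 135, 125, 129], 4, 1, [[], [14, 10, 7, 13, 0], [7, 12, 6, 9, 0]]⟩, ⟨3, [5449, 139, 126], 17, 0, [[], [2, 0]]⟩, ⟨2,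 [5356, 5354, 126, 5451], 5, 1, [[], [12, 15, 12, 10], [0, 10, 6, 13]]⟩, ⟨2, [5360, 5354, 135, 127, 125, 131, 69, 67, 65, 181], 8, 0, [[], [15, 15, 9, 12, 8], [14, 8, 4, 9, 4], [6, 13, 13, 2]]⟩, ⟨3, [5455, 145, 187, 144], 17, 0, [[], [2, 0]]⟩, ⟨2, [5360, 5399, 5354, 135, 125, 139, 5373, 5361, 5455], 8, 0, [[], [7, 14, 8, 6, 8], [15, 4, 15, 2], [6, 9, 2, 15, 12]]⟩, ⟨2, [5361, 5354, 126, 159, 183], 9, 1, [[], [14, 9, 4, 8, 7], [12, 12, 14, 2], [10, 12, 8]]⟩, ⟨3, [5461, 144, 186, 143], 17, 0, [[], [2, 0]]⟩, ⟨2, [5361, 5399, 5357, 5354, 251, 263], 9, 1, [[], [6, 8, 14, 8], [14, 8, 13, 8, 6], [4, 12, 14, 12, 0]]⟩, ⟨2, [5357, 5361, 5398, 5354, 138, 125, 135, 169, 433], 9, 1, [[], [7, 4, 15, 4, 2], [14, 13, 9, 7, 8], [8, 12, 6, 12, 0]]⟩, ⟨3, [5467, 231], 17, 0, [[], [2, 0]]⟩, ⟨2, [5356, 5354,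 214, 138, 214, 232, 225, 231, 619], 9, 1, [[], [6, 15, 7, 12, 6], [4, 11, 11, 15, 6], [13, 11, 9, 2]]⟩, ⟨3, [5471, 231], 17, 0, [[], [2, 0]]⟩, ⟨2, [5361, 5399, 5357, 5354, 5373, 5360, 5447], 9, 0, [[], [15, 7, 12, 4, 2], [9, 10, 10, 2], [12, 14, 4, 12]]⟩, ⟨2, [5357, 5361, 5452, 5356, 5354, 135, 125, 139, 126, 251], 10, 3, [[], [8, 11, 14, 2], [11, 11, 7, 14], [12, 4, 9, 6, 0]]⟩, ⟨2, [5356, 5358, 5361, 5354, 215, 139, 126, 125, 1451, 231, 2297], 11, 2, [[], [9, 9, 4, 13, 4], [8, 14, 9, 14, 7], [14, 10, 8, 12, 4]]⟩, ⟨2, [5356, 5360, 5398, 5398, 5354, 139, 127, 215, 135, 2535, 231, 3087], 11, 2, [[], [11, 9, 10, 10, 8], [8, 11, 11, 4, 0], [9, 13, 14, 4, 0]]⟩, ⟨3, [5481, 225], 17, 0, [[], [2, 0]]⟩, ⟨2, [5398, 5356, 5354, 138, 122, 27, 25, 19, 21, 25, 23, 18, 141], 13, 3, [[], [9, 10, 6, 4,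 2], [12, 11, 15, 13, 0], [10, 6, 10, 4, 8]]⟩, ⟨3, [5485, 144, 186, 145], 17, 0, [[], [2, 0]]⟩, ⟨2, [5399, 5399, 5358, 5354, 214, 138, 214, 131, 89, 118, 69, 61, 1777], 13, 3, [[], [8, 11, 14, 13, 4], [9, 15, 11, 13, 4], [12, 4, 10, 7]]⟩, ⟨3, [5489, 225, 231], 17, 0, [[], [2, 0]]⟩, ⟨2, [5399, 5399, 5358, 5354, 5373, 5357, 5399, 5361, 5401], 13, 3, [[], [10, 6, 11, 2], [11, 15, 8, 14, 8], [10, 15, 8, 7, 0]]⟩, ⟨3, [5493, 225, 231], 17, 0, [[], [2, 0]]⟩, ⟨2, [5356, 5398, 5398, 5398, 5354, 138, 125, 5377, 5361, 5398, 5357, 5485], 13, 3, [[], [6, 10, 6, 0], [10, 4, 12, 6, 2], [12, 7, 9, 13, 2]]⟩, ⟨3, [5497, 144, 186, 145], 17, 0, [[], [2, 0]]⟩, ⟨2, [5357, 5399, 5354, 214, 139, 126, 2045, 231, 4028], 15, 1, [[], [4, 14, 14, 13], [14, 7, 15, 0], [13, 15, 8, 7, 0]]⟩, ⟨3, [5501, 231, 225], 17,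 0, [[], [2, 0]]⟩, ⟨2, [5358, 5361, 5354, 135, 125, 215, 135, 1383, 225, 231, 225, 2879], 15, 1, [[], [11, 14, 8, 11], [8, 13, 10, 8, 11], [8, 15, 4, 14]]⟩, ⟨3, [5505, 231], 17, 0, [[], [2, 0]]⟩, ⟨2, [5356, 5399, 5399, 5360, 5354, 135, 215, 126, 485, 231, 3801], 15, 1, [[], [12, 15, 9, 6], [13, 4, 13, 9, 2], [9, 6, 14, 12, 0]]⟩, ⟨3, [5509, 225, 231, 225], 17, 0, [[], [2, 0]]⟩, ⟨2, [5356, 5358, 5399, 5354, 125, 214, 1525, 231, 2419], 15, 1, [[], [9, 13, 11, 8, 10], [10, 9, 12, 14], [11, 9, 15, 9, 7]]⟩, ⟨3, [5513, 69, 67, 65, 61], 17, 0, [[], [2, 0]]⟩, ⟨2, [5399, 5354, 215, 139, 139, 126, 125, 2535, 231, 4667], 15, 1, [[], [6, 4, 10, 14, 13], [4, 12, 7, 11, 8], [4, 8, 12, 15, 0]]⟩, ⟨2, [5356, 5358, 5398, 5354, 215, 125, 214, 125, 2845, 225, 231, 225, 4325], 15, 1, [[], [12, 4, 0, 9], [10,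 7, 12, 9, 6], [6, 4, 14, 8, 4]]⟩, ⟨3, [5519, 225], 17, 0, [[], [2, 0]]⟩, ⟨2, [5357, 5398, 5354, 135, 127, 215, 127, 615, 231, 1917], 15, 1, [[], [7, 14, 13, 8, 8], [14, 8, 10, 7], [14, 4, 8, 4, 2]]⟩, ⟨3, [5523, 143], 17, 0, [[], [2, 0]]⟩, ⟨2, [5356, 5399, 5360, 5354, 215, 138, 138, 127, 1287, 225, 231, 3931], 15, 1, [[], [9, 9, 14, 13, 11], [7, 9, 7, 13], [8, 12, 7, 11, 11]]⟩, ⟨3, [5527, 231, 225], 17, 0, [[], [2, 0]]⟩, ⟨2, [5398, 5361, 5354, 125, 214, 127, 615, 3777], 15, 1, [[], [6, 11, 4, 13, 2], [12, 0, 9, 13], [14, 6, 10, 7, 0]]⟩, ⟨3, [5531, 231], 17, 0, [[], [2, 0]]⟩, ⟨2, [5398, 5398, 5398, 5354, 214, 139, 125, 2535, 225, 231, 225, 4669], 15, 1, [[], [4, 12, 8, 12, 6], [9, 15, 4, 12, 7], [4, 15, 11, 7, 0]]⟩, ⟨2, [5356, 5398, 5357, 5354, 125, 139, 139, 139, 1383, 231, 225, 3039],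 15, 1, [[], [10, 12, 4, 9, 2], [6, 4, 9, 4, 11], [8, 8, 8, 10, 4]]⟩, ⟨2, [5399, 5357, 5361, 5354, 139, 215, 135, 2535, 225, 231, 481], 15, 1, [[], [13, 14, 7, 14], [15, 7, 12, 12, 4], [4, 8, 7, 13]]⟩, ⟨3, [5539, 225, 231], 17, 0, [[], [2, 0]]⟩, ⟨2, [5356, 5399, 5357, 5354, 214, 135, 126, 1451, 2611], 15, 1, [[], [6, 11, 7, 2], [14, 8, 4, 11, 9], [7, 9, 9, 12, 11]]⟩, ⟨3, [5543, 225, 231, 225], 17, 0, [[], [2, 0]]⟩, ⟨2, [5398, 5360, 5354, 215, 135, 138, 615, 225, 231, 1737], 15, 1, [[], [11, 11, 6, 9, 2], [8, 8, 13, 2], [7, 8, 10, 7, 2]]⟩, ⟨3, [5547, 145, 186, 145], 17, 0, [[], [2, 0]]⟩, ⟨2, [5360, 5399, 5354, 215, 125, 135, 126, 125, 1383, 225, 231, 225, 3827], 15, 1, [[], [13, 10, 10, 12], [11, 12, 8, 6, 0], [10, 15, 11, 2]]⟩, ⟨2, [5360, 5398, 5398, 5354, 126, 214, 127, 615, 1999], 15,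 1, [[], [8, 11, 12, 11], [14, 4, 14, 12, 2], [7, 13, 8, 14]]⟩, ⟨3, [5553, 187, 143, 187], 17, 0, [[], [2, 0]]⟩, ⟨2, [5356, 5399, 5399, 5360, 5354, 214, 1525, 231, 3779], 15, 1, [[], [12, 4, 12, 11, 6], [6, 11, 12, 14, 4], [15, 11, 15, 7]]⟩, ⟨3, [5557, 225], 17, 0, [[], [2, 0]]⟩, ⟨2, [5399, 5356, 5354, 138, 215, 125, 135, 615, 5328], 15, 1, [[], [8, 6, 10], [7, 4, 13, 8, 2], [14, 4, 10, 13, 10]]⟩, ⟨3, [5561, 225], 17, 0, [[], [2, 0]]⟩, ⟨2, [5356, 5361, 5398, 5356, 5354, 135, 215, 127, 2045, 225, 937], 15, 1, [[], [14, 11, 9, 9], [9, 7, 13, 0], [13, 11, 11, 12, 2]]⟩, ⟨3, [5565, 231], 17, 0, [[], [2, 0]]⟩, ⟨2, [5361, 5354, 138, 485, 691], 15, 1, [[], [10, 9, 6], [12, 12, 14, 8, 2], [6, 15, 7, 10, 10]]⟩, ⟨3, [5569, 225, 231], 17, 0, [[], [2, 0]]⟩, ⟨2, [5356, 5398, 5354, 135, 125, 485, 225,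 231, 4667], 15, 1, [[], [11, 11, 4, 13, 0], [12, 15, 9, 14, 2], [11, 7, 4, 14]]⟩, ⟨2, [5356, 5398, 5357, 5354, 138, 214, 1525, 225, 231, 225, 1343], 15, 1, [[], [10, 14, 9, 11, 2], [4, 11, 12, 9, 7], [10, 15, 12, 8, 0]]⟩, ⟨2, [5358, 5360, 5398, 5354, 139, 215, 135, 127, 1525, 225, 3193], 15, 1, [[], [6, 10, 9, 9, 0], [11, 4, 8, 11, 4], [12, 11, 13, 14, 0]]⟩, ⟨3, [5577, 225], 17, 0, [[], [2, 0]]⟩, ⟨2, [5360, 5398, 5356, 5354, 214, 125, 135, 127, 125, 2045, 225, 231, 225, 5231], 15, 1, [[], [14, 8, 7, 10, 2], [8, 15, 15, 11], [14, 10, 14, 2]]⟩, ⟨3, [5581, 231, 225], 17, 0, [[], [2, 0]]⟩, ⟨2, [5399, 5399, 5360, 5354, 214, 139, 126, 615, 225, 1585], 15, 3, [[], [8, 11, 11, 6, 0], [15, 6, 11, 14, 2], [8, 14, 14, 11, 15]]⟩, ⟨3, [5585, 225], 17, 0, [[], [2, 0]]⟩, ⟨2, [5358, 5399, 5360, 5354,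 139, 215, 135, 127, 1525, 225, 2300], 15, 3, [[], [11, 9, 11, 12, 9], [4, 10, 7, 15], [6, 14, 12, 11]]⟩, ⟨3, [5589, 231, 225], 17, 0, [[], [2, 0]]⟩, ⟨2, [5356, 5398, 5354, 214, 139, 139, 135, 485, 231, 225, 723], 15, 3, [[], [15, 12, 14, 13], [10, 14, 13, 0], [13, 9, 6, 13, 2]]⟩, ⟨2, [5399, 5358, 5354, 135, 215, 127, 615, 225, 2640], 15, 3, [[], [15, 11, 15, 4, 0], [6, 12, 8], [11, 13, 10, 12, 9]]⟩, ⟨3, [5595, 144, 186, 144], 17, 0, [[], [2, 0]]⟩, ⟨2, [5356, 5398, 5356, 5358, 5354, 139, 215, 138, 126, 2535, 3335], 15, 3, [[], [8, 10, 15, 15, 10], [8, 14, 10], [15, 10, 4, 8, 0]]⟩, ⟨3, [5599, 186, 145, 187, 143], 17, 0, [[], [2, 0]]⟩, ⟨2, [5356, 5398, 5357, 5354, 135, 215, 135, 127, 615, 225, 231, 4627], 15, 3, [[], [13, 10, 15, 7, 4], [9, 9, 14, 9, 2], [7, 15, 11, 13]]⟩, ⟨3, [5603, 145,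 186, 143], 17, 0, [[], [2, 0]]⟩, ⟨2, [5358, 5398, 5361, 5354, 139, 127, 215, 135, 2535, 225, 231, 225, 5243], 15, 3, [[], [6, 15, 8, 6, 0], [12, 8, 12, 4, 2], [6, 12, 15, 9, 0]]⟩, ⟨3, [5607, 225], 17, 0, [[], [2, 0]]⟩, ⟨2, [5356, 5399, 5399, 5358, 5354, 138, 214, 1525, 225, 2853], 15, 3, [[], [8, 12, 6, 15], [10, 12, 9, 15, 7], [15, 6, 12, 8]]⟩, ⟨3, [5611, 225], 17, 0, [[], [2, 0]]⟩, ⟨2, [5356, 5358, 5398, 5398, 5354, 215, 138, 138, 125, 2535, 231, 1889], 15, 3, [[], [11, 15, 15, 7, 2], [4, 9, 11, 9, 4], [15, 7, 15, 4, 10]]⟩, ⟨3, [5615, 145, 187], 17, 0, [[], [2, 0]]⟩, ⟨2, [5358, 5361, 5399, 5354, 215, 125, 214, 127, 1287, 225, 4641], 15, 3, [[], [10, 7, 8, 8, 2], [13, 13, 11, 8], [13, 4, 9, 15]]⟩, ⟨3, [5619, 231], 17, 0, [[], [2, 0]]⟩, ⟨2, [5356, 5399, 5399, 5354, 214, 125, 135, 127,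 125, 2045, 231, 225, 2505], 15, 3, [[], [9, 9, 6, 11, 0], [4, 14, 7, 9, 2], [15, 9, 6, 2]]⟩, ⟨3, [5623, 225], 17, 0, [[], [2, 0]]⟩, ⟨2, [5356, 5399, 5399, 5361, 5354, 127, 125, 215, 126, 2045, 225, 1667], 15, 3, [[], [10, 8, 8, 4, 0], [11, 9, 15, 12], [12, 6, 13, 0, 9]]⟩, ⟨3, [5627, 225, 231], 17, 0, [[], [2, 0]]⟩, ⟨2, [5399, 5358, 5354, 125, 214, 125, 215, 125, 2045, 225, 989], 15, 3, [[], [13, 14, 13, 9], [11, 11, 9, 15, 8], [9, 6, 11, 7, 4]]⟩, ⟨3, [5631, 231, 225], 17, 0, [[], [2, 0]]⟩, ⟨2, [145, 187, 145, 1153, 224, 614, 127, 214, 127, 5355], 15, 0, [[], [13, 14, 14, 13, 6], [9, 7, 8, 8, 7], [7, 14, 7, 8]]⟩, ⟨3, [5635, 5357, 5399, 5360, 5357], 17, 0, [[], [2, 0]]⟩, ⟨2, [224, 230, 4322, 230, 224, 652, 60, 119, 66, 5362], 1, 0, [[], [14, 9, 4, 14, 0], [8, 14, 9, 14], [11, 13, 13, 13]]⟩,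 ⟨3, [5639, 5359, 5398, 5356], 17, 0, [[], [2, 0]]⟩, ⟨2, [230, 224, 1154, 224, 230, 224, 4264, 119, 89, 5362], 1, 0, [[], [13, 4, 14, 12, 6], [10, 14, 13, 9, 12], [9, 15, 15, 13]]⟩, ⟨3, [5643, 5359, 5398, 5398], 17, 0, [[], [2, 0]]⟩, ⟨2, [224, 230, 224, 4462, 230, 1948, 119, 89, 60, 5362], 1, 0, [[], [8, 8, 10, 15], [15, 11, 13, 14, 4], [14, 4, 12, 12, 0]]⟩, ⟨3, [5647, 5398], 17, 0, [[], [2, 0]]⟩, ⟨2, [1124, 230, 224, 1430, 60, 88, 68, 118, 5362], 1, 1, [[], [7, 8, 10, 15, 7], [7, 13, 10, 2, 14], [6, 9, 9, 0]]⟩, ⟨3, [5651, 5361, 5357], 17, 0, [[], [2, 0]]⟩, ⟨2, [230, 224, 3256, 756, 89, 119, 5362], 1, 1, [[], [14, 10, 9, 15, 4], [8, 12, 11, 9], [15, 4, 13, 13]]⟩, ⟨3, [5655, 5398, 5360, 5357], 17, 0, [[], [2, 0]]⟩, ⟨2, [224, 230, 1112, 4460, 89, 66, 119, 5362], 1, 1, [[], [6, 14, 13, 9],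 [9, 10, 6, 12, 8], [9, 9, 13, 13]]⟩, ⟨3, [5659, 5361, 5398, 5356], 17, 0, [[], [2, 0]]⟩, ⟨2, [230, 224, 1924, 142, 145, 186, 176, 60, 89, 119, 5362], 1, 1, [[], [12, 14, 13, 0], [15, 0, 8, 7], [14, 11, 4, 8, 6]]⟩, ⟨3, [5663, 5360], 17, 0, [[], [2, 0]]⟩, ⟨2, [224, 230, 2680, 187, 142, 145, 186, 176, 60, 89, 119, 5362], 1, 1, [[], [12, 7, 2], [14, 12, 4, 11, 6], [8, 11, 15, 0]]⟩, ⟨3, [5667, 5359, 5356], 17, 0, [[], [2, 0]]⟩, ⟨2, [2494, 224, 3724, 62, 68, 88, 118, 5362], 3, 3, [[], [6, 8, 14, 7], [11, 9, 13, 10], [11, 12, 12, 10]]⟩, ⟨3, [5671, 5399, 5360, 5356], 17, 0, [[], [2, 0]]⟩, ⟨2, [186, 142, 187, 4756, 230, 224, 788, 60, 88, 68, 118, 5362], 3, 0, [[], [14, 13, 9, 12], [11, 9, 2], [13, 15, 10, 12, 10]]⟩, ⟨3, [5675, 5360, 5398, 5398], 17, 0, [[], [2, 0]]⟩, ⟨2, [224, 4436, 224, 230,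 4442, 60, 88, 68, 118, 5362], 3, 0, [[], [12, 10, 15, 11, 4], [10, 6, 12, 0, 10], [8, 12, 10, 7]]⟩, ⟨3, [5679, 5360, 5359, 5356], 17, 0, [[], [2, 0]]⟩, ⟨2, [3363, 224, 230, 1948, 62, 68, 88, 118, 5362], 3, 1, [[], [15, 6, 10, 14, 2], [14, 7, 12, 10], [13, 10, 14, 11, 4, 0]]⟩, ⟨3, [5683, 5359, 5356], 17, 0, [[], [2, 0]]⟩, ⟨2, [124, 138, 124, 1546, 224, 1084, 62, 64, 88, 5362], 9, 3, [[], [4, 10, 10, 4, 9, 0], [13, 11, 14, 2], [10, 10, 8, 7, 2]]⟩, ⟨3, [5687, 5360, 5398, 5357], 17, 0, [[], [2, 0]]⟩, ⟨2, [230, 224, 5404, 5399, 5357, 5514, 89, 119, 60, 5362], 9, 3, [[], [11, 12, 8, 13], [15, 11, 4, 13], [4, 8, 6, 12, 0]]⟩, ⟨3, [5691, 5360, 5398, 5398], 17, 0, [[], [2, 0]]⟩, ⟨2, [142, 145, 187, 144, 1186, 230, 516, 60, 119, 66, 5362], 9, 0, [[], [14, 11, 9, 6, 2], [15, 4, 9, 15, 7], [11, 7,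 11, 13, 6]]⟩, ⟨3, [5695, 5360], 17, 0, [[], [2, 0]]⟩, ⟨2, [224, 230, 224, 5030, 230, 516, 66, 119, 5362], 9, 0, [[], [9, 9, 12, 8, 4], [10, 10, 12, 4, 0], [15, 8, 12]]⟩, ⟨3, [5699, 5360, 5398, 5398], 17, 0, [[], [2, 0]]⟩, ⟨2, [224, 230, 224, 4524, 230, 224, 2122, 62, 68, 88, 118, 5362], 9, 0, [[], [8, 14, 14, 10, 0], [9, 15, 15, 9, 4], [14, 11, 12, 9, 0]]⟩, ⟨3, [5703, 5361, 5356], 17, 0, [[], [2, 0]]⟩, ⟨2, [1954, 224, 230, 4878, 118, 88, 119, 5362], 9, 0, [[], [13, 4, 14, 11], [14, 4, 10, 14], [13, 15, 11, 4]]⟩, ⟨3, [5707, 5359], 17, 0, [[], [2, 0]]⟩, ⟨2, [224, 230, 224, 5154, 230, 1430, 62, 68, 88, 118, 5362], 9, 0, [[], [15, 12, 11, 0], [13, 15, 10, 6, 8], [10, 6, 13, 6]]⟩, ⟨3, [5711, 5361, 5356], 17, 0, [[], [2, 0]]⟩, ⟨2, [230, 1648, 230, 788, 62, 64, 88, 5362], 11, 1, [[], [8, 12,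 7, 10], [4, 14, 7, 15, 9], [15, 13, 11, 4]]⟩, ⟨3, [5715, 5398, 5360, 5359, 5356], 17, 0, [[], [2, 0]]⟩, ⟨2, [124, 126, 431, 2092, 60, 118, 88, 68, 5362], 11, 1, [[], [6, 0, 9, 6, 12], [10, 12, 10, 14, 4], [9, 7, 14, 7, 14]]⟩, ⟨3, [5719, 5359, 5398, 5357], 17, 0, [[], [2, 0]]⟩, ⟨2, [230, 3902, 186, 142, 210, 62, 88, 118, 5362], 11, 1, [[], [12, 12, 6, 9, 0], [8, 13, 8, 11, 9], [11, 4, 8, 11, 4]]⟩, ⟨3, [5723, 5398, 5360, 5359, 5357], 17, 0, [[], [2, 0]]⟩, ⟨2, [230, 224, 5174, 230, 224, 516, 66, 119, 5362], 13, 3, [[], [10, 12, 10, 14, 4], [10, 8, 11, 6, 4], [9, 12, 6, 12, 2]]⟩, ⟨3, [5727, 5398, 5360, 5359, 5356], 17, 0, [[], [2, 0]]⟩, ⟨2, [230, 2680, 142, 144, 186, 144, 162, 68, 89, 119, 5362], 14, 3, [[], [11, 4, 11, 11, 2], [7, 15, 4, 15, 2], [11, 4, 14, 9]]⟩, ⟨3, [5731, 5398, 5359, 5356],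 17, 0, [[], [2, 0]]⟩, ⟨2, [1234, 224, 4460, 119, 89, 60, 5362], 14, 3, [[], [12, 8, 15, 6, 4], [6, 9, 4, 2], [10, 14, 4, 14, 2]]⟩, ⟨3, [5735, 5399, 5361, 5357], 17, 0, [[], [2, 0]]⟩, ⟨2, [1984, 2122, 60, 88, 68, 118, 5362], 14, 3, [[], [8, 6, 8, 4, 8], [4, 8, 11, 4], [9, 11, 8, 2]]⟩, ⟨3, [5739, 5361, 5399, 5359], 17, 0, [[], [2, 0]]⟩, ⟨2, [962, 2122, 60, 64, 66, 68, 5362], 15, 1, [[], [11, 8, 8, 11, 4], [7, 15, 8, 7, 8], [4, 13, 11, 7, 0]]⟩, ⟨3, [5743, 5359, 5399, 5357], 17, 0, [[], [2, 0]]⟩, ⟨2, [145, 186, 145, 1888, 230, 1430, 64, 89, 118, 5362], 15, 1, [[], [8, 15, 7, 4, 8], [9, 12, 11, 15, 0], [13, 9, 11, 15]]⟩, ⟨3, [5747, 5359, 5398, 5398, 5356], 17, 0, [[], [2, 0]]⟩, ⟨2, [5356, 5398, 5358, 5514, 66, 119, 88, 5362, 5361, 5427], 15, 1, [[], [9, 14, 13, 7, 0], [11, 7, 10, 14, 6, 2],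 [14, 9, 14, 11, 12]]⟩, ⟨3, [5751, 225], 17, 0, [[], [2, 0]]⟩, ⟨2, [5356, 5358, 5361, 5399, 5364, 88, 118, 65, 625, 231, 225, 4289], 9, 0, [[], [4, 8, 8, 2], [4, 12, 7, 8, 10], [10, 4, 15, 13]]⟩, ⟨3, [5755, 231], 17, 0, [[], [2, 0]]⟩, ⟨2, [5358, 5398, 5398, 5364, 118, 88, 61, 4443, 225, 231, 1791], 10, 1, [[], [8, 11, 15, 7, 0], [13, 14, 11, 12], [8, 8, 6, 10]]⟩, ⟨3, [5759, 145, 186, 145], 17, 0, [[], [2, 0]]⟩, ⟨2, [5399, 5357, 5360, 5364, 88, 118, 88, 61, 2305, 225, 231, 225, 1721], 15, 2, [[], [10, 13, 10, 4, 0], [11, 14, 13, 15, 4], [11, 13, 13, 4, 2]]⟩, ⟨3, [5763, 225, 231, 225], 17, 0, [[], [2, 0]]⟩, ⟨2, [5356, 5360, 5398, 5398, 5364, 61, 118, 88, 69, 1431, 225, 231, 225, 3205], 15, 3, [[], [15, 10, 9, 14, 11], [14, 7, 4, 15, 6], [14, 12, 11, 14, 2]]⟩, ⟨2, [5399, 5399, 5360, 5364,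 118, 69, 88, 63, 789, 225, 231, 225, 3113], 15, 3, [[], [2, 11, 13, 7], [11, 14, 9, 11], [8, 14, 6, 11, 0]]⟩, ⟨3, [5769, 187, 145, 186, 143], 17, 0, [[], [2, 0]]⟩, ⟨2, [5358, 5360, 5398, 5364, 88, 118, 88, 1105, 225, 3965], 15, 3, [[], [7, 15, 13, 0], [11, 6, 15, 7, 0], [12, 14, 8, 7, 2]]⟩, ⟨3, [5773, 231, 225], 17, 0, [[], [2, 0]]⟩, ⟨2, [186, 2756, 224, 230, 286, 35, 37, 38, 40, 43, 5366], 1, 1, [[], [7, 15, 7, 2], [13, 15, 8, 15, 6], [13, 4, 12, 0]]⟩, ⟨3, [5777, 5359, 5398, 5398], 17, 0, [[], [2, 0]]⟩, ⟨2, [224, 230, 5732, 5356, 5398, 5398, 5398, 5368, 34, 38, 51, 34, 5366], 3, 0, [[], [12, 9, 6, 14], [13, 14, 13, 8, 0], [6, 0, 9, 13, 4]]⟩, ⟨3, [5781, 5359, 5357, 5399], 17, 0, [[], [2, 0]]⟩, ⟨2, [5399, 5399, 5360, 5730, 224, 230, 224, 286, 37, 35, 42, 50, 5366], 3, 1, [[], [4, 9, 14,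 8, 8, 0], [6, 10, 4, 0], [7, 10, 7, 12, 4]]⟩, ⟨2, [142, 145, 3790, 224, 286, 34, 38, 51, 34, 5366], 9, 3, [[], [8, 15, 6, 13, 0], [8, 13, 4, 15, 0], [4, 11, 12, 11, 0]]⟩, ⟨3, [5787, 5398, 5360, 5359], 17, 0, [[], [2, 0]]⟩, ⟨2, [224, 230, 788, 60, 62, 118, 110, 51, 37, 38, 5366], 11, 0, [[], [7, 4, 13, 10], [9, 7, 9, 15, 0], [10, 12, 8, 4]]⟩, ⟨3, [5791, 5399, 5399, 5360, 5357], 17, 0, [[], [2, 0]]⟩, ⟨2, [186, 142, 194, 66, 119, 88, 110, 34, 50, 40, 5366], 11, 0, [[], [12, 6, 11, 0, 9], [12, 6, 11, 11, 0], [8, 15, 6, 10, 4]]⟩, ⟨3, [5795, 5359, 5399], 17, 0, [[], [2, 0]]⟩, ⟨2, [230, 5334, 224, 286, 37, 40, 42, 50, 41, 5366], 15, 2, [[], [14, 4, 13, 15], [10, 8, 6, 10, 2], [12, 8, 10, 9, 10]]⟩, ⟨3, [5799, 5360, 5398, 5357], 17, 0, [[], [2, 0]]⟩, ⟨2, [186, 5496, 5356, 5399, 5399, 5360, 5368,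 50, 37, 50, 35, 5366], 15, 2, [[], [15, 9, 13, 10, 7], [13, 11, 14, 2], [15, 9, 14, 13, 0]]⟩, ⟨3, [5803, 5398], 17, 0, [[], [2, 0]]⟩, ⟨2, [224, 5492, 5361, 5399, 5368, 39, 37, 35, 51, 5369], 15, 0, [[], [7, 4, 9, 9, 4], [11, 7, 15, 13, 2], [13, 4, 14, 8, 13]]⟩, ⟨3, [5807, 5399, 5399, 5360, 5357], 17, 0, [[], [2, 0]]⟩, ⟨2, [224, 2828, 230, 224, 448, 124, 214, 138, 214, 5370], 3, 3, [[], [15, 11, 13, 4, 2], [10, 14, 12, 8], [4, 13, 10, 13, 0]]⟩, ⟨3, [5811, 5361, 5398, 5398, 5356], 17, 0, [[], [2, 0]]⟩, ⟨2, [230, 224, 4897, 230, 224, 1450, 214, 124, 134, 138, 5370], 3, 3, [[], [12, 11, 11, 13], [14, 7, 8, 11, 0], [6, 11, 12, 6, 8]]⟩, ⟨3, [5815, 5359, 5356], 17, 0, [[], [2, 0]]⟩, ⟨2, [230, 450, 127, 139, 139, 5370], 6, 1, [[], [8, 13, 13, 10, 7], [13, 10, 2, 14]]⟩, ⟨3, [5819, 5356, 5398,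 5360], 17, 0, [[], [2, 0]]⟩, ⟨2, [224, 1300, 224, 230, 1548, 124, 138, 214, 126, 5370], 11, 3, [[], [6, 4, 2, 15, 4], [15, 10, 6, 14], [7, 8, 4, 8, 11]]⟩, ⟨3, [5823, 5359, 5399, 5357], 17, 0, [[], [2, 0]]⟩, ⟨2, [224, 230, 224, 893, 2534, 127, 138, 214, 5370], 13, 3, [[], [14, 12, 4, 11, 13, 2], [4, 0, 10, 7, 4], [13, 14, 6, 10]]⟩, ⟨3, [5827, 5399, 5356], 17, 0, [[], [2, 0]]⟩, ⟨2, [224, 3826, 224, 1450, 127, 138, 138, 138, 5370], 15, 0, [[], [15, 7, 8, 13], [11, 9, 10, 9, 9], [8, 13, 8, 6]]⟩, ⟨3, [5831, 5399, 5359], 17, 0, [[], [2, 0]]⟩, ⟨2, [142, 186, 1622, 224, 230, 1446, 127, 134, 214, 138, 5370], 15, 2, [[], [4, 9, 7, 15, 4, 0], [10, 4, 10, 8], [15, 7, 9, 4, 8, 2]]⟩, ⟨3, [5835, 5361, 5398, 5357], 17, 0, [[], [2, 0]]⟩, ⟨2, [5399, 5399, 5361, 5372, 139, 215, 135, 127, 1525, 225, 231,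 3626], 9, 0, [[], [6, 15, 11, 6], [12, 4, 12, 11, 2], [15, 12, 11, 2]]⟩, ⟨2, [224, 4728, 224, 2232, 134, 5374], 3, 3, [[], [4, 15, 15, 10, 6], [9, 10, 12, 7, 8], [9, 14, 6, 4, 2]]⟩, ⟨3, [5841, 5399, 5357], 17, 0, [[], [2, 0]]⟩, ⟨2, [5728, 5356, 5398, 5408, 134, 5374], 9, 0, [[], [8, 4, 8, 8, 7], [11, 7, 9, 11, 2], [9, 6, 11, 7, 14]]⟩, ⟨3, [5845, 5398, 5360, 5359, 5357], 17, 0, [[], [2, 0]]⟩, ⟨2, [230, 722, 224, 230, 372, 124, 138, 124, 214, 5374], 11, 0, [[], [10, 7, 9], [9, 7, 15, 7, 10], [8, 15, 4, 8, 2]]⟩, ⟨3, [5849, 5359, 5357, 5399], 17, 0, [[], [2, 0]]⟩, ⟨2, [5399, 5357, 5361, 5718, 214, 134, 5374, 5360, 5398, 5357, 5485], 13, 0, [[], [11, 14, 13, 15, 7], [14, 8, 7, 11, 0], [14, 9, 9, 0]]⟩, ⟨3, [5853, 186, 143], 17, 0, [[], [2, 0]]⟩, ⟨2, [5356, 5358, 5361, 5399, 5376, 126, 373,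 4537], 10, 1, [[], [6, 13, 14, 10, 0], [8, 13, 7, 10, 14], [15, 4, 0, 8, 6]]⟩, ⟨2, [224, 230, 5404, 5356, 5399, 5356, 5376, 127, 125, 214, 5373], 15, 0, [[], [9, 12, 11, 13, 2], [8, 7, 14, 10, 6], [6, 11, 14, 13, 7]]⟩, ⟨3, [5859, 5359, 5356], 17, 0, [[], [2, 0]]⟩, ⟨2, [2686, 145, 2052, 224, 5378], 1, 0, [[], [6, 8, 6, 12], [8, 15, 4, 10, 0], [11, 4, 12, 4, 0]]⟩, ⟨3, [5863, 5359, 5398], 17, 0, [[], [2, 0]]⟩, ⟨2, [224, 230, 224, 4000, 1536, 224, 230, 224, 5378], 3, 3, [[], [12, 9, 7, 12, 4], [11, 8, 11, 4, 2], [8, 6, 15, 4, 0]]⟩, ⟨3, [5867, 5357, 5398], 17, 0, [[], [2, 0]]⟩, ⟨2, [4566, 5378], 6, 2, [[], [8, 7, 2, 15, 4], [14, 6, 13, 15]]⟩, ⟨3, [5871, 5356, 5399, 5356], 17, 0, [[], [2, 0]]⟩, ⟨2, [5360, 5399, 5399, 5774, 230, 224, 5378, 5399, 5399, 5399, 5357, 5729], 7, 0, [[], [10, 14, 9,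 11, 0], [14, 10, 15, 13, 7], [4, 8, 15, 11, 11]]⟩, ⟨2, [224, 230, 5622, 5399, 5358, 5398, 5774, 230, 224, 5378], 8, 1, [[], [4, 11, 9, 12, 2], [13, 11, 7, 12, 10], [12, 4, 14, 10]]⟩, ⟨3, [5877, 5359, 5398, 5359, 5356], 17, 0, [[], [2, 0]]⟩, ⟨2, [230, 224, 4446, 230, 4712, 230, 224, 5378], 9, 3, [[], [6, 11, 9, 7, 8], [10, 15, 12, 6], [12, 8, 10, 10, 8]]⟩, ⟨3, [5881, 5399, 5399, 5399, 5357], 17, 0, [[], [2, 0]]⟩, ⟨2, [5398, 5360, 5826, 224, 230, 224, 3826, 224, 5382], 11, 0, [[], [14, 8, 13, 11, 0], [9, 9, 6, 14, 6], [10, 4, 12, 6, 8]]⟩, ⟨2, [5357, 5398, 5357, 5384, 995, 225, 231, 225, 1641], 1, 1, [[], [11, 15, 2], [12, 11, 6, 0, 10], [4, 8, 15, 8]]⟩, ⟨0, [], 0, 0, []⟩, ⟨3, [5888, 66, 68, 68, 119, 88, 118, 69, 65, 5889], 17, 0, [[], [9, 4, 13, 10, 12]]⟩, ⟨2, [5888, 69, 89, 325, 513],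 0, 1, [[], [11, 12, 12, 10, 14], [12, 7, 15, 15, 2], [13, 4, 8, 13, 4, 0]]⟩, ⟨3, [5893, 225, 231], 17, 0, [[], [2, 0]]⟩, ⟨2, [5891, 5891, 5888, 69, 61, 119, 2079, 5243], 0, 1, [[], [12, 6, 15, 11], [9, 6, 12, 15, 0], [13, 10, 6, 9]]⟩, ⟨3, [5897, 231, 225], 17, 0, [[], [2, 0]]⟩, ⟨2, [5891, 5888, 89, 65, 333, 497], 0, 1, [[], [7, 9, 6, 14, 11, 0], [10, 10, 15, 8, 6], [8, 7, 15, 10, 9]]⟩, ⟨3, [5901, 225, 231], 17, 0, [[], [2, 0]]⟩, ⟨2, [5890, 5888, 118, 69, 118, 2079, 4937], 0, 2, [[], [15, 10, 10, 13, 0], [8, 4, 9, 11, 0], [8, 14, 12, 8, 6]]⟩, ⟨3, [5905, 225, 231, 5899], 17, 0, [[], [9, 15, 9, 4]]⟩, ⟨2, [5906, 5906, 5890, 5890, 5906, 5891, 5888, 89, 89, 63, 745, 231, 4905], 1, 2, [[], [15, 8, 4, 14], [15, 10, 13, 8], [11, 2, 15, 12, 4]]⟩, ⟨3, [5909, 231], 17, 0, [[], [2, 0]]⟩, ⟨2, [5891,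 5891, 5906, 5890, 5890, 5906, 5890, 5907, 5888, 118, 69, 89, 1949, 4675], 1, 2, [[], [4, 12, 2, 11], [7, 14, 12, 11, 0], [4, 8, 4, 0]]⟩, ⟨2, [5890, 5907, 5890, 5890, 5906, 5890, 5890, 5907, 5888, 89, 67, 325, 567], 3, 2, [[], [15, 8, 6, 9, 2], [13, 14, 4, 2], [7, 15, 8, 4, 2]]⟩, ⟨2, [5907, 5891, 5906, 5888, 88, 95, 67, 61, 5889], 3, 3, [[], [15, 11, 6, 10, 8], [10, 12, 2], [10, 7, 4, 2]]⟩, ⟨0, [], 0, 0, []⟩, ⟨3, [5918, 68, 88, 63, 64, 63, 5919], 17, 0, [[], [7, 15, 7, 15, 2]]⟩, ⟨3, [5918, 63, 66, 60, 64, 67, 5919], 17, 0, [[], [15, 4, 10, 6]]⟩, ⟨2, [5918, 118, 79, 61, 5889], 0, 1, [[], [11, 4, 11, 13, 4], [12, 0, 8, 12], [11, 4, 12, 9, 6]]⟩, ⟨3, [5925, 5907, 5890, 5907, 5890], 17, 0, [[], [2, 0]]⟩, ⟨2, [5920, 5918, 118, 88, 65, 229, 225, 231, 541], 0, 1, [[], [14, 12, 12, 10, 9], [12,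 6, 12, 10, 8], [4, 11, 4, 13, 2]]⟩, ⟨2, [5920, 5918, 67, 317, 225, 231, 515], 0, 1, [[], [12, 15, 13, 7, 2], [8, 14, 2, 11], [13, 11, 12, 8]]⟩, ⟨2, [5921, 5922, 5918, 88, 88, 349, 231, 225, 4677], 0, 1, [[], [7, 13, 7, 14, 0], [9, 12, 11, 11], [4, 13, 11, 11, 7]]⟩, ⟨3, [5933, 231, 225], 17, 0, [[], [2, 0]]⟩, ⟨2, [5918, 89, 63, 5919, 5925], 0, 1, [[], [12, 14, 10, 9, 2], [12, 12, 11, 14, 10], [12, 12, 10, 15, 7]]⟩, ⟨3, [5937, 5906, 5891, 5906, 5936], 17, 0, [[], [6, 13, 6, 10, 7]]⟩, ⟨2, [5920, 5918, 88, 88, 65, 63, 1907, 5245], 0, 1, [[], [15, 13, 6, 9], [14, 10, 4, 15, 8, 0], [9, 9, 2, 14, 6]]⟩, ⟨3, [5941, 225, 231, 225], 17, 0, [[], [2, 0]]⟩, ⟨2, [5921, 5938, 5921, 5938, 5918, 89, 89, 349, 225, 347], 1, 1, [[], [9, 4, 13, 8, 14], [15, 6, 13, 10, 10], [14, 7, 8]]⟩, ⟨3, [5945, 69, 88,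 61], 17, 0, [[], [2, 0]]⟩, ⟨2, [5920, 5938, 5920, 5939, 5921, 5918, 88, 69, 65, 317, 4805], 1, 1, [[], [15, 7, 12, 4, 2], [7, 4, 9, 4], [10, 4, 14, 9, 0]]⟩, ⟨3, [5949, 231, 225], 17, 0, [[], [2, 0]]⟩, ⟨2, [5922, 5939, 5920, 5939, 5918, 349, 231, 4033], 1, 1, [[], [4, 12, 15, 6, 0], [11, 6, 4, 13, 0], [7, 9, 7, 12, 6]]⟩, ⟨3, [5953, 231], 17, 0, [[], [2, 0]]⟩, ⟨2, [5920, 5939, 5921, 5938, 5918, 349, 2589], 1, 1, [[], [12, 12, 4, 13, 2], [12, 8, 7, 14, 0], [9, 11, 9, 4]]⟩, ⟨3, [5957, 225, 231, 225], 17, 0, [[], [2, 0]]⟩, ⟨2, [5921, 5922, 5938, 5921, 5938, 5918, 61, 1907, 231, 225, 1165], 1, 1, [[], [10, 12, 10, 14, 7, 0], [9, 6, 15, 4, 9], [4, 9, 13, 15, 15]]⟩, ⟨3, [5961, 225, 231], 17, 0, [[], [2, 0]]⟩, ⟨2, [5920, 5939, 5921, 5938, 5918, 61, 89, 69, 63, 349, 350], 1, 1, [[], [11, 7, 10,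 13, 4], [12, 15, 13, 11, 0], [4, 13, 10, 6, 9]]⟩, ⟨2, [5920, 5939, 5920, 5938, 5918, 69, 118, 229, 225, 231, 963], 1, 1, [[], [4, 11, 13, 8, 0], [13, 7, 14, 4, 2], [6, 9, 15, 12, 2]]⟩, ⟨3, [5967, 225], 17, 0, [[], [2, 0]]⟩, ⟨2, [5920, 5939, 5920, 5939, 5918, 349, 231, 443], 1, 1, [[], [11, 11, 11, 7, 10], [9, 12, 14, 9, 9], [10, 12, 7, 12, 7]]⟩, ⟨3, [5971, 231, 225], 17, 0, [[], [2, 0]]⟩, ⟨2, [5920, 5922, 5938, 5921, 5918, 89, 63, 61, 221, 88, 69, 61, 1777], 1, 1, [[], [12, 7, 11, 7, 14], [7, 8, 14, 10, 10], [6, 11, 6, 14]]⟩, ⟨3, [5975, 231, 225], 17, 0, [[], [2, 0]]⟩, ⟨2, [5938, 5920, 5939, 5918, 67, 317, 225, 231, 723], 1, 1, [[], [8, 4, 15, 9, 4], [11, 9, 14, 11, 9], [11, 7, 8, 12, 9]]⟩, ⟨2, [5920, 5938, 5921, 5939, 5918, 88, 88, 65, 63, 1907, 225, 231, 3357], 1, 1, [[], [13, 8, 13,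 7], [4, 13, 11, 0], [8, 11, 2, 15]]⟩, ⟨3, [5981, 231], 17, 0, [[], [2, 0]]⟩, ⟨2, [5939, 5921, 5938, 5918, 89, 65, 221, 119, 89, 89, 63, 1085], 1, 1, [[], [6, 9, 15, 4, 0], [7, 10, 14, 10, 10], [10, 13, 11, 0]]⟩, ⟨3, [5985, 231, 225], 17, 0, [[], [2, 0]]⟩, ⟨2, [5921, 5938, 5921, 5938, 5918, 65, 63, 1907, 225, 231, 3949], 1, 1, [[], [7, 12, 12, 12, 10], [9, 6, 14, 6, 0], [13, 6, 14, 7]]⟩, ⟨3, [5989, 231], 17, 0, [[], [2, 0]]⟩, ⟨2, [5939, 5920, 5918, 89, 63, 61, 221, 89, 119, 69, 65, 1777], 1, 1, [[], [13, 9, 9, 6, 9], [12, 4, 9, 6, 2], [4, 14, 6, 9, 2]]⟩, ⟨3, [5993, 231, 225], 17, 0, [[], [2, 0]]⟩, ⟨2, [5922, 5938, 5921, 5938, 5918, 65, 63, 61, 349, 225, 1714], 1, 1, [[], [7, 4, 15, 9, 14], [8, 12, 15, 8, 0], [4, 13, 10, 9]]⟩, ⟨3, [5997, 231], 17, 0, [[], [2, 0]]⟩, ⟨2, [5918, 118, 89, 65,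 229, 225, 231, 225, 1753], 1, 1, [[], [9, 9, 14, 13, 13, 0], [11, 13, 10, 12, 15], [9, 0, 10, 12, 7]]⟩, ⟨2, [5938, 5920, 5939, 5921, 5918, 88, 69, 65, 317, 231, 5799], 1, 1, [[], [12, 6, 12, 9, 2], [15, 15, 11, 11], [14, 10, 4, 15, 8]]⟩, ⟨3, [6003, 5398, 5359, 5399], 17, 0, [[], [2, 0]]⟩, ⟨2, [5920, 5939, 5921, 5939, 5918, 88, 88, 65, 63, 1907, 231, 225, 3443], 1, 1, [[], [4, 14, 6, 9], [6, 9, 15, 12, 8], [14, 6, 11, 15, 11]]⟩, ⟨3, [6007, 225, 231], 17, 0, [[], [2, 0]]⟩, ⟨2, [5920, 5938, 5921, 5939, 5918, 88, 69, 65, 317, 231, 937], 1, 1, [[], [8, 8, 8, 6, 0], [15, 6, 9, 13, 4], [9, 10, 4, 9, 0]]⟩, ⟨2, [5938, 5921, 5938, 5918, 349, 225, 231, 225, 469], 1, 1, [[], [6, 11, 2, 11, 6], [4, 10, 14, 12], [10, 6, 14, 10, 8]]⟩, ⟨3, [6013, 231], 17, 0, [[], [2, 0]]⟩, ⟨2, [5922, 5939, 5920, 5938,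 5918, 69, 118, 229, 225, 231, 225, 5239], 1, 1, [[], [14, 4, 12, 12, 0], [6, 4, 12, 7, 2], [4, 9, 7, 14]]⟩, ⟨3, [6017, 231, 225], 17, 0, [[], [2, 0]]⟩, ⟨2, [5938, 5920, 5939, 5918, 89, 89, 61, 1907, 231, 225, 3105], 1, 1, [[], [14, 8, 14, 4], [13, 9, 10, 0], [13, 15, 10, 6, 13]]⟩, ⟨3, [6021, 231], 17, 0, [[], [2, 0]]⟩, ⟨2, [5921, 5939, 5921, 5938, 5918, 118, 89, 65, 229, 231, 4393], 1, 1, [[], [11, 7, 14, 13, 13], [7, 14, 7, 4], [4, 9, 15, 9, 9]]⟩, ⟨3, [6025, 225], 17, 0, [[], [2, 0]]⟩, ⟨2, [5921, 5939, 5920, 5938, 5918, 89, 63, 5919, 5941], 1, 1, [[], [12, 15, 12, 14, 0], [14, 4, 11, 4], [11, 14, 10, 8]]⟩, ⟨3, [6029, 225], 17, 0, [[], [2, 0]]⟩, ⟨2, [5920, 5918, 88, 88, 65, 63, 1907, 231, 225, 4615], 1, 1, [[], [15, 13, 13, 8, 0], [15, 6, 11, 13], [12, 6, 14, 13, 2]]⟩, ⟨2, [5938, 5921,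 5939, 5918, 118, 89, 65, 229, 225, 231, 3789], 1, 1, [[], [10, 8, 14], [6, 8, 8, 7, 0], [15, 15, 7, 13, 11]]⟩, ⟨3, [6035, 231], 17, 0, [[], [2, 0]]⟩, ⟨2, [5921, 5922, 5939, 5920, 5918, 88, 88, 65, 63, 1907, 231, 225, 5097], 1, 1, [[], [15, 11, 9, 9], [9, 10, 8, 8], [12, 11, 12, 10, 4]]⟩, ⟨3, [6039, 225, 231], 17, 0, [[], [2, 0]]⟩, ⟨2, [5920, 5922, 5918, 88, 88, 61, 1907, 4595], 1, 1, [[], [8, 10, 13, 8, 4], [11, 11, 15, 8], [14, 4, 15, 10]]⟩, ⟨3, [6043, 225, 231, 225], 17, 0, [[], [2, 0]]⟩, ⟨2, [5920, 5938, 5920, 5939, 5918, 89, 63, 61, 221, 65, 119, 5919], 1, 1, [[], [13, 11, 15, 8, 6], [6, 11, 15, 6], [14, 7, 10, 0]]⟩, ⟨3, [6047, 5938, 5923, 5920], 17, 0, [[], [2, 0]]⟩, ⟨2, [5920, 5939, 5920, 5918, 65, 63, 1907, 231, 225, 5991], 1, 1, [[], [10, 6, 4, 8, 7], [8, 10, 12, 9, 9], [10, 10,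 13, 14, 8]]⟩, ⟨3, [6051, 5939, 5920], 17, 0, [[], [2, 0]]⟩, ⟨2, [5920, 5938, 5921, 5939, 5918, 118, 61, 587, 225, 231, 837], 1, 2, [[], [15, 6, 12, 11, 7], [6, 11, 14, 9, 0], [12, 11, 13, 13, 8]]⟩, ⟨3, [6055, 186, 145, 187], 17, 0, [[], [2, 0]]⟩, ⟨2, [5921, 5922, 5918, 69, 67, 65, 61, 1777, 225, 231, 4503], 1, 2, [[], [14, 6, 9, 4, 0], [13, 14, 8, 7], [10, 15, 4, 12, 6]]⟩, ⟨3, [6059, 231, 225], 17, 0, [[], [2, 0]]⟩, ⟨2, [230, 224, 5930, 5921, 5918, 69, 67, 65, 5947], 1, 0, [[], [15, 13, 7, 12, 11], [6, 12, 9, 15, 9, 0], [11, 14, 14, 9, 6, 0]]⟩, ⟨3, [6063, 5939, 5920, 5939, 5920], 17, 0, [[], [2, 0]]⟩, ⟨2, [5921, 5918, 89, 89, 317], 2, 1, [[], [7, 8, 10, 4, 9], [14, 10, 8, 12, 4]]⟩, ⟨2, [5938, 5920, 5939, 5918, 69, 118, 65, 229, 225, 573], 3, 1, [[], [11, 9, 10, 13, 4], [13, 13, 15, 15,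 12], [14, 14, 11, 8, 8]]⟩, ⟨2, [5920, 5918, 118, 77, 119, 67, 5919], 3, 1, [[], [9, 14, 12, 8], [11, 6, 8, 14, 6], [14, 13, 11, 2]]⟩, ⟨2, [5922, 5918, 88, 88, 203, 187, 144, 143, 186, 2219], 3, 2, [[], [9, 6, 9, 12, 9], [12, 4, 8, 15, 6], [7, 15, 4, 14, 9]]⟩, ⟨3, [6073, 186, 143], 17, 0, [[], [2, 0]]⟩, ⟨2, [5922, 5918, 89, 63, 61, 221, 118, 67, 5919], 7, 2, [[], [6, 8, 10, 15, 0], [10, 10, 10, 13, 10], [14, 6, 11, 11, 4, 0]]⟩, ⟨2, [5920, 5922, 5918, 88, 88, 1151, 5029], 9, 1, [[], [14, 7, 15, 4, 2], [6, 14, 14, 12, 11], [6, 0, 10, 7]]⟩, ⟨3, [6079, 231], 17, 0, [[], [2, 0]]⟩, ⟨2, [5921, 5918, 61, 89, 69, 63, 1777, 3159], 9, 1, [[], [8, 15, 11, 13, 8], [14, 11, 6, 15, 6], [11, 8, 10, 14, 0]]⟩, ⟨2, [5920, 5918, 69, 88, 118, 61, 3823, 4260], 9, 1, [[], [15, 7, 15, 6, 2], [15, 10, 4, 8, 6,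 0], [10, 9, 14, 0]]⟩, ⟨2, [5922, 5918, 69, 118, 88, 61, 1105, 231, 439], 9, 1, [[], [12, 8, 13, 7, 2], [8, 7, 14, 7], [13, 15, 0, 10, 13]]⟩, ⟨3, [6087, 225, 231], 17, 0, [[], [2, 0]]⟩, ⟨2, [5918, 119, 69, 119, 517, 225, 5987], 9, 2, [[], [13, 10, 14, 12, 6], [8, 13, 6, 9, 4], [14, 4, 15, 15, 4]]⟩, ⟨3, [6091, 5920, 5938], 17, 0, [[], [2, 0]]⟩, ⟨2, [230, 224, 5932, 5918, 88, 88, 65, 63, 5947], 9, 3, [[], [10, 7, 10, 0], [12, 14, 4, 12, 4], [8, 15, 10, 12, 14]]⟩, ⟨3, [6095, 5939, 5921, 5938], 17, 0, [[], [2, 0]]⟩, ⟨2, [5922, 5918, 89, 89, 61, 1907, 771], 9, 0, [[], [6, 9, 11, 14, 6], [15, 8, 4, 14, 8], [8, 6, 8, 10, 0]]⟩, ⟨2, [5921, 5922, 5918, 89, 89, 349, 225, 231, 1911], 9, 0, [[], [9, 14, 9, 13], [12, 8, 7, 14, 0], [7, 12, 7, 8, 4]]⟩, ⟨3, [6101, 231], 17, 0, [[], [2, 0]]⟩, ⟨2, [5920,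 5938, 5921, 5938, 6050, 5920, 5939, 5920, 5918, 118, 89, 69, 297], 11, 2, [[], [15, 10, 14, 9, 14], [15, 15, 7, 8, 4], [11, 15, 12, 12, 6]]⟩, ⟨3, [6105, 231], 17, 0, [[], [2, 0]]⟩, ⟨2, [5939, 5920, 5939, 5918, 69, 61, 5889, 5907, 5907, 5890, 5890, 5907, 5907, 5888], 11, 1, [[], [8, 13, 7, 8, 4], [4, 11, 14, 12, 0], [15, 4, 15, 12, 9]]⟩, ⟨3, [6109, 88, 65, 63], 17, 0, [[], [2, 0]]⟩, ⟨2, [5921, 5938, 5918, 118, 88, 88, 61, 2463, 231, 5071], 11, 1, [[], [6, 13, 14, 10, 0], [6, 15, 15, 9, 4], [4, 10, 12, 11, 11]]⟩, ⟨3, [6113, 225, 231, 225], 17, 0, [[], [2, 0]]⟩, ⟨2, [5939, 6048, 5920, 5922, 5938, 5918, 67, 63, 6111], 11, 3, [[], [14, 10, 13, 14, 4], [8, 11, 15, 11, 0], [14, 11, 6, 13, 0]]⟩, ⟨3, [6117, 5938, 5921, 5938], 17, 0, [[], [2, 0]]⟩, ⟨2, [5921, 5922, 5938, 6062, 5928, 5918], 13,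 3, [[], [11, 4, 9, 7, 4], [12, 14, 10, 9, 0], [7, 8, 4, 11]]⟩, ⟨3, [6121, 88, 69, 119], 17, 0, [[], [2, 0]]⟩, ⟨2, [5921, 6090, 5918, 69, 61, 5889], 13, 2, [[], [4, 11, 13, 13, 7], [4, 8, 8, 7], [13, 14, 12, 6]]⟩, ⟨3, [6125, 5907, 5891, 5891, 5891, 5907, 5907], 17, 0, [[], [2, 0]]⟩, ⟨2, [230, 5980, 5922, 5939, 5920, 5939, 5918, 119, 67, 6111], 13, 0, [[], [10, 7, 13, 4, 0], [6, 12, 9, 11, 11], [8, 4, 15, 2, 11]]⟩, ⟨3, [6129, 5920], 17, 0, [[], [2, 0]]⟩, ⟨2, [5938, 5920, 5918, 69, 118, 63, 1105, 231, 225, 4497], 13, 0, [[], [13, 4, 9, 11, 0], [12, 10, 8, 7], [12, 12, 4, 14, 2]]⟩, ⟨3, [6133, 231, 225], 17, 0, [[], [2, 0]]⟩, ⟨2, [5920, 5922, 5939, 6090, 5922, 5918, 88, 61, 2417], 14, 2, [[], [11, 12, 8, 8, 0], [10, 4, 8, 8], [11, 8, 6, 14, 8]]⟩, ⟨3, [6137, 231], 17, 0, [[], [2, 0]]⟩, ⟨2,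 [230, 5928, 5921, 5918, 119, 67, 6111], 14, 3, [[], [11, 14, 6, 9, 6], [14, 7, 15, 9, 2], [12, 8, 14, 13, 2]]⟩, ⟨3, [6141, 5939, 5923], 17, 0, [[], [2, 0]]⟩, ⟨2, [5921, 5922, 5918, 61, 89, 1151, 225, 231, 2421], 15, 1, [[], [15, 8, 6, 9, 4], [4, 9, 7, 12, 2], [7, 11, 15, 11]]⟩, ⟨3, [6145, 231, 225], 17, 0, [[], [2, 0]]⟩, ⟨2, [5938, 5920, 5938, 5918, 89, 119, 61, 275, 231, 225, 2149], 15, 1, [[], [7, 13, 15, 4, 2], [12, 4, 15, 12, 0], [8, 12, 9, 0]]⟩, ⟨3, [6149, 145, 187, 145, 143], 17, 0, [[], [2, 0]]⟩, ⟨2, [5921, 5939, 5918, 119, 61, 89, 1949, 939], 15, 1, [[], [10, 9, 4, 13, 0], [6, 15, 9, 12, 10], [12, 4, 11, 4]]⟩, ⟨3, [6153, 187, 145, 143], 17, 0, [[], [2, 0]]⟩, ⟨2, [5920, 5922, 5939, 5920, 5938, 5918, 69, 67, 63, 1777, 225, 231, 225, 3423], 15, 1, [[], [15, 13, 13, 6, 0], [12, 2,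 11], [6, 0, 10, 12, 4]]⟩, ⟨3, [6157, 231], 17, 0, [[], [2, 0]]⟩, ⟨2, [5921, 5938, 5921, 5939, 5918, 119, 88, 88, 1777, 231, 225, 2431], 15, 1, [[], [10, 4, 10, 8], [4, 8, 12, 2, 14], [11, 14, 12, 4]]⟩, ⟨3, [6161, 231], 17, 0, [[], [2, 0]]⟩, ⟨2, [5920, 5939, 5920, 5938, 5918, 118, 65, 1085, 225, 231, 5765], 15, 1, [[], [10, 14, 9, 7], [11, 4, 15, 8], [12, 4, 9, 6]]⟩, ⟨3, [6165, 5399], 17, 0, [[], [2, 0]]⟩, ⟨2, [5939, 5920, 5938, 5918, 118, 89, 67, 3823, 225, 231, 4451], 15, 1, [[], [8, 6, 8, 2], [10, 8, 7, 9, 6], [8, 12, 11, 12, 6]]⟩, ⟨3, [6169, 231, 225], 17, 0, [[], [2, 0]]⟩, ⟨2, [5918, 65, 63, 61, 211, 187, 144, 186, 145, 1491], 15, 1, [[], [9, 6, 13, 10, 8], [12, 11, 7, 10, 0], [9, 10, 9, 0]]⟩, ⟨3, [6173, 231, 225], 17, 0, [[], [2, 0]]⟩, ⟨2, [5938, 5921, 5918, 88, 88, 275, 225, 3307],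 15, 1, [[], [7, 4, 10, 4], [8, 4, 15, 12], [6, 13, 4, 13, 0]]⟩, ⟨3, [6177, 231], 17, 0, [[], [2, 0]]⟩, ⟨2, [5921, 5922, 5938, 5921, 5938, 5918, 88, 65, 63, 1777, 225, 1969], 15, 1, [[], [4, 12, 10, 13], [11, 13, 13, 11, 9], [6, 14, 14, 6, 15]]⟩, ⟨3, [6181, 225, 231], 17, 0, [[], [2, 0]]⟩, ⟨2, [5921, 5939, 5921, 5918, 69, 67, 4869, 225, 231, 4239], 15, 1, [[], [6, 10, 4, 10, 13], [15, 13, 11, 4, 12], [9, 7, 4, 10, 12]]⟩, ⟨3, [6185, 225, 231], 17, 0, [[], [2, 0]]⟩, ⟨2, [5920, 5938, 5921, 5939, 5918, 89, 65, 63, 1777, 3099], 15, 1, [[], [12, 6, 8, 4, 0], [12, 15, 13, 13], [12, 10, 6, 13]]⟩, ⟨3, [6189, 225], 17, 0, [[], [2, 0]]⟩, ⟨2, [5920, 5922, 5939, 5920, 5918, 88, 119, 61, 275, 225, 231, 2959], 15, 1, [[], [6, 9, 15, 4, 2], [15, 8, 15, 4, 9], [14, 8, 10, 9, 2]]⟩, ⟨2, [5938, 5920, 5939,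 5918, 69, 88, 63, 297, 225, 5424], 15, 1, [[], [14, 14, 8, 12, 0], [11, 12, 10, 15, 2], [12, 11, 7, 14, 4]]⟩, ⟨3, [6195, 5360, 5398, 5398, 5357], 17, 0, [[], [2, 0]]⟩, ⟨2, [5938, 5920, 5918, 69, 88, 193, 145, 186, 144, 2173], 15, 1, [[], [13, 9, 11, 15], [7, 10, 12, 12], [11, 14, 10, 9, 2]]⟩, ⟨3, [6199, 225], 17, 0, [[], [2, 0]]⟩, ⟨2, [5921, 5918, 61, 119, 1949, 225, 231, 225, 1799], 15, 1, [[], [15, 12, 15, 13], [4, 12, 7, 10, 2], [12, 6, 13, 4, 0]]⟩, ⟨3, [6203, 225, 231], 17, 0, [[], [2, 0]]⟩, ⟨2, [5920, 5938, 5921, 5918, 89, 119, 65, 795, 225, 231, 225, 2663], 15, 1, [[], [10, 14, 10, 10, 0], [15, 11, 6, 8], [9, 9, 11, 14, 0]]⟩, ⟨3, [6207, 231, 225], 17, 0, [[], [2, 0]]⟩, ⟨2, [5920, 5922, 5939, 5920, 5938, 5918, 88, 118, 65, 1105, 231, 2013], 15, 1, [[], [8, 15, 11, 14, 2], [10, 15,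 9, 10], [13, 8, 8, 15, 7]]⟩, ⟨3, [6211, 187, 144, 143, 186], 17, 0, [[], [2, 0]]⟩, ⟨2, [5922, 5938, 5921, 5939, 5918, 69, 118, 63, 61, 2463, 231, 2849], 15, 1, [[], [12, 6, 9, 7, 2], [7, 10, 14, 9, 0], [11, 9, 13, 6, 0]]⟩, ⟨3, [6215, 225], 17, 0, [[], [2, 0]]⟩, ⟨2, [5939, 5921, 5939, 5918, 88, 67, 118, 61, 4265, 225, 4941], 15, 1, [[], [7, 4, 8], [13, 7, 8, 11, 4], [10, 15, 13, 8, 2]]⟩, ⟨3, [6219, 225, 231], 17, 0, [[], [2, 0]]⟩, ⟨2, [5938, 5921, 5918, 69, 67, 65, 61, 1777, 231, 1665], 15, 1, [[], [8, 12, 10, 4], [2, 14, 12, 7, 4], [4, 12, 15, 13, 0]]⟩, ⟨3, [6223, 225, 231, 225], 17, 0, [[], [2, 0]]⟩, ⟨2, [5938, 5920, 5939, 5918, 118, 88, 88, 61, 731, 225, 231, 4337], 15, 1, [[], [12, 6, 9, 6], [10, 6, 15, 12], [13, 8, 4, 13, 8]]⟩, ⟨3, [6227, 225, 231, 225], 17, 0, [[], [2, 0]]⟩, ⟨2,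 [5920, 5922, 5939, 5921, 5918, 118, 88, 88, 517, 225, 231, 1041], 15, 1, [[], [4, 10, 8, 6, 0], [11, 15, 6, 10, 4], [12, 15, 6, 9, 2]]⟩, ⟨3, [6231, 231], 17, 0, [[], [2, 0]]⟩, ⟨2, [5939, 5921, 5939, 5918, 88, 88, 63, 61, 297, 2333], 15, 1, [[], [8, 11, 15], [12, 10, 8, 10], [10, 13, 4, 10]]⟩, ⟨2, [5920, 5939, 5921, 5918, 118, 5919, 5920, 5939, 6223], 15, 1, [[], [11, 7, 10, 15, 2], [4, 12, 11, 11, 6], [4, 13, 8, 6, 10]]⟩, ⟨2, [5920, 5918, 63, 61, 193, 144, 143, 1681], 15, 1, [[], [6, 12, 14, 10, 2], [13, 8, 14, 11], [12, 14, 14, 7, 4]]⟩, ⟨3, [6239, 225, 231, 225], 17, 0, [[], [2, 0]]⟩, ⟨2, [5922, 5939, 5920, 5939, 5918, 69, 67, 65, 61, 2417, 225, 3255], 15, 1, [[], [8, 12, 12, 9, 0], [7, 10, 13, 7, 14], [14, 11, 12]]⟩, ⟨2, [5920, 5939, 5920, 5938, 5918, 119, 61, 89, 625, 225, 231, 3979],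 15, 1, [[], [14, 12, 9, 9, 2], [12, 8, 7, 2], [15, 13, 10, 15, 4]]⟩, ⟨2, [5922, 5939, 5918, 69, 88, 61, 195, 187, 145, 186, 2023], 15, 1, [[], [15, 15, 12, 12, 12], [11, 12, 4, 14, 8], [14, 13, 6]]⟩, ⟨3, [6247, 231, 225], 17, 0, [[], [2, 0]]⟩, ⟨2, [5920, 5938, 5921, 5939, 5918, 89, 89, 61, 211, 187, 145, 186, 1857], 15, 1, [[], [4, 9, 15, 4, 0], [11, 14, 4, 10, 13], [10, 14, 9, 14, 8]]⟩, ⟨3, [6251, 225], 17, 0, [[], [2, 0]]⟩, ⟨2, [5921, 5922, 5938, 5921, 5918, 88, 67, 61, 1151, 231, 225, 443], 15, 1, [[], [8, 4, 8, 13, 7], [10, 12, 12, 11, 9], [15, 11, 4, 14]]⟩, ⟨3, [6255, 231], 17, 0, [[], [2, 0]]⟩, ⟨2, [5938, 5920, 5939, 5918, 118, 63, 61, 731, 231, 225, 4389], 15, 3, [[], [11, 11, 13, 7, 0], [11, 15, 7, 0, 8], [13, 10, 15, 4]]⟩, ⟨3, [6259, 225, 231, 225], 17, 0, [[], [2, 0]]⟩, ⟨2,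 [5920, 5939, 5921, 5918, 118, 61, 88, 4265, 225, 231, 225, 1967], 15, 3, [[], [6, 15, 8, 8, 4], [13, 14, 9, 7, 4], [11, 6, 11, 9]]⟩, ⟨3, [6263, 225, 231, 225], 17, 0, [[], [2, 0]]⟩, ⟨2, [5920, 5938, 5920, 5918, 63, 193, 143, 186, 629], 15, 3, [[], [11, 14, 14, 10], [11, 14, 6, 15], [6, 13, 10, 15]]⟩, ⟨3, [6267, 225, 231], 17, 0, [[], [2, 0]]⟩, ⟨2, [5921, 5939, 5921, 5918, 65, 63, 2079, 231, 4255], 15, 3, [[], [12, 14, 12, 12, 0], [15, 12, 9, 4], [6, 4, 13, 0, 10]]⟩, ⟨3, [6271, 225], 17, 0, [[], [2, 0]]⟩, ⟨2, [5920, 5939, 5920, 5938, 5918, 118, 63, 61, 587, 225, 231, 4216], 15, 3, [[], [7, 11, 15, 12, 2], [12, 11, 14, 9, 6], [12, 11, 7, 10]]⟩, ⟨3, [6275, 225, 231, 225], 17, 0, [[], [2, 0]]⟩, ⟨2, [5920, 5939, 5920, 5938, 5918, 88, 118, 88, 61, 731, 225, 231, 225, 5111], 15, 3, [[], [4,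 13, 10, 2], [11, 7, 11, 13, 9], [11, 13, 6, 8]]⟩, ⟨2, [224, 230, 224, 5980, 5920, 5922, 5939, 5918, 119, 69, 65, 6111], 15, 0, [[], [7, 10, 13, 8, 2], [9, 4, 13, 6], [4, 14, 13, 7]]⟩, ⟨3, [6281, 5938, 5923, 5920], 17, 0, [[], [2, 0]]⟩, ⟨2, [5920, 5922, 5938, 5921, 5938, 5918, 118, 61, 587, 609], 15, 3, [[], [15, 12, 12, 10, 7], [12, 15, 7, 13, 2], [9, 9, 4, 9, 4]]⟩, ⟨3, [6285, 225, 231], 17, 0, [[], [2, 0]]⟩, ⟨2, [5921, 5939, 5921, 5938, 5918, 88, 61, 119, 625, 225, 231, 2227], 15, 3, [[], [15, 8, 4, 8], [9, 4, 10, 9, 13], [11, 13, 6, 0, 8]]⟩, ⟨3, [6289, 144, 186, 143], 17, 0, [[], [2, 0]]⟩, ⟨2, [5921, 5918, 61, 119, 1949, 231, 225, 463], 15, 3, [[], [11, 14, 0, 9], [11, 11, 0, 8, 6], [10, 13, 6, 12, 10]]⟩, ⟨3, [6293, 225, 231], 17, 0, [[], [2, 0]]⟩, ⟨2, [5920, 5939, 5920, 5939, 5918,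 65, 61, 195, 145, 187, 145, 143, 201], 15, 3, [[], [4, 15, 9, 7, 4], [8, 11, 8, 12, 10], [14, 7, 15, 4]]⟩, ⟨3, [6297, 187, 145, 186], 17, 0, [[], [2, 0]]⟩, ⟨2, [5921, 5922, 5939, 5920, 5918, 118, 88, 88, 61, 749, 1747], 15, 3, [[], [8, 13, 13, 6, 0], [13, 11, 6, 4], [4, 8, 7, 10]]⟩, ⟨3, [6301, 187], 17, 0, [[], [2, 0]]⟩, ⟨2, [5920, 5938, 5921, 5938, 5918, 88, 63, 61, 1907, 403], 15, 3, [[], [8, 7, 10], [8, 14, 7, 8], [8, 8, 4, 13, 9]]⟩, ⟨3, [6305, 231], 17, 0, [[], [2, 0]]⟩, ⟨2, [5920, 5938, 5920, 5918, 89, 69, 118, 1085, 231, 4289], 15, 3, [[], [7, 4, 15, 9, 2], [7, 10, 14, 7, 2], [13, 13, 9, 10, 14]]⟩, ⟨3, [6309, 231], 17, 0, [[], [2, 0]]⟩, ⟨2, [5920, 5939, 5918, 119, 69, 65, 6111, 5938, 5921, 5939, 5920, 6283], 15, 3, [[], [15, 10, 12, 10, 2], [11, 13, 4, 10], [15, 4, 14, 8, 0]]⟩]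 2389 3157 = true := by decide +kernel
theorem dd_c4 : dd.checks [⟨3, [6313, 225, 231], 17, 0, [[], [2, 0]]⟩, ⟨2, [5918, 67, 88, 63, 1151, 225, 231, 5127], 15, 3, [[], [9, 14, 7, 9, 7], [4, 11, 6, 12, 0], [7]]⟩, ⟨3, [6317, 225, 231], 17, 0, [[], [2, 0]]⟩, ⟨2, [5920, 5938, 5920, 5939, 5918, 119, 69, 88, 61, 1777, 231, 225, 754], 15, 3, [[], [13, 7, 11, 14, 10], [6, 10, 6, 2], [6, 13, 11, 12, 4]]⟩, ⟨3, [6321, 186], 17, 0, [[], [2, 0]]⟩, ⟨2, [5921, 5922, 5938, 5921, 5938, 5918, 118, 88, 88, 61, 2463, 231, 2831], 15, 3, [[], [7, 15, 11, 6, 0], [9, 4, 2, 11, 7], [8, 11, 4, 8, 4]]⟩, ⟨3, [6325, 225, 231], 17, 0, [[], [2, 0]]⟩, ⟨2, [5920, 5938, 5918, 65, 89, 61, 1671, 225, 1923], 15, 3, [[], [6, 4, 8, 13], [7, 13, 14, 8, 8], [12, 11, 14, 9, 6]]⟩, ⟨3, [6329, 186, 143, 187], 17, 0, [[], [2, 0]]⟩,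 ⟨2, [5939, 5921, 5938, 5918, 119, 89, 89, 1777, 231, 1453], 15, 3, [[], [8, 7, 9, 12, 7], [7, 10, 2], [9, 14, 7, 9, 7]]⟩, ⟨3, [6333, 225, 231], 17, 0, [[], [2, 0]]⟩, ⟨2, [5938, 5920, 5939, 5921, 5918, 119, 69, 65, 61, 625, 225, 231, 225, 5317], 15, 3, [[], [10, 8, 14, 8], [8, 12, 9, 10, 15], [8, 4, 10]]⟩, ⟨3, [6337, 225, 231, 225], 17, 0, [[], [2, 0]]⟩, ⟨2, [5921, 5938, 5921, 5938, 5918, 69, 89, 6123, 5938, 5921, 5939, 6025], 15, 3, [[], [13, 8, 12, 15, 0], [14, 13, 14, 6, 2], [6, 4, 12, 9, 2]]⟩, ⟨3, [6341, 231, 225], 17, 0, [[], [2, 0]]⟩, ⟨2, [5939, 5921, 5939, 5918, 61, 119, 1085, 225, 231, 4595], 15, 3, [[], [4, 14, 8, 11, 6], [10, 8, 13, 14, 10], [6, 11, 7, 13]]⟩, ⟨3, [6345, 225, 231, 225], 17, 0, [[], [2, 0]]⟩, ⟨2, [5920, 5938, 5921, 5939, 5918, 69, 61, 5889, 5890, 5907, 5890, 5906,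 5890, 5907, 5907, 5893], 15, 3, [[], [15, 7, 4, 12, 6], [2, 15, 7], [9, 9, 14, 9, 2]]⟩, ⟨3, [6349, 231, 225], 17, 0, [[], [2, 0]]⟩, ⟨2, [5920, 5938, 5921, 5938, 5918, 119, 69, 119, 749, 231, 4785], 15, 3, [[], [13, 7, 2], [4, 11, 9, 10, 0], [15, 9, 7, 15, 6]]⟩, ⟨3, [6353, 231, 225], 17, 0, [[], [2, 0]]⟩, ⟨2, [224, 3445, 230, 224, 3822, 66, 119, 89, 5919], 1, 0, [[], [10, 4, 10, 8, 6], [10, 13, 9, 2], [10, 9, 4, 11, 11]]⟩, ⟨3, [6357, 5938, 5921, 5939], 17, 0, [[], [2, 0]]⟩, ⟨2, [5939, 5920, 5939, 6110, 60, 118, 64, 5919, 5920, 5938, 5923, 5971], 1, 0, [[], [15, 11, 7, 15, 0], [10, 12, 9, 9, 9, 0], [6, 12, 11, 8, 13]]⟩, ⟨3, [6361, 231], 17, 0, [[], [2, 0]]⟩, ⟨2, [5922, 5938, 5921, 5938, 6122, 68, 89, 5919, 5923, 5920, 6011], 3, 0, [[], [8, 8, 4, 14, 0], [9, 4, 9, 9], [15, 7, 15, 12]]⟩,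 ⟨3, [6365, 225, 231], 17, 0, [[], [2, 0]]⟩, ⟨2, [6366, 224, 230, 1084, 62, 64, 89, 89, 5919], 3, 2, [[], [10, 6, 11, 15, 7], [4, 11, 12, 2], [14, 12, 7, 4, 0]]⟩, ⟨3, [6369, 5921], 17, 0, [[], [2, 0]]⟩, ⟨2, [5920, 5938, 6110, 60, 118, 64, 5919, 6091], 7, 3, [[], [12, 2], [10, 13, 8, 14, 6], [9, 9, 12, 0]]⟩, ⟨2, [5938, 5920, 5939, 6122, 60, 62, 66, 5919, 5933], 8, 3, [[], [10, 6, 4, 9], [14, 6, 15, 12, 2], [12, 12, 15, 15]]⟩, ⟨3, [6375, 225], 17, 0, [[], [2, 0]]⟩, ⟨2, [3644, 224, 1670, 88, 88, 5919], 9, 3, [[], [12, 9, 7, 12, 4], [14, 9, 7, 11], [9, 14, 7, 11, 4]]⟩, ⟨3, [6379, 5923], 17, 0, [[], [2, 0]]⟩, ⟨2, [5919, 5923, 5921, 5941, 225, 231, 225, 6175], 9, 0, [[], [13, 8, 6, 15, 4], [9, 7, 12, 11, 6], [13, 6, 11, 11, 6]]⟩, ⟨2, [224, 230, 224, 543, 230, 228, 60, 66, 119, 5919], 10, 0,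 [[], [4, 12, 11, 14, 2], [10, 8, 4, 9, 4], [4, 8, 15, 8, 10, 0]]⟩, ⟨3, [6385, 5923, 5920], 17, 0, [[], [2, 0]]⟩, ⟨2, [5921, 5918, 66, 5919, 5937], 10, 1, [[], [11, 9, 10, 12, 4], [10, 7, 8, 11], [2, 11]]⟩, ⟨3, [6389, 5907, 5907], 17, 0, [[], [2, 0]]⟩, ⟨2, [6122, 118, 64, 5919, 5933], 10, 1, [[], [14, 11, 11, 12, 8], [15, 15, 10, 9, 7], [7, 14, 4, 8, 0]]⟩, ⟨3, [6393, 225, 231, 225], 17, 0, [[], [2, 0]]⟩, ⟨2, [5938, 5920, 5938, 6382, 60, 89, 5919, 5921, 6059], 11, 0, [[], [9, 13, 13, 14], [12, 15, 8, 8, 6], [6, 13, 9, 4, 2]]⟩, ⟨3, [6397, 231, 225], 17, 0, [[], [2, 0]]⟩, ⟨2, [230, 1906, 60, 5919, 6091], 13, 3, [[], [14, 14, 6, 12, 2], [10, 7, 8, 4], [7, 14, 14, 10]]⟩, ⟨3, [6401, 5938, 5923, 5920], 17, 0, [[], [2, 0]]⟩, ⟨2, [230, 4038, 230, 224, 586, 60, 62, 119, 5919], 15, 0, [[], [4, 11,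 12, 6, 0], [6, 10, 12, 14], [6, 12, 15, 4, 0]]⟩, ⟨3, [6405, 5939, 5920, 5938], 17, 0, [[], [2, 0]]⟩, ⟨2, [230, 1012, 224, 230, 224, 1084, 88, 60, 88, 5919], 15, 0, [[], [9, 9, 10, 15, 9], [11, 13, 8, 8, 10], [12, 6, 8, 14, 11]]⟩, ⟨3, [6409, 5921, 5939, 5920, 5938], 17, 0, [[], [2, 0]]⟩, ⟨2, [187, 952, 224, 274, 60, 88, 118, 5919], 15, 0, [[], [4, 8, 6, 9, 0], [13, 8, 4, 13, 2], [13, 7, 12, 0]]⟩, ⟨3, [6413, 5923, 5920], 17, 0, [[], [2, 0]]⟩, ⟨2, [5920, 5938, 5920, 5918, 62, 119, 5919, 5939, 5923, 5920, 6349], 15, 3, [[], [10, 4, 8, 6, 2], [7, 10, 12, 11, 0], [11, 12, 8, 8, 8]]⟩, ⟨3, [6417, 225, 231], 17, 0, [[], [2, 0]]⟩, ⟨2, [778, 224, 624, 89, 66, 118, 5919], 15, 0, [[], [11, 11, 9, 15, 9], [15, 15, 8, 12], [7, 14, 4, 8, 6]]⟩, ⟨3, [6421, 5923], 17, 0, [[], [2, 0]]⟩, ⟨2, [224, 230, 4860,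 224, 4866, 60, 118, 64, 89, 5919], 15, 0, [[], [6, 11, 2], [9, 9, 13, 8], [15, 7, 13, 14]]⟩, ⟨3, [6425, 5938, 5921], 17, 0, [[], [2, 0]]⟩, ⟨2, [224, 230, 5728, 5356, 5399, 5358, 5514, 62, 88, 68, 5919], 15, 0, [[], [15, 10, 6, 14, 0], [13, 14, 6, 8, 4], [6, 8, 12, 14, 4]]⟩, ⟨3, [6429, 5921, 5939, 5923], 17, 0, [[], [2, 0]]⟩, ⟨2, [224, 4030, 224, 230, 224, 748, 60, 119, 5919], 15, 0, [[], [10, 12, 4, 8, 2], [9, 9, 7, 4, 8], [13, 4, 10, 4, 0]]⟩, ⟨3, [6433, 5938, 5920, 5939, 5923], 17, 0, [[], [2, 0]]⟩, ⟨2, [224, 230, 224, 3984, 230, 794, 60, 88, 68, 118, 5919], 15, 0, [[], [8, 13, 15, 10, 13], [9, 4, 9, 9, 4], [15, 4, 12, 2]]⟩, ⟨3, [6437, 5938, 5921], 17, 0, [[], [2, 0]]⟩, ⟨2, [5356, 5398, 5357, 5876, 230, 224, 1084, 60, 118, 5919], 15, 2, [[], [11, 7, 4, 11, 0], [6, 9, 11, 4, 0], [13,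 10, 6, 0, 8]]⟩, ⟨3, [6441, 5938, 5920, 5938], 17, 0, [[], [2, 0]]⟩, ⟨2, [230, 224, 6012, 5921, 5938, 5920, 6110, 62, 66, 119, 5919], 15, 2, [[], [15, 10, 14, 13], [4, 12, 7, 9, 6], [8, 8, 15, 10]]⟩, ⟨3, [6445, 5920, 5939, 5921], 17, 0, [[], [2, 0]]⟩, ⟨2, [5938, 5920, 5939, 5921, 6382, 60, 88, 118, 5919, 5920, 5939, 5921, 6417], 15, 1, [[], [8, 7, 4, 11], [9, 4, 15, 10], [7, 4, 13, 6, 4]]⟩, ⟨3, [6449, 231, 225], 17, 0, [[], [2, 0]]⟩, ⟨2, [4553, 230, 224, 794, 119, 68, 119, 5919], 15, 2, [[], [14, 10, 4, 15, 7], [14, 9, 11, 11, 8], [7, 11]]⟩, ⟨3, [6453, 5939, 5920, 5939, 5923], 17, 0, [[], [2, 0]]⟩, ⟨2, [224, 230, 5750, 5357, 5360, 5399, 5514, 62, 88, 68, 5919], 15, 2, [[], [13, 8, 4, 13, 8], [10, 14, 8, 15, 6], [14, 14, 9, 7, 0]]⟩, ⟨3, [6457, 5939, 5921, 5938], 17, 0, [[], [2, 0]]⟩, ⟨2,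 [224, 230, 1776, 60, 68, 119, 66, 5919, 5938, 5923, 6077], 15, 1, [[], [4, 13, 9, 13, 6], [6, 10, 13, 14, 2], [9, 4, 13, 7, 0]]⟩, ⟨3, [6461, 5938, 5921, 5938, 5923, 5921], 17, 0, [[], [2, 0]]⟩, ⟨2, [142, 144, 186, 1622, 224, 230, 224, 4868, 60, 62, 89, 5919], 15, 2, [[], [10, 13, 8, 11, 2], [11, 11, 11, 7, 8], [4, 8, 10, 8, 6]]⟩, ⟨3, [6465, 5921], 17, 0, [[], [2, 0]]⟩, ⟨2, [5906, 5906, 5906, 5906, 5906, 5890, 5890, 5924, 6069, 225, 6098], 1, 1, [[], [11, 12, 14, 4, 12], [10, 7, 11, 15], [15, 12, 12, 14, 0]]⟩, ⟨3, [6469, 5923], 17, 0, [[], [2, 0]]⟩, ⟨2, [230, 224, 4981, 230, 224, 5892, 5890, 5906, 5906, 5891, 5907, 5890, 5890, 5907, 5924], 1, 0, [[], [14, 12, 8, 10, 10], [8, 14, 11, 4, 10], [14, 12, 8, 10, 10]]⟩, ⟨3, [6473, 5923, 5920], 17, 0, [[], [2, 0]]⟩, ⟨2, [224, 4676, 224, 230, 5896,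 5906, 5890, 5907, 5890, 5890, 5890, 5906, 5924], 1, 0, [[], [11, 6, 4, 9, 0], [11, 4, 8, 6], [14, 12, 15, 12]]⟩, ⟨3, [6477, 5921, 5938, 5923, 5921], 17, 0, [[], [2, 0]]⟩, ⟨2, [230, 5196, 5896, 5906, 5906, 5906, 5891, 5891, 5907, 5891, 5891, 5924], 1, 0, [[], [14, 11, 7, 12, 8], [15, 10, 13, 10], [8, 14, 7, 8]]⟩, ⟨3, [6481, 5921, 5939, 5920], 17, 0, [[], [2, 0]]⟩, ⟨2, [6468, 5907, 5907, 5891, 5906, 5891, 5891, 5906, 5924, 5938, 5920, 5939, 5923, 6087], 1, 3, [[], [10, 9, 6], [13, 15, 10, 8, 2], [4, 12, 7, 12]]⟩, ⟨3, [6485, 231], 17, 0, [[], [2, 0]]⟩, ⟨2, [4980, 224, 230, 5912, 5891, 5891, 5906, 5906, 5906, 5906, 5906, 5891, 5924], 1, 0, [[], [13, 2, 14, 13, 7], [7, 13, 14, 11], [8, 6, 14, 8]]⟩, ⟨3, [6489, 5939, 5920, 5938, 5920], 17, 0, [[], [2, 0]]⟩, ⟨2, [224, 230, 3988, 224, 230, 5908,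 5907, 5907, 5890, 5890, 5907, 5907, 5924], 3, 3, [[], [9, 15, 6, 13, 2], [13, 14, 11, 8], [9, 4, 13, 11]]⟩, ⟨3, [6493, 5938, 5920, 5939], 17, 0, [[], [2, 0]]⟩, ⟨2, [5921, 5938, 5921, 6450, 224, 230, 5912, 5907, 5907, 5890, 5890, 5907, 5907, 5890, 5924], 3, 0, [[], [4, 8, 15, 6, 0], [11, 13, 9, 4, 8], [6, 13, 6, 2]]⟩, ⟨3, [6497, 5938, 5921, 5939, 5921], 17, 0, [[], [2, 0]]⟩, ⟨2, [5922, 5939, 5920, 5939, 6182, 5914, 5890, 5906, 5891, 5907, 5890, 5907, 5890, 5924], 3, 0, [[], [15, 13, 4, 8], [14, 14, 8, 15, 0], [4, 12, 6, 0]]⟩, ⟨3, [6501, 5920, 5938, 5921, 5939, 5921], 17, 0, [[], [2, 0]]⟩, ⟨2, [230, 224, 6180, 5922, 5938, 5921, 5938, 6126, 5891, 5891, 5907, 5890, 5906, 5924], 3, 0, [[], [12, 15, 15, 8], [8, 15, 11, 9, 11], [6, 8, 14, 10, 14]]⟩, ⟨3, [6505, 5938, 5921, 5938, 5921], 17, 0,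 [[], [2, 0]]⟩, ⟨2, [224, 5914, 5907, 5907, 5890, 5907, 5891, 5891, 5907, 5924, 5938, 5921, 5938, 6117], 8, 1, [[], [4, 2, 11, 13, 4], [7, 9, 7, 4], [9, 12, 12, 11, 11]]⟩, ⟨3, [6509, 5938, 5920], 17, 0, [[], [2, 0]]⟩, ⟨2, [6126, 5890, 5890, 5890, 5907, 5907, 5907, 5891, 5924, 5938, 5921, 5939, 5921, 6503], 10, 2, [[], [7, 4, 12, 6, 0], [11, 15, 11, 12, 8], [6, 10, 12, 10, 2]]⟩, ⟨2, [5920, 5938, 5920, 5939, 5921, 6126, 5890, 5890, 5906, 5906, 5891, 5891, 5906, 5924, 5921, 5939, 5920, 5938, 6029], 10, 1, [[], [14, 12, 12, 7, 0], [6, 14, 6, 8], [11, 6, 13, 2]]⟩, ⟨2, [224, 5914, 5890, 5906, 5890, 5890, 5907, 5890, 5907, 5924, 5938, 5921, 5938, 5923, 6117], 10, 1, [[], [10, 15, 8, 11, 14], [13, 14, 9, 13, 7], [13, 10, 12, 10]]⟩, ⟨3, [6517, 5921, 5939], 17, 0, [[], [2, 0]]⟩, ⟨2, [224, 5912,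 5890, 5890, 5907, 5891, 5906, 5891, 5891, 5907, 5907, 5924, 5939, 5920, 5938, 6051], 14, 2, [[], [4, 12, 7, 15, 4], [11, 12, 6, 4, 2], [4, 15, 9, 6, 11]]⟩, ⟨3, [6521, 5938, 5921], 17, 0, [[], [2, 0]]⟩, ⟨2, [224, 5892, 5906, 5906, 5890, 5890, 5907, 5891, 5906, 5924, 5938, 5921, 5938, 5923, 6117], 14, 0, [[], [7, 10, 10, 10, 4], [13, 13, 14, 14, 2], [11, 4, 2, 11]]⟩, ⟨3, [6525, 5921, 5939], 17, 0, [[], [2, 0]]⟩, ⟨2, [5356, 5398, 5356, 5767, 230, 5900, 5906, 5890, 5890, 5890, 5924], 15, 0, [[], [9, 4, 14, 9, 7], [8, 15, 4, 10, 0], [11, 4, 12, 8, 0]]⟩, ⟨3, [6529, 5939, 5921, 5938, 5923, 5921], 17, 0, [[], [2, 0]]⟩, ⟨2, [224, 230, 224, 2874, 230, 5914, 5907, 5891, 5891, 5907, 5907, 5907, 5907, 5924], 15, 0, [[], [14, 14, 10, 13, 4], [6, 15, 15, 8, 0], [6, 14, 4, 10, 6]]⟩, ⟨3, [6533, 5920],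 17, 0, [[], [2, 0]]⟩, ⟨2, [5921, 5939, 5921, 6224, 224, 230, 224, 5912, 5890, 5890, 5906, 5890, 5890, 5906, 5890, 5907, 5924], 15, 0, [[], [15, 9, 9, 11, 4], [14, 4, 10, 4, 2], [14, 7, 13, 14, 2]]⟩, ⟨3, [6537, 5939, 5921, 5939], 17, 0, [[], [2, 0]]⟩, ⟨2, [230, 224, 724, 5896, 5890, 5890, 5906, 5906, 5906, 5906, 5906, 5924], 15, 0, [[], [7, 15, 12, 2], [15, 4, 11, 6, 4], [14, 13, 7, 14]]⟩, ⟨3, [6541, 5921, 5939, 5920], 17, 0, [[], [2, 0]]⟩, ⟨2, [5939, 6436, 224, 230, 5892, 5906, 5891, 5906, 5890, 5907, 5891, 5906, 5924], 15, 0, [[], [13, 10, 4, 10, 8], [11, 14, 14, 9, 6], [4, 8, 0]]⟩, ⟨3, [6545, 5938, 5921, 5939, 5920], 17, 0, [[], [2, 0]]⟩, ⟨2, [224, 2874, 5892, 5906, 5906, 5890, 5890, 5890, 5907, 5924], 15, 0, [[], [9, 12, 4], [4, 12, 10, 6, 11, 0], [7, 0, 10, 7, 4]]⟩, ⟨3, [6549, 5920,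 5938, 5923, 5921], 17, 0, [[], [2, 0]]⟩, ⟨2, [224, 230, 966, 5900, 5890, 5906, 5906, 5906, 5890, 5890, 5906, 5890, 5890, 5924], 15, 2, [[], [8, 14, 13, 10], [8, 10, 13, 0], [4, 13, 13, 8]]⟩, ⟨3, [6553, 5938, 5920], 17, 0, [[], [2, 0]]⟩, ⟨2, [230, 224, 3126, 224, 230, 224, 5914, 5907, 5891, 5891, 5907, 5907, 5907, 5907, 5924], 15, 2, [[], [12, 6, 11, 13, 2], [8, 15, 2, 11, 7], [14, 12, 9, 11, 2]]⟩, ⟨3, [6557, 5939, 5920, 5939, 5923, 5920], 17, 0, [[], [2, 0]]⟩, ⟨2, [2718, 224, 230, 5892, 5907, 5890, 5906, 5906, 5891, 5907, 5924], 15, 2, [[], [13, 7, 15, 6, 4], [13, 14, 11, 8], [8, 11, 7, 13, 7]]⟩, ⟨3, [6561, 5939, 5920, 5938, 5921], 17, 0, [[], [2, 0]]⟩, ⟨2, [224, 230, 6416, 5920, 5922, 5939, 5920, 5938, 6126, 5891, 5907, 5891, 5906, 5890, 5924], 15, 2, [[], [15, 7, 9, 9], [12, 9, 6, 15,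 0], [8, 8, 7, 11, 0]]⟩, ⟨3, [6565, 5921, 5938], 17, 0, [[], [2, 0]]⟩, ⟨2, [224, 5900, 5906, 5890, 5890, 5890, 5924, 5920, 5938, 6077], 15, 1, [[], [9, 10, 8, 13, 7], [9, 7, 14, 6, 10, 0], [4, 13, 0, 10, 6]]⟩, ⟨3, [6569, 5939, 5920, 5939, 5921], 17, 0, [[], [2, 0]]⟩, ⟨2, [224, 230, 224, 4950, 224, 230, 224, 5896, 5907, 5890, 5907, 5890, 5906, 5890, 5890, 5906, 5924], 15, 2, [[], [8, 15, 4, 15], [8, 7, 11, 4, 2], [8, 11, 4, 8, 2]]⟩, ⟨3, [6573, 5939, 5920, 5939, 5920], 17, 0, [[], [2, 0]]⟩, ⟨2, [230, 4744, 5896, 5906, 5906, 5906, 5891, 5891, 5907, 5890, 5924], 15, 2, [[], [7, 12, 6, 13, 2], [11, 7, 9, 15, 0], [9, 11, 7, 8, 4]]⟩, ⟨3, [6577, 5921, 5938, 5921], 17, 0, [[], [2, 0]]⟩, ⟨2, [5922, 5938, 5920, 6498, 5939, 5921, 5938, 5926, 5907, 5891, 5906, 5891, 5906, 5891, 5913], 10, 1, [[], [12,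 8, 14, 11, 9], [12, 9, 10, 4, 0], [13, 8, 8, 7]]⟩, ⟨3, [6581, 225], 17, 0, [[], [2, 0]]⟩, ⟨2, [5926, 5907, 5907, 5890, 5906, 5891, 5907, 5890, 5913, 225, 231, 6421], 13, 3, [[], [12, 15, 12, 10, 4], [12, 6, 11, 9, 7], [11, 13, 11, 8]]⟩, ⟨3, [6585, 5923, 5920], 17, 0, [[], [2, 0]]⟩, ⟨2, [230, 224, 5956, 5920, 5922, 5939, 5920, 5939, 5926, 5891, 5891, 5907, 5890, 5906, 5891, 6469], 13, 1, [[], [11, 4, 15, 11, 13], [11, 8, 15, 7, 4], [13, 7, 8, 7, 0]]⟩, ⟨3, [6589, 5923, 5920], 17, 0, [[], [2, 0]]⟩, ⟨2, [5920, 5938, 5920, 5939, 5926, 5906, 5891, 5907, 5907, 5907, 5907, 5893, 225, 231, 225, 4849], 15, 1, [[], [15, 11, 2, 14, 6], [13, 10, 12, 15, 2], [10, 7, 9, 9, 4]]⟩, ⟨3, [6593, 225, 231], 17, 0, [[], [2, 0]]⟩, ⟨2, [5920, 5939, 5921, 5938, 5926, 5891, 5907, 5891, 5891, 5907, 5907, 5907, 5891,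 5901, 225, 4381], 15, 1, [[], [14, 9, 7, 13, 0], [7, 13, 15, 15], [12, 10, 15, 15, 4]]⟩, ⟨3, [6597, 225, 231, 225], 17, 0, [[], [2, 0]]⟩, ⟨2, [5938, 5920, 5926, 5907, 5891, 5891, 5906, 5891, 5907, 5888, 88, 69, 119, 653], 15, 3, [[], [11, 13, 9, 12, 10], [14, 6, 12, 10, 7], [4, 15]]⟩, ⟨3, [6601, 225], 17, 0, [[], [2, 0]]⟩, ⟨2, [5921, 5938, 5920, 5939, 5926, 5906, 5891, 5906, 5891, 5891, 5906, 6469, 5920, 5939, 5941], 15, 3, [[], [7, 4, 14, 2], [13, 10, 12, 15, 0], [10, 10, 8, 7]]⟩, ⟨3, [6605, 231, 225], 17, 0, [[], [2, 0]]⟩, ⟨2, [5921, 5938, 5921, 5938, 5926, 5907, 5907, 5890, 5907, 5891, 5906, 5891, 5897, 225, 231, 4721], 15, 3, [[], [7, 15, 13, 14, 14], [13, 11, 12, 14, 12], [11, 11, 15, 13, 4]]⟩, ⟨3, [6609, 225, 231], 17, 0, [[], [2, 0]]⟩, ⟨2, [5922, 5939, 5920, 5938, 5926, 5907, 5907,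 5907, 5907, 5907, 5891, 5906, 5891, 5897, 231, 225, 5437], 15, 3, [[], [10, 12, 7, 4], [12, 8, 4, 11, 0], [9, 10, 13, 15, 2]]⟩, ⟨3, [6613, 5360, 5398, 5359], 17, 0, [[], [2, 0]]⟩, ⟨2, [5357, 5358, 5399, 5360, 5662, 224, 230, 5928, 5938, 5920, 5939, 5923, 6371], 0, 2, [[], [7, 13, 13, 15], [13, 9, 6], [13, 14, 7, 11, 6]]⟩, ⟨2, [224, 4348, 142, 582, 5928], 1, 1, [[], [13, 6, 13, 11, 2], [10, 13, 14, 14, 7], [13, 14, 9, 13, 7]]⟩, ⟨3, [6619, 5921, 5938, 5923, 5921], 17, 0, [[], [2, 0]]⟩, ⟨2, [142, 187, 144, 186, 5768, 5357, 5662, 224, 230, 5928], 1, 1, [[], [9, 9, 6, 0, 10], [6, 4, 12, 7, 2], [8, 11, 13, 2]]⟩, ⟨3, [6623, 5921, 5938, 5923, 5921], 17, 0, [[], [2, 0]]⟩, ⟨2, [230, 224, 802, 142, 187, 144, 582, 5928], 1, 1, [[], [11, 11, 15, 6, 0], [13, 9, 15, 4, 9], [4, 8, 14, 9, 6]]⟩, ⟨3, [6627,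 5921, 5938, 5923, 5921], 17, 0, [[], [2, 0]]⟩, ⟨2, [230, 1924, 570, 5928], 1, 1, [[], [6, 10, 10], [6, 14, 6, 9, 6], [11, 6, 14, 6, 8]]⟩, ⟨3, [6631, 5921, 5938, 5923], 17, 0, [[], [2, 0]]⟩, ⟨2, [224, 230, 538, 5928, 5938, 5920, 5939, 5923, 6371], 1, 1, [[], [15, 9, 4, 11, 4], [14, 12, 12, 2], [9, 13, 11, 7, 4]]⟩, ⟨2, [5921, 5938, 5921, 5938, 6062, 224, 5928, 5920, 5938, 5921, 5939, 6073], 8, 0, [[], [14, 13, 9, 11], [14, 13, 0, 8, 6], [12, 6, 11, 12, 8]]⟩, ⟨3, [6637, 186, 145], 17, 0, [[], [2, 0]]⟩, ⟨2, [5939, 5921, 5938, 6193, 224, 5928, 5938, 5920, 5939, 6083], 10, 2, [[], [7, 13, 14, 4, 2], [15, 7, 11, 4, 0], [13, 7, 10, 2, 15]]⟩, ⟨2, [230, 4553, 224, 3266, 5928], 11, 0, [[], [14, 10, 14, 10, 7], [13, 15, 7, 8, 0], [11, 14, 12, 12, 6]]⟩, ⟨3, [6643, 5921, 5938, 5920], 17, 0, [[], [2,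 0]]⟩, ⟨2, [490, 230, 224, 2570, 230, 5928], 11, 0, [[], [14, 9, 13, 7, 11], [7, 9, 2], [14, 12, 6, 15]]⟩, ⟨3, [6647, 5920, 5938, 5921, 5939], 17, 0, [[], [2, 0]]⟩, ⟨2, [224, 230, 224, 1338, 224, 230, 5218, 5928], 11, 0, [[], [6, 10, 9, 11, 6], [15, 12, 12, 0, 10], [14, 7, 2, 14, 7]]⟩, ⟨3, [6651, 5921, 5938], 17, 0, [[], [2, 0]]⟩, ⟨2, [230, 224, 3764, 230, 4060, 224, 230, 224, 5928], 11, 0, [[], [13, 14, 13, 11], [7, 4, 10, 2], [12, 4, 8, 7, 9]]⟩, ⟨3, [6655, 5920, 5938, 5923], 17, 0, [[], [2, 0]]⟩, ⟨2, [4472, 224, 230, 4640, 224, 230, 5928], 11, 1, [[], [10, 13, 14, 6], [8, 14, 11, 9, 9], [13, 14, 12, 7]]⟩, ⟨3, [6659, 5939, 5920, 5938], 17, 0, [[], [2, 0]]⟩, ⟨2, [3208, 230, 224, 3272, 224, 230, 5928], 14, 3, [[], [8, 6, 10, 9, 2], [4, 13, 13, 10, 0], [9, 6, 10, 14]]⟩, ⟨3, [6663, 5921],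 17, 0, [[], [2, 0]]⟩, ⟨2, [230, 6590, 5920, 5938, 5921, 5938, 6062, 224, 5928], 14, 3, [[], [12, 9, 12, 10, 15], [11, 13, 6, 13, 0], [14, 6, 13, 8, 2]]⟩, ⟨3, [6667, 5939, 5920, 5939, 5921], 17, 0, [[], [2, 0]]⟩, ⟨2, [5938, 5920, 5939, 6232, 224, 230, 224, 612, 230, 5928], 15, 3, [[], [7, 12, 12, 10, 0], [11, 6, 11, 15, 4], [13, 4, 15, 10, 2]]⟩, ⟨2, [5938, 5921, 5938, 5979, 224, 230, 224, 1630, 224, 230, 224, 5928], 15, 3, [[], [10, 13, 10, 8, 0], [15, 11, 6, 14, 2], [8, 15, 7, 11]]⟩, ⟨3, [6673, 5921, 5939, 5923], 17, 0, [[], [2, 0]]⟩, ⟨2, [5928, 5939, 5923, 6371, 5921, 5939, 5920, 5938, 6501], 15, 2, [[], [15, 11, 7, 11], [4, 15, 4, 14, 2], [6, 13, 0, 8, 6]]⟩, ⟨3, [6677, 5939, 5921, 5938, 5920], 17, 0, [[], [2, 0]]⟩, ⟨2, [5939, 5920, 6488, 224, 5928, 5921, 5939, 5923, 6279], 15, 3, [[],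 [11, 6, 8, 4, 8], [8, 4, 0, 8], [4, 8, 14, 8]]⟩, ⟨3, [6681, 225], 17, 0, [[], [2, 0]]⟩, ⟨2, [5398, 5510, 224, 230, 4212, 224, 230, 5928], 15, 0, [[], [4, 10, 12, 9, 0], [10, 13, 7, 8, 0], [9, 13, 11, 14]]⟩, ⟨3, [6685, 5938, 5921, 5939, 5920], 17, 0, [[], [2, 0]]⟩, ⟨2, [5928, 5939, 5921, 5938, 5921, 6317, 231, 225, 6242], 15, 2, [[], [15, 11, 6, 10, 8], [7, 15, 6, 0], [14, 7, 8, 4, 11]]⟩, ⟨3, [6689, 5920, 5938, 5923], 17, 0, [[], [2, 0]]⟩, ⟨2, [145, 187, 145, 1400, 230, 1716, 230, 5928], 15, 0, [[], [12, 4, 10, 9], [7, 8, 8, 7, 2], [15, 12, 10, 4, 0]]⟩, ⟨3, [6693, 5938, 5921, 5938, 5920], 17, 0, [[], [2, 0]]⟩, ⟨2, [230, 4856, 2590, 230, 5928], 15, 1, [[], [10, 9, 13, 10, 0], [6, 10, 10, 8, 7], [14, 14, 12, 11, 7]]⟩, ⟨3, [6697, 5921, 5938, 5921], 17, 0, [[], [2, 0]]⟩, ⟨2, [5921, 5939, 5920,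 5939, 5929, 5407, 5701], 1, 2, [[], [14, 13, 4, 2], [13, 6, 12, 10], [11, 13, 8, 12, 9]]⟩, ⟨3, [6701, 225, 231], 17, 0, [[], [2, 0]]⟩, ⟨2, [5939, 5921, 5938, 5929, 225, 231, 225, 1587, 231, 4573], 1, 2, [[], [6, 9, 6, 0], [6, 10, 6, 13, 8], [14, 6, 10, 14, 0]]⟩, ⟨3, [6705, 225], 17, 0, [[], [2, 0]]⟩, ⟨2, [5922, 5939, 5920, 6062, 5928, 5939, 5921, 5938, 5929], 10, 0, [[], [6, 4, 11, 15, 15], [15, 10, 15, 12, 7], [15, 12, 9, 15, 8]]⟩, ⟨2, [224, 230, 224, 6628, 5920, 5922, 5938, 5929, 225, 231, 225, 6273], 11, 2, [[], [9, 4, 14, 13, 7], [12, 14, 6, 15], [10, 9, 9, 12]]⟩, ⟨3, [6711, 5920, 5939, 5920], 17, 0, [[], [2, 0]]⟩, ⟨2, [5920, 5922, 5939, 5920, 5938, 5929, 969, 231, 865], 13, 0, [[], [12, 10, 15, 15], [15, 15, 6, 13, 8, 0], [9, 12, 15, 11, 2]]⟩, ⟨3, [6715, 225, 231], 17, 0, [[], [2,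 0]]⟩, ⟨2, [5920, 5938, 5920, 5939, 5921, 5929, 3921, 1018], 15, 3, [[], [12, 8, 12, 10], [9, 4, 14, 7, 10], [14, 8, 15, 8, 4]]⟩, ⟨3, [6719, 231], 17, 0, [[], [2, 0]]⟩, ⟨2, [5920, 5922, 5939, 5920, 6538, 5938, 5921, 5939, 5929, 225, 231, 225, 5935], 15, 0, [[], [9, 9, 11, 7, 0], [6, 14, 4, 10, 2], [14, 13, 9, 9, 7]]⟩, ⟨2, [224, 6678, 5920, 5922, 5929, 225, 6627], 15, 0, [[], [8, 11, 0, 9], [7, 13, 15, 9, 7], [14, 13, 7, 13, 0]]⟩, ⟨3, [6725, 5939, 5920, 5939, 5923, 5921], 17, 0, [[], [2, 0]]⟩, ⟨2, [5921, 5938, 5921, 5938, 6666, 224, 5930, 5939, 5920, 5938, 5920, 6025], 0, 3, [[], [13, 10, 13, 4, 8], [8, 12, 12, 10], [15, 13, 8, 14, 0]]⟩, ⟨3, [6729, 225], 17, 0, [[], [2, 0]]⟩, ⟨2, [230, 2294, 224, 230, 3852, 224, 5930], 11, 3, [[], [13, 14, 13, 8, 2], [4, 15, 8, 6, 4], [12, 7, 10, 6, 2]]⟩,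 ⟨3, [6733, 5938, 5921, 5939], 17, 0, [[], [2, 0]]⟩, ⟨2, [5920, 5939, 5921, 6366, 230, 3364, 224, 5930], 13, 2, [[], [7, 8, 8, 10, 0], [6, 12, 12, 9, 6], [11, 6, 12, 15, 4]]⟩, ⟨2, [224, 230, 224, 6226, 5920, 5922, 5939, 5920, 6716, 224, 5930], 13, 2, [[], [9, 13, 8, 7, 0], [9, 14, 10, 12, 0], [8, 15, 11, 7]]⟩, ⟨3, [6739, 5920, 5939, 5923], 17, 0, [[], [2, 0]]⟩, ⟨2, [224, 230, 224, 6172, 5920, 5976, 224, 230, 224, 5930], 13, 2, [[], [11, 15, 11, 8, 6], [13, 8, 7, 4, 2], [10, 9, 9, 6, 0]]⟩, ⟨3, [6743, 5920, 5939], 17, 0, [[], [2, 0]]⟩, ⟨2, [230, 5966, 5920, 5938, 5921, 5939, 5931, 225, 231, 6023], 14, 2, [[], [10, 12, 14, 10, 7], [15, 15, 10, 0], [10, 6, 4, 11]]⟩, ⟨3, [6747, 5920, 5938, 5921], 17, 0, [[], [2, 0]]⟩, ⟨2, [5921, 5939, 5920, 6736, 5921, 5938, 5921, 5931, 3391], 14, 0, [[], [11,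 6, 13, 11, 4], [7, 8, 12, 2, 11], [7, 12, 4, 2]]⟩, ⟨3, [6751, 225], 17, 0, [[], [2, 0]]⟩, ⟨2, [5939, 5920, 5939, 5931, 231, 225, 3881, 3031], 14, 0, [[], [13, 9, 15, 7, 8], [9, 10, 12, 10, 6], [10, 7, 12, 4, 2]]⟩, ⟨3, [6755, 139, 139, 126, 125], 17, 0, [[], [2, 0]]⟩, ⟨2, [5922, 5931, 231, 5491, 5360, 5398, 5398, 5357, 5593], 15, 2, [[], [7, 10, 6, 14, 2], [11, 7, 14, 8, 0], [15, 12, 6, 8]]⟩, ⟨3, [6759, 225], 17, 0, [[], [2, 0]]⟩, ⟨2, [5939, 5931, 225, 231, 225, 5424, 5361, 5357, 5399, 6617], 15, 2, [[], [9, 13, 10, 4, 13], [14, 10, 9, 6, 2], [11, 13, 10, 9, 7]]⟩, ⟨2, [5939, 5921, 5938, 6256, 5932, 5921, 5938, 5923, 5920, 6687], 1, 0, [[], [14, 2, 11, 6, 4], [14, 9, 11, 12, 12], [8, 12, 15, 4, 9]]⟩, ⟨3, [6765, 5360, 5398, 5398, 5356], 17, 0, [[], [2, 0]]⟩, ⟨2, [224, 230, 4464, 224, 3678,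 230, 5932], 3, 3, [[], [4, 15, 8, 14, 4], [7, 12, 10, 10, 2], [6, 13, 7, 8]]⟩, ⟨3, [6769, 5938, 5920], 17, 0, [[], [2, 0]]⟩, ⟨2, [224, 230, 224, 1182, 224, 230, 5932, 5921, 5938, 5921, 6051], 7, 1, [[], [9, 7, 9, 4, 14], [14, 7, 15, 4, 9], [13, 13, 6, 13, 0]]⟩, ⟨3, [6773, 5921], 17, 0, [[], [2, 0]]⟩, ⟨2, [5938, 5920, 6424, 224, 230, 224, 5932, 5938, 5920, 5938, 6131], 11, 0, [[], [13, 13, 15, 11, 0], [9, 4, 2, 11, 7], [6, 11, 13, 0]]⟩, ⟨2, [5920, 5938, 5920, 6346, 230, 2590, 230, 224, 5932], 15, 3, [[], [12, 8, 11, 4, 8], [8, 12, 15, 13, 4], [13, 13, 9, 15, 7, 0]]⟩, ⟨2, [224, 230, 224, 2368, 230, 224, 1796, 224, 230, 224, 5932], 15, 0, [[], [7, 13, 2, 15], [13, 14, 9, 6], [7, 12, 8, 11]]⟩, ⟨3, [6781, 5938, 5921, 5938, 5923], 17, 0, [[], [2, 0]]⟩, ⟨2, [5938, 5920, 5939, 5921, 5934, 231,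 1083, 67, 61, 163], 15, 2, [[], [14, 7, 10, 10, 0], [10, 12, 15, 12, 4], [8, 11, 12, 11, 11]]⟩, ⟨3, [6785, 144, 186], 17, 0, [[], [2, 0]]⟩, ⟨2, [5921, 5922, 5938, 6666, 5940, 5921, 5938, 5923, 5921, 6629], 15, 2, [[], [4, 13, 13, 6, 2], [15, 12, 4, 13], [14, 7, 11, 15, 7, 0]]⟩, ⟨3, [6789, 225], 17, 0, [[], [2, 0]]⟩, ⟨2, [6370, 5942, 6175], 8, 3, [[], [15, 15, 8, 10, 9], [9, 13, 10, 10], [4, 13, 14, 0]]⟩, ⟨2, [187, 142, 145, 186, 5464, 5357, 5358, 5361, 5364, 66, 88, 118, 5944], 15, 1, [[], [6, 11, 4, 10, 2], [4, 13, 8, 13, 8], [11, 6, 13, 10, 0]]⟩, ⟨3, [6795, 5939, 5920, 5939, 5923, 5921], 17, 0, [[], [2, 0]]⟩, ⟨2, [5922, 5938, 5946, 67, 118, 579, 231, 225, 4383], 15, 3, [[], [15, 10, 4, 10, 0], [7, 12, 8, 13, 9], [11, 6, 4, 8]]⟩, ⟨3, [6799, 225, 231], 17, 0, [[], [2, 0]]⟩, ⟨0, [], 0,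 0, []⟩, ⟨3, [6802, 187, 187, 144, 186, 144, 6803], 17, 0, [[], [14, 4, 10, 14]]⟩, ⟨3, [6802, 186, 145, 186, 142, 187, 145, 187, 145, 6803], 17, 0, [[], [11, 14, 13, 7, 8, 2]]⟩, ⟨2, [6804, 6802, 186, 144, 175, 97], 0, 1, [[], [13, 8, 12, 6], [12, 15, 12, 14, 6, 0], [13, 13, 6, 10, 0]]⟩, ⟨3, [6809, 88, 69, 61], 17, 0, [[], [2, 0]]⟩, ⟨2, [6805, 6802, 145, 187, 179, 112], 0, 1, [[], [8, 6, 9, 11, 2], [13, 6, 14, 7], [7, 11, 7, 12, 8]]⟩, ⟨3, [6813, 89, 118, 67], 17, 0, [[], [2, 0]]⟩, ⟨2, [6804, 6802, 186, 140, 25, 27, 25, 23, 25, 17, 59], 0, 1, [[], [12, 4, 14, 13], [4, 13, 7, 10, 14], [14, 14, 13, 10]]⟩, ⟨3, [6817, 67, 61], 17, 0, [[], [2, 0]]⟩, ⟨2, [6802, 179, 69, 65, 181], 0, 2, [[], [12, 9, 6, 11, 6], [11, 15, 6, 9, 7], [7, 14, 10, 6, 9]]⟩, ⟨3, [6821, 186, 143], 17, 0, [[], [2, 0]]⟩, ⟨2,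 [6818, 66, 6816, 6804, 6802], 0, 0, [[], [7, 13, 8, 6, 4], [10, 4, 13, 13, 8], [14, 10, 13, 11, 0]]⟩, ⟨3, [6825, 186, 144], 17, 0, [[], [2, 0]]⟩, ⟨2, [6804, 6802, 186, 144, 161, 67, 118, 163], 0, 2, [[], [15, 8, 7, 13, 8], [14, 14, 10, 8], [6, 13, 4, 12, 10]]⟩, ⟨2, [6805, 6802, 145, 187, 140, 27, 25, 23, 21, 25, 27, 18, 223], 1, 1, [[], [15, 6, 10], [6, 15, 7, 12, 2], [10, 12, 14, 4, 8]]⟩, ⟨3, [6831, 225, 231], 17, 0, [[], [2, 0]]⟩, ⟨2, [6806, 6802, 145, 187, 175, 118, 63, 1105], 1, 1, [[], [14, 4, 13, 6, 4], [15, 7, 12, 7, 2], [8, 13, 10, 6, 0]]⟩, ⟨3, [6835, 225, 231], 17, 0, [[], [2, 0]]⟩, ⟨2, [6805, 6802, 186, 144, 175, 88, 69, 1431], 1, 1, [[], [9, 15, 10, 9, 7], [4, 8, 8, 13], [14, 8, 11, 4, 8]]⟩, ⟨3, [6839, 225, 231], 17, 0, [[], [2, 0]]⟩, ⟨2, [6805, 6802, 186, 144, 179, 118, 88,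 61, 685], 1, 1, [[], [12, 8, 4, 9, 4], [12, 4, 14, 7, 4], [4, 12, 11, 14, 2]]⟩, ⟨3, [6843, 231], 17, 0, [[], [2, 0]]⟩, ⟨2, [6806, 6802, 6827, 6831], 1, 1, [[], [10, 9, 12, 15], [13, 11, 14, 11], [13, 10, 12, 11, 6]]⟩, ⟨3, [6847, 225], 17, 0, [[], [2, 0]]⟩, ⟨2, [6805, 6806, 6802, 186, 140, 23, 19, 21, 19, 141], 1, 1, [[], [7, 9, 12, 11, 2], [8, 11, 11, 12, 0], [8, 4, 13, 4, 0]]⟩, ⟨3, [6851, 145], 17, 0, [[], [2, 0]]⟩, ⟨2, [6804, 6802, 186, 140, 27, 25, 21, 25, 23, 141], 1, 1, [[], [10, 8, 7, 11], [14, 10, 10, 9, 2], [10, 9, 7, 9, 7]]⟩, ⟨2, [6805, 6806, 6802, 145, 187, 175, 89, 118, 89, 749], 1, 1, [[], [9, 14, 12, 4, 0], [10, 13, 9, 4, 13], [12, 11, 12, 2]]⟩, ⟨3, [6857, 225, 231], 17, 0, [[], [2, 0]]⟩, ⟨2, [6806, 6802, 140, 23, 25, 18, 27, 23, 25, 21, 18, 141], 1, 1, [[], [9, 7, 11, 6,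 0], [4, 10, 8, 13], [12, 14, 10, 9, 7]]⟩, ⟨3, [6861, 143, 186], 17, 0, [[], [2, 0]]⟩, ⟨2, [6804, 6802, 186, 143, 6823, 6807, 6805, 6843], 1, 1, [[], [11, 7, 10, 13], [13, 7, 15, 12, 4], [12, 6, 13, 6, 4]]⟩, ⟨3, [6865, 225], 17, 0, [[], [2, 0]]⟩, ⟨2, [6806, 6802, 145, 187, 179, 89, 69, 118, 61, 1561], 1, 1, [[], [14, 8, 10, 8], [11, 15, 6, 9], [8, 11, 8, 14, 9]]⟩, ⟨3, [6869, 231, 225], 17, 0, [[], [2, 0]]⟩, ⟨2, [6802, 145, 187, 179, 89, 119, 89, 61, 4867], 1, 1, [[], [14, 12, 15, 9, 4], [12, 4, 9, 9, 0], [6, 11, 4, 8, 8]]⟩, ⟨3, [6873, 225, 231], 17, 0, [[], [2, 0]]⟩, ⟨2, [6802, 186, 144, 161, 88, 119, 65, 789], 1, 1, [[], [9, 13, 15, 7, 0], [7, 13, 4, 13], [6, 12, 9, 7, 0]]⟩, ⟨2, [6804, 6806, 6802, 186, 144, 179, 69, 67, 65, 4867], 1, 1, [[], [4, 10, 6, 9, 6, 4], [9, 4, 13, 11], [4, 13,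 14, 8]]⟩, ⟨3, [6879, 231], 17, 0, [[], [2, 0]]⟩, ⟨3, [6880, 224, 230, 231, 6881], 17, 0, [[], [12, 11, 9, 7, 0]]⟩, ⟨2, [6804, 6882, 6805, 6806, 6882, 6802, 186, 140, 23, 223], 1, 1, [[], [7, 4, 14, 12], [10, 4, 15, 6, 4], [15, 4, 8, 0]]⟩, ⟨3, [6885, 231, 225], 17, 0, [[], [2, 0]]⟩, ⟨2, [6882, 6806, 6882, 6805, 6802, 186, 144, 175, 119, 89, 69, 61, 1105], 1, 1, [[], [13, 15, 10, 6, 0], [10, 13, 6, 8, 2], [14, 8, 13, 6, 0]]⟩, ⟨3, [6889, 231, 225], 17, 0, [[], [2, 0]]⟩, ⟨2, [6805, 6802, 145, 187, 144, 6823, 6807, 6805, 6869], 1, 1, [[], [8, 13, 6, 8, 2], [8, 15, 6, 8, 10], [6, 14, 6, 10, 7]]⟩, ⟨3, [6893, 225], 17, 0, [[], [2, 0]]⟩, ⟨2, [6804, 6882, 6804, 6802, 186, 140, 27, 25, 18, 21, 25, 23, 18, 223], 1, 1, [[], [15, 4, 2, 11, 13], [11, 12], [4, 12, 7, 10, 2]]⟩, ⟨2, [6804, 6882, 6804,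 6882, 6804, 6802, 179, 69, 67, 63, 61, 789], 1, 1, [[], [13, 6, 8, 14, 11], [6, 8, 14, 10], [15, 15, 6, 13]]⟩, ⟨2, [6882, 6805, 6882, 6805, 6802, 161, 119, 88, 65, 1561], 1, 1, [[], [9, 4, 13, 11, 6], [15, 11, 13, 10, 0], [15, 0]]⟩, ⟨3, [6901, 225, 231, 225], 17, 0, [[], [2, 0]]⟩, ⟨2, [6804, 6882, 6805, 6882, 6804, 6802, 186, 144, 6827, 6855], 1, 1, [[], [4, 12, 10, 8], [14, 14, 10, 4, 9], [4, 12, 4, 0, 8]]⟩, ⟨3, [6905, 145, 143], 17, 0, [[], [2, 0]]⟩, ⟨2, [6804, 6882, 6804, 6882, 6804, 6806, 6802, 175, 119, 88, 65, 3983], 1, 1, [[], [12, 11, 12, 9], [8, 14, 10, 6], [7, 13, 7, 13, 2]]⟩, ⟨2, [6804, 6882, 6804, 6806, 6802, 144, 6823, 6883, 6807, 6805, 6857], 1, 1, [[], [11, 11, 12, 10, 15], [10, 8, 13, 6, 2], [11, 12, 6, 4]]⟩, ⟨3, [6911, 231, 225], 17, 0, [[], [2, 0]]⟩, ⟨2, [6805, 6882,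 6805, 6882, 6805, 6802, 175, 119, 88, 65, 579], 1, 1, [[], [9, 7, 9, 4], [8, 12, 4, 8, 6], [12, 14, 14, 6]]⟩, ⟨2, [6805, 6806, 6802, 186, 144, 175, 63, 118, 2123], 1, 1, [[], [9, 13, 14, 11, 0], [7, 9, 13, 9, 2], [13, 9, 13, 13, 0]]⟩, ⟨3, [6917, 225, 231, 225], 17, 0, [[], [2, 0]]⟩, ⟨2, [6804, 6882, 6804, 6882, 6804, 6858, 230, 224, 6834, 6805, 6882, 6802], 1, 3, [[], [11, 11, 7, 14, 2], [11, 12, 0, 9], [11, 13, 10, 8, 8]]⟩, ⟨3, [6921, 145, 187], 17, 0, [[], [2, 0]]⟩, ⟨2, [6805, 6806, 6882, 6806, 6802, 144, 187, 629, 225, 231, 386], 1, 2, [[], [8, 6, 8, 8, 4], [4, 15, 15, 4], [13, 15, 2, 11]]⟩, ⟨3, [6925, 187, 144, 186], 17, 0, [[], [2, 0]]⟩, ⟨2, [6804, 6806, 6882, 6805, 6806, 6802, 145, 187, 145, 143, 4177, 231, 225, 3071], 1, 2, [[], [12, 10, 13, 13, 9], [9, 14, 10, 15], [10, 9, 7,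 12, 0]]⟩, ⟨3, [6929, 225], 17, 0, [[], [2, 0]]⟩, ⟨2, [6804, 6806, 6882, 6805, 6806, 6802, 144, 187, 144, 199, 144, 186, 773], 1, 2, [[], [9, 4, 14, 7, 4], [9, 15, 13, 2], [9, 6, 9, 14, 8]]⟩, ⟨3, [6933, 225], 17, 0, [[], [2, 0]]⟩, ⟨2, [6882, 6806, 6882, 6802, 144, 186, 144, 3333, 225, 231, 225, 3191], 1, 2, [[], [6, 13, 0, 9, 4], [9, 13, 10, 0], [9, 4, 9, 0]]⟩, ⟨2, [6804, 6802, 145, 186, 4625, 231, 285], 1, 3, [[], [12, 10, 4, 12, 2], [10, 14, 7, 8], [14, 14, 8, 4]]⟩, ⟨3, [6939, 43, 37, 51, 39], 17, 0, [[], [2, 0]]⟩, ⟨2, [60, 66, 6816, 6805, 6802, 145, 187, 145, 6907], 1, 0, [[], [6, 10, 4, 9], [9, 15, 7, 4, 0], [10, 6, 13, 7, 2]]⟩, ⟨3, [6943, 6883, 6804, 6883, 6805], 17, 0, [[], [2, 0]]⟩, ⟨2, [6882, 6940, 37, 51, 36, 40, 50, 6938, 6805, 6802], 1, 1, [[], [9, 6, 14, 7, 8], [8, 14, 12,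 10, 6], [9, 13, 6, 8, 6]]⟩, ⟨3, [6947, 186, 144], 17, 0, [[], [2, 0]]⟩, ⟨2, [6804, 6882, 6804, 6882, 6804, 6802, 419, 403], 3, 1, [[], [10, 10, 12, 12], [13, 4, 14, 7], [15, 6, 15, 7]]⟩, ⟨2, [6805, 6802, 145, 187, 262, 399], 3, 1, [[], [12, 6, 2, 14], [4, 14, 6, 11], [10, 13, 8, 11, 9, 0]]⟩, ⟨2, [6805, 6802, 145, 187, 5458, 5361, 5399, 5449], 3, 1, [[], [15, 11, 9, 7], [10, 14, 9, 14, 8], [10, 8, 4, 11]]⟩, ⟨3, [6955, 139, 126], 17, 0, [[], [2, 0]]⟩, ⟨2, [6804, 6882, 6804, 6882, 6802, 186, 143, 699, 231, 399], 3, 1, [[], [4, 10, 4, 14, 0], [7, 9, 4, 9, 4], [8, 12, 4, 0, 10]]⟩, ⟨2, [6804, 6882, 6804, 6882, 6804, 6802, 5464, 5360, 5399, 5449], 3, 1, [[], [8, 15, 7, 2], [6, 10, 4, 9], [12, 14, 9, 9, 4]]⟩, ⟨3, [6961, 139, 126], 17, 0, [[], [2, 0]]⟩, ⟨2, [6804, 6802, 186, 144, 242, 398], 3,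 1, [[], [7, 10, 2, 15, 4], [11, 14, 14, 10], [8, 11, 15, 8]]⟩, ⟨2, [6805, 6802, 145, 187, 153, 127, 5451], 3, 1, [[], [4, 15, 8, 15, 9], [10, 4, 9, 12, 7], [9, 14, 7, 9, 6, 0]]⟩, ⟨3, [6967, 5357], 17, 0, [[], [2, 0]]⟩, ⟨2, [6804, 6882, 6804, 6882, 6802, 186, 143, 705, 403], 3, 1, [[], [13, 10, 7, 14], [13, 9, 9, 4], [8, 13, 6, 10]]⟩, ⟨2, [6805, 6802, 145, 187, 264, 403], 3, 1, [[], [15, 10, 10, 10, 2], [6, 11, 12, 11, 6], [10, 14, 13]]⟩, ⟨2, [6805, 6802, 145, 187, 790, 398], 3, 1, [[], [6, 12, 9, 13, 11], [4, 8, 4, 11], [14, 14, 7, 11]]⟩, ⟨2, [6802, 257, 403], 3, 2, [[], [4, 13, 4, 14, 2], [12, 6, 12, 15, 0], [12, 6, 10, 8, 12]]⟩, ⟨2, [6804, 6882, 6804, 6882, 6804, 6802, 252, 399], 3, 3, [[], [15, 11, 14, 4, 8], [9, 11, 14, 6, 0], [7, 14, 7, 15, 0]]⟩, ⟨3, [6979, 231, 225], 17, 0, [[],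 [2, 0]]⟩, ⟨2, [6805, 6802, 145, 187, 165], 4, 1, [[], [12, 14, 9, 4], [11, 15, 13, 6, 8]]⟩, ⟨3, [6983, 144, 186, 144], 17, 0, [[], [2, 0]]⟩, ⟨2, [6805, 6802, 145, 187, 6985], 5, 1, [[], [15, 13, 10, 14], [9, 14, 7, 11]]⟩, ⟨2, [6805, 6802, 145, 187, 183], 6, 2, [[], [8, 10, 9, 0, 10], [9, 10, 15, 10, 6]]⟩, ⟨3, [6989, 187, 144], 17, 0, [[], [2, 0]]⟩, ⟨2, [6804, 6882, 6804, 6882, 6804, 6802, 5458], 6, 0, [[], [12, 4, 14, 0], [6, 13, 15, 6, 0]]⟩, ⟨3, [6993, 5361, 5399, 5357], 17, 0, [[], [2, 0]]⟩, ⟨2, [6804, 6882, 6804, 6882, 6804, 6802, 151], 6, 0, [[], [11, 9, 9, 14, 8], [9, 13, 9, 13]]⟩, ⟨3, [6997, 186, 143], 17, 0, [[], [2, 0]]⟩, ⟨2, [6805, 6802, 145, 187, 175, 118, 63, 61, 163], 8, 2, [[], [15, 9, 14, 8, 10], [14, 8, 13, 8], [8, 8, 10, 15, 2]]⟩, ⟨2, [6805, 6802, 145, 187, 175, 118, 69,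 63, 6815], 8, 2, [[], [13, 15, 4], [6, 11, 15, 7, 11], [8, 12, 10, 7, 0]]⟩, ⟨2, [6804, 6882, 6804, 6882, 6804, 6818, 66, 89, 6808, 6804, 6802], 8, 1, [[], [13, 14, 14, 8], [15, 15, 12, 15, 2], [13, 14, 7, 0]]⟩, ⟨3, [7005, 145, 187, 144], 17, 0, [[], [2, 0]]⟩, ⟨2, [6950, 6804, 6806, 6882, 6806, 6882, 6802, 186, 144, 6828], 8, 1, [[], [10, 7, 9, 4, 0], [12, 7, 12, 10], [11, 11, 4, 11, 2]]⟩, ⟨2, [6804, 6802, 144, 281, 241], 9, 1, [[], [13, 9, 7, 9, 6], [4, 14, 6, 12, 4], [10, 12, 14, 11, 4, 0]]⟩, ⟨2, [6804, 6806, 6882, 6806, 6882, 6802, 144, 6991, 6955], 9, 1, [[], [14, 8, 11, 4], [7, 14, 8, 13, 11], [10, 15, 8, 14, 7]]⟩, ⟨3, [7013, 125], 17, 0, [[], [2, 0]]⟩, ⟨2, [6804, 6802, 186, 144, 171, 187, 144, 5457], 9, 1, [[], [12, 10, 14, 11, 8], [15, 8, 8], [6, 9, 4, 8, 8]]⟩, ⟨3, [7017, 5398,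 5398], 17, 0, [[], [2, 0]]⟩, ⟨2, [6804, 6806, 6882, 6806, 6882, 6802, 186, 144, 173, 146], 9, 1, [[], [15, 7, 11, 0], [6, 9, 9, 6], [6, 14, 8, 7]]⟩, ⟨2, [6805, 6802, 145, 187, 429, 225, 231, 412], 9, 1, [[], [4, 12, 12, 15, 2], [13, 6, 9, 9, 0], [14, 7, 15, 11, 0]]⟩, ⟨2, [6804, 6882, 6804, 6882, 6804, 6802, 7000, 7003], 9, 1, [[], [4, 15, 13, 7, 2], [13, 10, 13, 13, 11], [10, 9, 14, 7]]⟩, ⟨3, [7025, 6805, 6883, 6805, 6883, 6805], 17, 0, [[], [2, 0]]⟩, ⟨2, [6804, 6882, 6804, 6882, 6804, 6802, 433, 681], 9, 1, [[], [6, 9, 9, 6, 4], [12, 6, 15, 4, 0], [13, 14, 8, 11, 0]]⟩, ⟨3, [7029, 231], 17, 0, [[], [2, 0]]⟩, ⟨2, [6804, 6882, 6804, 6882, 6802, 145, 187, 387, 383], 9, 1, [[], [12, 9, 4, 11], [10, 4, 14, 10], [10, 4, 10, 9, 7]]⟩, ⟨2, [6804, 6802, 186, 144, 409, 225, 231, 673], 9, 1, [[],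 [9, 9, 6, 13, 7], [11, 13, 11, 8, 6], [10, 14, 11, 4, 2]]⟩, ⟨3, [7035, 231], 17, 0, [[], [2, 0]]⟩, ⟨2, [6804, 6802, 186, 144, 288, 401], 9, 1, [[], [13, 8, 11, 13, 7], [14, 8, 13, 2, 11], [10, 10, 14, 2]]⟩, ⟨3, [7039, 231], 17, 0, [[], [2, 0]]⟩, ⟨2, [6802, 185, 252], 9, 1, [[], [15, 8, 4, 9], [7, 8, 12, 11], [7, 14, 13]]⟩, ⟨2, [6805, 6802, 145, 187, 240, 293], 9, 1, [[], [11, 8, 8, 10, 7], [12, 8, 4, 9], [7, 4, 11, 6, 0]]⟩, ⟨2, [6805, 6802, 145, 187, 167, 127, 232], 9, 1, [[], [8, 10, 9, 15, 8], [15, 15, 12, 14, 2], [8, 14, 0]]⟩, ⟨2, [6804, 6802, 186, 236, 225, 231, 5474], 9, 1, [[], [10, 12, 14, 10], [4, 10, 12, 14, 0], [8, 13, 7, 4, 2]]⟩, ⟨2, [6802, 6828, 6965], 9, 0, [[], [2, 15, 13, 6, 4], [6, 14, 14, 4, 2], [12, 15, 10, 8, 0]]⟩, ⟨2, [6802, 6827, 6883, 6805, 6883, 6805, 6879], 9,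 0, [[], [14, 6, 10, 12], [14, 13, 8, 11, 2], [15, 4, 14, 6, 2]]⟩, ⟨3, [7053, 231], 17, 0, [[], [2, 0]]⟩, ⟨2, [6804, 6882, 6804, 6882, 6802, 144, 6823, 7003], 9, 0, [[], [13, 11, 11, 11, 4], [6, 12, 10, 8], [9, 15, 6, 12, 0]]⟩, ⟨2, [6804, 6806, 6882, 6806, 6882, 6802, 186, 144, 179, 65, 425], 9, 0, [[], [14, 4, 13, 7], [9, 12, 9, 15], [11, 15, 9, 6, 9]]⟩, ⟨2, [6802, 6828, 6989], 9, 0, [[], [8, 10, 10, 2], [9, 11, 7, 12, 0], [12, 7, 13, 4, 2]]⟩, ⟨3, [7061, 144], 17, 0, [[], [2, 0]]⟩, ⟨2, [6802, 242, 255], 10, 1, [[], [8, 13, 11, 4, 0], [9, 13, 7, 8], [6, 12, 8, 11, 6]]⟩, ⟨3, [7065, 144], 17, 0, [[], [2, 0]]⟩, ⟨2, [6804, 6802, 145, 187, 144, 7007, 6804, 6883, 6804, 6883, 6804, 6973], 10, 1, [[], [7, 12, 15, 13], [13, 13, 7, 2], [15, 9, 7, 0]]⟩, ⟨2, [230, 224, 6830, 6805, 6806, 6802, 144,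 186, 6991], 11, 2, [[], [15, 11, 8, 6], [12, 10, 8, 12, 7], [9, 12, 15, 0]]⟩, ⟨3, [7071, 6807, 6883, 6804], 17, 0, [[], [2, 0]]⟩, ⟨2, [6804, 6882, 6806, 6882, 6802, 145, 187, 145, 2773, 225, 1837], 11, 1, [[], [10, 13, 6, 12], [4, 15, 11, 15, 7], [8, 11, 14]]⟩, ⟨3, [7075, 231, 225], 17, 0, [[], [2, 0]]⟩, ⟨2, [6806, 6882, 6804, 6806, 6802, 186, 144, 3091, 231, 225, 3369], 11, 1, [[], [15, 12, 6, 15, 4], [14, 10, 15, 11], [10, 4, 15, 11, 6]]⟩, ⟨3, [7079, 225, 231], 17, 0, [[], [2, 0]]⟩, ⟨2, [124, 134, 139, 215, 6954, 6882, 6805, 6802, 144, 187, 6999], 11, 2, [[], [14, 11, 0, 9], [10, 14, 4, 12], [11, 8, 8, 10, 7]]⟩, ⟨3, [7083, 6807, 6805], 17, 0, [[], [2, 0]]⟩, ⟨2, [6804, 6806, 6882, 6805, 6882, 6802, 144, 2029, 225, 4896], 11, 1, [[], [12, 7, 14, 14, 2], [15, 10, 7, 11, 6], [4, 10, 13,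 0, 8]]⟩, ⟨3, [7087, 231, 225], 17, 0, [[], [2, 0]]⟩, ⟨2, [6882, 6804, 6806, 6882, 6802, 145, 187, 144, 143, 1101, 231, 1483], 11, 1, [[], [13, 4, 9, 9], [7, 10, 14, 10, 10], [15, 7, 9, 4]]⟩, ⟨3, [7091, 225, 231, 225], 17, 0, [[], [2, 0]]⟩, ⟨2, [6882, 6804, 6975, 230, 6876, 6804, 6806, 6802], 11, 3, [[], [8, 4, 9, 14, 0], [9, 14, 13, 0], [11, 11, 9, 9, 2]]⟩, ⟨3, [7095, 186, 143], 17, 0, [[], [2, 0]]⟩, ⟨2, [6805, 6882, 6804, 6882, 6806, 6802, 145, 1293, 231, 225, 3187], 11, 1, [[], [10, 14, 9, 14], [9, 12, 11, 9, 2], [11, 13, 7, 13, 0]]⟩, ⟨3, [7099, 225, 231], 17, 0, [[], [2, 0]]⟩, ⟨2, [6805, 6806, 6882, 6804, 6882, 6802, 145, 143, 3749, 225, 231, 225, 3107], 11, 1, [[], [7, 2, 11, 4, 12], [13, 7, 15, 7, 9], [10, 14, 8, 10, 2]]⟩, ⟨2, [6882, 6805, 6806, 6802, 186, 145, 4177, 225, 231, 919],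 11, 1, [[], [14, 6, 10, 10, 4], [15, 7, 11, 8, 2], [6, 12, 6, 15]]⟩, ⟨3, [7105, 144, 186], 17, 0, [[], [2, 0]]⟩, ⟨2, [6805, 6882, 6802, 145, 186, 144, 143, 2159, 5039], 11, 1, [[], [13, 9, 9, 15], [14, 9, 11, 12, 8], [9, 9, 6, 11, 2]]⟩, ⟨3, [7109, 225], 17, 0, [[], [2, 0]]⟩, ⟨2, [6804, 6882, 6805, 6802, 186, 144, 187, 1189, 3947], 11, 2, [[], [13, 4, 14, 4, 2], [14, 4, 11, 13], [6, 14, 8, 4]]⟩, ⟨3, [7113, 231, 225], 17, 0, [[], [2, 0]]⟩, ⟨2, [6806, 6882, 6998, 187, 145, 6854, 6882, 6805, 6882, 6802], 11, 0, [[], [13, 8, 7, 13, 15], [6, 8, 12, 11], [11, 9, 11, 9, 0]]⟩, ⟨3, [7117, 145, 187, 145, 143], 17, 0, [[], [2, 0]]⟩, ⟨2, [6806, 6882, 6804, 6802, 144, 186, 143, 3749, 225, 231, 225, 1794], 11, 0, [[], [12, 10, 7, 4], [6, 8, 10, 8, 10], [12, 14, 8, 7]]⟩, ⟨3, [7121, 145, 186, 145], 17,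 0, [[], [2, 0]]⟩, ⟨2, [6802, 145, 143, 1707, 231, 225, 1011], 11, 0, [[], [6, 11, 15, 11, 8], [10, 9, 9, 12, 6], [11, 7, 10, 15, 2]]⟩, ⟨2, [6805, 6802, 145, 187, 140, 23, 25, 27, 23, 25, 17, 59], 13, 3, [[], [7, 14, 7, 4, 0], [4, 14, 9, 0], [13, 7, 15, 13, 4]]⟩, ⟨3, [7127, 119, 61, 118], 17, 0, [[], [2, 0]]⟩, ⟨2, [6882, 6804, 6882, 6802, 6827, 6883, 6805, 6897], 13, 3, [[], [8, 7, 11, 2], [15, 4, 8, 12, 6], [4, 13, 9, 15, 6]]⟩, ⟨3, [7131, 225, 231, 225], 17, 0, [[], [2, 0]]⟩, ⟨2, [6804, 6882, 6804, 6882, 6804, 6806, 6802, 144, 187, 144, 1293, 231, 225, 2813], 13, 0, [[], [10, 12, 15, 4, 0], [12, 8, 10, 9, 6, 0], [4, 10]]⟩, ⟨2, [6805, 6882, 6802, 145, 187, 144, 199, 186, 144, 187, 2457], 13, 0, [[], [7, 10, 10, 15, 10], [12, 4, 12, 11, 6], [10, 10, 6, 9, 13]]⟩, ⟨3, [7137, 225], 17, 0,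 [[], [2, 0]]⟩, ⟨2, [6804, 6882, 6805, 6806, 6971, 230, 6846, 6804, 6802], 13, 2, [[], [9, 6, 9, 12, 2], [10, 7, 11], [11, 8, 15, 4, 10]]⟩, ⟨3, [7141, 143, 186], 17, 0, [[], [2, 0]]⟩, ⟨2, [6804, 6806, 6802, 144, 5835, 5398, 5759], 15, 1, [[], [4, 15, 9, 4, 8], [4, 14, 14, 10, 6], [7, 8, 14, 8, 4]]⟩, ⟨3, [7145, 187, 144, 143], 17, 0, [[], [2, 0]]⟩, ⟨2, [6805, 6882, 6802, 186, 145, 3011, 231, 2197], 15, 1, [[], [14, 10, 4, 13, 10], [8, 6, 14, 11, 0], [11, 4, 8, 14]]⟩, ⟨3, [7149, 225, 231], 17, 0, [[], [2, 0]]⟩, ⟨2, [6805, 6882, 6805, 6882, 6804, 6802, 186, 2773, 225, 231, 3255], 15, 1, [[], [10, 14, 14, 2], [13, 11, 9, 11, 6], [6, 8, 4, 12, 0]]⟩, ⟨3, [7153, 225], 17, 0, [[], [2, 0]]⟩, ⟨2, [6804, 6882, 6804, 6882, 6802, 145, 187, 145, 1293, 225, 231, 6651], 15, 1, [[], [15, 11, 8, 15, 0],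 [6, 11, 14, 8, 4], [11, 9, 6, 15, 7]]⟩, ⟨3, [7157, 5938, 5921, 5938], 17, 0, [[], [2, 0]]⟩, ⟨2, [6805, 6806, 6882, 6802, 187, 145, 186, 143, 1925, 225, 231, 2443], 15, 1, [[], [13, 14, 9, 11, 12], [11, 9, 11, 6], [11, 15, 7, 9, 2]]⟩, ⟨3, [7161, 231], 17, 0, [[], [2, 0]]⟩, ⟨2, [6882, 6806, 6882, 6805, 6802, 145, 187, 143, 1279, 225, 231, 1467], 15, 1, [[], [10, 8, 4, 8], [13, 15, 6, 11, 7], [12, 10, 13, 13, 15]]⟩, ⟨3, [7165, 225, 231], 17, 0, [[], [2, 0]]⟩, ⟨2, [6805, 6806, 6882, 6804, 6882, 6802, 186, 145, 7123, 6883, 6805, 6883, 6807, 6804, 6839], 15, 1, [[], [4, 12, 11, 13, 9], [6, 9, 9, 14, 0], [10, 10, 8, 11, 4]]⟩, ⟨3, [7169, 231], 17, 0, [[], [2, 0]]⟩, ⟨2, [6804, 6806, 6802, 186, 144, 6949, 6807, 6805, 6883, 6804, 6975], 15, 1, [[], [8, 6, 9, 11], [9, 15, 9, 14], [7, 14, 13, 9, 7,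 0]]⟩, ⟨2, [6804, 6882, 6802, 144, 186, 1065, 225, 1639], 15, 1, [[], [12, 9, 15, 15], [15, 12, 12, 10, 7, 0], [12, 12, 6, 0]]⟩, ⟨2, [6804, 6806, 6882, 6805, 6806, 6802, 186, 144, 143, 6949, 6807, 6805, 6883, 6805, 7121], 15, 1, [[], [8, 6, 12, 2, 15], [9, 14, 11, 12, 12], [9, 12, 14, 11]]⟩, ⟨3, [7177, 145, 186, 145], 17, 0, [[], [2, 0]]⟩, ⟨2, [6804, 6882, 6805, 6806, 6802, 145, 187, 144, 381, 231, 689], 15, 1, [[], [7, 13, 4, 8, 0], [7, 13, 10, 0], [15, 6, 12, 0]]⟩, ⟨3, [7181, 225, 231], 17, 0, [[], [2, 0]]⟩, ⟨2, [6882, 6806, 6882, 6802, 143, 186, 709, 2347], 15, 1, [[], [13, 11, 11, 15, 9], [6, 8, 10, 10], [14, 13, 9, 14]]⟩, ⟨3, [7185, 225, 231, 225], 17, 0, [[], [2, 0]]⟩, ⟨2, [6882, 6805, 6806, 6802, 186, 145, 187, 629, 225, 231, 4323], 15, 1, [[], [8, 8, 4, 14, 2], [7, 8, 0, 10], [12,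 9, 7, 14, 0]]⟩, ⟨3, [7189, 231, 225], 17, 0, [[], [2, 0]]⟩, ⟨2, [6882, 6806, 6882, 6805, 6802, 144, 3011, 225, 3191], 15, 1, [[], [12, 4, 9, 15, 6], [13, 14, 9], [10, 15, 12, 4]]⟩, ⟨3, [7193, 225], 17, 0, [[], [2, 0]]⟩, ⟨2, [224, 230, 224, 7078, 6804, 6802, 186, 6907], 15, 2, [[], [10, 9, 11, 15, 12, 0], [12, 4, 12, 2, 0], [6, 12, 11, 13]]⟩, ⟨3, [7197, 6883, 6807, 6883, 6807], 17, 0, [[], [2, 0]]⟩, ⟨2, [6804, 6882, 6804, 6882, 6802, 186, 145, 207, 187, 145, 143, 1605], 15, 1, [[], [14, 14, 7, 14, 8], [11, 15, 11, 13, 9], [13, 4, 11]]⟩, ⟨3, [7201, 231, 225], 17, 0, [[], [2, 0]]⟩, ⟨2, [6804, 6806, 6882, 6804, 6802, 186, 144, 3091, 231, 397], 15, 1, [[], [15, 7, 11, 13, 15], [11, 4, 15, 8, 0], [6, 13, 9, 0]]⟩, ⟨3, [7205, 225, 231, 225], 17, 0, [[], [2, 0]]⟩, ⟨2, [6804, 6882, 6802, 145, 381,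 225, 231, 5143], 15, 1, [[], [6, 12, 9, 10, 0], [10, 6, 8, 6, 8], [14, 6, 11, 9, 13]]⟩, ⟨3, [7209, 231, 225], 17, 0, [[], [2, 0]]⟩, ⟨2, [6804, 6806, 6802, 145, 143, 3011, 225, 1489], 15, 3, [[], [9, 6, 15, 2], [8, 13, 8, 6, 2], [4, 8, 10, 15, 9]]⟩, ⟨3, [7213, 144], 17, 0, [[], [2, 0]]⟩, ⟨2, [6806, 6882, 6805, 6802, 143, 186, 703, 231, 3687], 15, 3, [[], [10, 8, 11, 4, 9, 0], [15, 15, 7, 2], [9, 15, 8, 8, 7]]⟩, ⟨3, [7217, 225, 231, 225], 17, 0, [[], [2, 0]]⟩, ⟨2, [6804, 6806, 6882, 6805, 6882, 6802, 144, 186, 144, 143, 637, 5303], 15, 3, [[], [6, 12, 8, 7], [14, 10, 13, 8, 13], [14, 6, 12, 9, 9, 0]]⟩, ⟨3, [7221, 231], 17, 0, [[], [2, 0]]⟩, ⟨2, [224, 230, 224, 7208, 6805, 6806, 6882, 6806, 6882, 6802, 145, 187, 7097], 15, 0, [[], [6, 12, 6, 2], [6, 10, 0, 10, 13], [10, 9, 15, 9, 0]]⟩, ⟨3,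 [7225, 6807, 6804, 6883, 6805], 17, 0, [[], [2, 0]]⟩, ⟨2, [6806, 6882, 6804, 6802, 186, 143, 187, 144, 1433, 4428], 15, 3, [[], [13, 14, 7, 10, 2], [15, 4, 9, 7, 0], [4, 12, 0, 10, 4]]⟩, ⟨3, [7229, 231, 225], 17, 0, [[], [2, 0]]⟩, ⟨2, [6882, 6804, 6882, 6804, 6806, 6980, 7228, 6805, 6806, 6882, 6804, 6882, 6802], 15, 1, [[], [11, 11, 9, 9, 2], [6, 11, 12, 7, 2], [9, 6, 13, 10, 8]]⟩, ⟨3, [7233, 145], 17, 0, [[], [2, 0]]⟩, ⟨2, [6806, 6882, 6804, 6802, 186, 145, 187, 629, 225, 231, 6473], 15, 3, [[], [7, 8, 12, 14, 0], [7, 9, 13, 9], [6, 13, 15, 0, 9]]⟩, ⟨3, [7237, 5939, 5921, 5938], 17, 0, [[], [2, 0]]⟩, ⟨2, [139, 215, 134, 215, 6960, 6805, 6806, 6802, 145, 187, 145, 6827], 15, 0, [[], [13, 13, 9, 9, 6], [13, 4, 13, 2, 0], [11, 6, 12, 4]]⟩, ⟨3, [7241, 6807], 17, 0, [[], [2, 0]]⟩, ⟨2, [6882,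 6805, 6882, 6802, 144, 186, 6827, 6805, 6883, 6805, 6883, 6901], 15, 3, [[], [8, 8, 15, 4], [11, 7, 8, 12, 4], [13, 14, 6, 13, 7]]⟩, ⟨3, [7245, 225, 231, 225], 17, 0, [[], [2, 0]]⟩, ⟨2, [6805, 6806, 6882, 6804, 6802, 186, 143, 5835, 5361, 5357, 5399, 5357, 5797], 15, 3, [[], [4, 8, 7, 11, 2], [6, 10, 14, 10, 6], [8, 7, 8, 8, 2]]⟩, ⟨3, [7249, 145, 186, 144, 143], 17, 0, [[], [2, 0]]⟩, ⟨2, [6805, 6882, 6806, 6802, 145, 381, 231, 225, 1483], 15, 3, [[], [12, 6, 14, 10, 9], [13, 4, 12, 7, 4], [4, 12, 7, 10, 7]]⟩, ⟨3, [7253, 231, 225], 17, 0, [[], [2, 0]]⟩, ⟨2, [6805, 6882, 6806, 6882, 6802, 145, 143, 7119, 6883, 6807, 6804, 6883, 6805, 6945], 15, 3, [[], [15, 10, 4, 8], [12, 15, 7, 10, 6], [8, 13, 15, 13]]⟩, ⟨2, [224, 230, 7220, 6804, 6882, 6806, 6882, 6805, 6802, 7097], 15, 0, [[], [14,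 6, 9, 13, 9], [6, 9, 9, 9], [11, 8, 12, 10, 4]]⟩, ⟨3, [7259, 6883, 6807, 6883, 6807, 6804], 17, 0, [[], [2, 0]]⟩, ⟨2, [6882, 6806, 6882, 6805, 6802, 144, 186, 143, 6999, 6807, 6804, 6883, 6804, 6971], 15, 3, [[], [15, 4, 13, 10, 10], [10, 10, 14, 9, 0], [7, 9, 14, 0, 8]]⟩, ⟨3, [7263, 231, 225], 17, 0, [[], [2, 0]]⟩, ⟨2, [6805, 6882, 6805, 6882, 6805, 6802, 144, 186, 143, 6999, 6805, 6883, 6807, 6805, 6971], 15, 3, [[], [12, 8, 7, 8, 0], [4, 13, 15, 12, 4], [7, 9, 14, 8, 2]]⟩, ⟨3, [7267, 225], 17, 0, [[], [2, 0]]⟩, ⟨2, [6805, 6882, 6804, 6802, 145, 143, 2147, 231, 225, 2344], 15, 3, [[], [12, 15, 8, 15, 4], [12, 11, 12, 14, 6], [6, 13, 13, 8, 13, 0]]⟩, ⟨3, [7271, 231, 225], 17, 0, [[], [2, 0]]⟩, ⟨2, [6804, 6806, 6802, 145, 186, 4625, 231, 269], 15, 3, [[], [4, 15, 10, 14, 0], [6, 10, 10,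 8, 2], [8, 8, 2, 11]]⟩, ⟨3, [7275, 138, 126, 214], 17, 0, [[], [2, 0]]⟩, ⟨2, [6806, 6882, 6804, 6802, 145, 2773, 225, 231, 3589], 15, 3, [[], [10, 13, 10, 13], [7, 11, 13, 7, 8], [12, 10, 14, 11]]⟩, ⟨3, [7279, 231, 225], 17, 0, [[], [2, 0]]⟩, ⟨2, [6805, 6882, 6804, 6802, 145, 143, 2681, 225, 231, 225, 1835], 15, 3, [[], [4, 14, 7, 15, 10], [14, 14, 10], [9, 13, 4, 11]]⟩, ⟨3, [7283, 225, 231], 17, 0, [[], [2, 0]]⟩, ⟨2, [7042, 6882, 6804, 6806, 6802, 145, 187, 145, 143, 6949], 15, 0, [[], [4, 9, 6, 15], [7, 10, 6, 10], [7, 4, 13, 15, 0]]⟩, ⟨3, [7287, 6883, 6805, 6883, 6807, 6805], 17, 0, [[], [2, 0]]⟩, ⟨2, [6804, 6882, 6805, 6806, 6802, 186, 143, 199, 187, 1741], 15, 3, [[], [12, 7, 0, 9, 13], [12, 15, 13, 6, 0], [7, 4, 11, 9, 2]]⟩, ⟨3, [7291, 225, 231, 225], 17, 0, [[], [2, 0]]⟩, ⟨2, [230,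 6896, 6805, 6882, 6804, 6882, 6802, 144, 7123], 15, 0, [[], [8, 7, 4, 13, 7], [13, 9, 12, 7, 9, 0], [12, 15, 12, 12]]⟩, ⟨3, [7295, 6805], 17, 0, [[], [2, 0]]⟩, ⟨2, [6882, 6805, 6882, 6805, 6802, 186, 144, 187, 145, 2681, 231, 3529], 15, 3, [[], [11, 12, 0, 9], [14, 6, 15, 2], [9, 15, 8, 0]]⟩, ⟨3, [7299, 225], 17, 0, [[], [2, 0]]⟩, ⟨2, [6805, 6882, 6804, 6806, 6802, 145, 143, 4177, 225, 231, 4659], 15, 3, [[], [15, 8, 12, 9], [15, 9, 9, 13, 0], [12, 4, 13, 14]]⟩, ⟨3, [7303, 225, 231], 17, 0, [[], [2, 0]]⟩, ⟨2, [6805, 6882, 7292, 230, 7134, 6805, 6806, 6882, 6805, 6882, 6802], 15, 2, [[], [7, 11, 11, 12, 0], [7, 4, 9, 2], [2, 11, 7, 13]]⟩, ⟨3, [7307, 143, 187, 145], 17, 0, [[], [2, 0]]⟩, ⟨2, [7234, 144, 186, 144, 6803, 6807, 6805, 6883, 6805, 6975], 1, 3, [[], [4, 8, 14, 7, 0], [7, 12,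 11, 13, 0], [8, 4, 0, 9, 6]]⟩, ⟨3, [7311, 231, 225], 17, 0, [[], [2, 0]]⟩, ⟨2, [144, 187, 145, 5496, 5357, 5399, 5399, 5794, 142, 186, 144, 187, 6803], 1, 0, [[], [6, 9, 9, 15, 0], [13, 8, 10, 2], [8, 12, 12, 12]]⟩, ⟨3, [7315, 6883, 6805, 6883, 6807, 6804], 17, 0, [[], [2, 0]]⟩, ⟨2, [6804, 6984, 146, 6803], 3, 1, [[], [8, 13, 6, 8, 2], [13, 11, 11, 15, 4], [9, 7, 8, 4, 2]]⟩, ⟨2, [6974, 6805, 6882, 6805, 6882, 6805, 6922, 186, 144, 6803], 9, 0, [[], [12, 10, 14, 8, 2], [8, 8, 4, 12, 7], [15, 6, 13, 4, 2]]⟩, ⟨3, [7321, 6804], 17, 0, [[], [2, 0]]⟩, ⟨2, [7234, 142, 145, 186, 144, 6803, 6883, 6807, 6883, 6804, 7317], 11, 1, [[], [13, 8, 7, 13, 0], [14, 11, 15, 12], [4, 11, 6]]⟩, ⟨3, [7325, 187, 143], 17, 0, [[], [2, 0]]⟩, ⟨2, [142, 186, 144, 381, 702, 187, 6803], 13, 2, [[], [10, 15, 4], [8,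 7, 12, 8, 0], [10, 9, 15, 11, 0]]⟩, ⟨3, [7329, 6883, 6805, 6883, 6807], 17, 0, [[], [2, 0]]⟩, ⟨2, [145, 186, 142, 2700, 230, 1292, 142, 145, 186, 144, 6803], 15, 0, [[], [13, 11, 6, 14, 14], [13, 8, 12, 12], [8, 14, 14, 9, 4, 0]]⟩, ⟨3, [7333, 6804, 6883, 6807, 6883, 6804], 17, 0, [[], [2, 0]]⟩, ⟨2, [224, 230, 4270, 224, 230, 224, 1064, 142, 144, 186, 6803], 15, 0, [[], [8, 14, 12, 7, 0], [4, 12, 8, 13], [8, 10, 10, 4]]⟩, ⟨3, [7337, 6804, 6883, 6804, 6883, 6807], 17, 0, [[], [2, 0]]⟩, ⟨2, [230, 820, 230, 224, 1188, 142, 186, 144, 187, 6803], 15, 0, [[], [6, 9, 6, 15, 0], [4, 12, 6, 11, 2], [10, 10, 9, 9, 0]]⟩, ⟨3, [7341, 6805, 6883, 6807], 17, 0, [[], [2, 0]]⟩, ⟨2, [230, 224, 3804, 224, 230, 476, 145, 6803], 15, 0, [[], [4, 8, 11, 6, 4, 0], [6, 12, 12, 10, 0], [10, 12, 7, 12, 2]]⟩, ⟨3,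 [7345, 6883, 6804, 6883, 6807, 6804], 17, 0, [[], [2, 0]]⟩, ⟨2, [6804, 6806, 6882, 6805, 6882, 6948, 142, 144, 186, 144, 6803, 6807, 6805, 7253], 15, 3, [[], [9, 11, 9, 2], [12, 6, 10, 4, 2], [13, 9, 6, 9]]⟩, ⟨2, [142, 187, 145, 1786, 384, 144, 186, 144, 6803], 15, 0, [[], [12, 14, 11, 9, 12], [10, 14, 4, 8, 8], [10, 15]]⟩, ⟨3, [7351, 6805, 6883, 6805], 17, 0, [[], [2, 0]]⟩, ⟨2, [4050, 142, 145, 187, 145, 198, 186, 142, 186, 6803], 15, 0, [[], [14, 4, 10, 12, 9], [4, 11, 7, 15, 6], [14, 12, 8, 15, 8]]⟩, ⟨3, [7355, 6805, 6883, 6807, 6804], 17, 0, [[], [2, 0]]⟩, ⟨2, [224, 1022, 230, 4624, 187, 142, 145, 6803], 15, 0, [[], [15, 4, 8, 12, 4], [8, 15, 15, 4], [11, 7, 4, 15]]⟩, ⟨3, [7359, 6807, 6883, 6807, 6805], 17, 0, [[], [2, 0]]⟩, ⟨2, [224, 230, 224, 1532, 224, 230, 224, 2146, 145, 186,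 142, 187, 6803], 15, 0, [[], [10, 8, 6, 13], [15, 7, 9, 6, 12], [14, 10, 6, 9, 0]]⟩, ⟨3, [7363, 6883, 6804], 17, 0, [[], [2, 0]]⟩, ⟨2, [2316, 142, 145, 187, 145, 198, 142, 144, 186, 6803], 15, 0, [[], [7, 14, 7, 9], [4, 12, 6, 13, 6], [6, 15, 11, 13, 2]]⟩, ⟨3, [7367, 6805, 6883, 6804], 17, 0, [[], [2, 0]]⟩, ⟨2, [224, 230, 2084, 230, 224, 4176, 145, 186, 144, 6803], 15, 0, [[], [12, 7], [8, 13, 10, 7, 4], [13, 15, 6, 2, 15]]⟩, ⟨3, [7371, 6807, 6883, 6804], 17, 0, [[], [2, 0]]⟩, ⟨2, [144, 187, 3616, 224, 230, 224, 1432, 145, 186, 142, 187, 6803], 15, 0, [[], [11, 14, 7, 9, 4], [13, 13, 7, 15, 0], [14, 4, 10, 7, 2]]⟩, ⟨3, [7375, 6807, 6805, 6883, 6807], 17, 0, [[], [2, 0]]⟩, ⟨2, [1880, 224, 230, 708, 144, 186, 144, 6803], 15, 0, [[], [6, 13, 10, 10, 4], [13, 11, 11, 8, 12], [14, 13, 13,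 8]]⟩, ⟨3, [7379, 6807, 6805, 6883], 17, 0, [[], [2, 0]]⟩, ⟨2, [230, 3516, 224, 2146, 144, 187, 6803], 15, 0, [[], [10, 12, 4, 11], [6, 12, 14, 12, 12], [9, 14, 10, 10, 2]]⟩, ⟨2, [6882, 6806, 6855, 144, 186, 144, 6803, 6883, 6804, 6883, 7299], 15, 3, [[], [9, 10, 9], [15, 11, 13, 7, 2], [14, 6, 11]]⟩, ⟨3, [7385, 231, 225], 17, 0, [[], [2, 0]]⟩, ⟨2, [224, 230, 3341, 224, 230, 386, 145, 6803], 15, 0, [[], [11, 15, 11, 7, 0], [13, 7, 11, 11, 4, 0], [11, 6, 12, 12, 4]]⟩, ⟨3, [7389, 6883, 6807, 6804], 17, 0, [[], [2, 0]]⟩, ⟨2, [1282, 230, 1064, 145, 186, 142, 187, 6803], 15, 2, [[], [9, 13, 11, 11, 12], [13, 6, 0, 10, 12], [12, 15, 15, 12]]⟩, ⟨3, [7393, 6807, 6883, 6807, 6805], 17, 0, [[], [2, 0]]⟩, ⟨2, [224, 230, 5174, 230, 224, 516, 118, 88, 68, 6808], 1, 0, [[], [14, 9, 11, 11, 8], [13,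 15, 13, 6, 2], [15, 11, 6, 14, 0]]⟩, ⟨3, [7397, 6883, 6807, 6883, 6807], 17, 0, [[], [2, 0]]⟩, ⟨2, [230, 772, 186, 142, 187, 192, 64, 68, 89, 6808], 3, 3, [[], [9, 6, 13, 6, 2], [14, 8, 4, 10, 7], [11, 14, 12, 15, 4]]⟩, ⟨3, [7401, 6883, 6807, 6804], 17, 0, [[], [2, 0]]⟩, ⟨2, [3780, 1658, 64, 68, 119, 6808], 3, 3, [[], [12, 10, 15, 6], [8, 7, 8, 8, 6], [13, 8, 13, 15, 8]]⟩, ⟨3, [7405, 6883, 6807, 6804], 17, 0, [[], [2, 0]]⟩, ⟨2, [186, 144, 918, 230, 1166, 60, 88, 64, 6808], 3, 3, [[], [15, 10, 9, 14, 9], [11, 14, 4, 9, 6], [11, 4, 15, 11, 13]]⟩, ⟨3, [7409, 6805, 6883], 17, 0, [[], [2, 0]]⟩, ⟨2, [2412, 224, 230, 4264, 64, 68, 89, 6808], 3, 0, [[], [9, 7, 13, 7], [6, 10, 8, 15, 2], [4, 15, 8]]⟩, ⟨3, [7413, 6883, 6807, 6804], 17, 0, [[], [2, 0]]⟩, ⟨2, [1248, 230, 224, 1776, 68, 119, 6808],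 3, 0, [[], [7, 12, 10, 2], [13, 6, 9, 0, 9], [7, 15, 8, 7, 8]]⟩, ⟨3, [7417, 6807, 6805, 6883, 6805, 6883, 6805], 17, 0, [[], [2, 0]]⟩, ⟨2, [224, 962, 224, 230, 1948, 60, 62, 88, 64, 6808], 3, 1, [[], [6, 10, 10, 9], [8, 7, 9, 6], [7, 9, 7, 11, 8]]⟩, ⟨3, [7421, 6807, 6805, 6883], 17, 0, [[], [2, 0]]⟩, ⟨2, [187, 1296, 1150, 60, 68, 89, 6808], 9, 0, [[], [15, 12, 10, 7], [4, 8, 7, 11, 4], [7, 14, 13, 13, 6, 0]]⟩, ⟨3, [7425, 6807, 6883, 6807, 6804], 17, 0, [[], [2, 0]]⟩, ⟨2, [230, 224, 3858, 224, 230, 1658, 119, 88, 6808], 11, 0, [[], [6, 9, 9, 14, 9], [8, 15, 9, 10, 9], [4, 10, 4, 14, 2]]⟩, ⟨3, [7429, 6883, 6805, 6883, 6805], 17, 0, [[], [2, 0]]⟩, ⟨2, [224, 230, 1277, 1166, 118, 89, 6808], 11, 0, [[], [11, 12, 10, 14, 4], [4, 2, 15, 12, 6], [12, 9, 10, 6, 4]]⟩, ⟨3, [7433, 6807, 6883, 6807],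 17, 0, [[], [2, 0]]⟩, ⟨2, [145, 186, 144, 705, 230, 224, 744, 60, 118, 64, 89, 6808], 11, 0, [[], [13, 8, 13, 6, 2], [12, 12, 9, 15, 8], [11, 7, 13, 14, 2]]⟩, ⟨3, [7437, 6807, 6804, 6883, 6807, 6805], 17, 0, [[], [2, 0]]⟩, ⟨2, [230, 224, 3300, 224, 230, 224, 684, 119, 68, 119, 6808], 11, 0, [[], [6, 11, 14, 6, 4], [11, 9, 15, 13, 0], [15, 12, 14, 7, 4]]⟩, ⟨3, [7441, 6807, 6805], 17, 0, [[], [2, 0]]⟩, ⟨2, [6804, 6806, 6882, 6806, 7257, 118, 60, 89, 6808, 6883, 6807, 6883, 6804, 7237], 11, 3, [[], [10, 15, 8, 14], [13, 6, 10, 6, 2], [13, 14, 13, 6, 4]]⟩, ⟨3, [7445, 5939, 5921, 5938, 5921], 17, 0, [[], [2, 0]]⟩, ⟨2, [230, 224, 1375, 224, 2122, 60, 66, 118, 88, 6808], 11, 0, [[], [10, 8, 6, 4, 0], [12, 12, 10, 8, 0], [7, 9, 6, 0, 9]]⟩, ⟨3, [7449, 6883, 6804, 6883, 6807, 6804], 17, 0, [[],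 [2, 0]]⟩, ⟨2, [224, 230, 4480, 224, 230, 224, 586, 62, 89, 60, 6808], 11, 0, [[], [15, 12, 10, 15, 8], [8, 11, 9, 4, 0], [8, 4, 13, 4, 0]]⟩, ⟨3, [7453, 6807, 6804, 6883], 17, 0, [[], [2, 0]]⟩, ⟨2, [230, 224, 3220, 224, 230, 788, 68, 119, 6808], 11, 1, [[], [13, 8, 8, 15, 0], [8, 11, 7, 13, 11], [15, 12, 10, 15, 0]]⟩, ⟨3, [7457, 6805, 6883, 6804, 6883, 6805], 17, 0, [[], [2, 0]]⟩, ⟨2, [224, 230, 3188, 230, 3822, 62, 118, 88, 6808], 11, 1, [[], [7, 9, 4, 9, 2], [6, 11, 12, 7], [7, 13, 15, 15]]⟩, ⟨3, [7461, 6805, 6883, 6804, 6883, 6805], 17, 0, [[], [2, 0]]⟩, ⟨2, [224, 230, 4704, 230, 1560, 68, 89, 6808], 11, 2, [[], [7, 13, 6, 13, 2], [9, 9, 13, 15, 7], [15, 15, 8, 11, 4]]⟩, ⟨3, [7465, 6883, 6804, 6883, 6805], 17, 0, [[], [2, 0]]⟩, ⟨2, [224, 230, 224, 1340, 224, 274, 60, 89, 6808], 13,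 3, [[], [12, 7, 4, 2], [15, 12, 12, 7, 4], [11, 13, 13, 7]]⟩, ⟨3, [7469, 6883, 6804, 6883, 6805], 17, 0, [[], [2, 0]]⟩, ⟨2, [2588, 230, 224, 1776, 60, 68, 119, 89, 6808], 13, 2, [[], [10, 9, 10, 14, 10], [14, 11, 7, 4], [11, 7, 14, 8, 8]]⟩, ⟨3, [7473, 6883, 6807, 6883], 17, 0, [[], [2, 0]]⟩, ⟨2, [6806, 6882, 6805, 6806, 6948, 142, 186, 144, 187, 202, 60, 66, 119, 6808], 13, 2, [[], [8, 12, 15, 13, 2], [15, 11, 11, 11, 0], [9, 7, 13, 8, 12]]⟩, ⟨3, [7477, 6804], 17, 0, [[], [2, 0]]⟩, ⟨2, [224, 230, 224, 4516, 224, 4878, 64, 68, 119, 6808], 14, 3, [[], [4, 10, 15, 13], [2, 14, 12, 12, 7], [7, 9, 14, 7]]⟩, ⟨3, [7481, 6883, 6804, 6883, 6804], 17, 0, [[], [2, 0]]⟩, ⟨2, [224, 230, 4104, 186, 145, 187, 210, 60, 119, 66, 6808], 15, 0, [[], [10, 13, 15, 10, 0], [4, 14, 13, 8, 0], [14, 4, 8, 4,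 2]]⟩, ⟨3, [7485, 6883, 6805, 6883, 6807, 6804], 17, 0, [[], [2, 0]]⟩, ⟨2, [4866, 88, 60, 71, 6808], 15, 0, [[], [10, 8, 13, 6, 4, 0], [11, 15, 15], [4, 13, 11, 8, 2]]⟩, ⟨3, [7489, 6883, 6805], 17, 0, [[], [2, 0]]⟩, ⟨2, [224, 230, 4934, 224, 4442, 60, 118, 64, 6808], 15, 1, [[], [6, 12, 7, 14, 2], [4, 9, 9, 11], [10, 13, 14, 14, 8]]⟩, ⟨3, [7493, 6804, 6883, 6807, 6883, 6804], 17, 0, [[], [2, 0]]⟩, ⟨2, [6804, 6806, 6882, 6804, 6882, 7003, 6882, 6805, 6882, 6805, 6810, 118, 89, 65, 1561], 11, 3, [[], [11, 11, 13, 0], [8, 6, 15, 15, 4], [4, 14, 7, 14, 0]]⟩, ⟨3, [7497, 231, 225], 17, 0, [[], [2, 0]]⟩, ⟨2, [6805, 6882, 6805, 6882, 6804, 6810, 89, 216, 119, 69, 67, 2093], 11, 2, [[], [14, 4, 11, 11], [6, 14, 8, 13, 4], [7, 12, 10, 0]]⟩, ⟨2, [6804, 6882, 6805, 6882, 6810, 69, 63, 216, 65, 119,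 685], 11, 2, [[], [6, 11, 12, 10, 4, 0], [8, 4, 12, 15, 0], [10, 15, 8, 7]]⟩, ⟨3, [7503, 231, 225], 17, 0, [[], [2, 0]]⟩, ⟨2, [6805, 6806, 6810, 119, 61, 89, 1167, 225, 231, 225, 2963], 11, 2, [[], [9, 9, 12, 7, 11], [14, 9, 14, 10, 7], [10, 7, 8, 4]]⟩, ⟨3, [7507, 225], 17, 0, [[], [2, 0]]⟩, ⟨2, [6882, 6804, 6882, 7024, 6805, 6810, 69, 118, 61, 89, 211], 11, 3, [[], [11, 4, 13, 14, 0], [6, 8, 12, 14], [15, 15, 7, 15, 4]]⟩, ⟨3, [7511, 145], 17, 0, [[], [2, 0]]⟩, ⟨2, [6805, 6882, 6806, 6882, 6810, 69, 118, 63, 61, 653, 428], 11, 0, [[], [9, 9, 9, 4], [6, 14, 10, 0], [10, 12, 0, 10, 4]]⟩, ⟨3, [7515, 144, 187], 17, 0, [[], [2, 0]]⟩, ⟨2, [6805, 6882, 6805, 6806, 6810, 61, 118, 579, 231, 225, 4495], 13, 3, [[], [12, 15, 10, 15], [6, 10, 12, 10, 0], [7, 8, 7, 13, 8]]⟩, ⟨2, [6804, 6806, 6882,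 6806, 6882, 6810, 1151, 225, 231, 225, 4149], 13, 3, [[], [15, 8, 7, 8, 0], [10, 8, 11, 6, 4], [10, 6, 10, 10, 6]]⟩, ⟨3, [7521, 231], 17, 0, [[], [2, 0]]⟩, ⟨2, [6882, 6804, 6810, 88, 65, 3983, 3864], 13, 3, [[], [12, 9, 12, 7, 8], [9, 11, 7, 13, 7], [6, 13, 6, 2]]⟩, ⟨2, [6882, 6804, 6806, 6882, 6810, 89, 69, 118, 63, 203, 145, 187, 144, 7327], 15, 3, [[], [11, 15, 15, 10, 0], [13, 14, 6, 12, 2], [10, 12, 9, 9, 0]]⟩, ⟨2, [6882, 6810, 89, 67, 217, 119, 69, 67, 61, 3823], 15, 3, [[], [8, 13, 9, 7, 0], [15, 15, 8], [6, 15, 10, 14, 7]]⟩, ⟨3, [7529, 231], 17, 0, [[], [2, 0]]⟩, ⟨2, [7257, 60, 64, 66, 68, 6812, 6807, 6805, 7125], 0, 2, [[], [12, 7, 12, 10, 4], [11, 13, 9, 0], [6, 9, 15, 13, 8]]⟩, ⟨2, [230, 224, 1776, 64, 68, 118, 88, 220, 66, 6812], 1, 0, [[], [14, 11, 9, 2], [12, 9, 13, 6, 10],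 [12, 11, 6, 13, 6]]⟩, ⟨3, [7535, 6805, 6883, 6805], 17, 0, [[], [2, 0]]⟩, ⟨2, [5920, 5939, 5920, 5939, 6650, 230, 224, 1906, 60, 68, 6812], 1, 0, [[], [9, 12, 9, 12, 0], [7, 9, 4, 13, 6], [10, 4, 0, 8]]⟩, ⟨3, [7539, 6804, 6883, 6807, 6805], 17, 0, [[], [2, 0]]⟩, ⟨2, [230, 224, 1164, 578, 62, 118, 6812], 3, 3, [[], [8, 8, 14, 12, 10], [8, 4, 9, 14, 7], [6, 11, 11, 6, 10, 0]]⟩, ⟨3, [7543, 6807, 6883, 6805, 6883], 17, 0, [[], [2, 0]]⟩, ⟨2, [145, 187, 144, 1814, 230, 224, 788, 60, 64, 118, 6812], 3, 1, [[], [6, 11, 4, 8, 2], [9, 6, 14, 6], [0, 10, 13, 6, 4]]⟩, ⟨3, [7547, 6883, 6807, 6883, 6805], 17, 0, [[], [2, 0]]⟩, ⟨2, [224, 230, 4460, 119, 60, 88, 6812], 6, 1, [[], [12, 6, 13, 10, 4], [4, 12, 10, 13, 2]]⟩, ⟨3, [7551, 6805], 17, 0, [[], [2, 0]]⟩, ⟨2, [6806, 6882, 6805, 7128, 66, 88, 119,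 6812, 6807, 6805, 6883, 6805, 7491], 7, 2, [[], [9, 10, 8, 11, 6], [12, 8, 7, 15, 2], [6, 9, 13, 15, 4]]⟩, ⟨2, [7257, 68, 119, 60, 118, 6812, 6883, 7459], 8, 2, [[], [4, 9, 4, 12, 9], [12, 12, 7, 8, 7], [13, 9, 4, 14, 0]]⟩, ⟨3, [7557, 225], 17, 0, [[], [2, 0]]⟩, ⟨2, [6804, 6882, 6804, 6882, 7128, 119, 60, 88, 6812, 6807, 6805, 6909], 8, 2, [[], [14, 13, 8, 10, 4], [13, 8, 10, 15, 2], [11, 7, 8, 2]]⟩, ⟨2, [7257, 60, 64, 66, 68, 6812, 7053], 10, 0, [[], [12, 9, 6, 13, 6], [7, 14, 8, 10, 0], [13, 9, 4, 10, 2]]⟩, ⟨3, [7563, 231], 17, 0, [[], [2, 0]]⟩, ⟨2, [1954, 224, 230, 224, 1776, 60, 62, 88, 6812], 11, 0, [[], [12, 8, 12, 11, 2], [12, 15, 4, 10, 6], [9, 10, 15, 4]]⟩, ⟨3, [7567, 6883, 6804], 17, 0, [[], [2, 0]]⟩, ⟨2, [224, 230, 3288, 224, 586, 60, 68, 89, 119, 6812], 11, 2, [[], [7, 4,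 9, 9, 0], [7, 4, 12, 12], [10, 14, 10, 7]]⟩, ⟨3, [7571, 6807, 6883, 6805, 6883], 17, 0, [[], [2, 0]]⟩, ⟨2, [230, 1282, 794, 66, 88, 119, 6812], 11, 2, [[], [8, 15, 9, 6, 4], [9, 15, 7, 13, 10], [8, 11, 11, 6]]⟩, ⟨3, [7575, 6807, 6883, 6805, 6883, 6805], 17, 0, [[], [2, 0]]⟩, ⟨2, [224, 4390, 230, 4442, 64, 118, 89, 6812], 11, 2, [[], [4, 15, 15, 7, 2], [13, 14, 14, 8], [10, 13, 9, 13, 9]]⟩, ⟨3, [7579, 6883, 6805, 6883, 6804], 17, 0, [[], [2, 0]]⟩, ⟨2, [144, 187, 145, 192, 62, 118, 6812, 7002], 14, 3, [[], [4, 14, 14, 6, 4], [9, 12, 10, 10, 4], [8, 6, 14, 8, 0]]⟩, ⟨3, [7583, 6883, 6807, 6883], 17, 0, [[], [2, 0]]⟩, ⟨2, [224, 230, 224, 1670, 60, 62, 119, 6812, 6883, 6805, 7025], 14, 1, [[], [12, 10, 4, 15], [9, 6, 15, 11, 4], [11, 8, 4, 15, 2]]⟩, ⟨3, [7587, 6807, 6805, 6883, 6805, 6883,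 6805], 17, 0, [[], [2, 0]]⟩, ⟨2, [230, 2541, 224, 748, 60, 88, 118, 68, 6812], 15, 1, [[], [10, 9, 12, 0, 9], [8, 8, 10, 7, 10], [10, 9, 4, 8]]⟩, ⟨3, [7591, 6883, 6804, 6883], 17, 0, [[], [2, 0]]⟩, ⟨2, [230, 4524, 230, 224, 4460, 68, 118, 60, 6812], 15, 2, [[], [7, 8, 11, 9, 2], [9, 15, 9, 12, 8], [15, 10, 15, 10, 13]]⟩, ⟨3, [7595, 6883, 6804, 6883, 6805], 17, 0, [[], [2, 0]]⟩, ⟨2, [230, 224, 6596, 5938, 5920, 5939, 5921, 5946, 62, 6812], 15, 2, [[], [6, 10, 7, 4], [15, 15, 12, 4, 8], [12, 11, 11, 8, 0]]⟩, ⟨3, [7599, 6804, 6883], 17, 0, [[], [2, 0]]⟩, ⟨2, [7072, 6804, 6806, 6882, 6814, 69, 118, 63, 7256], 1, 0, [[], [15, 13, 9, 10, 2], [12, 15, 9, 12, 6], [11, 12, 12, 9, 4]]⟩, ⟨3, [7603, 6883, 6804], 17, 0, [[], [2, 0]]⟩, ⟨2, [6804, 6882, 6804, 6882, 6804, 7319, 6814, 118, 88, 61, 2417],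 1, 1, [[], [12, 9, 4, 10, 4], [6, 13, 14, 0], [6, 9, 12, 8, 0]]⟩, ⟨3, [7607, 231], 17, 0, [[], [2, 0]]⟩, ⟨2, [6804, 6806, 6814, 88, 119, 69, 211, 187, 143, 187, 2595], 3, 3, [[], [15, 13, 8, 11, 2], [10, 13, 7, 15, 7], [8, 15, 6, 15, 6]]⟩, ⟨3, [7611, 231, 225], 17, 0, [[], [2, 0]]⟩, ⟨2, [224, 7134, 6805, 6882, 6805, 6806, 6814, 88, 119, 69, 7256], 8, 3, [[], [12, 10, 10, 4, 9], [6, 12, 9, 13, 2], [9, 15, 11, 6, 2]]⟩, ⟨2, [224, 230, 7072, 6882, 6806, 6882, 6805, 6814, 63, 118, 63, 7129], 11, 1, [[], [11, 6, 9, 0], [12, 10, 6, 13], [10, 15, 8, 10, 0]]⟩, ⟨3, [7617, 6883, 6805, 6883], 17, 0, [[], [2, 0]]⟩, ⟨2, [6804, 6882, 6814, 118, 88, 61, 163, 186, 144, 3903], 15, 1, [[], [7, 8, 14, 6, 0], [12, 11, 6, 12, 0], [11, 4, 10, 14, 0]]⟩, ⟨3, [7621, 225, 231], 17, 0, [[], [2, 0]]⟩, ⟨2, [224, 230,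 6914, 6804, 6882, 6804, 6814, 88, 119, 69, 61, 6815], 15, 2, [[], [15, 7, 4, 10, 2], [4, 14, 11, 12, 2], [7, 13, 10, 14]]⟩, ⟨3, [7625, 6807, 6804], 17, 0, [[], [2, 0]]⟩, ⟨2, [6804, 6806, 6882, 6804, 6882, 7128, 88, 60, 88, 6816, 6807, 6804, 6883, 7541], 11, 0, [[], [11, 6, 15, 15, 9], [12, 14, 14, 10, 6], [13, 10, 15, 15, 9]]⟩, ⟨2, [5922, 5938, 5920, 6428, 230, 224, 652, 60, 66, 119, 6816], 14, 3, [[], [14, 7, 10, 10, 13], [13, 13, 2, 15, 6], [4, 10, 14]]⟩, ⟨3, [7631, 6807, 6883, 6805, 6883], 17, 0, [[], [2, 0]]⟩, ⟨2, [224, 230, 2044, 124, 215, 124, 132, 68, 6816], 14, 3, [[], [12, 15, 13, 6, 2], [11, 7, 11, 11], [7, 11, 13, 10, 6]]⟩, ⟨3, [7635, 6807, 6883, 6807, 6805], 17, 0, [[], [2, 0]]⟩, ⟨2, [230, 2670, 224, 274, 60, 6816], 14, 3, [[], [7, 15, 13, 13, 7], [6, 12, 2, 14], [7, 8, 8,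 15, 7]]⟩, ⟨3, [7639, 6804, 6883, 6807, 6805], 17, 0, [[], [2, 0]]⟩, ⟨2, [230, 3626, 224, 230, 224, 348, 60, 68, 118, 89, 6816], 15, 3, [[], [14, 10, 12], [13, 15, 12, 0], [11, 15, 9, 6, 9]]⟩, ⟨3, [7643, 6805], 17, 0, [[], [2, 0]]⟩, ⟨2, [230, 6864, 6805, 6882, 6805, 6942, 68, 118, 64, 6816], 15, 3, [[], [15, 15, 7, 4, 14], [7, 9, 4, 13, 0], [9, 13, 13, 7, 12]]⟩, ⟨3, [7647, 6883, 6804, 6883, 6807], 17, 0, [[], [2, 0]]⟩, ⟨2, [4644, 794, 60, 64, 118, 68, 6816], 15, 0, [[], [10, 13, 6, 9, 2], [8, 15, 7, 10], [6, 12, 4, 0]]⟩, ⟨3, [7651, 6883, 6805, 6883, 6807, 6804], 17, 0, [[], [2, 0]]⟩, ⟨2, [5921, 5922, 5939, 7628, 6805, 6806, 6882, 6804, 6882, 6818, 88, 88, 63, 6943], 1, 3, [[], [15, 6, 12, 6, 10], [8, 6, 9, 15, 11], [6, 15, 6, 0, 8]]⟩, ⟨3, [7655, 6805, 6883, 6805], 17, 0, [[], [2, 0]]⟩,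 ⟨2, [6804, 6882, 6805, 6882, 6805, 6818, 118, 69, 88, 63, 4461, 231, 225, 2951], 11, 2, [[], [13, 8, 13, 15], [8, 4, 8, 10, 6], [13, 4, 12, 7, 4]]⟩, ⟨3, [7659, 231, 225], 17, 0, [[], [2, 0]]⟩, ⟨2, [6805, 6806, 6882, 6804, 6882, 6818, 118, 63, 6383, 5938, 5921, 5939, 5920, 6439], 11, 3, [[], [15, 9, 4, 13, 11], [7, 9, 9, 14, 13], [15, 13, 7, 4, 0]]⟩, ⟨2, [6804, 6882, 6805, 6806, 6882, 6818, 119, 69, 67, 61, 1671, 225, 231, 225, 4166], 14, 0, [[], [13, 6, 9, 0], [15, 6, 4, 13], [12, 15, 4, 11, 0]]⟩, ⟨3, [7665, 231, 225], 17, 0, [[], [2, 0]]⟩, ⟨2, [142, 6820, 6807, 6805, 6883, 7455, 231, 6859], 1, 2, [[], [14, 13, 11, 7], [6, 9, 12, 8, 2], [14, 8, 10, 10, 9]]⟩, ⟨3, [7669, 6804, 6883, 6804], 17, 0, [[], [2, 0]]⟩, ⟨2, [5921, 5922, 5938, 5921, 5938, 6794, 142, 187, 6820], 6, 0, [[], [14, 6,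 14, 12, 10], [12, 9, 13, 6, 10]]⟩, ⟨3, [7673, 6805, 6883, 6805, 6883, 6805], 17, 0, [[], [2, 0]]⟩, ⟨2, [3573, 224, 1706, 144, 187, 6820], 8, 1, [[], [15, 4, 10, 0], [4, 11, 6, 12], [13, 4, 15, 9, 2]]⟩, ⟨3, [7677, 6805, 6883, 6805, 6883, 6805], 17, 0, [[], [2, 0]]⟩, ⟨2, [224, 2206, 224, 230, 1706, 144, 187, 6820], 9, 0, [[], [14, 9, 11, 8, 0], [6, 8, 6, 10], [4, 9, 15, 6, 4]]⟩, ⟨3, [7681, 6805, 6883, 6805, 6883, 6805], 17, 0, [[], [2, 0]]⟩, ⟨2, [6122, 118, 62, 196, 187, 6824], 3, 3, [[], [6, 4, 0, 10], [10, 12, 4, 15], [6, 8, 13, 2]]⟩, ⟨3, [7685, 6807, 6883, 6805], 17, 0, [[], [2, 0]]⟩, ⟨2, [5361, 5398, 5786, 187, 2216, 187, 142, 6824], 3, 0, [[], [15, 13, 4, 9, 2], [11, 12, 15, 13], [15, 11, 15, 12, 6]]⟩, ⟨3, [7689, 6807, 6883, 6805], 17, 0, [[], [2, 0]]⟩, ⟨2, [6804, 6806, 6882, 6826,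 143, 4121, 225, 2063], 15, 1, [[], [15, 8, 6, 12, 0], [4, 10, 13, 14], [8, 8, 8, 10, 2]]⟩, ⟨3, [7693, 225, 231, 225], 17, 0, [[], [2, 0]]⟩] 3157 3848 = true := by decide +kernel
theorem dd_n0 : dd.nodeB m_ns 3848 0 c_l0.O [0, 1, 2, 3, 4, 5, 6, 7, 8, 9, 10] 0 [0, 2, 4, 6, 8, 10, 12] [14] [5, 3, 1, 6, 4, 5, 6, 2, 3, 4, 0, 5, 3, 2, 1, 6, 4, 3, 2, 5, 4, 0, 5, 3, 4, 1, 5, 0] = true := by decide +kernel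
theorem dd_n1 : dd.nodeB m_ns 3848 0 c_l0.O [0, 1, 2, 3, 4, 5, 6, 7, 8, 9, 10] 1 [16, 18, 20, 22, 24, 26] [15, 28, 29, 30, 32, 46, 54, 58, 82, 122, 140, 222] [1, 3, 0, 2, 1, 4, 3, 2, 0, 1, 5, 4, 3, 2, 1, 5, 1, 4, 3] = true := by decide +kernel
theorem dd_n2 : dd.nodeB m_ns 3848 0 c_l0.O [0, 1, 2, 3, 4, 5, 6, 7, 8, 9, 10] 2 [34, 36, 38, 40, 42, 50] [33, 44, 52, 56, 74, 110, 286, 5368, 6940] [1, 4, 1, 3, 1, 1, 5, 1, 4, 1, 3, 1, 2, 5, 1, 4, 5, 1, 3, 1, 1] = true := by decide +kernel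
theorem dd_n3 : dd.nodeB m_ns 3848 0 c_l0.O [0, 1, 2, 3, 4, 5, 6, 7, 8, 9, 10] 3 [60, 62, 64, 66, 68, 88, 118] [59, 70, 71, 72, 76, 78, 79, 80, 84, 90, 92, 94, 96, 98, 100, 102, 104, 106, 108, 112, 113, 114, 120, 132, 162, 176, 180, 192, 194, 202, 210, 216, 217, 220, 228, 274, 296, 312, 316, 324, 332, 348, 424, 516, 578, 586, 624, 652, 666, 684, 730, 744, 748, 756, 788, 794, 1084, 1104, 1150, 1166, 1430, 1560, 1658, 1670, 1776, 1906, 1948, 2078, 2092, 2122, 2304, 2416, 2462, 3724, 3796, 3822, 3982, 4264, 4442, 4460, 4866, 4868, 4878, 5364, 5514, 5888, 5918, 5946, 6110, 6122, 6382, 6810, 6814, 6818, 6942, 7128, 7257] [0, 1, 3, 2, 5, 4, 6, 5, 6] = true := by decide +kernel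
theorem dd_n4 : dd.nodeB m_ns 3848 0 c_l0.O [0, 1, 2, 3, 4, 5, 6, 7, 8, 9, 10] 4 [124, 126, 134, 138, 214] [123, 128, 130, 149, 154, 158, 168, 233, 250, 260, 270, 372, 412, 430, 448, 450, 456, 484, 614, 664, 764, 944, 1046, 1286, 1378, 1382, 1446, 1450, 1524, 1548, 2044, 2232, 2534, 2836, 2840, 2844, 2968, 3028, 5354, 5372, 5376, 5408, 5450, 5686, 5718, 6756, 6956, 6962, 7014, 7023, 7082, 7240, 7276] [1, 1, 3, 2, 0, 3, 4, 1, 2, 1, 0, 4] = true := by decide +kernel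
theorem dd_n5 : dd.nodeB m_ns 3848 0 c_l0.O [0, 1, 2, 3, 4, 5, 6, 7, 8, 9, 10] 5 [142, 144, 186] [141, 146, 147, 148, 150, 151, 152, 156, 160, 164, 166, 170, 172, 174, 178, 182, 184, 188, 190, 196, 198, 200, 204, 206, 208, 218, 237, 239, 241, 243, 246, 253, 256, 263, 265, 280, 283, 289, 344, 358, 362, 374, 380, 384, 386, 408, 414, 418, 428, 432, 476, 518, 558, 568, 584, 628, 632, 636, 644, 656, 660, 698, 702, 704, 708, 718, 736, 750, 754, 758, 766, 772, 774, 784, 791, 798, 802, 834, 840, 844, 860, 870, 884, 888, 898, 912, 916, 920, 940, 950, 956, 1030, 1038, 1050, 1054, 1058, 1060, 1064, 1068, 1080, 1100, 1120, 1132, 1144, 1152, 1188, 1190, 1196, 1202, 1222, 1226, 1242, 1246, 1262, 1268, 1274, 1278, 1292, 1298, 1310, 1328, 1352, 1364, 1402, 1432, 1490, 1510, 1572, 1604, 1612, 1620, 1624,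 1628, 1636, 1680, 1686, 1706, 1722, 1734, 1740, 1748, 1754, 1780, 1788, 1792, 1794, 1800, 1810, 1812, 1816, 1820, 1840, 1856, 1872, 1890, 1898, 1914, 1924, 1974, 2000, 2006, 2014, 2020, 2022, 2028, 2042, 2050, 2054, 2072, 2080, 2112, 2126, 2142, 2146, 2158, 2172, 2182, 2198, 2216, 2218, 2224, 2252, 2256, 2278, 2298, 2306, 2316, 2330, 2380, 2384, 2386, 2392, 2434, 2438, 2444, 2454, 2456, 2530, 2594, 2604, 2638, 2640, 2660, 2680, 2686, 2702, 2706, 2750, 2754, 2758, 2772, 2794, 2924, 3010, 3078, 3090, 3110, 3278, 3308, 3332, 3350, 3354, 3382, 3438, 3448, 3488, 3494, 3508, 3512, 3532, 3550, 3556, 3564, 3600, 3610, 3614, 3646, 3652, 3682, 3692, 3732, 3744, 3748, 3752, 3768, 3792, 3810, 3902, 3998, 4010, 4050, 4076, 4082, 4104, 4120, 4152, 4168, 4176, 4182, 4190, 4198, 4228, 4348, 4538, 4624,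 4718, 4758, 5066, 5084, 5260, 5341, 5456, 5459, 5462, 5465, 5486, 5498, 5524, 5548, 5554, 5596, 5600, 5604, 5616, 5634, 5674, 5694, 5746, 5760, 5770, 5776, 5786, 5794, 5802, 5834, 5854, 6056, 6074, 6150, 6154, 6212, 6290, 6298, 6302, 6322, 6330, 6412, 6464, 6622, 6638, 6692, 6786, 6794, 6802, 6822, 6826, 6829, 6852, 6855, 6862, 6906, 6922, 6926, 6948, 6984, 6990, 6998, 7001, 7006, 7011, 7021, 7062, 7066, 7096, 7106, 7118, 7122, 7142, 7146, 7178, 7214, 7234, 7250, 7308, 7314, 7326, 7328, 7332, 7350, 7374, 7408, 7424, 7436, 7512, 7516, 7546, 7582, 7668] [1, 0, 2, 1, 2, 1, 2, 1] = true := by decide +kernel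
theorem dd_n6 : dd.nodeB m_ns 3848 0 c_l0.O [0, 1, 2, 3, 4, 5, 6, 7, 8, 9, 10] 6 [224, 230] [223, 226, 232, 234, 235, 236, 238, 240, 242, 244, 248, 252, 254, 258, 262, 264, 266, 268, 272, 276, 278, 282, 284, 288, 290, 292, 294, 298, 300, 301, 302, 303, 304, 306, 308, 310, 314, 318, 320, 322, 326, 328, 330, 334, 336, 338, 340, 342, 346, 350, 351, 352, 354, 356, 360, 364, 366, 368, 370, 376, 378, 379, 381, 382, 383, 385, 387, 388, 390, 392, 393, 394, 396, 398, 399, 400, 401, 402, 404, 406, 410, 413, 416, 420, 422, 423, 425, 426, 427, 429, 431, 433, 434, 436, 438, 440, 442, 443, 444, 446, 449, 451, 452, 454, 458, 460, 462, 464, 466, 468, 470, 472, 474, 478, 480, 482, 485, 486, 488, 490, 492, 494, 496, 498, 500, 502, 504, 506, 508, 510, 512, 514, 517, 520, 522, 524, 526, 528, 530, 532, 533,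 534, 536, 538, 540, 542, 543, 544, 546, 548, 550, 552, 554, 556, 560, 562, 563, 564, 566, 570, 572, 574, 576, 580, 582, 588, 590, 592, 594, 596, 598, 600, 602, 604, 606, 608, 610, 612, 615, 616, 618, 620, 621, 622, 623, 626, 630, 634, 638, 640, 642, 646, 648, 650, 654, 658, 662, 665, 668, 670, 672, 674, 676, 678, 679, 680, 682, 686, 688, 690, 692, 694, 696, 700, 705, 706, 710, 712, 714, 716, 720, 722, 724, 726, 728, 732, 734, 738, 740, 742, 746, 752, 755, 757, 760, 762, 763, 765, 768, 770, 773, 776, 778, 780, 782, 786, 790, 792, 796, 800, 804, 806, 808, 810, 812, 814, 816, 818, 820, 821, 822, 824, 826, 828, 830, 832, 836, 838, 839, 842, 846, 848, 850, 852, 854, 856, 858, 861, 862, 864, 866, 868, 871, 872, 874, 876, 878, 880, 882, 886, 889, 890, 891, 892, 893, 894, 896, 900, 902, 904,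 906, 907, 908, 910, 914, 918, 921, 922, 924, 926, 928, 930, 932, 934, 936, 938, 942, 946, 948, 952, 954, 958, 959, 960, 962, 964, 966, 968, 970, 972, 974, 976, 977, 978, 980, 982, 984, 986, 987, 988, 990, 992, 993, 994, 996, 998, 999, 1000, 1001, 1002, 1004, 1006, 1008, 1010, 1011, 1012, 1014, 1016, 1017, 1018, 1019, 1020, 1022, 1024, 1026, 1028, 1032, 1034, 1036, 1040, 1042, 1044, 1048, 1052, 1056, 1061, 1062, 1066, 1070, 1072, 1074, 1076, 1078, 1082, 1086, 1088, 1090, 1092, 1094, 1096, 1098, 1102, 1103, 1106, 1108, 1110, 1112, 1114, 1116, 1118, 1122, 1124, 1126, 1128, 1130, 1134, 1136, 1138, 1140, 1142, 1146, 1148, 1153, 1154, 1156, 1158, 1160, 1162, 1164, 1168, 1170, 1172, 1174, 1176, 1178, 1180, 1182, 1184, 1186, 1192, 1194, 1198, 1200, 1204, 1206, 1208, 1210, 1212, 1214, 1216, 1218,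 1220, 1224, 1227, 1228, 1230, 1232, 1234, 1236, 1238, 1240, 1244, 1248, 1250, 1252, 1254, 1256, 1257, 1258, 1260, 1264, 1266, 1270, 1271, 1272, 1276, 1277, 1280, 1282, 1283, 1284, 1288, 1290, 1294, 1296, 1300, 1302, 1304, 1306, 1308, 1312, 1314, 1316, 1318, 1320, 1321, 1322, 1324, 1326, 1330, 1332, 1334, 1336, 1338, 1340, 1342, 1344, 1346, 1348, 1350, 1354, 1355, 1356, 1357, 1358, 1360, 1362, 1366, 1368, 1370, 1372, 1374, 1375, 1376, 1380, 1384, 1386, 1388, 1390, 1392, 1394, 1395, 1396, 1398, 1400, 1404, 1406, 1408, 1410, 1412, 1414, 1416, 1418, 1420, 1422, 1424, 1426, 1428, 1434, 1436, 1438, 1440, 1442, 1444, 1448, 1452, 1454, 1456, 1458, 1460, 1462, 1464, 1466, 1468, 1469, 1470, 1472, 1474, 1476, 1478, 1479, 1480, 1482, 1484, 1486, 1488, 1492, 1494, 1496, 1498, 1500, 1502, 1504, 1506,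 1508, 1512, 1514, 1516, 1518, 1520, 1521, 1522, 1526, 1528, 1530, 1532, 1534, 1536, 1538, 1540, 1542, 1544, 1546, 1550, 1552, 1554, 1556, 1558, 1562, 1564, 1566, 1567, 1568, 1570, 1574, 1576, 1578, 1580, 1582, 1584, 1586, 1588, 1590, 1592, 1594, 1596, 1598, 1600, 1602, 1605, 1606, 1608, 1610, 1614, 1616, 1618, 1622, 1626, 1630, 1632, 1634, 1638, 1640, 1642, 1644, 1646, 1648, 1650, 1652, 1654, 1656, 1660, 1662, 1664, 1666, 1668, 1672, 1674, 1676, 1678, 1681, 1682, 1684, 1687, 1688, 1690, 1692, 1694, 1696, 1698, 1700, 1702, 1704, 1708, 1709, 1710, 1712, 1714, 1715, 1716, 1717, 1718, 1720, 1724, 1726, 1728, 1730, 1732, 1736, 1738, 1742, 1744, 1746, 1750, 1752, 1756, 1758, 1760, 1762, 1763, 1764, 1766, 1768, 1770, 1772, 1774, 1778, 1781, 1782, 1784, 1786, 1790, 1795, 1796, 1798, 1802, 1804,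 1806, 1808, 1814, 1818, 1822, 1824, 1826, 1828, 1829, 1830, 1832, 1834, 1836, 1838, 1842, 1844, 1846, 1848, 1850, 1852, 1854, 1858, 1860, 1862, 1864, 1866, 1868, 1869, 1870, 1874, 1875, 1876, 1878, 1880, 1882, 1884, 1886, 1888, 1892, 1894, 1896, 1900, 1902, 1904, 1908, 1909, 1910, 1912, 1916, 1918, 1920, 1922, 1926, 1928, 1930, 1932, 1934, 1936, 1938, 1940, 1942, 1944, 1946, 1950, 1952, 1954, 1955, 1956, 1958, 1960, 1962, 1964, 1965, 1966, 1968, 1970, 1972, 1976, 1978, 1980, 1982, 1984, 1986, 1988, 1990, 1992, 1994, 1996, 1998, 2002, 2003, 2004, 2008, 2010, 2012, 2016, 2017, 2018, 2024, 2026, 2030, 2032, 2034, 2036, 2038, 2039, 2040, 2046, 2048, 2052, 2056, 2058, 2060, 2062, 2064, 2066, 2068, 2070, 2074, 2076, 2081, 2082, 2084, 2086, 2088, 2090, 2094, 2095, 2096, 2098, 2100, 2102, 2104,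 2106, 2108, 2110, 2113, 2114, 2116, 2118, 2120, 2124, 2128, 2130, 2132, 2134, 2136, 2138, 2140, 2144, 2148, 2150, 2152, 2154, 2156, 2159, 2160, 2162, 2164, 2166, 2168, 2170, 2173, 2174, 2176, 2178, 2180, 2184, 2186, 2187, 2188, 2189, 2190, 2192, 2194, 2196, 2200, 2202, 2204, 2206, 2208, 2210, 2211, 2212, 2213, 2214, 2215, 2220, 2222, 2226, 2228, 2230, 2234, 2236, 2238, 2240, 2242, 2244, 2245, 2246, 2247, 2248, 2250, 2254, 2258, 2260, 2262, 2264, 2266, 2268, 2270, 2272, 2274, 2276, 2277, 2280, 2282, 2284, 2286, 2288, 2290, 2292, 2294, 2296, 2299, 2300, 2301, 2302, 2308, 2310, 2311, 2312, 2314, 2317, 2318, 2319, 2320, 2322, 2324, 2326, 2328, 2332, 2334, 2336, 2338, 2340, 2342, 2344, 2345, 2346, 2348, 2350, 2352, 2354, 2356, 2358, 2360, 2362, 2364, 2366, 2368, 2370, 2371, 2372, 2373, 2374,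 2376, 2378, 2381, 2382, 2388, 2390, 2394, 2396, 2398, 2400, 2402, 2404, 2406, 2408, 2410, 2412, 2414, 2415, 2418, 2420, 2422, 2424, 2426, 2428, 2430, 2432, 2436, 2440, 2442, 2445, 2446, 2448, 2450, 2452, 2458, 2460, 2464, 2466, 2468, 2470, 2472, 2474, 2476, 2477, 2478, 2480, 2482, 2484, 2486, 2488, 2489, 2490, 2492, 2494, 2495, 2496, 2498, 2500, 2502, 2504, 2506, 2508, 2510, 2512, 2513, 2514, 2515, 2516, 2518, 2520, 2522, 2524, 2526, 2528, 2532, 2536, 2538, 2540, 2541, 2542, 2543, 2544, 2545, 2546, 2547, 2548, 2549, 2550, 2551, 2552, 2553, 2554, 2556, 2558, 2560, 2562, 2563, 2564, 2566, 2568, 2570, 2572, 2574, 2576, 2578, 2580, 2582, 2584, 2585, 2586, 2588, 2590, 2592, 2596, 2598, 2599, 2600, 2602, 2606, 2608, 2609, 2610, 2612, 2614, 2616, 2618, 2620, 2622, 2624, 2626, 2628, 2630, 2632,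 2634, 2636, 2639, 2641, 2642, 2644, 2646, 2648, 2650, 2652, 2654, 2656, 2658, 2662, 2664, 2666, 2668, 2670, 2672, 2674, 2676, 2678, 2682, 2684, 2688, 2690, 2692, 2694, 2696, 2698, 2700, 2704, 2708, 2710, 2712, 2714, 2716, 2718, 2720, 2722, 2724, 2725, 2726, 2728, 2730, 2731, 2732, 2734, 2736, 2738, 2740, 2742, 2744, 2746, 2748, 2752, 2756, 2760, 2762, 2764, 2766, 2768, 2770, 2774, 2776, 2778, 2780, 2782, 2784, 2786, 2788, 2789, 2790, 2792, 2796, 2798, 2800, 2802, 2804, 2806, 2808, 2810, 2812, 2814, 2815, 2816, 2818, 2820, 2822, 2824, 2826, 2828, 2829, 2830, 2832, 2834, 2838, 2842, 2846, 2848, 2850, 2852, 2854, 2856, 2858, 2860, 2861, 2862, 2864, 2866, 2868, 2870, 2872, 2874, 2876, 2878, 2879, 2880, 2882, 2884, 2886, 2888, 2890, 2892, 2894, 2896, 2898, 2900, 2902, 2904, 2905, 2906, 2908,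 2910, 2912, 2914, 2916, 2918, 2920, 2922, 2926, 2928, 2930, 2932, 2934, 2936, 2938, 2940, 2942, 2944, 2946, 2948, 2950, 2952, 2954, 2956, 2958, 2960, 2962, 2963, 2964, 2966, 2970, 2972, 2974, 2976, 2978, 2980, 2982, 2984, 2986, 2988, 2990, 2992, 2994, 2996, 2998, 3000, 3002, 3004, 3006, 3008, 3012, 3013, 3014, 3016, 3018, 3020, 3022, 3024, 3026, 3027, 3030, 3032, 3034, 3036, 3038, 3040, 3042, 3044, 3045, 3046, 3048, 3050, 3052, 3054, 3055, 3056, 3057, 3058, 3060, 3062, 3064, 3066, 3068, 3070, 3072, 3074, 3076, 3079, 3080, 3082, 3084, 3086, 3088, 3092, 3094, 3096, 3098, 3100, 3102, 3104, 3106, 3108, 3112, 3114, 3116, 3118, 3120, 3122, 3124, 3126, 3127, 3128, 3130, 3132, 3134, 3136, 3138, 3140, 3142, 3144, 3146, 3148, 3150, 3152, 3153, 3154, 3156, 3158, 3160, 3162, 3164, 3166, 3168, 3170,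 3172, 3174, 3176, 3178, 3180, 3182, 3184, 3186, 3188, 3190, 3192, 3194, 3196, 3198, 3199, 3200, 3201, 3202, 3204, 3206, 3207, 3208, 3210, 3212, 3214, 3216, 3218, 3220, 3222, 3224, 3226, 3228, 3230, 3232, 3234, 3236, 3238, 3240, 3241, 3242, 3243, 3244, 3246, 3248, 3250, 3252, 3254, 3256, 3258, 3260, 3262, 3264, 3266, 3268, 3270, 3272, 3274, 3276, 3280, 3282, 3284, 3285, 3286, 3288, 3290, 3291, 3292, 3294, 3296, 3298, 3300, 3302, 3304, 3306, 3310, 3312, 3314, 3316, 3317, 3318, 3320, 3322, 3323, 3324, 3326, 3328, 3330, 3334, 3336, 3338, 3340, 3341, 3342, 3344, 3346, 3348, 3352, 3355, 3356, 3357, 3358, 3360, 3362, 3363, 3364, 3366, 3368, 3369, 3370, 3372, 3374, 3376, 3378, 3380, 3381, 3383, 3384, 3386, 3388, 3390, 3392, 3394, 3396, 3398, 3400, 3402, 3404, 3406, 3408, 3410, 3412, 3414, 3416,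 3418, 3420, 3422, 3423, 3424, 3426, 3428, 3430, 3432, 3434, 3436, 3440, 3442, 3444, 3445, 3446, 3447, 3450, 3452, 3453, 3454, 3456, 3458, 3460, 3462, 3463, 3464, 3466, 3468, 3470, 3472, 3473, 3474, 3476, 3478, 3480, 3482, 3484, 3486, 3490, 3491, 3492, 3496, 3497, 3498, 3500, 3502, 3504, 3506, 3510, 3514, 3516, 3518, 3520, 3522, 3524, 3526, 3528, 3530, 3534, 3536, 3538, 3540, 3542, 3544, 3546, 3548, 3552, 3554, 3558, 3560, 3562, 3566, 3568, 3570, 3572, 3573, 3574, 3576, 3578, 3579, 3580, 3582, 3584, 3586, 3588, 3590, 3592, 3594, 3596, 3597, 3598, 3602, 3604, 3606, 3608, 3612, 3616, 3618, 3620, 3622, 3624, 3626, 3627, 3628, 3630, 3632, 3634, 3636, 3637, 3638, 3640, 3642, 3644, 3648, 3650, 3654, 3656, 3658, 3660, 3662, 3664, 3666, 3668, 3670, 3672, 3674, 3676, 3678, 3680, 3684, 3686, 3687,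 3688, 3690, 3694, 3696, 3698, 3700, 3702, 3704, 3706, 3708, 3710, 3712, 3714, 3716, 3718, 3720, 3722, 3726, 3728, 3730, 3733, 3734, 3735, 3736, 3738, 3740, 3742, 3746, 3750, 3754, 3756, 3758, 3760, 3762, 3764, 3766, 3770, 3772, 3773, 3774, 3776, 3778, 3780, 3782, 3784, 3786, 3788, 3790, 3794, 3798, 3800, 3802, 3803, 3804, 3805, 3806, 3808, 3812, 3814, 3816, 3818, 3820, 3824, 3826, 3828, 3830, 3832, 3834, 3836, 3838, 3839, 3840, 3842, 3844, 3846, 3848, 3849, 3850, 3852, 3854, 3855, 3856, 3857, 3858, 3860, 3862, 3864, 3865, 3866, 3867, 3868, 3869, 3870, 3872, 3874, 3876, 3878, 3880, 3882, 3884, 3886, 3887, 3888, 3890, 3892, 3893, 3894, 3896, 3898, 3900, 3904, 3906, 3908, 3910, 3912, 3914, 3916, 3918, 3920, 3922, 3924, 3926, 3927, 3928, 3929, 3930, 3932, 3934, 3936, 3938, 3940, 3942, 3944,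 3946, 3947, 3948, 3949, 3950, 3952, 3954, 3956, 3958, 3960, 3962, 3964, 3966, 3968, 3970, 3971, 3972, 3974, 3976, 3978, 3980, 3984, 3986, 3988, 3990, 3992, 3994, 3996, 4000, 4002, 4004, 4006, 4008, 4012, 4014, 4016, 4018, 4020, 4022, 4024, 4026, 4028, 4029, 4030, 4032, 4034, 4036, 4038, 4040, 4042, 4044, 4046, 4048, 4052, 4054, 4056, 4058, 4060, 4062, 4064, 4066, 4068, 4070, 4071, 4072, 4074, 4078, 4080, 4084, 4086, 4088, 4090, 4092, 4094, 4096, 4098, 4100, 4102, 4106, 4108, 4110, 4112, 4113, 4114, 4116, 4118, 4122, 4123, 4124, 4126, 4128, 4129, 4130, 4132, 4134, 4135, 4136, 4138, 4140, 4142, 4144, 4146, 4148, 4149, 4150, 4154, 4156, 4158, 4160, 4162, 4164, 4166, 4167, 4170, 4172, 4174, 4178, 4180, 4184, 4186, 4188, 4189, 4192, 4194, 4196, 4200, 4202, 4203, 4204, 4206, 4208, 4210, 4212,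 4214, 4216, 4217, 4218, 4219, 4220, 4222, 4224, 4226, 4230, 4232, 4234, 4236, 4238, 4240, 4242, 4244, 4246, 4248, 4250, 4252, 4253, 4254, 4256, 4258, 4259, 4260, 4261, 4262, 4266, 4267, 4268, 4270, 4272, 4274, 4276, 4278, 4280, 4282, 4284, 4286, 4287, 4288, 4290, 4292, 4294, 4296, 4298, 4300, 4302, 4304, 4306, 4308, 4310, 4312, 4314, 4316, 4318, 4320, 4322, 4324, 4326, 4328, 4329, 4330, 4332, 4334, 4336, 4338, 4340, 4342, 4343, 4344, 4346, 4350, 4352, 4354, 4356, 4358, 4360, 4361, 4362, 4364, 4366, 4367, 4368, 4370, 4372, 4374, 4376, 4378, 4380, 4381, 4382, 4384, 4386, 4388, 4390, 4392, 4394, 4396, 4398, 4400, 4402, 4404, 4406, 4408, 4410, 4412, 4414, 4416, 4418, 4420, 4422, 4424, 4426, 4428, 4429, 4430, 4432, 4434, 4436, 4438, 4440, 4444, 4446, 4448, 4450, 4452, 4454, 4456, 4458, 4462,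 4464, 4466, 4468, 4470, 4472, 4474, 4476, 4478, 4480, 4482, 4484, 4486, 4488, 4490, 4492, 4494, 4496, 4498, 4500, 4502, 4503, 4504, 4506, 4508, 4510, 4512, 4514, 4516, 4518, 4520, 4522, 4524, 4526, 4528, 4529, 4530, 4532, 4534, 4536, 4540, 4542, 4544, 4546, 4548, 4550, 4551, 4552, 4553, 4554, 4556, 4558, 4560, 4562, 4564, 4566, 4568, 4570, 4572, 4574, 4576, 4578, 4580, 4582, 4584, 4586, 4588, 4590, 4592, 4594, 4596, 4598, 4600, 4602, 4604, 4606, 4608, 4610, 4612, 4614, 4616, 4618, 4620, 4622, 4623, 4626, 4628, 4630, 4632, 4634, 4636, 4638, 4640, 4642, 4644, 4645, 4646, 4647, 4648, 4649, 4650, 4652, 4654, 4656, 4658, 4660, 4662, 4664, 4666, 4668, 4670, 4672, 4674, 4676, 4678, 4680, 4682, 4684, 4686, 4688, 4689, 4690, 4691, 4692, 4694, 4696, 4698, 4700, 4702, 4703, 4704, 4706, 4708, 4710,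 4712, 4714, 4716, 4720, 4722, 4724, 4726, 4728, 4730, 4732, 4734, 4736, 4738, 4740, 4742, 4744, 4746, 4748, 4750, 4752, 4754, 4756, 4760, 4762, 4764, 4766, 4768, 4770, 4772, 4774, 4776, 4777, 4778, 4780, 4782, 4784, 4786, 4788, 4790, 4792, 4794, 4796, 4798, 4800, 4802, 4804, 4806, 4808, 4810, 4812, 4814, 4816, 4818, 4820, 4822, 4824, 4826, 4828, 4830, 4832, 4834, 4836, 4838, 4840, 4842, 4844, 4846, 4848, 4850, 4852, 4854, 4855, 4856, 4858, 4860, 4862, 4864, 4865, 4867, 4870, 4872, 4873, 4874, 4876, 4880, 4882, 4884, 4886, 4888, 4890, 4891, 4892, 4894, 4896, 4897, 4898, 4899, 4900, 4902, 4904, 4906, 4908, 4910, 4912, 4914, 4916, 4918, 4920, 4922, 4924, 4926, 4928, 4930, 4932, 4934, 4936, 4938, 4940, 4942, 4944, 4946, 4948, 4950, 4952, 4953, 4954, 4956, 4957, 4958, 4960, 4962, 4963, 4964,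 4966, 4968, 4970, 4972, 4974, 4975, 4976, 4978, 4980, 4981, 4982, 4984, 4986, 4988, 4990, 4992, 4994, 4996, 4998, 4999, 5000, 5001, 5002, 5004, 5006, 5008, 5010, 5012, 5014, 5016, 5018, 5020, 5022, 5024, 5026, 5028, 5030, 5032, 5034, 5036, 5038, 5040, 5042, 5044, 5046, 5048, 5050, 5051, 5052, 5054, 5056, 5058, 5060, 5062, 5064, 5068, 5070, 5072, 5074, 5076, 5078, 5080, 5082, 5086, 5088, 5090, 5092, 5094, 5096, 5098, 5100, 5102, 5104, 5106, 5108, 5110, 5112, 5114, 5116, 5118, 5120, 5122, 5124, 5126, 5128, 5130, 5131, 5132, 5134, 5136, 5138, 5140, 5142, 5144, 5146, 5148, 5149, 5150, 5152, 5154, 5156, 5158, 5159, 5160, 5162, 5164, 5166, 5168, 5170, 5172, 5174, 5176, 5177, 5178, 5180, 5181, 5182, 5184, 5186, 5188, 5190, 5192, 5193, 5194, 5196, 5198, 5200, 5202, 5203, 5204, 5205, 5206, 5208,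 5210, 5212, 5214, 5216, 5218, 5220, 5222, 5224, 5226, 5228, 5229, 5230, 5231, 5232, 5234, 5236, 5238, 5240, 5242, 5244, 5246, 5247, 5248, 5250, 5252, 5253, 5254, 5256, 5258, 5262, 5264, 5266, 5267, 5268, 5270, 5272, 5274, 5276, 5278, 5280, 5282, 5284, 5286, 5288, 5289, 5290, 5292, 5294, 5296, 5298, 5300, 5302, 5304, 5306, 5308, 5310, 5312, 5314, 5316, 5318, 5320, 5321, 5322, 5324, 5326, 5328, 5329, 5330, 5332, 5334, 5336, 5338, 5340, 5342, 5344, 5346, 5348, 5350, 5352, 5380, 5384, 5388, 5391, 5394, 5402, 5406, 5414, 5418, 5422, 5425, 5428, 5432, 5436, 5440, 5443, 5445, 5447, 5468, 5472, 5475, 5477, 5479, 5482, 5490, 5494, 5502, 5506, 5510, 5517, 5520, 5528, 5532, 5535, 5537, 5540, 5544, 5551, 5558, 5562, 5566, 5570, 5573, 5575, 5578, 5582, 5586, 5590, 5593, 5608, 5612, 5620, 5624, 5628,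 5632, 5638, 5642, 5646, 5650, 5654, 5658, 5662, 5666, 5670, 5678, 5682, 5690, 5698, 5702, 5706, 5710, 5714, 5722, 5726, 5730, 5734, 5738, 5742, 5752, 5756, 5764, 5767, 5774, 5780, 5790, 5798, 5806, 5810, 5814, 5818, 5822, 5826, 5830, 5839, 5840, 5844, 5848, 5857, 5858, 5862, 5866, 5870, 5875, 5876, 5880, 5887, 5894, 5898, 5902, 5910, 5913, 5915, 5929, 5931, 5934, 5942, 5950, 5954, 5958, 5962, 5965, 5968, 5972, 5976, 5979, 5982, 5986, 5990, 5994, 5998, 6001, 6008, 6011, 6014, 6018, 6022, 6026, 6030, 6033, 6036, 6040, 6044, 6060, 6062, 6067, 6069, 6080, 6083, 6085, 6088, 6094, 6099, 6102, 6106, 6114, 6128, 6134, 6138, 6140, 6146, 6158, 6162, 6170, 6174, 6178, 6182, 6186, 6190, 6193, 6200, 6204, 6208, 6216, 6220, 6224, 6228, 6232, 6235, 6237, 6240, 6243, 6245, 6248, 6252, 6256, 6260, 6264,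 6268, 6272, 6276, 6279, 6280, 6286, 6294, 6306, 6310, 6314, 6318, 6326, 6334, 6338, 6342, 6346, 6350, 6354, 6356, 6362, 6366, 6376, 6378, 6384, 6394, 6398, 6400, 6404, 6408, 6418, 6420, 6424, 6428, 6432, 6436, 6444, 6450, 6452, 6456, 6460, 6472, 6476, 6480, 6486, 6488, 6492, 6504, 6508, 6515, 6516, 6520, 6524, 6532, 6540, 6548, 6552, 6556, 6560, 6564, 6568, 6572, 6576, 6582, 6588, 6594, 6598, 6602, 6606, 6610, 6618, 6626, 6630, 6634, 6641, 6642, 6646, 6650, 6654, 6658, 6662, 6666, 6676, 6682, 6688, 6696, 6702, 6706, 6709, 6710, 6716, 6720, 6724, 6730, 6732, 6738, 6742, 6746, 6752, 6760, 6768, 6772, 6777, 6780, 6790, 6800, 6832, 6836, 6840, 6844, 6848, 6858, 6866, 6870, 6874, 6877, 6880, 6886, 6890, 6894, 6897, 6899, 6902, 6909, 6912, 6915, 6918, 6930, 6934, 6937, 6951, 6953, 6959, 6965,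 6971, 6973, 6975, 6977, 6980, 7008, 7030, 7033, 7036, 7040, 7043, 7045, 7047, 7051, 7054, 7059, 7069, 7070, 7076, 7080, 7088, 7092, 7100, 7103, 7110, 7114, 7125, 7132, 7135, 7138, 7150, 7154, 7162, 7166, 7170, 7173, 7175, 7182, 7186, 7190, 7194, 7196, 7202, 7206, 7210, 7218, 7222, 7224, 7230, 7246, 7254, 7258, 7264, 7268, 7272, 7280, 7284, 7286, 7292, 7294, 7300, 7304, 7312, 7320, 7336, 7340, 7344, 7349, 7354, 7358, 7362, 7366, 7370, 7378, 7382, 7386, 7388, 7392, 7396, 7400, 7404, 7412, 7416, 7420, 7428, 7432, 7440, 7448, 7452, 7456, 7460, 7464, 7468, 7472, 7480, 7484, 7488, 7492, 7498, 7501, 7504, 7508, 7519, 7522, 7525, 7530, 7533, 7534, 7542, 7550, 7555, 7558, 7561, 7564, 7566, 7570, 7574, 7578, 7586, 7590, 7594, 7598, 7602, 7608, 7612, 7614, 7616, 7622, 7624, 7634, 7638, 7642, 7646,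 7650, 7660, 7663, 7666, 7676, 7680, 7694] [1, 0, 1] = true := by decide +kernel
theorem dd_n7 : dd.nodeB m_ns 3848 0 c_l0.O [0, 1, 2, 3, 4, 5, 6, 7, 8, 9, 10] 7 [5356, 5358, 5360, 5398] [5355, 5362, 5366, 5370, 5374, 5378, 5382, 5386, 5390, 5392, 5400, 5404, 5410, 5412, 5416, 5420, 5424, 5426, 5430, 5434, 5438, 5442, 5444, 5446, 5448, 5452, 5454, 5458, 5460, 5464, 5466, 5470, 5474, 5476, 5478, 5480, 5484, 5488, 5492, 5496, 5500, 5504, 5508, 5512, 5516, 5518, 5522, 5526, 5530, 5534, 5536, 5538, 5542, 5546, 5550, 5552, 5556, 5560, 5564, 5568, 5572, 5574, 5576, 5580, 5584, 5588, 5592, 5594, 5598, 5602, 5606, 5610, 5614, 5618, 5622, 5626, 5630, 5636, 5640, 5644, 5648, 5652, 5656, 5660, 5664, 5668, 5672, 5676, 5680, 5684, 5688, 5692, 5696, 5700, 5704, 5708, 5712, 5716, 5720, 5724, 5728, 5732,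 5736, 5740, 5744, 5748, 5750, 5754, 5758, 5762, 5766, 5768, 5772, 5778, 5782, 5784, 5788, 5792, 5796, 5800, 5804, 5808, 5812, 5816, 5820, 5824, 5828, 5832, 5836, 5838, 5842, 5846, 5850, 5852, 5856, 5860, 5864, 5868, 5872, 5874, 5878, 5882, 5884, 5886, 6004, 6166, 6196, 6440, 6528, 6614, 6616, 6684, 6766, 6968, 6994, 7018, 7049, 7688] [0, 2, 1, 3, 0, 2, 3, 0, 0] = true := by decide +kernel
theorem dd_n8 : dd.nodeB m_ns 3848 0 c_l0.O [0, 1, 2, 3, 4, 5, 6, 7, 8, 9, 10] 8 [5890, 5906] [5889, 5892, 5896, 5900, 5908, 5912, 5914, 5916, 5926, 5937, 6126, 6390, 6468] [0, 1, 0, 1, 0, 1, 0, 1, 0, 1, 0, 1, 0, 1, 0, 1, 0, 0, 1, 0, 0] = true := by decide +kernel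
theorem dd_n9 : dd.nodeB m_ns 3848 0 c_l0.O [0, 1, 2, 3, 4, 5, 6, 7, 8, 9, 10] 9 [5920, 5922, 5938] [5919, 5924, 5928, 5930, 5932, 5936, 5940, 5944, 5948, 5952, 5956, 5960, 5964, 5966, 5970, 5974, 5978, 5980, 5984, 5988, 5992, 5996, 6000, 6002, 6006, 6010, 6012, 6016, 6020, 6024, 6028, 6032, 6034, 6038, 6042, 6046, 6048, 6050, 6052, 6054, 6058, 6064, 6066, 6068, 6070, 6072, 6076, 6078, 6082, 6084, 6086, 6090, 6092, 6096, 6098, 6100, 6104, 6108, 6112, 6116, 6118, 6120, 6124, 6130, 6132, 6136, 6142, 6144, 6148, 6152, 6156, 6160, 6164, 6168, 6172, 6176, 6180, 6184, 6188, 6192, 6194, 6198, 6202, 6206, 6210, 6214, 6218, 6222, 6226, 6230, 6234, 6236, 6238, 6242, 6244, 6246, 6250, 6254, 6258, 6262, 6266, 6270, 6274, 6278, 6282, 6284, 6288, 6292, 6296, 6300, 6304, 6308, 6312, 6316, 6320, 6324,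 6328, 6332, 6336, 6340, 6344, 6348, 6352, 6358, 6360, 6364, 6368, 6370, 6372, 6374, 6380, 6383, 6386, 6388, 6392, 6396, 6402, 6406, 6410, 6414, 6416, 6422, 6426, 6430, 6434, 6438, 6442, 6446, 6448, 6454, 6458, 6462, 6466, 6470, 6474, 6478, 6482, 6484, 6490, 6494, 6496, 6498, 6500, 6502, 6506, 6510, 6512, 6513, 6514, 6518, 6522, 6526, 6530, 6534, 6536, 6538, 6542, 6544, 6546, 6550, 6554, 6558, 6562, 6566, 6570, 6574, 6578, 6580, 6584, 6586, 6590, 6592, 6596, 6600, 6604, 6608, 6612, 6617, 6620, 6624, 6628, 6632, 6635, 6636, 6640, 6644, 6648, 6652, 6656, 6660, 6664, 6668, 6670, 6672, 6674, 6678, 6680, 6686, 6690, 6694, 6698, 6700, 6704, 6708, 6712, 6714, 6718, 6722, 6726, 6728, 6734, 6736, 6740, 6744, 6748, 6750, 6754, 6758, 6762, 6764, 6770, 6774, 6776, 6778, 6782, 6784, 6788, 6792, 6796,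 6798, 7158, 7238, 7446, 7538, 7629, 7630, 7654, 7672, 7684] [0, 1, 2, 0, 2, 0, 2, 0, 2] = true := by decide +kernel
theorem dd_n10 : dd.nodeB m_ns 3848 0 c_l0.O [0, 1, 2, 3, 4, 5, 6, 7, 8, 9, 10] 10 [6804, 6806, 6882] [6803, 6808, 6812, 6816, 6820, 6824, 6828, 6830, 6834, 6838, 6842, 6846, 6850, 6854, 6856, 6860, 6864, 6868, 6872, 6876, 6878, 6884, 6888, 6892, 6896, 6898, 6900, 6904, 6908, 6910, 6914, 6916, 6920, 6924, 6928, 6932, 6936, 6938, 6944, 6946, 6950, 6952, 6954, 6958, 6960, 6964, 6966, 6970, 6972, 6974, 6976, 6978, 6982, 6986, 6988, 6992, 6996, 7000, 7002, 7003, 7004, 7009, 7010, 7012, 7016, 7020, 7022, 7024, 7026, 7028, 7032, 7034, 7038, 7042, 7044, 7046, 7048, 7050, 7052, 7056, 7057, 7058, 7060, 7064, 7068, 7072, 7074, 7078, 7084, 7086, 7090, 7094, 7098, 7102, 7104, 7108,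 7112, 7116, 7120, 7124, 7126, 7130, 7134, 7136, 7140, 7144, 7148, 7152, 7156, 7160, 7164, 7168, 7172, 7174, 7176, 7180, 7184, 7188, 7192, 7198, 7200, 7204, 7208, 7212, 7216, 7220, 7226, 7228, 7232, 7236, 7242, 7244, 7248, 7252, 7256, 7260, 7262, 7266, 7270, 7274, 7278, 7282, 7288, 7290, 7296, 7298, 7302, 7306, 7310, 7316, 7318, 7319, 7322, 7324, 7330, 7334, 7338, 7342, 7346, 7348, 7352, 7356, 7360, 7364, 7368, 7372, 7376, 7380, 7383, 7384, 7390, 7394, 7398, 7402, 7406, 7410, 7414, 7418, 7422, 7426, 7430, 7434, 7438, 7442, 7444, 7450, 7454, 7458, 7462, 7466, 7470, 7474, 7476, 7478, 7482, 7486, 7490, 7494, 7496, 7500, 7502, 7506, 7510, 7514, 7518, 7520, 7524, 7526, 7528, 7532, 7536, 7540, 7544, 7548, 7552, 7554, 7556, 7560, 7562, 7568, 7572, 7576, 7580, 7584, 7588, 7592, 7596, 7600, 7604,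 7606, 7610, 7615, 7618, 7620, 7626, 7628, 7632, 7636, 7640, 7644, 7648, 7652, 7656, 7658, 7662, 7664, 7670, 7674, 7678, 7682, 7686, 7690, 7692] [0, 1, 2, 0, 1, 2, 0, 0, 1] = true := by decide +kernel
theorem dd_up {K Γ A : Type*} [Group K] [Group Γ] [CommGroup A] {X : Ctx K Γ A} (hy : dd.Hyp X m_ns) : dd.Upto X 3848 :=
  ((((((Dce.Upto.zero).step hy dd_c0).step hy dd_c1).step hy dd_c2).step hy dd_c3).step hy dd_c4)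
theorem dd_all {K Γ A : Type*} [Group K] [Group Γ] [CommGroup A] {X : Ctx K Γ A} (hy : dd.Hyp X m_ns) (hA : ∀ a, X.ι a ∈ X.H)
    (hL : ∀ h, X.φ h 0 = 0 → h ∈ gw X.γ dd.LW) (hO : ∀ h, (c_l0.O).testBit (X.φ h 0) = true) :
    ∀ d ∈ [0, 1, 2, 3, 4, 5, 6, 7, 8, 9, 10], dd.Closed X [0, 1, 2, 3, 4, 5, 6, 7, 8, 9, 10] d := by
  simp only [List.forall_mem_cons, List.not_mem_nil, IsEmpty.forall_iff, implies_true, and_true]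
  exact ⟨Dce.nodeB_sound hy (dd_up hy) hA (by decide +kernel) hL hO dd_n0,
    Dce.nodeB_sound hy (dd_up hy) hA (by decide +kernel) hL hO dd_n1,
    Dce.nodeB_sound hy (dd_up hy) hA (by decide +kernel) hL hO dd_n2,
    Dce.nodeB_sound hy (dd_up hy) hA (by decide +kernel) hL hO dd_n3,
    Dce.nodeB_sound hy (dd_up hy) hA (by decide +kernel) hL hO dd_n4,
    Dce.nodeB_sound hy (dd_up hy) hA (by decide +kernel) hL hO dd_n5,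
    Dce.nodeB_sound hy (dd_up hy) hA (by decide +kernel) hL hO dd_n6,
    Dce.nodeB_sound hy (dd_up hy) hA (by decide +kernel) hL hO dd_n7,
    Dce.nodeB_sound hy (dd_up hy) hA (by decide +kernel) hL hO dd_n8,
    Dce.nodeB_sound hy (dd_up hy) hA (by decide +kernel) hL hO dd_n9,
    Dce.nodeB_sound hy (dd_up hy) hA (by decide +kernel) hL hO dd_n10⟩

end Cfsg.Agent.ThL
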