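import Cfsg.Agent.ThL.Rel
import Cfsg.Agent.ThL.L1

set_option autoImplicit false
set_option Elab.async false
set_option maxRecDepth 100000
set_option linter.all false

namespace Cfsg.Agent.ThL
open Cfsg.Agent.CGT

noncomputable def l0_n6 : Net := Net.cons 1 0x1 <|
  Net.cons 2 0x1 <|
  Net.nil
noncomputable def l0_n7 : Net := Net.cons 1 0x1 <|
  Net.cons 2 0x1 <|
  Net.nil
noncomputable def l0_n8 : Net := Net.cons 2 0x2 <|
  Net.cons 1 0x4 <|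
  Net.cons 2 0x3 <|
  Net.nil
noncomputable def l0_n9 : Net := Net.cons 1 0x1 <|
  Net.cons 2 0x1 <|
  Net.nil
noncomputable def l0_n11 : Net := Net.cons 2 0x2 <|
  Net.cons 1 0x4 <|
  Net.cons 2 0x3 <|
  Net.nil
noncomputable def l0_n12 : Net := Net.cons 1 0x1 <|
  Net.cons 2 0x1 <|
  Net.nil
noncomputable def l0_n13 : Net := Net.cons 2 0x2 <|
  Net.cons 1 0x4 <|
  Net.cons 2 0x3 <|
  Net.nil
noncomputable def l0_n17 : Net := Net.cons 1 0x1 <|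
  Net.cons 2 0x1 <|
  Net.nil
noncomputable def l0_n18 : Net := Net.cons 2 0x2 <|
  Net.cons 1 0x4 <|
  Net.cons 2 0x3 <|
  Net.nil
noncomputable def l0_n19 : Net := Net.cons 1 0x1 <|
  Net.cons 2 0x1 <|
  Net.nil
noncomputable def l0_n21 : Net := Net.cons 1 0x1 <|
  Net.cons 2 0x1 <|
  Net.nil
noncomputable def l0_n23 : Net := Net.cons 1 0x1 <|
  Net.cons 2 0x1 <|
  Net.nil
noncomputable def l0_n24 : Net := Net.cons 2 0x2 <|
  Net.cons 1 0x4 <|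
  Net.cons 2 0x3 <|
  Net.nil
noncomputable def l0_ns : List Net := [Net.nil, Net.nil, Net.nil, Net.nil, Net.nil, Net.nil, l0_n6, l0_n7, l0_n8, l0_n9, Net.nil, l0_n11, l0_n12, l0_n13, Net.nil, Net.nil, Net.nil, l0_n17, l0_n18, l0_n19, Net.nil, l0_n21, Net.nil, l0_n23, l0_n24]
noncomputable def l0_R : List (List ℕ) := [[0, 0], [2, 2], [4, 4], [6, 6], [8, 8], [0, 2, 0, 2, 0, 2], [0, 8, 0, 8], [2, 4, 2, 4, 2, 4], [2, 6, 2, 6], [2, 8, 2, 8], [0, 7, 5, 7, 5, 7, 5, 7, 5], [4, 8, 4, 8], [6, 8, 6, 8, 6, 8], [2, 4, 6, 8, 2, 4, 6, 8, 2, 4, 6, 8, 2, 4, 6, 8, 2, 4, 6, 8, 2, 4, 6, 8, 2, 4, 6, 8, 2, 4, 6, 8], [10, 10, 10, 10, 10, 10, 10], [11, 1, 10, 0], [11, 3, 10, 2], [11, 5, 10, 4], [10, 6, 10, 6], [9, 11, 8, 11, 11, 9, 10, 10, 10], [12, 12, 12], [13, 1, 12, 0], [13, 3, 12, 2], [13, 5, 12, 4], [13, 7, 12, 6], [13, 9, 12, 8], [13, 10, 12, 11, 11], [15, 8, 6, 4, 6, 8, 11, 2, 4, 6, 0, 2,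 4, 6, 8, 10, 12], [17, 6, 13, 8, 6, 4, 6, 8, 10, 4, 6, 2, 4, 6, 0, 2, 4, 6, 8, 10], [19, 12, 10, 8, 11, 6, 4, 6, 8, 11, 8, 6, 4, 6, 8, 10, 4], [21, 4, 8, 11, 8, 11, 6, 4, 6, 8, 10, 6, 4, 6, 8, 10, 6, 4, 6, 8], [23, 10, 6, 4, 6, 2, 4, 6, 0, 2, 4, 6, 8, 11, 13, 4], [25, 11, 2, 4, 6, 0, 2, 4, 6, 8, 10, 12, 0], [27, 13, 10, 10, 8, 11, 6, 4, 6, 8, 11, 6, 4, 6, 0], [29, 11, 6, 4, 6, 8, 10], [31, 11, 6, 8, 10, 8, 10, 4, 6, 2, 4, 6, 4], [33, 11, 6, 4, 6, 8, 10, 8, 10, 4, 6, 8, 2], [35, 11, 0, 2, 4, 6, 8, 11, 12, 11, 4, 6, 2, 0], [37, 13, 10, 6, 8, 11, 8, 0, 2, 4, 6, 2, 4, 0], [39, 12, 11, 6, 8, 10, 2, 4, 6, 8, 10, 4, 0], [41, 8, 11, 11, 6, 2, 4, 6, 8, 11, 8, 2, 4], [43, 10, 12, 4, 6, 8, 10, 4, 6, 8, 11, 2, 4, 6, 8, 6], [45, 4, 6, 8, 11, 11, 6, 8, 11, 0, 2, 4, 6, 4], [47, 13, 11, 8, 11, 2, 4, 6, 8, 10, 13, 0, 2, 4, 0, 2], [49, 11, 13, 8, 4, 6, 0, 2, 4, 6, 2, 4, 2]]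
noncomputable def l0_S0 : List (List ℕ) := [[0], [2], [4], [6], [8], [10]]
noncomputable def l0_E : Enum := ⟨l0_ns, l0_R, l0_S0, [], 0⟩
theorem l0_v : validAll (2 ^ 3) l0_ns = true := by decide +kernel
theorem l0_p0 : holdsB 3 l0_ns l0_R = true := by decide +kernel
theorem l0_p : Holds (lp l0_ns) l0_R := holdsB_sound l0_v l0_p0
theorem l0_f : allL l0_E.Sub (fixN l0_E.ns l0_E.b0) = true := by decide +kernel
theorem l0_r0 : l0_E.run [50, 49, 54, 53, 80, 49, 3, 1, 7, 9, 11, 17, 15, 25, 19, 33, 23, 41, 4180, 5, 12372, 1, 4184, 13, 12376, 9, 4188, 21, 12380, 17, 4192, 29, 12384, 25, 4196, 37, 12388, 33, 4200, 41, 4200, 41, 136, 117, 128, 101, 140, 125, 144, 133, 156, 157, 160, 165, 176, 197, 148, 141, 152, 149, 168, 181, 132, 109, 124, 93, 164, 173, 172, 189, 108, 61, 116, 77, 112, 69, 120, 85] (1 <<< 0) (List.replicate 51 0) (Enum.done 3 [0, 2, 4, 6, 8, 10, 12, 14, 16, 18, 20,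 22, 24, 26, 28, 30, 32, 34, 36, 38, 40, 42, 44, 46, 48]) = true := by decide +kernel
theorem l0_fin {G : Type*} [Group G] {γ : ℕ → G} (hR : Holds (ext γ) l0_R) {H : Subgroup G}
    (hS : ∀ u ∈ l0_S0, ev (ext γ) u ∈ H) : l0_E.Fin γ H 3 [0, 2, 4, 6, 8, 10, 12, 14, 16, 18, 20, 22, 24, 26, 28, 30, 32, 34, 36, 38, 40, 42, 44, 46, 48] :=
  have hy : l0_E.Hyp γ H := Enum.hyp_of l0_v hR l0_p hS l0_f
  (Enum.fin_of_done hy (Enum.inv_init 51) l0_r0)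
noncomputable def l2_n0 : Net := Net.cons 64 0xde3c0d1704000900 <|
  Net.cons 32 0x9e1b4b800000000630a2c00 <|
  Net.cons 16 0x6d9800005bc0000004e800004100 <|
  Net.cons 8 0xd400060068007c008000cc00400000 <|
  Net.cons 4 0x60400000204040a0202040008000e <|
  Net.cons 2 0x200000200222000002000000000 <|
  Net.cons 1 0x51140154515145141001504040001550 <|
  Net.cons 2 0x23010131331230332200322203200032 <|
  Net.cons 4 0x405040a070a0c010a020204020e030e <|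
  Net.cons 8 0xeb000500b500aa00c200cd007a0000 <|
  Net.cons 16 0xa26300003dfe000004fc00004100 <|
  Net.cons 32 0xae7b0f900000000630a2c00 <|
  Net.cons 64 0xde3c0d1704000900 <|
  Net.nil
noncomputable def l2_n1 : Net := Net.cons 64 0xeb6b42a1ca8806a0 <|
  Net.cons 32 0x68c73492000000007b628aa0 <|
  Net.cons 16 0x348c0000a1f000009b04000014d4 <|
  Net.cons 8 0x60009200d800800098000a00500090 <|
  Net.cons 4 0xa0c00040c000c000e08000c000200 <|
  Net.cons 2 0x22022000000000000200000002000000 <|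
  Net.cons 1 0x44411401500550500404010041000151 <|
  Net.cons 2 0x10331333320331310230200013003030 <|
  Net.cons 4 0xe03000c050d000c010e080e030b0200 <|
  Net.cons 8 0xb6006d0049008000b8001a00500094 <|
  Net.cons 16 0x7efc0000a9f00000db05000014d4 <|
  Net.cons 32 0x68c73492000000007b628aa0 <|
  Net.cons 64 0xeb6b42a1ca8806a0 <|
  Net.nil
noncomputable def l2_n2 : Net := Net.cons 64 0xfff57a5008000000 <|
  Net.cons 32 0x552629580000000024100000 <|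
  Net.cons 16 0x7cee000039300000a01a00001000 <|
  Net.cons 8 0x3a008a002800e400c00044002000b4 <|
  Net.cons 4 0x208000208000a06000a0006040004 <|
  Net.cons 2 0x220000000000002000002022000 <|
  Net.cons 1 0x54155145055055545414010004044140 <|
  Net.cons 2 0x2212000233212303002300132123102 <|
  Net.cons 4 0xf070d0f060c0f0a06080a0a06040f04 <|
  Net.cons 8 0x7500c500ce00e400c70044003500b4 <|
  Net.cons 16 0x8311000039310000a01a00001000 <|
  Net.cons 32 0x552629580000000024100000 <|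
  Net.cons 64 0xfff57a5008000000 <|
  Net.nil
noncomputable def l2_n3 : Net := Net.cons 64 0xf7da1c0881001200 <|
  Net.cons 32 0xb6c3131c0000000054605904 <|
  Net.cons 16 0x15c400008a4e00002bf2000036f8 <|
  Net.cons 8 0xea006600ea0012008000a200680062 <|
  Net.cons 4 0x6020004000802000004080c00000600 <|
  Net.cons 2 0x22020020022202222020002000200000 <|
  Net.cons 1 0x41445540411401141540551000140510 <|
  Net.cons 2 0x1213321021132112320302122201002 <|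
  Net.cons 4 0x206000c0207020f0207080c0f020604 <|
  Net.cons 8 0x5006600ea001200e600a2006800e2 <|
  Net.cons 16 0x15d400008e4e00002bf2000036f8 <|
  Net.cons 32 0xb6c3131c0000000054605904 <|
  Net.cons 64 0xf7da1c0881001200 <|
  Net.nil
noncomputable def l2_n4 : Net := Net.cons 64 0x1440001012080270 <|
  Net.cons 32 0xe3d22f24000000007f7eeb1c <|
  Net.cons 16 0xf55000001e4c0000a2cc000016c2 <|
  Net.cons 8 0x7200c00026002e0024004000cc00b2 <|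
  Net.cons 4 0xa040408000a0600080c0a0a000c00 <|
  Net.cons 2 0x20220220002000002000020000000000 <|
  Net.cons 1 0x10411114011550401115441414000504 <|
  Net.cons 2 0x13323221202333030203031033111010 <|
  Net.cons 4 0xa080b0b08000a060b0805030508000e <|
  Net.cons 8 0xa100a60026002e006400bf00cc006e <|
  Net.cons 16 0x10d300001e4c0000a2cc00009ee2 <|
  Net.cons 32 0xe3d22f24000000007f7eeb1c <|
  Net.cons 64 0x1440001012080270 <|
  Net.nil
noncomputable def l2_ns : List Net := [l2_n0, l2_n1, l2_n2, l2_n3, l2_n4, Net.nil, Net.nil, Net.nil, Net.nil, Net.nil, Net.nil, Net.nil, Net.nil, Net.nil, Net.nil, Net.nil, Net.nil, Net.nil, Net.nil, Net.nil, Net.nil, Net.nil, Net.nil, Net.nil, Net.nil]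
noncomputable def l2_R : List (List ℕ) := [[0, 0], [2, 2], [4, 4], [6, 6], [8, 8], [0, 2, 0, 2, 0, 2], [0, 8, 0, 8], [2, 4, 2, 4, 2, 4], [2, 6, 2, 6], [2, 8, 2, 8], [0, 7, 5, 7, 5, 7, 5, 7, 5], [4, 8, 4, 8], [6, 8, 6, 8, 6, 8], [2, 4, 6, 8, 2, 4, 6, 8, 2, 4, 6, 8, 2, 4, 6, 8, 2, 4, 6, 8, 2, 4, 6, 8, 2, 4, 6, 8, 2, 4, 6, 8]]
noncomputable def l2_S0 : List (List ℕ) := [[0], [4], [6], [8]]
noncomputable def l2_E : Enum := ⟨l2_ns, l2_R, l2_S0, [], 0⟩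
theorem l2_v : validAll (2 ^ 7) l2_ns = true := by decide +kernel
theorem l2_p0 : holdsB 7 l2_ns l2_R = true := by decide +kernel
theorem l2_p : Holds (lp l2_ns) l2_R := holdsB_sound l2_v l2_p0
theorem l2_f : allL l2_E.Sub (fixN l2_E.ns l2_E.b0) = true := by decide +kernel
theorem l2_r0 : l2_E.run [10, 9, 18, 17, 26, 25, 34, 33, 2, 1, 10, 9, 18, 17, 26, 25, 34, 33, 10, 9, 18, 17, 26, 25, 34, 33, 2, 1, 10, 9, 18, 17, 26, 25, 34, 33, 2, 1, 10, 9, 0, 1, 4, 9, 8, 17, 12, 25, 16, 33, 4120, 33, 4128, 25, 4132, 33, 4140, 33, 4120, 33, 4132, 33, 4120, 33, 4124, 17, 48, 25, 32808, 21, 8, 17, 44, 17, 28, 9, 4136, 29, 12, 25, 4128, 25, 32808, 21, 8, 17, 4136, 29, 12, 25, 3, 1, 7, 17, 11, 25, 15, 33, 4128, 25, 4132, 33, 4140, 33, 4120, 33, 4132, 33, 4116, 9, 28, 9, 48, 25, 32, 9, 36, 9, 20, 1, 4124, 17, 20520, 29, 28712, 29, 32808, 21, 8, 17, 12, 25, 4128, 25, 44, 17, 28, 9, 4144, 33,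 4120, 33, 32, 9, 36, 9, 4140, 33, 4120, 33, 4132, 33, 44, 17, 4120, 33, 48, 25, 40, 1, 4136, 29, 28712, 29, 32808, 21, 0, 1, 8, 17, 12, 25, 24, 1, 4128, 25, 44, 17, 4116, 9, 4124, 17, 48, 25, 4128, 25, 48, 25, 40, 1, 8232, 21, 16424, 21, 20520, 29, 32808, 21, 0, 1, 8, 17, 24, 1, 4128, 25, 28, 9, 4124, 17, 4144, 33, 32, 9, 36, 9, 4140, 33, 4120, 33, 4132, 33, 20, 1, 4124, 17, 40, 1, 4136, 29, 16424, 21, 12, 25, 24, 1, 28, 9, 20, 1, 40, 1, 8232, 21, 52, 9, 4148, 17, 8244, 25, 4, 9, 8, 17, 32, 9, 20, 1, 4144, 33, 40, 1, 32808, 21, 0, 1, 8, 17, 4116, 9, 4124, 17, 4136, 29, 4128, 25] (1 <<< 0) (List.replicate 11 0) (Enum.done 126 [0, 2, 4, 6, 8]) = true := by decide +kernel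
theorem l2_fin {G : Type*} [Group G] {γ : ℕ → G} (hR : Holds (ext γ) l2_R) {H : Subgroup G}
    (hS : ∀ u ∈ l2_S0, ev (ext γ) u ∈ H) : l2_E.Fin γ H 126 [0, 2, 4, 6, 8] :=
  have hy : l2_E.Hyp γ H := Enum.hyp_of l2_v hR l2_p hS l2_f
  (Enum.fin_of_done hy (Enum.inv_init 11) l2_r0)
noncomputable def l3_n0 : Net := Net.cons 8 0xc0 <|
  Net.cons 4 0xc00 <|
  Net.cons 1 0x5055 <|
  Net.cons 2 0x300 <|
  Net.cons 4 0xc00 <|
  Net.cons 8 0xc0 <|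
  Net.nil
noncomputable def l3_n2 : Net := Net.cons 8 0xa0 <|
  Net.cons 4 0xc00 <|
  Net.cons 2 0x2200 <|
  Net.cons 1 0x4100 <|
  Net.cons 2 0x1133 <|
  Net.cons 4 0x300 <|
  Net.cons 8 0xa0 <|
  Net.nil
noncomputable def l3_n3 : Net := Net.cons 8 0xc0 <|
  Net.cons 4 0x80c <|
  Net.cons 1 0x4 <|
  Net.cons 2 0x3130 <|
  Net.cons 4 0xd0c <|
  Net.cons 8 0xc0 <|
  Net.nil
noncomputable def l3_n4 : Net := Net.cons 8 0xf0 <|
  Net.cons 2 0x2200 <|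
  Net.cons 1 0x1150 <|
  Net.cons 2 0x2200 <|
  Net.cons 4 0x600 <|
  Net.cons 8 0xf0 <|
  Net.nil
noncomputable def l3_ns : List Net := [l3_n0, Net.nil, l3_n2, l3_n3, l3_n4, Net.nil, Net.nil, Net.nil, Net.nil, Net.nil, Net.nil, Net.nil, Net.nil, Net.nil, Net.nil, Net.nil, Net.nil, Net.nil, Net.nil, Net.nil, Net.nil, Net.nil, Net.nil, Net.nil, Net.nil]
noncomputable def l3_R : List (List ℕ) := [[0, 0], [4, 4], [6, 6], [8, 8], [0, 8, 0, 8], [0, 7, 5, 7, 5, 7, 5, 7, 5], [4, 8, 4, 8], [6, 8, 6, 8, 6, 8]]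
noncomputable def l3_S0 : List (List ℕ) := [[6], [8]]
noncomputable def l3_E : Enum := ⟨l3_ns, l3_R, l3_S0, [], 0⟩
theorem l3_v : validAll (2 ^ 4) l3_ns = true := by decide +kernel
theorem l3_p0 : holdsB 4 l3_ns l3_R = true := by decide +kernel
theorem l3_p : Holds (lp l3_ns) l3_R := holdsB_sound l3_v l3_p0
theorem l3_f : allL l3_E.Sub (fixN l3_E.ns l3_E.b0) = true := by decide +kernel
theorem l3_r0 : l3_E.run [2, 1, 18, 17, 26, 25, 34, 33, 18, 17, 26, 25, 18, 17, 0, 1, 4, 17, 8, 25, 12, 33, 4120, 33, 3, 25, 7, 33, 4112, 33, 4120, 33, 28, 25, 20500, 29, 8, 25, 4124, 33, 4120, 33, 20, 1, 4116, 29, 0, 1, 16, 1, 12308, 29, 20, 1] (1 <<< 0) (List.replicate 11 0) (Enum.done 16 [0, 4, 6, 8]) = true := by decide +kernel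
theorem l3_fin {G : Type*} [Group G] {γ : ℕ → G} (hR : Holds (ext γ) l3_R) {H : Subgroup G}
    (hS : ∀ u ∈ l3_S0, ev (ext γ) u ∈ H) : l3_E.Fin γ H 16 [0, 4, 6, 8] :=
  have hy : l3_E.Hyp γ H := Enum.hyp_of l3_v hR l3_p hS l3_f
  (Enum.fin_of_done hy (Enum.inv_init 11) l3_r0)
noncomputable def l4_n3 : Net := Net.cons 2 0x2 <|
  Net.cons 1 0x4 <|
  Net.cons 2 0x2 <|
  Net.nil
noncomputable def l4_n4 : Net := Net.cons 1 0x1 <|
  Net.nil
noncomputable def l4_ns : List Net := [Net.nil, Net.nil, Net.nil, l4_n3, l4_n4, Net.nil, Net.nil, Net.nil, Net.nil, Net.nil, Net.nil, Net.nil, Net.nil, Net.nil, Net.nil, Net.nil, Net.nil, Net.nil, Net.nil, Net.nil, Net.nil, Net.nil, Net.nil, Net.nil, Net.nil]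
noncomputable def l4_R : List (List ℕ) := [[6, 6], [8, 8], [6, 8, 6, 8, 6, 8]]
noncomputable def l4_S0 : List (List ℕ) := [[6]]
noncomputable def l4_E : Enum := ⟨l4_ns, l4_R, l4_S0, [], 0⟩
theorem l4_v : validAll (2 ^ 3) l4_ns = true := by decide +kernel
theorem l4_p0 : holdsB 3 l4_ns l4_R = true := by decide +kernel
theorem l4_p : Holds (lp l4_ns) l4_R := holdsB_sound l4_v l4_p0
theorem l4_f : allL l4_E.Sub (fixN l4_E.ns l4_E.b0) = true := by decide +kernel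
theorem l4_r0 : l4_E.run [34, 33, 26, 25, 0, 25, 4, 33, 3, 25, 4104, 33] (1 <<< 0) (List.replicate 11 0) (Enum.done 3 [6, 8]) = true := by decide +kernel
theorem l4_fin {G : Type*} [Group G] {γ : ℕ → G} (hR : Holds (ext γ) l4_R) {H : Subgroup G}
    (hS : ∀ u ∈ l4_S0, ev (ext γ) u ∈ H) : l4_E.Fin γ H 3 [6, 8] :=
  have hy : l4_E.Hyp γ H := Enum.hyp_of l4_v hR l4_p hS l4_f
  (Enum.fin_of_done hy (Enum.inv_init 11) l4_r0)
noncomputable def l5_n3 : Net := Net.cons 1 0x1 <|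
  Net.nil
noncomputable def l5_ns : List Net := [Net.nil, Net.nil, Net.nil, l5_n3, Net.nil, Net.nil, Net.nil, Net.nil, Net.nil, Net.nil, Net.nil, Net.nil, Net.nil, Net.nil, Net.nil, Net.nil, Net.nil, Net.nil, Net.nil, Net.nil, Net.nil, Net.nil, Net.nil, Net.nil, Net.nil]
noncomputable def l5_R : List (List ℕ) := [[6, 6]]
noncomputable def l5_S0 : List (List ℕ) := []
noncomputable def l5_E : Enum := ⟨l5_ns, l5_R, l5_S0, [], 0⟩
theorem l5_v : validAll (2 ^ 3) l5_ns = true := by decide +kernel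
theorem l5_p0 : holdsB 3 l5_ns l5_R = true := by decide +kernel
theorem l5_p : Holds (lp l5_ns) l5_R := holdsB_sound l5_v l5_p0
theorem l5_f : allL l5_E.Sub (fixN l5_E.ns l5_E.b0) = true := by decide +kernel
theorem l5_r0 : l5_E.run [26, 25, 0, 25] (1 <<< 0) (List.replicate 9 0) (Enum.done 2 [6]) = true := by decide +kernel
theorem l5_fin {G : Type*} [Group G] {γ : ℕ → G} (hR : Holds (ext γ) l5_R) {H : Subgroup G}
    (hS : ∀ u ∈ l5_S0, ev (ext γ) u ∈ H) : l5_E.Fin γ H 2 [6] :=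
  have hy : l5_E.Hyp γ H := Enum.hyp_of l5_v hR l5_p hS l5_f
  (Enum.fin_of_done hy (Enum.inv_init 9) l5_r0)
theorem bd5 {G : Type*} [Group G] {γ : ℕ → G} (hR : Holds (ext γ) RR) : Bd (gp γ [6]) 2 :=
  Bd.step (l5_fin (hR.subR (by decide +kernel)) (wordsIn_sound γ (L := []) (by decide +kernel))) (Bd.gp_nil γ) (by norm_num)
theorem bd4 {G : Type*} [Group G] {γ : ℕ → G} (hR : Holds (ext γ) RR) : Bd (gp γ [6, 8]) 6 :=
  Bd.step (l4_fin (hR.subR (by decide +kernel)) (wordsIn_sound γ (L := [6]) (by decide +kernel))) (bd5 hR) (by norm_num)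
theorem bd3 {G : Type*} [Group G] {γ : ℕ → G} (hR : Holds (ext γ) RR) : Bd (gp γ [0, 4, 6, 8]) 96 :=
  Bd.step (l3_fin (hR.subR (by decide +kernel)) (wordsIn_sound γ (L := [6, 8]) (by decide +kernel))) (bd4 hR) (by norm_num)
theorem bd2 {G : Type*} [Group G] {γ : ℕ → G} (hR : Holds (ext γ) RR) : Bd (gp γ [0, 2, 4, 6, 8]) 12096 :=
  Bd.step (l2_fin (hR.subR (by decide +kernel)) (wordsIn_sound γ (L := [0, 4, 6, 8]) (by decide +kernel))) (bd3 hR) (by norm_num)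
theorem bd1 {G : Type*} [Group G] {γ : ℕ → G} (hR : Holds (ext γ) RR) : Bd (gp γ [0, 2, 4, 6, 8, 10]) 211341312 :=
  Bd.step (l1_fin (hR.subR (by decide +kernel)) (wordsIn_sound γ (L := [0, 2, 4, 6, 8]) (by decide +kernel))) (bd2 hR) (by norm_num)
theorem bd0 {G : Type*} [Group G] {γ : ℕ → G} (hR : Holds (ext γ) RR) : Bd (gp γ [0, 2, 4, 6, 8, 10, 12, 14, 16, 18, 20, 22, 24, 26, 28, 30, 32, 34, 36, 38, 40, 42, 44, 46, 48]) 634023936 :=
  Bd.step (l0_fin (hR.subR (by decide +kernel)) (wordsIn_sound γ (L := [0, 2, 4, 6, 8, 10]) (by decide +kernel))) (bd1 hR) (by norm_num)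

end Cfsg.Agent.ThL
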