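import Cfsg.Agent.ThL.Tabs_0

set_option autoImplicit false
set_option Elab.async false
set_option maxRecDepth 100000
set_option linter.all false

namespace Cfsg.Agent.ThL
open Cfsg.Agent.CGT

theorem m_p : Holds (lp m_ns) RR := ((holdsB_sound m_v m_p0).append ((holdsB_sound m_v m_p1).append ((holdsB_sound m_v m_p2).append (holdsB_sound m_v m_p3))))
theorem m_ts_ok : TabsOK 15 (lp m_ns) m_ts :=
  TabsFrom.ok ⟨TabOK.of_beq m_v m_t0_b,
    TabOK.of_beq m_v m_t1_b,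
    TabOK.of_beq m_v m_t2_b,
    TabOK.of_beq m_v m_t3_b,
    TabOK.of_beq m_v m_t4_b,
    TabOK.of_beq m_v m_t5_b,
    TabOK.of_beq m_v m_t6_b,
    TabOK.of_beq m_v m_t7_b,
    TabOK.of_beq m_v m_t8_b,
    TabOK.of_beq m_v m_t9_b,
    TabOK.of_beq m_v m_t10_b,
    TabOK.of_beq m_v m_t11_b,
    TabOK.of_beq m_v m_t12_b,
    TabOK.of_beq m_v m_t13_b,
    TabOK.of_beq m_v m_t14_b,
    TabOK.of_beq m_v m_t15_b,
    TabOK.of_beq m_v m_t16_b,
    TabOK.of_beq m_v m_t17_b,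
    TabOK.of_beq m_v m_t18_b,
    TabOK.of_beq m_v m_t19_b,
    TabOK.of_beq m_v m_t20_b,
    TabOK.of_beq m_v m_t21_b,
    TabOK.of_beq m_v m_t22_b,
    TabOK.of_beq m_v m_t23_b,
    TabOK.of_beq m_v m_t24_b,
    TabOK.of_beq m_v m_t25_b,
    TabOK.of_beq m_v m_t26_b,
    TabOK.of_beq m_v m_t27_b,
    TabOK.of_beq m_v m_t28_b,
    TabOK.of_beq m_v m_t29_b,
    TabOK.of_beq m_v m_t30_b,
    TabOK.of_beq m_v m_t31_b,
    TabOK.of_beq m_v m_t32_b,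
    TabOK.of_beq m_v m_t33_b,
    TabOK.of_beq m_v m_t34_b,
    TabOK.of_beq m_v m_t35_b,
    TabOK.of_beq m_v m_t36_b,
    TabOK.of_beq m_v m_t37_b,
    TabOK.of_beq m_v m_t38_b,
    TabOK.of_beq m_v m_t39_b,
    TabOK.of_beq m_v m_t40_b,
    TabOK.of_beq m_v m_t41_b,
    TabOK.of_beq m_v m_t42_b,
    TabOK.of_beq m_v m_t43_b,
    TabOK.of_beq m_v m_t44_b,
    TabOK.of_beq m_v m_t45_b,
    TabOK.of_beq m_v m_t46_b,
    TabOK.of_beq m_v m_t47_b,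
    TabOK.of_beq m_v m_t48_b,
    TabOK.of_beq m_v m_t49_b,
    Nat.le_of_ble_eq_true (by decide +kernel)⟩

end Cfsg.Agent.ThL
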