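import Cfsg.Agent.ThL.TabsD1

set_option autoImplicit false
set_option Elab.async false
set_option maxRecDepth 100000
set_option linter.all false

namespace Cfsg.Agent.ThL
open Cfsg.Agent.CGT

theorem m_p0 : holdsB 15 m_ns [[0, 0], [2, 2], [4, 4], [6, 6], [8, 8], [0, 2, 0, 2, 0, 2], [0, 8, 0, 8], [2, 4, 2, 4, 2, 4], [2, 6, 2, 6], [2, 8, 2, 8], [0, 7, 5, 7, 5, 7, 5, 7, 5], [4, 8, 4, 8], [6, 8, 6, 8, 6, 8], [2, 4, 6, 8, 2, 4, 6, 8, 2, 4, 6, 8, 2, 4, 6, 8, 2, 4, 6, 8, 2, 4, 6, 8, 2, 4, 6, 8, 2, 4, 6, 8], [10, 10, 10, 10, 10, 10, 10], [11, 1, 10, 0], [11, 3, 10, 2], [11, 5, 10, 4], [10, 6, 10, 6], [9, 11, 8, 11, 11, 9, 10, 10, 10], [12, 12, 12], [13, 1, 12, 0], [13, 3, 12, 2], [13, 5, 12, 4], [13, 7, 12, 6]] = true := by decide +kernel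
theorem m_p1 : holdsB 15 m_ns [[13, 9, 12, 8], [13, 10, 12, 11, 11], [15, 8, 6, 4, 6, 8, 11, 2, 4, 6, 0, 2, 4, 6, 8, 10, 12], [17, 6, 13, 8, 6, 4, 6, 8, 10, 4, 6, 2, 4, 6, 0, 2, 4, 6, 8, 10], [19, 12, 10, 8, 11, 6, 4, 6, 8, 11, 8, 6, 4, 6, 8, 10, 4], [21, 4, 8, 11, 8, 11, 6, 4, 6, 8, 10, 6, 4, 6, 8, 10, 6, 4, 6, 8], [23, 10, 6, 4, 6, 2, 4, 6, 0, 2, 4, 6, 8, 11, 13, 4], [25, 11, 2, 4, 6, 0, 2, 4, 6, 8, 10, 12, 0], [27, 13, 10, 10, 8, 11, 6, 4, 6, 8, 11, 6, 4, 6, 0], [29, 11, 6, 4, 6, 8, 10]] = true := by decide +kernel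
theorem m_p2 : holdsB 15 m_ns [[31, 11, 6, 8, 10, 8, 10, 4, 6, 2, 4, 6, 4], [33, 11, 6, 4, 6, 8, 10, 8, 10, 4, 6, 8, 2], [35, 11, 0, 2, 4, 6, 8, 11, 12, 11, 4, 6, 2, 0], [37, 13, 10, 6, 8, 11, 8, 0, 2, 4, 6, 2, 4, 0], [39, 12, 11, 6, 8, 10, 2, 4, 6, 8, 10, 4, 0], [41, 8, 11, 11, 6, 2, 4, 6, 8, 11, 8, 2, 4], [43, 10, 12, 4, 6, 8, 10, 4, 6, 8, 11, 2, 4, 6, 8, 6], [45, 4, 6, 8, 11, 11, 6, 8, 11, 0, 2, 4, 6, 4], [47, 13, 11, 8, 11, 2, 4, 6, 8, 10, 13, 0, 2, 4, 0, 2]] = true := by decide +kernel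
theorem m_p3 : holdsB 15 m_ns [[49, 11, 13, 8, 4, 6, 0, 2, 4, 6, 2, 4, 2]] = true := by decide +kernel
theorem m_t0_b : Tab.beq (mkTab 15 4 m_ns 0) m_t0 = true := by decide +kernel
theorem m_t1_b : Tab.beq (mkTab 15 4 m_ns 1) m_t1 = true := by decide +kernel
theorem m_t2_b : Tab.beq (mkTab 15 4 m_ns 2) m_t2 = true := by decide +kernel
theorem m_t3_b : Tab.beq (mkTab 15 4 m_ns 3) m_t3 = true := by decide +kernel
theorem m_t4_b : Tab.beq (mkTab 15 4 m_ns 4) m_t4 = true := by decide +kernel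
theorem m_t5_b : Tab.beq (mkTab 15 4 m_ns 5) m_t5 = true := by decide +kernel
theorem m_t6_b : Tab.beq (mkTab 15 4 m_ns 6) m_t6 = true := by decide +kernel
theorem m_t7_b : Tab.beq (mkTab 15 4 m_ns 7) m_t7 = true := by decide +kernel
theorem m_t8_b : Tab.beq (mkTab 15 4 m_ns 8) m_t8 = true := by decide +kernel
theorem m_t9_b : Tab.beq (mkTab 15 4 m_ns 9) m_t9 = true := by decide +kernel
theorem m_t10_b : Tab.beq (mkTab 15 4 m_ns 10) m_t10 = true := by decide +kernel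
theorem m_t11_b : Tab.beq (mkTab 15 4 m_ns 11) m_t11 = true := by decide +kernel
theorem m_t12_b : Tab.beq (mkTab 15 4 m_ns 12) m_t12 = true := by decide +kernel
theorem m_t13_b : Tab.beq (mkTab 15 4 m_ns 13) m_t13 = true := by decide +kernel
theorem m_t14_b : Tab.beq (mkTab 15 4 m_ns 14) m_t14 = true := by decide +kernel
theorem m_t15_b : Tab.beq (mkTab 15 4 m_ns 15) m_t15 = true := by decide +kernel
theorem m_t16_b : Tab.beq (mkTab 15 4 m_ns 16) m_t16 = true := by decide +kernel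
theorem m_t17_b : Tab.beq (mkTab 15 4 m_ns 17) m_t17 = true := by decide +kernel
theorem m_t18_b : Tab.beq (mkTab 15 4 m_ns 18) m_t18 = true := by decide +kernel
theorem m_t19_b : Tab.beq (mkTab 15 4 m_ns 19) m_t19 = true := by decide +kernel
theorem m_t20_b : Tab.beq (mkTab 15 4 m_ns 20) m_t20 = true := by decide +kernel
theorem m_t21_b : Tab.beq (mkTab 15 4 m_ns 21) m_t21 = true := by decide +kernel
theorem m_t22_b : Tab.beq (mkTab 15 4 m_ns 22) m_t22 = true := by decide +kernel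
theorem m_t23_b : Tab.beq (mkTab 15 4 m_ns 23) m_t23 = true := by decide +kernel
theorem m_t24_b : Tab.beq (mkTab 15 4 m_ns 24) m_t24 = true := by decide +kernel
theorem m_t25_b : Tab.beq (mkTab 15 4 m_ns 25) m_t25 = true := by decide +kernel
theorem m_t26_b : Tab.beq (mkTab 15 4 m_ns 26) m_t26 = true := by decide +kernel
theorem m_t27_b : Tab.beq (mkTab 15 4 m_ns 27) m_t27 = true := by decide +kernel
theorem m_t28_b : Tab.beq (mkTab 15 4 m_ns 28) m_t28 = true := by decide +kernel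
theorem m_t29_b : Tab.beq (mkTab 15 4 m_ns 29) m_t29 = true := by decide +kernel
theorem m_t30_b : Tab.beq (mkTab 15 4 m_ns 30) m_t30 = true := by decide +kernel
theorem m_t31_b : Tab.beq (mkTab 15 4 m_ns 31) m_t31 = true := by decide +kernel
theorem m_t32_b : Tab.beq (mkTab 15 4 m_ns 32) m_t32 = true := by decide +kernel
theorem m_t33_b : Tab.beq (mkTab 15 4 m_ns 33) m_t33 = true := by decide +kernel
theorem m_t34_b : Tab.beq (mkTab 15 4 m_ns 34) m_t34 = true := by decide +kernel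
theorem m_t35_b : Tab.beq (mkTab 15 4 m_ns 35) m_t35 = true := by decide +kernel
theorem m_t36_b : Tab.beq (mkTab 15 4 m_ns 36) m_t36 = true := by decide +kernel
theorem m_t37_b : Tab.beq (mkTab 15 4 m_ns 37) m_t37 = true := by decide +kernel
theorem m_t38_b : Tab.beq (mkTab 15 4 m_ns 38) m_t38 = true := by decide +kernel
theorem m_t39_b : Tab.beq (mkTab 15 4 m_ns 39) m_t39 = true := by decide +kernel
theorem m_t40_b : Tab.beq (mkTab 15 4 m_ns 40) m_t40 = true := by decide +kernel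
theorem m_t41_b : Tab.beq (mkTab 15 4 m_ns 41) m_t41 = true := by decide +kernel
theorem m_t42_b : Tab.beq (mkTab 15 4 m_ns 42) m_t42 = true := by decide +kernel
theorem m_t43_b : Tab.beq (mkTab 15 4 m_ns 43) m_t43 = true := by decide +kernel
theorem m_t44_b : Tab.beq (mkTab 15 4 m_ns 44) m_t44 = true := by decide +kernel
theorem m_t45_b : Tab.beq (mkTab 15 4 m_ns 45) m_t45 = true := by decide +kernel
theorem m_t46_b : Tab.beq (mkTab 15 4 m_ns 46) m_t46 = true := by decide +kernel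
theorem m_t47_b : Tab.beq (mkTab 15 4 m_ns 47) m_t47 = true := by decide +kernel
theorem m_t48_b : Tab.beq (mkTab 15 4 m_ns 48) m_t48 = true := by decide +kernel
theorem m_t49_b : Tab.beq (mkTab 15 4 m_ns 49) m_t49 = true := by decide +kernel

end Cfsg.Agent.ThL
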